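import Mathlib
import Cfsg.Statements.S0500
import Cfsg.Prelude.Def_Sz
import Cfsg.Agent.Lib.GHM.Defs2
import Cfsg.Agent.Lib.LBal.Two
import Cfsg.Agent.Lib.LBal.Pump
import Cfsg.Agent.Lib.TL2.Basic
import Cfsg.Agent.Lib.DihSyl.Basic

/-!
Vocabulary for the simple groups of sectional 2-rank at most 4.  See `plans/GHE.md`.
-/

set_option autoImplicit false

namespace CfsgLib.GHE

open Subgroup Cfsg CfsgLib.W2 CfsgLib.Tech CfsgLib.Sect CfsgLib.PComp CfsgLib.LBal CfsgLib.DihSyl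
  CfsgLib.GW.Cor
open scoped MatrixGroups commutatorElement

universe u

/-! ### the list -/

/-- `G ≅ PSLₙ(q)` for some `q` with `P q` -/
def IL (n : ℕ) (P : ℕ → Prop) (G : Type*) [Group G] : Prop :=
  ∃ (F : Type) (_ : Field F) (_ : Fintype F), P (Fintype.card F) ∧
    Nonempty (G ≃* Matrix.ProjectiveSpecialLinearGroup (Fin n) F)

/-- `G ≅ PSUₙ(q)` for some `q` with `P q` -/
def IU (n : ℕ) (P : ℕ → Prop) (G : Type*) [Group G] : Prop :=
  ∃ (F : Type) (_ : Field F) (_ : Fintype F) (q : ℕ), Fintype.card F = q ^ 2 ∧ P q ∧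
    Nonempty (G ≃* PSU n F q)

/-- one class of involutions and 2-rank at least 4 -/
def OneE (G : Type*) [Group G] : Prop :=
  (∀ x y : G, orderOf x = 2 → orderOf y = 2 → IsConj x y) ∧
    ∃ E : Subgroup G, (∀ a ∈ E, a * a = 1) ∧ Nat.card E = 16

/-- `PSp₄(q)`, `L₄(q)`, `U₄(q)` -/
def Lie4 (G : Type*) [Group G] : Prop :=
  (∃ (F : Type) (_ : Field F) (_ : Fintype F), Odd (Fintype.card F) ∧ Nonempty (G ≃* PSp 2 F)) ∨
    IL 4 (fun q => Odd q ∧ q % 8 ≠ 1) G ∨ IU 4 (fun q => Odd q ∧ q % 8 ≠ 7) G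

/-- `G₂(q)`, `³D₄(q)`, `L₅(q)`, `U₅(q)`, `L₂(16)`, `L₃(4)` -/
def Lie0 (G : Type*) [Group G] : Prop :=
  (∃ (E : Type) (_ : Field E) (_ : Fintype E), Odd (Fintype.card E) ∧
      Nonempty (G ≃* ↥(Lie.chevG2.group E))) ∨
    (∃ (K : Type) (_ : Field K) (_ : Fintype K) (r : ℕ), Odd r ∧ Fintype.card K = r ^ 3 ∧
      Nonempty (G ≃* ↥(Lie.twistedD4 K r))) ∨
    IL 5 (fun q => q % 4 = 3) G ∨ IU 5 (fun q => q % 4 = 1) G ∨ IL 2 (· = 16) G ∨ IL 3 (· = 4) G

/-- `A₈, …, A₁₁` -/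
def Alt (G : Type*) [Group G] : Prop :=
  ∃ n : ℕ, 8 ≤ n ∧ n ≤ 11 ∧ Nonempty (G ≃* alternatingGroup (Fin n))

/-- the sporadic groups other than `M₁₂`, `J₁` -/
def Spo (G : Type*) [Group G] : Prop :=
  Spor.IsoM22 G ∨ Spor.IsoM23 G ∨ Spor.IsoJ2 G ∨ Spor.IsoJ3 G ∨ Spor.IsoMcL G ∨ Spor.IsoLy G ∨
    (OneE G ∧ IsMcL G)

/-- the members of sectional rank 4 and rank at least 3 -/
def Big (G : Type*) [Group G] : Prop := Lie4 G ∨ Lie0 G ∨ Alt G ∨ Spo G ∨ Spor.IsoM12 G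

/-- the Sylow 2-subgroups are elementary abelian of order 8 -/
def E8S (G : Type*) [Group G] : Prop :=
  ∀ S : Subgroup G, IsSylowIn 2 S ⊤ → (∀ a ∈ S, a * a = 1) ∧ Nat.card S = 8

def E8T (G : Type*) [Group G] : Prop := E8S G ∧ (IL 2 (· = 8) G ∨ IsRee G ∨ IsJ1 G)

def Sz8 (G : Type*) [Group G] : Prop :=
  ∃ (F : Type) (_ : Field F) (_ : Fintype F), Fintype.card F = 8 ∧ Nonempty (G ≃* ↥(Lie.Sz F 4))

/-- the list in the form used for the induction -/
def Lst (G : Type*) [Group G] : Prop := PRankLE 2 2 G ∨ E8T G ∨ Sz8 G ∨ Big G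

/-- the hypotheses -/
structure Ctx (G : Type*) [Group G] : Prop where
  simple : IsSimpleGroup G
  ncomm : ¬ IsMulCommutative G
  sr : SR 16 (⊤ : Subgroup G)

/-- the hypotheses with the induction hypothesis -/
structure Cex (G : Type u) [Group G] : Prop extends Ctx G where
  ih : ∀ (K : Type u) [Group K] [Finite K], Ctx K → Nat.card K < Nat.card G → Lst K

/-! ### Sylow types -/

/-- dihedral Sylow 2-subgroups of order `2 m` -/
def DT (K : Type*) [Group K] (m : ℕ) : Prop :=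
  2 ≤ m ∧ ∀ H : Subgroup K, IsSylowIn 2 H ⊤ → ∃ r s, IsDih H m r s

def SDT (K : Type*) [Group K] : Prop := ∀ H : Subgroup K, IsSylowIn 2 H ⊤ → IsQuasiDihedral H

def WT (K : Type*) [Group K] : Prop := ∀ H : Subgroup K, IsSylowIn 2 H ⊤ → IsWreathed H

variable {G : Type u} [Group G]

/-- the subgroup `L` has generalised quaternion Sylow 2-subgroups -/
def QT (L : Subgroup G) : Prop := ∀ D, IsSylowIn 2 D L → ∃ m a b, 2 ≤ m ∧ IsQuat D m a b

/-- the subgroup `L` has dihedral Sylow 2-subgroups of order `2 m` -/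
def DS (L : Subgroup G) (m : ℕ) : Prop := 2 ≤ m ∧ ∀ H, IsSylowIn 2 H L → ∃ r s, IsDih H m r s

/-- a four-group -/
def V4 (V : Subgroup G) : Prop := (∀ x ∈ V, x * x = 1) ∧ Nat.card V = 4

/-- The centraliser of the 2-central involution `φ (-1, 1)` permutes the two factors of
`SL₂(q) ∘ SL₂(q)`. -/
def Blk (X : Type u) [Group X] : Prop :=
  ∃ (F : Type) (_ : Field F) (_ : Fintype F) (φ : SL(2, F) × SL(2, F) →* X) (τ : X),
    Odd (Fintype.card F) ∧ GHA.Wr (-1) φ τ ∧ Odd (Cx (φ (-1, 1))).index ∧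
      ∀ h ∈ Cx (φ (-1, 1)), ∃ k, (k = h ∨ k = h * τ) ∧ k ∈ normalizer (GHA.L1 φ : Set X) ∧
        k ∈ normalizer (GHA.L2 φ : Set X)

/-! ### components -/

/-- `L` is a normal 2-component of `C` -/
structure NC (C L : Subgroup G) : Prop where
  pc : PC 2 L C
  nrm : C ≤ normalizer (L : Set G)

/-- `π` is the projection of `C` onto `N = C / M` and `K` is the image of `L` -/
structure Pr (C L M : Subgroup G) {N : Type u} [Group N] (π : G → N) (K : Subgroup N) : Prop where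
  le : L ≤ C
  mul : ∀ a ∈ C, ∀ b ∈ C, π (a * b) = π a * π b
  ker : ∀ a ∈ C, π a = 1 ↔ a ∈ M
  surj : ∀ n, ∃ a ∈ C, π a = n
  img : ∀ n, n ∈ K ↔ ∃ l ∈ L, π l = n
  nrm : K.Normal
  simple : IsSimpleGroup K
  ncomm : ¬ IsMulCommutative K
  cent : centralizer (K : Set N) = ⊥

/-- the image of a subgroup -/
def im {N : Type u} [Group N] (π : G → N) (T : Subgroup G) : Subgroup N := closure (π '' T)

/-- the 2-layer of `C(y)` -/
abbrev LL (y : G) : Subgroup G := pLayerOf 2 (Cx y)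

variable [Finite G]

/-- the elements of `C(y)` that centralise the 2-layer modulo its core -/
abbrev MM (y : G) : Subgroup G := Cx y ⊓ LBal.cmod 2 (LL y)

/-- Case III: an involution centraliser has at most one 2-component, and it is simple modulo
its core. -/
structure Sim (G : Type u) [Group G] [Finite G] : Prop extends Ctx G where
  pc : ∀ y : G, orderOf y = 2 → LL y ≠ ⊥ → PC 2 (LL y) (Cx y)
  odd : ∀ y : G, orderOf y = 2 → Odd (Nat.card (LL y ⊓ MM y : Subgroup G))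

/-- an invariant set of involutions with components of type `K₀`, closed under pump-ups -/
structure Sys (I : Set G) (K₀ : Type u) [Group K₀] : Prop extends Sim G where
  ne : I.Nonempty
  ord : ∀ y ∈ I, orderOf y = 2
  lay : ∀ y ∈ I, LL y ≠ ⊥
  conj : ∀ y ∈ I, ∀ g, g * y * g⁻¹ ∈ I
  iso : ∀ y ∈ I, ∃ κ : LL y →* K₀, Function.Surjective κ ∧ ∀ l, κ l = 1 ↔ (l : G) ∈ MM y
  pump : ∀ y ∈ I, ∀ r ∈ MM y, orderOf r = 2 →
    r ∈ I ∧ ∃ J, J ≤ LL y ⊓ LL r ∧ LL y ≤ J ⊔ MM y ∧ LL r ≤ J ⊔ MM r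

/-- configuration A: a member of `I` is 2-central -/
structure CA (I : Set G) (K₀ : Type u) [Group K₀] (S : Subgroup G) (z : G) : Prop
    extends Sys I K₀ where
  mem : z ∈ I
  syl : IsSylowIn 2 S ⊤
  cen : S ≤ Cx z

/-- configuration C: `T` is a Sylow 2-subgroup of `C(t)`, as large as possible, and `T < S` -/
structure CC (I : Set G) (K₀ : Type u) [Group K₀] (S T : Subgroup G) (t g : G) : Prop
    extends Sys I K₀ where
  mem : t ∈ I
  syl : IsSylowIn 2 S ⊤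
  sylT : IsSylowIn 2 T (Cx t)
  le : T ≤ S
  max : ∀ y ∈ I, ∀ Q : Subgroup G, IsPGroup 2 Q → Q ≤ Cx y → Nat.card Q ≤ Nat.card T
  gS : g ∈ S
  gT : g ∉ T
  gg : g * g ∈ T
  gn : g ∈ normalizer (T : Set G)

/-- all components have dihedral Sylow 2-subgroups -/
def AllD (G : Type u) [Group G] : Prop := ∀ y : G, orderOf y = 2 → LL y ≠ ⊥ → ∃ m, DS (LL y) m

/-- `y` induces an outer automorphism that centralises a four-subgroup of the component of `C(z)` -/
def Ph (z y : G) : Prop := y ∉ LL z ⊔ MM z ∧ ∃ V, V4 V ∧ V ≤ LL z ⊓ Cx y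

/-- `y` induces an outer automorphism that centralises no four-subgroup of the component -/
def Dt (z y : G) : Prop := y ∉ LL z ⊔ MM z ∧ ∀ V, V4 V → ¬ V ≤ LL z ⊓ Cx y

/-- `ρ` has odd order and permutes `w, a, a w` cyclically -/
structure Cy (ρ w a : G) : Prop where
  odd : Odd (orderOf ρ)
  ew : ρ * w * ρ⁻¹ = a
  ea : ρ * a * ρ⁻¹ = a * w

/-- a frame for the component of `C(y)`: `T ∩ L = ⟨a, b⟩` is dihedral of order `2 m` -/
structure DF (y : G) (T : Subgroup G) (m : ℕ) (a b w : G) : Prop where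
  ord : orderOf y = 2
  pc : PC 2 (LL y) (Cx y)
  odd : Odd (Nat.card (LL y ⊓ MM y : Subgroup G))
  syl : IsSylowIn 2 T (Cx y)
  two : 2 ≤ m
  bb : b * b = 1
  dih : IsDih (T ⊓ LL y) m (a * b) a
  hw : w = (a * b) ^ (m / 2)
  fix : T ≤ Cx w

/-! ### automorphisms of simple groups with dihedral Sylow 2-subgroups -/

section loc

variable {N : Type u} [Group N]

/-- `K ≤ N ≤ Aut K`, and `P ∩ K = ⟨a, b⟩` is dihedral of order `2 m` -/
structure DL (K P : Subgroup N) (m : ℕ) (a b w : N) : Prop where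
  nrm : K.Normal
  simple : IsSimpleGroup K
  ncomm : ¬ IsMulCommutative K
  cent : centralizer (K : Set N) = ⊥
  syl : IsSylowIn 2 P ⊤
  two : 2 ≤ m
  bb : b * b = 1
  dih : IsDih (P ⊓ K) m (a * b) a
  hw : w = (a * b) ^ (m / 2)
  fix : P ≤ Cx w

/-- `x` preserves the class of `a` -/
def Cp (a b x : N) : Prop := a * (x * a * x⁻¹) ∈ zpowers ((a * b) ^ 2)

/-- `x` interchanges the classes of `a` and `b` -/
def Sp (a b x : N) : Prop := b * (x * a * x⁻¹) ∈ zpowers ((a * b) ^ 2)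

/-- the outer involution `v` centralises `P ∩ K` and an element that permutes `w, a, a w` -/
structure PH (K P : Subgroup N) (a w v : N) : Prop where
  mem : v ∈ P
  out : v ∉ K
  vv : v * v = 1
  cen : P ⊓ K ≤ Cx v
  rho : ∃ ρ ∈ K ⊓ Cx v, Cy ρ w a

end loc

/-! ### intrinsic components -/

/-- the product of the 2-components of `C(y)` that contain `y` -/
def LZ (y : G) : Subgroup G := sSup {K | PC 2 K (Cx y) ∧ y ∈ K}

abbrev MZ (y : G) : Subgroup G := Cx y ⊓ LBal.cmod 2 (LZ y)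

/-- `z` is 2-central and lies in exactly one 2-component of `C(z)`, of quaternion type -/
structure RQ (S : Subgroup G) (z : G) : Prop extends Ctx G where
  ord : orderOf z = 2
  syl : IsSylowIn 2 S ⊤
  cen : S ≤ Cx z
  pc : PC 2 (LZ z) (Cx z)
  mem : z ∈ LZ z
  qt : QT (LZ z)

/-- `z` lies in two 2-components of `C(z)` of quaternion type -/
structure B1 (z : G) (L₁ L₂ : Subgroup G) : Prop extends Ctx G where
  ord : orderOf z = 2
  ne : L₁ ≠ L₂
  pc₁ : PC 2 L₁ (Cx z)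
  pc₂ : PC 2 L₂ (Cx z)
  mem₁ : z ∈ L₁
  mem₂ : z ∈ L₂
  qt₁ : QT L₁
  qt₂ : QT L₂

/-- the 2-group `P` permutes the factors of `Δ × Δ^σ` transitively; `Δ` is generalised quaternion -/
structure QP (P Δ : Subgroup G) (m : ℕ) (a b σ : G) : Prop where
  two : 2 ≤ m
  quat : IsQuat Δ m a b
  pg : IsPGroup 2 P
  le : Δ ≤ P
  σP : σ ∈ P
  inf : Δ ⊓ cj σ Δ = ⊥
  comm : ∀ x ∈ Δ, ∀ y ∈ cj σ Δ, x * y = y * x
  perm : ∀ s ∈ P, (cj s Δ = Δ ∧ cj s (cj σ Δ) = cj σ Δ) ∨ (cj s Δ = cj σ Δ ∧ cj s (cj σ Δ) = Δ)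

end CfsgLib.GHE
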