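import Mathlib
import Cfsg.Agent.Lib.GHE.Defs
import Cfsg.Agent.Lib.LBal.Term1

/-! Elements of 2-power order acting on a generalised quaternion group.  See `plans/GHE.md`. -/

set_option autoImplicit false
set_option linter.unusedSectionVars false

namespace CfsgLib.GHE

open Subgroup Cfsg CfsgLib.W2 CfsgLib.Tech CfsgLib.Sect CfsgLib.PComp CfsgLib.DihSyl
  CfsgLib.GW.Cor
open CfsgLib.LBal hiding cj
open scoped MatrixGroups commutatorElement

variable {G : Type*} [Group G] {D : Subgroup G} {m : ℕ} {a b x y : G} {k j k' j' : ℤ}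

/-- a generalised quaternion 2-group -/
structure Q2 (D : Subgroup G) (m : ℕ) (a b : G) : Prop extends IsQuat D m a b where
  pow : ∃ n, m = 2 ^ (n + 1)

/-- `x` acts as `a ↦ a ^ k`, `b ↦ a ^ j b` -/
def QAct (a b x : G) (k j : ℤ) : Prop := x * a * x⁻¹ = a ^ k ∧ x * b * x⁻¹ = a ^ j * b

/-- `x` acts trivially on `D / Φ(D)` -/
def QEv (a b x : G) : Prop := ∃ k j, QAct a b x k (2 * j)

/-- `x` interchanges the classes of `b` and `a b` -/
def QOd (a b x : G) : Prop := ∃ k j, QAct a b x k (2 * j + 1)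

theorem QAct.zpow (h : QAct a b x k j) (i : ℤ) : x * a ^ i * x⁻¹ = a ^ (k * i) := by
  rw [← conj_zpow, h.1, zpow_mul]

theorem QAct.out (h : QAct a b x k j) (i : ℤ) : x * (a ^ i * b) * x⁻¹ = a ^ (k * i + j) * b := by
  rw [← conj_mul, h.zpow, h.2, zpow_add, mul_assoc]

theorem QAct.mul (h : QAct a b x k j) (h' : QAct a b y k' j') :
    QAct a b (x * y) (k * k') (k * j' + j) :=
  ⟨by rw [← h.zpow, ← h'.1]; group, by rw [← h.out, ← h'.2]; group⟩

theorem qact_of_comm (ha : x * a = a * x) (hb : x * b = b * x) : QAct a b x 1 0 :=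
  ⟨by rw [ha]; simp, by rw [hb]; simp⟩

theorem qev_of_comm (ha : x * a = a * x) (hb : x * b = b * x) : QEv a b x :=
  ⟨1, 0, qact_of_comm ha hb⟩

theorem QAct.ev_or_od (h : QAct a b x k j) : QEv a b x ∨ QOd a b x := by
  rcases Int.even_or_odd' j with ⟨i, rfl | rfl⟩
  exacts [.inl ⟨k, i, h⟩, .inr ⟨k, i, h⟩]

theorem QAct.conj (h : QAct a b x k j) (g : G) :
    QAct (g * a * g⁻¹) (g * b * g⁻¹) (g * x * g⁻¹) k j :=
  ⟨by rw [conj_zpow, ← h.1]; group, by rw [conj_zpow, conj_mul (a := a ^ j), ← h.2]; group⟩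

theorem q2_of [Finite G] (h : IsQuat D m a b) (hm : 2 ≤ m) (hD : IsPGroup 2 D) : Q2 D m a b := by
  refine ⟨h, ?_⟩
  obtain ⟨n, hn⟩ := isPGroup_iff_mem.1 hD a h.a_mem
  obtain ⟨i, -, hi⟩ := (Nat.dvd_prime_pow Nat.prime_two).1 (orderOf_dvd_of_pow_eq_one hn)
  rw [h.ord] at hi
  obtain ⟨l, -, hl⟩ := (Nat.dvd_prime_pow Nat.prime_two).1 (hi ▸ dvd_mul_left m 2)
  rcases l with _ | l
  · omega
  · exact ⟨l, hl⟩

namespace Q2

variable (h : Q2 D m a b)
include h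

theorem two : 2 ≤ m := by
  obtain ⟨n, rfl⟩ := h.pow
  have := Nat.one_le_two_pow (n := n)
  rw [pow_succ]; omega

theorem ze {i : ℤ} : a ^ i = 1 ↔ (2 * m : ℤ) ∣ i := by
  rw [← orderOf_dvd_iff_zpow_eq_one, h.ord]; push_cast; rfl

theorem zeq {i l : ℤ} : a ^ i = a ^ l ↔ (2 * m : ℤ) ∣ i - l := by
  rw [TwoGrp.zpow_eq_zpow_iff_dvd, h.ord]; push_cast; rfl

theorem half : ∃ r : ℤ, (m : ℤ) = 2 * r := by
  obtain ⟨n, rfl⟩ := h.pow
  exact ⟨2 ^ n, by push_cast; ring⟩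

theorem oz : orderOf (a ^ m) = 2 := h.ord_z (by have := h.two; omega)

theorem z1 : a ^ m ≠ 1 := ne_one_of_ord h.oz

theorem zz : a ^ m * a ^ m = 1 := sq_of_ord h.oz

theorem z_mem : a ^ m ∈ D := pow_mem h.a_mem m

theorem inv {u : G} (hu : u ∈ D) (h2 : u * u = 1) : u = 1 ∨ u = a ^ m :=
  h.eq_of_sq (by have := h.two; omega) hu h2

theorem act_b : QAct a b b (-1) 0 := ⟨by rw [h.conj, zpow_neg_one], by simp⟩

theorem act_a (i : ℤ) : QAct a b (a ^ i) 1 (2 * i) := by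
  refine ⟨by group, ?_⟩
  have := h.act_b.zpow (-i)
  calc a ^ i * b * (a ^ i)⁻¹ = a ^ i * (b * a ^ (-i) * b⁻¹) * b := by group
    _ = _ := by rw [this]; group

theorem z_comm {u : G} (hu : u ∈ D) : u * a ^ m = a ^ m * u := by
  obtain ⟨i, rfl | rfl⟩ := (h.mem u).1 hu
  · rw [← zpow_natCast]; group
  · rw [← h.sq_out i]; group

theorem z_sq : a ^ m ∈ Sq D := h.bb ▸ sq_mem h.b_mem

theorem map (g : G) : Q2 (cj g D) m (g * a * g⁻¹) (g * b * g⁻¹) := by
  refine ⟨⟨by rw [ord_conj, h.ord], by rw [conj_mul, h.bb, conj_pow], ?_, fun ⟨i, e⟩ => h.notMem ⟨i, ?_⟩,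
    fun u => ?_⟩, h.pow⟩
  · rw [conj_inv (a := a), ← h.conj]; group
  · simpa only [conj_zpow, mul_left_inj, mul_right_inj] using e
  · rw [mem_cj, h.mem]
    refine exists_congr fun i => ?_
    rw [conj_zpow, conj_mul]
    constructor <;> rintro (e | e)
    exacts [.inl (by rw [← e]; group), .inr (by rw [← e]; group), .inl (by rw [e]; group),
      .inr (by rw [e]; group)]

theorem act_mem (hx : QAct a b x k j) {u : G} (hu : u ∈ D) : x * u * x⁻¹ ∈ D := by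
  obtain ⟨i, rfl | rfl⟩ := (h.mem u).1 hu
  exacts [(h.mem _).2 ⟨_, .inl (hx.zpow i)⟩, (h.mem _).2 ⟨_, .inr (hx.out i)⟩]

theorem act_odd (hx : QAct a b x k j) : ∃ l, k = 2 * l + 1 := by
  rcases Int.even_or_odd' k with ⟨l, rfl | rfl⟩
  · refine absurd ?_ h.z1
    have := hx.zpow m
    rw [h.ze.2 (show (2 * m : ℤ) ∣ 2 * l * m from ⟨l, by ring⟩), zpow_natCast] at this
    simpa using this
  · exact ⟨l, rfl⟩

theorem act_z (hx : QAct a b x k j) : x * a ^ m = a ^ m * x := by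
  obtain ⟨l, rfl⟩ := h.act_odd hx
  have := hx.zpow m
  rw [h.zeq.2 (show (2 * m : ℤ) ∣ (2 * l + 1) * m - m from ⟨l, by ring⟩), zpow_natCast] at this
  exact mul_inv_eq_iff_eq_mul.1 this

theorem not_ev_od (h1 : QEv a b x) (h2 : QOd a b x) : False := by
  obtain ⟨k, j, h1⟩ := h1
  obtain ⟨k', j', h2⟩ := h2
  obtain ⟨c, hc⟩ := h.zeq.1 (mul_right_cancel (h1.2.symm.trans h2.2))
  rw [mul_assoc] at hc
  omega

theorem ev_mul (h1 : QEv a b x) (h2 : QEv a b y) : QEv a b (x * y) := by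
  obtain ⟨k, j, h1⟩ := h1
  obtain ⟨k', j', h2⟩ := h2
  exact ⟨_, k * j' + j, by convert h1.mul h2 using 1; ring⟩

theorem od_mul_ev (h1 : QOd a b x) (h2 : QEv a b y) : QOd a b (x * y) := by
  obtain ⟨k, j, h1⟩ := h1
  obtain ⟨k', j', h2⟩ := h2
  exact ⟨_, k * j' + j, by convert h1.mul h2 using 1; ring⟩

theorem ev_mul_od (h1 : QEv a b x) (h2 : QOd a b y) : QOd a b (x * y) := by
  obtain ⟨k, j, h1⟩ := h1
  obtain ⟨k', j', h2⟩ := h2
  obtain ⟨l, rfl⟩ := h.act_odd h1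
  exact ⟨_, (2 * l + 1) * j' + l + j, by convert h1.mul h2 using 1; ring⟩

theorem od_mul_od (h1 : QOd a b x) (h2 : QOd a b y) : QEv a b (x * y) := by
  obtain ⟨k, j, h1⟩ := h1
  obtain ⟨k', j', h2⟩ := h2
  obtain ⟨l, rfl⟩ := h.act_odd h1
  exact ⟨_, (2 * l + 1) * j' + l + j + 1, by convert h1.mul h2 using 1; ring⟩

theorem ev_sq (hx : QAct a b x k j) : QEv a b (x * x) :=
  hx.ev_or_od.elim (fun e => h.ev_mul e e) fun e => h.od_mul_od e e

theorem ev_of_mem {u : G} (hu : u ∈ D) : QEv a b u := by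
  obtain ⟨i, rfl | rfl⟩ := (h.mem u).1 hu
  exacts [⟨_, _, h.act_a i⟩, h.ev_mul ⟨_, _, h.act_a i⟩ ⟨_, 0, h.act_b⟩]

theorem exists_act (hx : ∀ u ∈ D, x * u * x⁻¹ ∈ D) (ha : x * a * x⁻¹ ∈ zpowers a) :
    ∃ k j, QAct a b x k j := by
  obtain ⟨k, hk⟩ := mem_zpowers_iff.1 ha
  obtain ⟨j, e | e⟩ := (h.mem _).1 (hx b h.b_mem)
  · refine absurd ((MulAut.conj x).injective ?_) (h.not_comm h.two)
    simp only [map_mul, MulAut.conj_apply, e, ← hk]
    group
  · exact ⟨k, j, hk.symm, e⟩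

/-- the commutators with an element of even type are squares -/
theorem ev_comm (hx : QEv a b x) {u : G} (hu : u ∈ D) : u⁻¹ * (x * u * x⁻¹) ∈ Sq D := by
  obtain ⟨k, j, hx⟩ := hx
  obtain ⟨l, rfl⟩ := h.act_odd hx
  obtain ⟨i, rfl | rfl⟩ := (h.mem u).1 hu
  · convert sq_mem (zpow_mem h.a_mem (l * i)) using 1
    rw [hx.zpow]; group
  · convert sq_mem (mul_mem (mul_mem (inv_mem h.b_mem) (zpow_mem h.a_mem (l * i + j))) h.b_mem) using 1
    rw [hx.out]; group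

/-- an element of even type is corrected to one that centralises `b` -/
theorem ev_fix (hx : QAct a b x k (2 * j)) : QAct a b (a ^ (-j) * x) k 0 := by
  convert (h.act_a (-j)).mul hx using 1 <;> ring

theorem eq_of_act_sq (hx : QAct a b x k 0) {u : G} (hu : u ∈ D)
    (ha : u * a * u⁻¹ = x * x * a * (x * x)⁻¹) (hb : u * b * u⁻¹ = x * x * b * (x * x)⁻¹) :
    u = 1 ∨ u = a ^ m := by
  have h2 := hx.mul hx
  rw [h2.2, mul_zero, add_zero, zpow_zero, one_mul] at hb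
  obtain ⟨i, rfl | rfl⟩ := (h.mem u).1 hu
  · exact h.eq_of_comm h.two hu (by group) (mul_inv_eq_iff_eq_mul.1 hb)
  · rw [h2.1, ((h.act_a i).mul h.act_b).1, h.zeq] at ha
    obtain ⟨l, rfl⟩ := h.act_odd hx
    obtain ⟨r, hr⟩ := h.half
    obtain ⟨c, hc⟩ := ha
    rw [hr] at hc
    have : 4 * (r * c + l * l + l) = -2 := by linear_combination -hc
    omega

/-- an involution that normalises `D` without centralising it is conjugate to `z x` -/
theorem fuse (xx : x * x = 1) (hx : ∀ u ∈ D, x * u * x⁻¹ ∈ D) {u : G} (hu : u ∈ D)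
    (ne : x * u ≠ u * x) : ∃ c ∈ D, c * x * c⁻¹ = a ^ m * x := by
  have xi : x⁻¹ = x := inv_eq_of_mul_eq_one_right xx
  obtain ⟨c, hc⟩ : ∃ c, c = u * (x * u⁻¹ * x⁻¹) := ⟨_, rfl⟩
  have cD : c ∈ D := hc ▸ mul_mem hu (hx _ (inv_mem hu))
  have c1 : c ≠ 1 := fun e => ne (by
    rw [hc, mul_eq_one_iff_inv_eq, eq_mul_inv_iff_mul_eq] at e
    rw [← inv_inj, mul_inv_rev, mul_inv_rev, xi, e])
  have ci : x * c * x⁻¹ = c⁻¹ := by
    rw [hc]
    calc _ = x * u * (x * x) * x⁻¹ * u⁻¹ * (x * x)⁻¹ := by group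
      _ = _ := by rw [xx]; group
  have hc2 : ∃ n, c ^ 2 ^ n = 1 := by
    obtain ⟨n, rfl⟩ := h.pow
    obtain ⟨i, e | e⟩ := (h.mem c).1 cD
    · exact ⟨n + 2, by rw [e, ← zpow_natCast, ← zpow_mul, h.ze]; exact ⟨i, by push_cast; ring⟩⟩
    · exact ⟨2, by rw [show 2 ^ 2 = 2 * 2 from rfl, pow_mul, sq, sq, e, h.sq_out, h.zz]⟩
  obtain ⟨n, hn⟩ := hc2
  obtain ⟨r, h1, h2⟩ := PGroup.exists_pow_not_mem_pow_mem (N := ⊥) (mem_bot.2 hn)
    (fun e => c1 (mem_bot.1 e))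
  rw [← (h.inv (pow_mem cD _) (by rw [← sq]; exact mem_bot.1 h2)).resolve_left fun e => h1 (mem_bot.2 e)]
  rcases r with _ | r
  · exact ⟨u, hu, by rw [pow_zero, pow_one, hc]; group⟩
  · refine ⟨c ^ 2 ^ r, pow_mem cD _, ?_⟩
    have : x * (c ^ 2 ^ r)⁻¹ * x⁻¹ = c ^ 2 ^ r := by rw [← conj_inv, ← conj_pow, ci, inv_pow, inv_inv]
    rw [pow_succ, pow_mul, sq]
    nth_rewrite 4 [← this]
    group

/-- an element of even type centralises an element of order four -/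
theorem ev_four (hx : QEv a b x) : ∃ u ∈ D, u * u = a ^ m ∧ x * u = u * x := by
  obtain ⟨k, j, hx⟩ := hx
  obtain ⟨l, rfl⟩ := h.act_odd hx
  obtain ⟨r, hr⟩ := h.half
  rcases Int.even_or_odd' l with ⟨i, rfl | rfl⟩
  · refine ⟨a ^ r, zpow_mem h.a_mem r, by rw [← zpow_add, ← two_mul, ← hr, zpow_natCast], ?_⟩
    rw [← mul_inv_eq_iff_eq_mul, hx.zpow, h.zeq, hr]
    exact ⟨i, by ring⟩
  · obtain ⟨n, hn⟩ := h.pow
    obtain ⟨s, t, e⟩ : IsCoprime (2 * i + 1) (m : ℤ) := by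
      rw [hn]; push_cast
      exact IsCoprime.pow_right ⟨1, -i, by ring⟩
    refine ⟨a ^ (-j * s) * b, mul_mem (zpow_mem h.a_mem _) h.b_mem, h.sq_out _, ?_⟩
    rw [← mul_inv_eq_iff_eq_mul, hx.out, mul_left_inj, h.zeq]
    exact ⟨j * t, by linear_combination (-2 * j) * e⟩

theorem od_notMem (hx : QOd a b x) : x ∉ D := fun e => h.not_ev_od (h.ev_of_mem e) hx

theorem od_not_comm (hx : QOd a b x) : x * b ≠ b * x := fun e => by
  obtain ⟨k, j, hx⟩ := hx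
  exact h.not_ev_od ⟨k, 0, hx.1, by rw [e]; simp⟩ ⟨k, j, hx⟩

/-- an involution of odd type extends `D` to a semidihedral group -/
theorem od_qd [Finite G] (hx : QOd a b x) (xx : x * x = 1) :
    IsQuasiDihedral (D ⊔ zpowers x : Subgroup G) := by
  have nD := h.od_notMem hx
  obtain ⟨k, j, hx⟩ := hx
  obtain ⟨n, hn⟩ := h.pow
  have xi : x⁻¹ = x := inv_eq_of_mul_eq_one_right xx
  have hN : x ∈ normalizer (D : Set G) :=
    mem_normalizer_of_cj_le (cj_le_iff.2 fun u hu => h.act_mem hx hu)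
  have xW : x ∈ D ⊔ zpowers x := mem_sup_right (mem_zpowers x)
  have w2 : (x * b) ^ 2 = a ^ (2 * j + 1 + m) := by
    rw [zpow_add, zpow_natCast, ← h.bb, ← mul_assoc, ← hx.2, xi, sq]; group
  have wm : (x * b) ^ (2 * m) = a ^ m := by
    obtain ⟨r, hr⟩ := h.half
    rw [pow_mul, w2, ← zpow_natCast, ← zpow_mul, ← zpow_natCast a m, h.zeq]
    exact ⟨j + r, by rw [hr]; ring⟩
  have e2 : 2 * m = 2 ^ (n + 2) := by rw [hn]; ring
  refine ⟨n + 3, by omega, ?_, ⟨x * b, mul_mem xW (mem_sup_left h.b_mem)⟩, ⟨x, xW⟩, ?_, ?_, ?_⟩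
  · rw [TwoGrp.card_eq_two_mul_of_mem_iff nD fun g =>
      TwoGrp.mem_sup_zpowers_iff hN (xx ▸ one_mem D), h.card, hn]
    ring
  · rw [← orderOf_coe]
    refine orderOf_eq_prime_pow (p := 2) (n := n + 2) ?_ ?_
    · rw [← e2]; exact wm ▸ h.z1
    · rw [pow_succ, pow_mul, ← e2, sq]; exact wm ▸ h.zz
  · rw [← orderOf_coe]
    exact ord_two xx fun e => nD ((show x = 1 from e) ▸ one_mem D)
  · apply Subtype.ext
    change x * (x * b) * x⁻¹ = (x * b) ^ (2 ^ (n + 3 - 1) - 1)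
    rw [show n + 3 - 1 = n + 2 from rfl, pow_sub _ Nat.one_le_two_pow, ← e2, wm, ← h.bb, ← mul_assoc, xx]
    group

/-- another cyclic subgroup of index two in the group of order eight -/
theorem q8_swap (e : m = 2) (i : ℤ) : Q2 D m (a ^ i * b) a := by
  subst e
  have sq := h.sq_out i
  have a4 : ∀ n : ℤ, a ^ (4 * n) = 1 := fun n => h.ze.2 ⟨n, by push_cast; ring⟩
  have c1 := (h.act_a 1).out i
  have c2 : (a ^ i * b) ^ (2 : ℤ) = a ^ (2 : ℤ) := by
    rw [zpow_two, sq]; exact (zpow_natCast a 2).symm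
  have ci : a ^ (2 : ℤ) * (a ^ i * b) = (a ^ i * b)⁻¹ := by
    rw [eq_inv_iff_mul_eq_one, mul_assoc, sq, ← h.zz]; rw [← zpow_natCast]; rfl
  have cj : a * (a ^ i * b) * a⁻¹ = (a ^ i * b)⁻¹ := by
    rw [zpow_one] at c1
    rw [← ci, c1]; group
  have ac : a * (a ^ i * b) = (a ^ i * b) ^ (-1 : ℤ) * a := by
    rw [zpow_neg_one, ← cj]; group
  refine ⟨⟨?_, by rw [pow_two, sq, pow_two], cj, fun ⟨n, e⟩ => ?_, fun g => ⟨fun hg => ?_, ?_⟩⟩, h.pow⟩
  · refine orderOf_eq_prime_pow (p := 2) (n := 1) ?_ ?_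
    · rw [pow_one, pow_two, sq]; exact h.z1
    · rw [pow_two 2, pow_mul, pow_two, pow_two, sq, h.zz]
  · have h1 : a * (a ^ i * b) = a ^ i * b * a := by
      have := (Commute.refl (a ^ i * b)).zpow_left n
      rw [show (a ^ i * b) ^ n = a from e] at this
      exact this
    refine h.not_comm le_rfl (mul_left_cancel (a := a ^ i) ?_)
    rw [← mul_assoc, ← h1]; group
  · have key : ∀ n : ℤ, ∃ l : ℤ, a ^ n = (a ^ i * b) ^ (2 * l) ∨ a ^ n = (a ^ i * b) ^ (2 * l) * a := fun n => by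
      rcases Int.even_or_odd' n with ⟨l, rfl | rfl⟩
      · exact ⟨l, .inl (by rw [zpow_mul, zpow_mul, c2])⟩
      · exact ⟨l, .inr (by rw [zpow_add_one, zpow_mul, zpow_mul, c2])⟩
    obtain ⟨n, rfl | rfl⟩ := (h.mem g).1 hg
    · obtain ⟨l, e⟩ := key n
      exact ⟨_, e⟩
    · rw [show a ^ n * b = a ^ (n - i) * (a ^ i * b) by group]
      obtain ⟨l, e | e⟩ := key (n - i)
      · exact ⟨2 * l + 1, .inl (by rw [e, zpow_add_one])⟩
      · exact ⟨2 * l + -1, .inr (by rw [e, mul_assoc, ac, zpow_add, mul_assoc])⟩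
  · have hc := mul_mem (zpow_mem h.a_mem i) h.b_mem
    rintro ⟨n, rfl | rfl⟩
    exacts [zpow_mem hc n, mul_mem (zpow_mem hc n) h.a_mem]

/-- a 2-group that normalises `D` normalises a cyclic subgroup of index two -/
theorem exists_norm [Finite G] {R : Subgroup G} (hR : IsPGroup 2 R) (le : D ≤ R)
    (hn : R ≤ normalizer (D : Set G)) :
    ∃ a' b', Q2 D m a' b' ∧ a' ^ m = a ^ m ∧ ∀ s ∈ R, ∃ k j, QAct a' b' s k j := by
  have hD : ∀ s ∈ R, ∀ u ∈ D, s * u * s⁻¹ ∈ D := fun s hs u hu => (mem_normalizer_iff.1 (hn hs) u).1 hu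
  by_cases e : m = 2
  · have hz : a ^ m ∈ centralizer (R : Set G) := mem_centralizer_iff.2 fun s hs => by
      refine mul_inv_eq_iff_eq_mul.1 ((h.inv (hD s hs _ h.z_mem) ?_).resolve_left fun e => h.z1 ?_)
      · rw [conj_mul, h.zz]; simp
      · simpa using e
    obtain ⟨c, cD, c1, hc⟩ := exists_central_mod hR le hn hz fun e => h.notMem
      (zpowers_le.2 (pow_mem (mem_zpowers a) m) (e h.b_mem))
    have key : ∀ b', Q2 D m c b' → ∃ a' b', Q2 D m a' b' ∧ a' ^ m = a ^ m ∧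
        ∀ s ∈ R, ∃ k j, QAct a' b' s k j := fun b' q => by
      have e1 : c ^ m = a ^ m := (h.inv q.z_mem q.zz).resolve_left q.z1
      refine ⟨c, b', q, e1, fun s hs => q.exists_act (hD s hs) ?_⟩
      have := mul_mem (zpowers_le.2 (pow_mem (mem_zpowers c) m) (e1 ▸ hc s hs)) (mem_zpowers c)
      rwa [commutatorElement_def, inv_mul_cancel_right] at this
    obtain ⟨i, rfl | rfl⟩ := (h.mem c).1 cD
    · refine ⟨a, b, h, rfl, fun s hs => h.exists_act (hD s hs) ?_⟩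
      obtain ⟨n, e1 | e1⟩ := (h.mem _).1 (hD s hs a h.a_mem)
      · exact e1 ▸ zpow_mem_zpowers a n
      exfalso
      rcases Int.even_or_odd' i with ⟨l, rfl | rfl⟩
      · exact c1 (by rw [e, zpow_mul]; exact ⟨l, by rw [← zpow_natCast]; rfl⟩)
      have h1 := mul_mem (zpowers_le.2 (pow_mem (mem_zpowers a) m) (hc s hs))
        (zpow_mem_zpowers a (2 * l + 1))
      rw [commutatorElement_def, inv_mul_cancel_right, ← conj_zpow, e1, zpow_add_one, zpow_mul,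
        zpow_two, h.sq_out] at h1
      have h2 := mul_mem (inv_mem (mul_mem (zpow_mem (pow_mem (mem_zpowers a) m) l)
        (zpow_mem_zpowers a n))) h1
      exact h.notMem (by simpa [mul_assoc] using h2)
    · exact key a (h.q8_swap e i)
  · refine ⟨a, b, h, rfl, fun s hs => h.exists_act (hD s hs) ?_⟩
    obtain ⟨n, e1 | e1⟩ := (h.mem _).1 (hD s hs a h.a_mem)
    · exact e1 ▸ zpow_mem_zpowers a n
    exfalso
    have h1 : (s * a * s⁻¹) ^ 4 = 1 := by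
      rw [show 4 = 2 * 2 from rfl, pow_mul, pow_two, pow_two, e1, h.sq_out, h.zz]
    have h2 := Nat.le_of_dvd (by norm_num) (orderOf_dvd_of_pow_eq_one h1)
    rw [ord_conj, h.ord] at h2
    have := h.two
    omega

end Q2

end CfsgLib.GHE
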