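import Mathlib
import Cfsg.Agent.Lib.GHE.Qa

/-! Block B2: a 2-group that permutes two commuting quaternion groups.  See `plans/GHE.md`. -/

set_option autoImplicit false
set_option linter.unusedSectionVars false

namespace CfsgLib.GHE

open Subgroup Cfsg CfsgLib.W2 CfsgLib.Tech CfsgLib.Sect CfsgLib.PComp CfsgLib.DihSyl
  CfsgLib.GW.Cor
open CfsgLib.LBal hiding cj
open scoped MatrixGroups commutatorElement

universe u

variable {G : Type u} [Group G] [Finite G] {P D E : Subgroup G} {m : ℕ} {a b c d σ s t : G}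

/-- an element that acts trivially on `Y / Φ(Y)` and has its square in `Φ(Y)` lies in `Y` -/
theorem sr_mem {n : ℕ} {Y : Subgroup G} (h : SR n P) (le : Y ≤ P) (hn : n < di Y * 2) (tP : t ∈ P)
    (hc : ∀ y ∈ Y, y⁻¹ * (t * y * t⁻¹) ∈ Sq Y) (tt : t * t ∈ Sq Y) : t ∈ Y := by
  by_contra ht
  have hY : ∀ y ∈ Y, t * y * t⁻¹ ∈ Y := fun y hy => by
    simpa using mul_mem hy (Sq_le Y (hc y hy))
  have h1 := h (Y ⊔ zpowers t) (sup_le le (zpowers_le.2 tP)) (Sq Y) fun x hx => by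
    rcases (TwoGrp.mem_sup_zpowers_iff (mem_normalizer_of_cj_le (cj_le_iff.2 hY))
      (Sq_le Y tt)).1 hx with e | ⟨y, hy, rfl⟩
    · exact sq_mem e
    · convert mul_mem (mul_mem (sq_mem hy) (hc y hy)) tt using 1
      group
  rw [← relIndex_mul_relIndex (Sq Y) Y (Y ⊔ zpowers t) (Sq_le Y) le_sup_left] at h1
  exact absurd ((Nat.mul_le_mul_left _ (two_le_relIndex fun h =>
    ht (h (mem_sup_right (mem_zpowers t))))).trans h1) (not_le.2 hn)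

/-- `s` normalises both frames -/
def QN (a b c d s : G) : Prop := (∃ k j, QAct a b s k j) ∧ ∃ k j, QAct c d s k j

/-- `s` interchanges `D` and `E` -/
def QS (D E : Subgroup G) (s : G) : Prop :=
  (∀ u ∈ D, s * u * s⁻¹ ∈ E) ∧ ∀ u ∈ E, s * u * s⁻¹ ∈ D

/-- frames for the two factors -/
structure QF (P D E : Subgroup G) (m : ℕ) (a b c d σ : G) : Prop where
  q1 : Q2 D m a b
  q2 : Q2 E m c d
  pg : IsPGroup 2 P
  le1 : D ≤ P
  le2 : E ≤ P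
  inf : ∀ x ∈ D, x ∈ E → x = 1
  comm : ∀ x ∈ D, ∀ y ∈ E, x * y = y * x
  sr : SR 16 P
  cases : ∀ s ∈ P, QN a b c d s ∨ QS D E s
  σP : σ ∈ P
  ec : σ * a * σ⁻¹ = c
  ed : σ * b * σ⁻¹ = d

theorem QP.exists_qf (q : QP P D m a b σ) (sr : SR 16 P) :
    ∃ a' b', a' ^ m = a ^ m ∧ QF P D (cj σ D) m a' b' (σ * a' * σ⁻¹) (σ * b' * σ⁻¹) σ := by
  have q0 := q2_of q.quat q.two (q.pg.to_le q.le)
  obtain ⟨a', b', q1, e, h⟩ := q0.exists_norm (R := P ⊓ normalizer (D : Set G))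
    (q.pg.to_le inf_le_left) (le_inf q.le le_normalizer) inf_le_right
  refine ⟨a', b', e, q1, q1.map σ, q.pg, q.le, cj_le_iff.2 fun x hx =>
    mul_mem (mul_mem q.σP (q.le hx)) (inv_mem q.σP), fun x h1 h2 => mem_bot.1 (q.inf ▸ ⟨h1, h2⟩),
    q.comm, sr, fun s hs => ?_, q.σP, rfl, rfl⟩
  rcases q.perm s hs with ⟨h1, h2⟩ | ⟨h1, h2⟩
  · refine .inl ⟨h s ⟨hs, mem_normalizer_iff_cj.2 h1⟩, ?_⟩
    obtain ⟨k, j, h3⟩ := h (σ⁻¹ * s * σ) (mem_inf.2 ⟨mul_mem (mul_mem (inv_mem q.σP) hs) q.σP,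
      mem_normalizer_iff_cj.2 (by rw [cj_mul, cj_mul, h2, cj_inv_cj])⟩)
    exact ⟨k, j, by simpa [mul_assoc] using h3.conj σ⟩
  · exact .inr ⟨cj_le_iff.1 h1.le, cj_le_iff.1 h2.le⟩

namespace QF

variable (h : QF P D E m a b c d σ)
include h

theorem symm : QF P E D m c d a b σ⁻¹ :=
  ⟨h.q2, h.q1, h.pg, h.le2, h.le1, fun x h1 h2 => h.inf x h2 h1,
    fun x h1 y h2 => (h.comm y h2 x h1).symm, h.sr,
    fun s hs => (h.cases s hs).imp And.symm And.symm, inv_mem h.σP, by rw [← h.ec]; group,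
    by rw [← h.ed]; group⟩

theorem not_swap (h1 : s * b * s⁻¹ ∈ D) (h2 : s * b * s⁻¹ ∈ E) : False :=
  h.q1.notMem (by rw [show b = 1 by simpa using h.inf _ h1 h2]; exact one_mem _)

theorem qs_σ : QS D E σ := (h.cases σ h.σP).resolve_left fun ⟨⟨_, _, e⟩, _⟩ =>
  h.not_swap (h.q1.act_mem e h.q1.b_mem) (h.ed ▸ h.q2.b_mem)

theorem cj_σ : cj σ D = E := by
  ext u
  rw [(h.q1.map σ).mem, h.q2.mem, h.ec, h.ed]

theorem qs_mul (sP : s ∈ P) (tP : t ∈ P) (hs : QS D E s) (ht : QS D E t) : QN a b c d (s * t) :=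
  (h.cases _ (mul_mem sP tP)).resolve_right fun e => h.not_swap
    (by simpa [mul_assoc] using hs.2 _ (ht.1 b h.q1.b_mem)) (e.1 b h.q1.b_mem)

theorem z_ne : a ^ m ≠ c ^ m := fun e => h.q1.z1 (h.inf _ h.q1.z_mem (e ▸ h.q2.z_mem))

theorem zc : a ^ m * c ^ m = c ^ m * a ^ m := h.comm _ h.q1.z_mem _ h.q2.z_mem

theorem zz : a ^ m * c ^ m * (a ^ m * c ^ m) = 1 := by
  rw [mul_assoc, h.zc, ← mul_assoc (c ^ m), h.q2.zz, one_mul, h.q1.zz]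

theorem z1 : a ^ m * c ^ m ≠ 1 := fun e => h.z_ne (mul_right_cancel (e.trans h.q2.zz.symm))

theorem zP : a ^ m * c ^ m ∈ P := mul_mem (h.le1 h.q1.z_mem) (h.le2 h.q2.z_mem)

theorem zY : a ^ m * c ^ m ∈ D ⊔ E := mul_mem (mem_sup_left h.q1.z_mem) (mem_sup_right h.q2.z_mem)

theorem qs_z (hs : QS D E s) : s * a ^ m * s⁻¹ = c ^ m :=
  (h.q2.inv (hs.1 _ h.q1.z_mem) (by rw [conj_mul, h.q1.zz]; simp)).resolve_left fun e =>
    h.q1.z1 (by simpa using e)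

theorem conj_z (sP : s ∈ P) : (s * a ^ m * s⁻¹ = a ^ m ∧ s * c ^ m * s⁻¹ = c ^ m) ∨
    (s * a ^ m * s⁻¹ = c ^ m ∧ s * c ^ m * s⁻¹ = a ^ m) := by
  rcases h.cases s sP with ⟨⟨_, _, h1⟩, _, _, h2⟩ | e
  · exact .inl ⟨by rw [h.q1.act_z h1]; simp, by rw [h.q2.act_z h2]; simp⟩
  · exact .inr ⟨h.qs_z e, h.symm.qs_z e.symm⟩

theorem z_cen : P ≤ Cx (a ^ m * c ^ m) := fun s sP => mem_Cx'.2 (by
  rw [← conj_mul]
  rcases h.conj_z sP with ⟨h1, h2⟩ | ⟨h1, h2⟩ <;> rw [h1, h2]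
  exact h.zc.symm)

theorem memY {u : G} : u ∈ D ⊔ E ↔ ∃ x ∈ D, ∃ y ∈ E, u = x * y := mem_sup_of_comm h.comm

theorem di16 : 16 ≤ di (D ⊔ E) :=
  (Nat.mul_le_mul (four_le_di_of_ne (h.pg.to_le h.le1) h.q1.b_mem h.q1.a_mem (h.q1.not_comm h.q1.two))
    (four_le_di_of_ne (h.pg.to_le h.le2) h.q2.b_mem h.q2.a_mem (h.q2.not_comm h.q2.two))).trans
    (di_mul_le h.comm (fun x h1 h2 => h.inf x h1 h2 ▸ one_mem _) fun x h1 h2 => h.inf x h1 h2 ▸ one_mem _)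

theorem ev_of_mem {u : G} (hu : u ∈ D ⊔ E) : QEv a b u := by
  obtain ⟨x, hx, y, hy, rfl⟩ := h.memY.1 hu
  exact h.q1.ev_mul (h.q1.ev_of_mem hx)
    (qev_of_comm (h.comm _ h.q1.a_mem _ hy).symm (h.comm _ h.q1.b_mem _ hy).symm)

theorem mem_of_ev_sq (sP : s ∈ P) (h1 : QEv a b s) (h2 : QEv c d s) (ss : s * s ∈ D ⊔ E) :
    s ∈ D ⊔ E := by
  obtain ⟨k, j, h1⟩ := h1
  obtain ⟨k', j', h2⟩ := h2
  have aD := zpow_mem h.q1.a_mem (-j)
  have cE := zpow_mem h.q2.a_mem (-j')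
  have uY : c ^ (-j') * a ^ (-j) ∈ D ⊔ E := mul_mem (mem_sup_right cE) (mem_sup_left aD)
  have t1 : QAct a b (c ^ (-j') * a ^ (-j) * s) k 0 := by
    simpa [mul_assoc] using (qact_of_comm (h.comm _ h.q1.a_mem _ cE).symm
      (h.comm _ h.q1.b_mem _ cE).symm).mul (h.q1.ev_fix h1)
  have t2 : QAct c d (c ^ (-j') * a ^ (-j) * s) k' 0 := by
    rw [← h.comm _ aD _ cE]
    simpa [mul_assoc] using (qact_of_comm (h.comm _ aD _ h.q2.a_mem)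
      (h.comm _ aD _ h.q2.b_mem)).mul (h.q2.ev_fix h2)
  have sY : ∀ u ∈ D ⊔ E, s * u * s⁻¹ ∈ D ⊔ E := fun u hu => by
    obtain ⟨x, hx, y, hy, rfl⟩ := h.memY.1 hu
    rw [← conj_mul]
    exact mul_mem (mem_sup_left (h.q1.act_mem h1 hx)) (mem_sup_right (h.q2.act_mem h2 hy))
  refine (mul_mem_cancel_left uY).1 ?_
  have tP := mul_mem (sup_le h.le1 h.le2 uY) sP
  have tt : c ^ (-j') * a ^ (-j) * s * (c ^ (-j') * a ^ (-j) * s) ∈ D ⊔ E := by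
    convert mul_mem (mul_mem uY (sY _ uY)) ss using 1
    group
  generalize c ^ (-j') * a ^ (-j) * s = t at t1 t2 tP tt
  refine sr_mem h.sr (sup_le h.le1 h.le2) (by have := h.di16; omega) tP (fun u hu => ?_) ?_
  · obtain ⟨x, hx, y, hy, rfl⟩ := h.memY.1 hu
    have e := h.comm _ (Sq_le D (h.q1.ev_comm ⟨k, 0, t1⟩ hx)) _ (inv_mem hy)
    convert mul_mem (Sq_mono le_sup_left (h.q1.ev_comm ⟨k, 0, t1⟩ hx))
      (Sq_mono le_sup_right (h.q2.ev_comm ⟨k', 0, t2⟩ hy)) using 1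
    rw [← mul_assoc _ y⁻¹, e]
    group
  · obtain ⟨x, hx, y, hy, e⟩ := h.memY.1 tt
    have c1 : ∀ u ∈ D, x * u * x⁻¹ = t * t * u * (t * t)⁻¹ := fun u hu => by
      rw [e, mul_assoc x y, ← h.comm u hu y hy]; group
    have c2 : ∀ u ∈ E, y * u * y⁻¹ = t * t * u * (t * t)⁻¹ := fun u hu => by
      rw [e, h.comm x hx y hy, mul_assoc y x, h.comm x hx u hu]; group
    rw [e]
    refine mul_mem (Sq_mono le_sup_left ?_) (Sq_mono le_sup_right ?_)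
    · rcases h.q1.eq_of_act_sq t1 hx (c1 _ h.q1.a_mem) (c1 _ h.q1.b_mem) with e | e <;> rw [e]
      exacts [one_mem _, h.q1.z_sq]
    · rcases h.q2.eq_of_act_sq t2 hy (c2 _ h.q2.a_mem) (c2 _ h.q2.b_mem) with e | e <;> rw [e]
      exacts [one_mem _, h.q2.z_sq]

/-- the kernel of the action on `Y / Φ(Y)` is `Y` -/
theorem mem_of_ev (sP : s ∈ P) (h1 : QEv a b s) (h2 : QEv c d s) : s ∈ D ⊔ E := by
  obtain ⟨n, hn⟩ := isPGroup_iff_mem.1 h.pg s sP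
  induction n generalizing s with
  | zero => rw [show s = 1 by simpa using hn]; exact one_mem _
  | succ n ih =>
    exact h.mem_of_ev_sq sP h1 h2 (ih (mul_mem sP sP) (h.q1.ev_mul h1 h1) (h.q2.ev_mul h2 h2)
      (by rw [← sq, ← pow_mul, ← pow_succ', hn]))

theorem sq_mem (sP : s ∈ P) (hs : QN a b c d s) : s * s ∈ D ⊔ E := by
  obtain ⟨⟨_, _, h1⟩, _, _, h2⟩ := hs
  exact h.mem_of_ev (mul_mem sP sP) (h.q1.ev_sq h1) (h.q2.ev_sq h2)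

/-- one of `s`, `t`, `s t` normalises the factors -/
theorem three (sP : s ∈ P) (tP : t ∈ P) {w : G} (h1 : s ^ m = w) (h2 : t * t = w)
    (h3 : s * t * (s * t) = w) : w ∈ D ⊔ E := by
  rcases h.cases s sP with e | e
  · obtain ⟨n, hn⟩ := h.q1.pow
    rw [← h1, hn, pow_succ', pow_mul, sq]
    exact pow_mem (h.sq_mem sP e) _
  · rcases h.cases t tP with e' | e'
    exacts [h2 ▸ h.sq_mem tP e', h3 ▸ h.sq_mem (mul_mem sP tP) (h.qs_mul sP tP e e')]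

/-- the square of an interchanging element has the same type on both factors -/
theorem qs_sq (sP : s ∈ P) (hs : QS D E s) :
    s * s ∈ D ⊔ E ∨ QOd a b (s * s) ∧ QOd c d (s * s) := by
  obtain ⟨⟨k, j, h1⟩, -⟩ := h.qs_mul sP sP hs hs
  have σP := inv_mem h.σP
  obtain ⟨-, k₁, j₁, h2⟩ := h.qs_mul sP σP hs h.symm.qs_σ.symm
  obtain ⟨-, k₂, j₂, h3⟩ := h.qs_mul h.σP (inv_mem sP) h.qs_σ
    ((h.cases _ (inv_mem sP)).resolve_left fun ⟨_, _, _, e⟩ => h.symm.not_swap (s := 1)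
      (by simpa using h.q2.b_mem) (by simpa [mul_assoc] using hs.2 _ (h.q2.act_mem e h.q2.b_mem)))
  have h4 := h1.conj σ
  rw [h.ec, h.ed] at h4
  have e : s * σ⁻¹ * (σ * (s * s) * σ⁻¹) * (σ * s⁻¹) = s * s := by group
  have e1 : QEv c d (s * σ⁻¹ * (σ * s⁻¹)) := qev_of_comm (by group) (by group)
  rcases Int.even_or_odd' j with ⟨i, rfl | rfl⟩
  · refine .inl (h.mem_of_ev (mul_mem sP sP) ⟨k, i, h1⟩ (e ▸ ?_))
    rcases h2.ev_or_od with e2 | e2 <;> rcases h3.ev_or_od with e3 | e3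
    exacts [h.q2.ev_mul (h.q2.ev_mul e2 ⟨k, i, h4⟩) e3, (h.q2.not_ev_od e1 (h.q2.ev_mul_od e2 e3)).elim,
      (h.q2.not_ev_od e1 (h.q2.od_mul_ev e2 e3)).elim, h.q2.od_mul_od (h.q2.od_mul_ev e2 ⟨k, i, h4⟩) e3]
  · refine .inr ⟨⟨k, i, h1⟩, e ▸ ?_⟩
    rcases h2.ev_or_od with e2 | e2 <;> rcases h3.ev_or_od with e3 | e3
    exacts [h.q2.od_mul_ev (h.q2.ev_mul_od e2 ⟨k, i, h4⟩) e3,
      (h.q2.not_ev_od e1 (h.q2.ev_mul_od e2 e3)).elim, (h.q2.not_ev_od e1 (h.q2.od_mul_ev e2 e3)).elim,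
      h.q2.ev_mul_od (h.q2.od_mul_od e2 ⟨k, i, h4⟩) e3]

theorem inv_mem_W {u : G} (hu : u ∈ D ⊔ E) (uu : u * u = 1) :
    u = 1 ∨ u = a ^ m ∨ u = c ^ m ∨ u = a ^ m * c ^ m := by
  obtain ⟨x, hx, y, hy, rfl⟩ := h.memY.1 hu
  have e : x * x = (y * y)⁻¹ := by
    rw [eq_inv_iff_mul_eq_one, ← uu, mul_assoc x y, ← mul_assoc y x, ← h.comm x hx y hy]; group
  have h1 := h.inf _ (mul_mem hx hx) (e ▸ inv_mem (mul_mem hy hy))
  rcases h.q1.inv hx h1 with e1 | e1 <;> rcases h.q2.inv hy (inv_eq_one.1 (e ▸ h1)) with e2 | e2 <;>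
    simp [e1, e2]

theorem cen_mem_W (sP : s ∈ P) (h1 : ∀ u ∈ D, s * u = u * s) (h2 : ∀ u ∈ E, s * u = u * s) :
    s = 1 ∨ s = a ^ m ∨ s = c ^ m ∨ s = a ^ m * c ^ m := by
  obtain ⟨x, hx, y, hy, rfl⟩ := h.memY.1 (h.mem_of_ev sP
    (qev_of_comm (h1 _ h.q1.a_mem) (h1 _ h.q1.b_mem)) (qev_of_comm (h2 _ h.q2.a_mem) (h2 _ h.q2.b_mem)))
  have c1 : ∀ u ∈ D, x * u = u * x := fun u hu => mul_right_cancel (b := y) (by
    rw [mul_assoc, h.comm u hu y hy, ← mul_assoc, h1 u hu, mul_assoc])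
  have c2 : ∀ u ∈ E, y * u = u * y := fun u hu => mul_left_cancel (a := x) (by
    rw [← mul_assoc, h2 u hu, ← mul_assoc, ← mul_assoc, h.comm x hx u hu])
  rcases h.q1.eq_of_comm h.q1.two hx (c1 _ h.q1.a_mem) (c1 _ h.q1.b_mem) with e1 | e1 <;>
    rcases h.q2.eq_of_comm h.q2.two hy (c2 _ h.q2.a_mem) (c2 _ h.q2.b_mem) with e2 | e2 <;>
    simp [e1, e2]

theorem ev_of_nea (ss : s * s = 1) (hn : s * (b * s * b⁻¹) * (s * (b * s * b⁻¹)) = 1)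
    (hs : ∃ k j, QAct a b s k j) : QEv a b s := by
  obtain ⟨k, j, hs⟩ := hs
  have e : s * (b * s * b⁻¹) = a ^ j := by
    rw [eq_mul_inv_of_mul_eq hs.2.symm, inv_eq_of_mul_eq_one_right ss]; group
  rw [e, ← zpow_add, h.q1.ze] at hn
  obtain ⟨r, hr⟩ := h.q1.half
  obtain ⟨i, hi⟩ := hn
  obtain rfl : j = 2 * (r * i) := by rw [hr] at hi; linarith
  exact ⟨k, _, hs⟩

/-- an involution that commutes with its conjugates lies in `Z(Y)` -/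
theorem nea (sP : s ∈ P) (ss : s * s = 1)
    (hn : ∀ t ∈ P, s * (t * s * t⁻¹) * (s * (t * s * t⁻¹)) = 1) :
    s = 1 ∨ s = a ^ m ∨ s = c ^ m ∨ s = a ^ m * c ^ m := by
  rcases h.cases s sP with e | e
  · exact h.inv_mem_W (h.mem_of_ev sP (h.ev_of_nea ss (hn _ (h.le1 h.q1.b_mem)) e.1)
      (h.symm.ev_of_nea ss (hn _ (h.le2 h.q2.b_mem)) e.2)) ss
  · have h1 := hn _ (h.le1 h.q1.b_mem)
    have h2 := h.comm _ (inv_mem h.q1.b_mem) _ (e.1 _ h.q1.b_mem)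
    have h3 : s * (b * s * b⁻¹) = s * b * s⁻¹ * b⁻¹ := by rw [inv_eq_of_mul_eq_one_right ss]; group
    rw [h3, mul_assoc, ← mul_assoc b⁻¹, h2, mul_assoc _ b⁻¹, ← mul_assoc _ (s * b * s⁻¹), conj_mul,
      ← mul_inv_rev, h.q1.bb, h.qs_z e, mul_inv_eq_one] at h1
    exact absurd h1.symm h.z_ne

/-- the normaliser of `P` fixes `z` and permutes `z₁`, `z₂` -/
theorem norm_z {g : G} (hg : g ∈ normalizer (P : Set G)) :
    g * (a ^ m * c ^ m) * g⁻¹ = a ^ m * c ^ m ∧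
      (g * a ^ m * g⁻¹ = a ^ m ∨ g * a ^ m * g⁻¹ = c ^ m) := by
  have key : ∀ s ∈ P, s * s = 1 → (∀ t ∈ P, s * (t * s * t⁻¹) * (s * (t * s * t⁻¹)) = 1) →
      g * s * g⁻¹ = 1 ∨ g * s * g⁻¹ = a ^ m ∨ g * s * g⁻¹ = c ^ m ∨ g * s * g⁻¹ = a ^ m * c ^ m :=
    fun s sP ss hn => h.nea (conj_mem_of_mem_normalizer hg sP) (by rw [conj_mul, ss]; simp) fun t tP => by
      have := congrArg (fun x => g * x * g⁻¹) (hn _ (conj_mem_of_mem_normalizer' hg tP))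
      simpa [mul_assoc] using this
  have cen : σ * (g * (a ^ m * c ^ m) * g⁻¹) * σ⁻¹ = g * (a ^ m * c ^ m) * g⁻¹ := by
    nth_rewrite 2 [← mem_Cx'.1 (h.z_cen (conj_mem_of_mem_normalizer' hg h.σP))]
    group
  have h1 : g * (a ^ m * c ^ m) * g⁻¹ = a ^ m * c ^ m := by
    rcases key _ h.zP h.zz (fun t tP => by rw [mem_Cx'.1 (h.z_cen tP), h.zz, mul_one]) with e | e | e | e
    · exact absurd (by simpa using e) h.z1
    · rw [e, h.qs_z h.qs_σ] at cen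
      exact absurd cen.symm h.z_ne
    · rw [e, h.symm.qs_z h.qs_σ.symm] at cen
      exact absurd cen h.z_ne
    · exact e
  refine ⟨h1, ?_⟩
  rcases key _ (h.le1 h.q1.z_mem) h.q1.zz (fun t tP => by
    rcases h.conj_z tP with ⟨e, -⟩ | ⟨e, -⟩ <;> rw [e]
    exacts [by rw [h.q1.zz, mul_one], h.zz]) with e | e | e | e
  · exact absurd (by simpa using e) h.q1.z1
  · exact .inl e
  · exact .inr e
  · exact absurd (by simpa using e.trans h1.symm) h.q2.z1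

end QF

end CfsgLib.GHE
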