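import Mathlib
import Cfsg.Agent.Lib.GHE.Defs
import Cfsg.Agent.Lib.LBal.Term1

/-! More vocabulary: covers and intrinsic components.  See `plans/GHE.md`. -/

set_option autoImplicit false

namespace CfsgLib.GHE

open Subgroup Cfsg CfsgLib.W2 CfsgLib.Tech CfsgLib.Sect CfsgLib.PComp CfsgLib.DihSyl
  CfsgLib.GW.Cor
open CfsgLib.LBal hiding cj
open scoped MatrixGroups commutatorElement

universe u

/-- a quasisimple group whose centre is a nontrivial 2-group -/
structure Cv (Y : Type u) [Group Y] : Prop where
  qs : IsQuasisimple Y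
  pg : IsPGroup 2 (center Y)
  ne : center Y ≠ ⊥
  sr : SR 16 (⊤ : Subgroup Y)

variable {G : Type u} [Group G] [Finite G]

/-- `z` lies in the 2-component `L` of `C(z)`, and `κ` maps `L` onto its simple quotient `X` -/
structure Intr (z : G) (L : Subgroup G) {X : Type u} [Group X] (κ : L →* X) : Prop
    extends Ctx G where
  ord : orderOf z = 2
  pc : PC 2 L (Cx z)
  mem : z ∈ L
  surj : Function.Surjective κ
  ker : ∀ l : L, κ l = 1 ↔ (l : G) ∈ LBal.cmod 2 L
  cx : Ctx X

/-- all components have four-groups as Sylow 2-subgroups -/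
def All2 (G : Type u) [Group G] : Prop := ∀ y : G, orderOf y = 2 → LL y ≠ ⊥ → DS (LL y) 2

/-- the centralisers of 2-central involutions and the 2-constrained 2-locals are solvable -/
def Solv (G : Type u) [Group G] : Prop :=
  (∀ z : G, IsTwoCentralInvolution z → Group.IsSolvable (Cx z)) ∧
    ∀ A : Subgroup G, IsPGroup 2 A → A ≠ ⊥ → IsPConstrained 2 (normalizer (A : Set G)) →
      Group.IsSolvable (normalizer (A : Set G))

end CfsgLib.GHE
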