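import Mathlib
import Cfsg.Agent.Lib.GHE.Defs2
import Cfsg.Agent.Lib.GHE.B2a

/-! Block B1: vocabulary.  See `plans/GHE_B1.md`. -/

set_option autoImplicit false
set_option linter.unusedSectionVars false

namespace CfsgLib.GHE

open Subgroup Cfsg CfsgLib.W2 CfsgLib.Tech CfsgLib.Sect CfsgLib.PComp CfsgLib.DihSyl
  CfsgLib.GW.Cor
open CfsgLib.LBal hiding cj
open scoped MatrixGroups commutatorElement

universe u

variable {G : Type u} [Group G] [Finite G] {S P D E : Subgroup G} {m n : ℕ}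
  {z a b c d s t u v x y σ τ μ : G}

/-- the 2-group `P` permutes the factors of the central product `D ∘ E` -/
structure BP (P D E : Subgroup G) (z : G) (m n : ℕ) (a b c d : G) : Prop where
  q1 : Q2 D m a b
  q2 : Q2 E n c d
  e1 : a ^ m = z
  e2 : c ^ n = z
  pg : IsPGroup 2 P
  le1 : D ≤ P
  le2 : E ≤ P
  comm : ∀ x ∈ D, ∀ y ∈ E, x * y = y * x
  srP : SR 16 P
  cases : ∀ s ∈ P, QN a b c d s ∨ QS D E s
  sw1 : ∀ s ∈ P, QS D E s → s * a * s⁻¹ ∈ zpowers c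
  sw2 : ∀ s ∈ P, QS D E s → s * c * s⁻¹ ∈ zpowers a

/-- the frame in a simple group, with the fusion that takes place in `C(z)` -/
structure BF (S D E : Subgroup G) (z : G) (m n : ℕ) (a b c d : G) : Prop
    extends Ctx G, BP S D E z m n a b c d where
  syl : IsSylowIn 2 S ⊤
  fus : ∀ y ∈ D ⊔ E, ∀ y' ∈ D ⊔ E, y * y = 1 → y' * y' = 1 → y ≠ 1 → y ≠ z → y' ≠ 1 → y' ≠ z →
    ∃ g ∈ Cx z, g * y * g⁻¹ = y'
  cY : ∀ g ∈ Cx z, ∀ s ∈ D ⊔ E, g * s * g⁻¹ ∈ S → g * s * g⁻¹ ∈ D ⊔ E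
  cS : ∀ g ∈ Cx z, ∀ s ∈ S, g * s * g⁻¹ ∈ S → QS D E s → QS D E (g * s * g⁻¹)
  cD : ∀ g ∈ Cx z, cj g D ≤ S → cj g D = D ∨ cj g D = E
  cE : ∀ g ∈ Cx z, cj g E ≤ S → cj g E = D ∨ cj g E = E
  cI : ∀ g ∈ Cx z, ∀ s ∈ S, g * s * g⁻¹ ∈ S → (∃ y ∈ D ⊔ E, s * y * (s * y) = 1) →
    ∃ y ∈ D ⊔ E, g * s * g⁻¹ * y * (g * s * g⁻¹ * y) = 1

/-- `z` is not conjugate to another element of `D E` -/
def BI (D E : Subgroup G) (z : G) : Prop := ∀ y ∈ D ⊔ E, IsConj z y → y = z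

/-- no element of `S` is one-sided -/
def BE (S : Subgroup G) (a b c d : G) : Prop :=
  ∀ s ∈ S, QN a b c d s → (QOd a b s ↔ QOd c d s)

end CfsgLib.GHE
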