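import Mathlib
import Cfsg.Agent.Lib.GHE.B1a

/-! Block B1, package API1: the basic facts on a frame.  See `plans/GHE_B1.md`. -/

set_option autoImplicit false
set_option linter.unusedSectionVars false

namespace CfsgLib.GHE

open Subgroup Cfsg CfsgLib.W2 CfsgLib.Tech CfsgLib.Sect CfsgLib.PComp CfsgLib.DihSyl
  CfsgLib.GW.Cor
open CfsgLib.LBal hiding cj
open scoped MatrixGroups commutatorElement

universe u

variable {G : Type u} [Group G] [Finite G] {S P D E : Subgroup G} {m n : ℕ}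
  {z a b c d s t u v x y σ τ μ : G}

theorem Q2.ii (h : Q2 D m a b) : a ^ (m / 2) * a ^ (m / 2) = a ^ m := by
  obtain ⟨r, hr⟩ := h.half
  rw [← pow_add]; congr 1; omega

theorem Q2.odd_i (h : Q2 D m a b) (l : ℤ) :
    (a ^ (2 * l + 1)) ^ (m / 2) = a ^ (m / 2) ∨ (a ^ (2 * l + 1)) ^ (m / 2) = a ^ (m / 2) * a ^ m := by
  obtain ⟨r, hr⟩ := h.half
  have e : ((m / 2 : ℕ) : ℤ) = r := by omega
  rw [← pow_add, ← zpow_natCast, ← zpow_natCast, ← zpow_natCast, ← zpow_mul, h.zeq, h.zeq]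
  push_cast [e, hr]
  rcases Int.even_or_odd' l with ⟨i, rfl | rfl⟩
  exacts [.inl ⟨i, by ring⟩, .inr ⟨i, by ring⟩]

/-- the parity type does not depend on the frame -/
theorem Q2.od_of_frame {c' d' : G} (h : Q2 E n c d) (h' : Q2 E m c' d') (hc : c' ∈ zpowers c)
    (hs : ∃ k j, QAct c d s k j) (o : QOd c' d' s) : QOd c d s := by
  obtain ⟨k, j, hs⟩ := hs
  refine hs.ev_or_od.resolve_left fun ⟨k, j, hs⟩ => ?_
  obtain ⟨k', j', o⟩ := o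
  obtain ⟨r, rfl⟩ := mem_zpowers_iff.1 hc
  obtain ⟨l, e | e⟩ := (h.mem d').1 h'.b_mem
  · exact h'.not_comm h'.two (by rw [e]; group)
  obtain ⟨q, rfl⟩ := h.act_odd hs
  have e1 := o.2
  rw [e, hs.out, ← mul_assoc, ← zpow_mul, ← zpow_add] at e1
  obtain ⟨t, ht⟩ := h.zeq.1 (mul_right_cancel e1)
  rcases Int.even_or_odd' r with ⟨i, rfl | rfl⟩
  · obtain ⟨x, e2 | e2⟩ := (h'.mem c).1 h.a_mem
    · rw [← zpow_mul] at e2
      obtain ⟨y, hy⟩ := h.zeq.1 ((zpow_one c).trans e2)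
      rw [mul_assoc, mul_assoc] at hy
      omega
    · refine h.notMem (mem_zpowers_iff.2 ⟨-l - 2 * i * x + 1, ?_⟩)
      rw [e, ← zpow_mul] at e2
      calc _ = (c ^ l)⁻¹ * (c ^ (2 * i * x))⁻¹ * c := by group
        _ = (c ^ l)⁻¹ * (c ^ (2 * i * x))⁻¹ * (c ^ (2 * i * x) * (c ^ l * d)) := by rw [← e2]
        _ = d := by group
  · have : 2 * (q * l + j - 2 * i * j' - i - j' - n * t) = 1 := by linarith
    omega

namespace BP

variable (h : BP P D E z m n a b c d)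
include h

theorem symm : BP P E D z n m c d a b :=
  ⟨h.q2, h.q1, h.e2, h.e1, h.pg, h.le2, h.le1, fun x h1 y h2 => (h.comm y h2 x h1).symm, h.srP,
    fun s hs => (h.cases s hs).imp And.symm And.symm, fun s hs e => h.sw2 s hs e.symm,
    fun s hs e => h.sw1 s hs e.symm⟩

theorem memY : u ∈ D ⊔ E ↔ ∃ x ∈ D, ∃ y ∈ E, u = x * y := mem_sup_of_comm h.comm

theorem leY : D ⊔ E ≤ P := sup_le h.le1 h.le2

theorem oz : orderOf z = 2 := h.e1 ▸ h.q1.oz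

theorem zz : z * z = 1 := h.e1 ▸ h.q1.zz

theorem z_ne : z ≠ 1 := h.e1 ▸ h.q1.z1

theorem zD : z ∈ D := h.e1 ▸ h.q1.z_mem

theorem zE : z ∈ E := h.e2 ▸ h.q2.z_mem

theorem zY : z ∈ D ⊔ E := mem_sup_left h.zD

theorem zP : z ∈ P := h.le1 h.zD

theorem bb : b * b = z := h.q1.bb.trans h.e1

theorem dd : d * d = z := h.q2.bb.trans h.e2

theorem inf (h1 : x ∈ D) (h2 : x ∈ E) : x = 1 ∨ x = z :=
  h.e1 ▸ h.q1.eq_of_comm h.q1.two h1 (h.comm _ h.q1.a_mem _ h2).symm (h.comm _ h.q1.b_mem _ h2).symm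

theorem z_comm (sP : s ∈ P) : s * z = z * s := by
  rcases h.cases s sP with ⟨⟨_, _, e⟩, -⟩ | e
  · exact h.e1 ▸ h.q1.act_z e
  · exact mul_inv_eq_iff_eq_mul.1 (((h.q2.inv (e.1 _ h.zD) (by rw [conj_mul, h.zz]; simp)).resolve_left
      fun e => h.z_ne (by simpa using e)).trans h.e2)

theorem z_cen : P ≤ Cx z := fun _ sP => mem_Cx.2 (h.z_comm sP)

theorem nrm (sP : s ∈ P) (hu : u ∈ D ⊔ E) : s * u * s⁻¹ ∈ D ⊔ E := by
  obtain ⟨x, hx, y, hy, rfl⟩ := h.memY.1 hu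
  rw [← conj_mul]
  rcases h.cases s sP with ⟨⟨_, _, e1⟩, _, _, e2⟩ | e
  · exact mul_mem (mem_sup_left (h.q1.act_mem e1 hx)) (mem_sup_right (h.q2.act_mem e2 hy))
  · exact mul_mem (mem_sup_right (e.1 x hx)) (mem_sup_left (e.2 y hy))

theorem not_sw (h1 : s * b * s⁻¹ ∈ D) (h2 : s * b * s⁻¹ ∈ E) : False := by
  have e : s * b * s⁻¹ * (s * b * s⁻¹) = 1 := by
    rcases h.inf h1 h2 with e | e <;> rw [e]
    exacts [one_mul _, h.zz]
  rw [conj_mul, h.bb] at e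
  exact h.z_ne (by simpa using e)

theorem not_qn_qs (h1 : QN a b c d s) (h2 : QS D E s) : False := by
  obtain ⟨⟨_, _, e⟩, -⟩ := h1
  exact h.not_sw (h.q1.act_mem e h.q1.b_mem) (h2.1 b h.q1.b_mem)

theorem qn_mul_qn (hs : QN a b c d s) (ht : QN a b c d t) : QN a b c d (s * t) := by
  obtain ⟨⟨_, _, e1⟩, _, _, e2⟩ := hs
  obtain ⟨⟨_, _, f1⟩, _, _, f2⟩ := ht
  exact ⟨⟨_, _, e1.mul f1⟩, _, _, e2.mul f2⟩

theorem qn_mul_qs (hs : QN a b c d s) (ht : QS D E t) : QS D E (s * t) := by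
  obtain ⟨⟨_, _, e1⟩, _, _, e2⟩ := hs
  exact ⟨fun u hu => by simpa [mul_assoc] using h.q2.act_mem e2 (ht.1 u hu),
    fun u hu => by simpa [mul_assoc] using h.q1.act_mem e1 (ht.2 u hu)⟩

theorem qs_mul_qn (hs : QS D E s) (ht : QN a b c d t) : QS D E (s * t) := by
  obtain ⟨⟨_, _, e1⟩, _, _, e2⟩ := ht
  exact ⟨fun u hu => by simpa [mul_assoc] using hs.1 _ (h.q1.act_mem e1 hu),
    fun u hu => by simpa [mul_assoc] using hs.2 _ (h.q2.act_mem e2 hu)⟩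

theorem qs_mul_qs (sP : s ∈ P) (tP : t ∈ P) (hs : QS D E s) (ht : QS D E t) :
    QN a b c d (s * t) :=
  (h.cases _ (mul_mem sP tP)).resolve_right fun e => h.not_sw
    (by simpa [mul_assoc] using hs.2 _ (ht.1 b h.q1.b_mem)) (e.1 b h.q1.b_mem)

theorem qn_one : QN a b c d 1 :=
  ⟨⟨_, _, qact_of_comm (by simp) (by simp)⟩, _, _, qact_of_comm (by simp) (by simp)⟩

theorem qn_inv (sP : s ∈ P) (hs : QN a b c d s) : QN a b c d s⁻¹ :=
  (h.cases _ (inv_mem sP)).resolve_right fun e =>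
    h.not_qn_qs h.qn_one (by simpa using h.qn_mul_qs hs e)

theorem qs_inv (sP : s ∈ P) (hs : QS D E s) : QS D E s⁻¹ :=
  (h.cases _ (inv_mem sP)).resolve_left fun e =>
    h.not_qn_qs h.qn_one (by simpa using h.qs_mul_qn hs e)

theorem qn_sq (sP : s ∈ P) : QN a b c d (s * s) :=
  (h.cases s sP).elim (fun e => h.qn_mul_qn e e) fun e => h.qs_mul_qs sP sP e e

theorem qn_conj (sP : s ∈ P) (tP : t ∈ P) (ht : QN a b c d t) : QN a b c d (s * t * s⁻¹) := by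
  rcases h.cases s sP with e | e
  · exact h.qn_mul_qn (h.qn_mul_qn e ht) (h.qn_inv sP e)
  · exact h.qs_mul_qs (mul_mem sP tP) (inv_mem sP) (h.qs_mul_qn e ht) (h.qs_inv sP e)

theorem ev1_of_mem (hu : u ∈ D ⊔ E) : QEv a b u := by
  obtain ⟨x, hx, y, hy, rfl⟩ := h.memY.1 hu
  exact h.q1.ev_mul (h.q1.ev_of_mem hx)
    (qev_of_comm (h.comm _ h.q1.a_mem _ hy).symm (h.comm _ h.q1.b_mem _ hy).symm)

theorem ev2_of_mem (hu : u ∈ D ⊔ E) : QEv c d u := h.symm.ev1_of_mem (sup_comm D E ▸ hu)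

theorem qn_of_mem (hu : u ∈ D ⊔ E) : QN a b c d u := by
  obtain ⟨_, _, e1⟩ := h.ev1_of_mem hu
  obtain ⟨_, _, e2⟩ := h.ev2_of_mem hu
  exact ⟨⟨_, _, e1⟩, _, _, e2⟩

theorem od1_inv (sP : s ∈ P) (hs : QN a b c d s) : QOd a b s⁻¹ ↔ QOd a b s := by
  obtain ⟨⟨_, _, e1⟩, -⟩ := h.qn_inv sP hs
  obtain ⟨⟨_, _, e2⟩, -⟩ := hs
  have o : QEv a b (s * s⁻¹) := qev_of_comm (by simp) (by simp)
  exact ⟨fun k => e2.ev_or_od.resolve_left fun e => h.q1.not_ev_od o (h.q1.ev_mul_od e k),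
    fun k => e1.ev_or_od.resolve_left fun e => h.q1.not_ev_od o (h.q1.od_mul_ev k e)⟩

theorem od2_inv (sP : s ∈ P) (hs : QN a b c d s) : QOd c d s⁻¹ ↔ QOd c d s := h.symm.od1_inv sP hs.symm

theorem di16 : 16 ≤ di (D ⊔ E) :=
  (Nat.mul_le_mul (four_le_di_of_ne (h.pg.to_le h.le1) h.q1.b_mem h.q1.a_mem (h.q1.not_comm h.q1.two))
    (four_le_di_of_ne (h.pg.to_le h.le2) h.q2.b_mem h.q2.a_mem (h.q2.not_comm h.q2.two))).trans
    (di_mul_le h.comm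
      (fun x h1 h2 => by
        rcases h.inf h1 h2 with e | e <;> rw [e]
        exacts [one_mem _, h.e1 ▸ h.q1.z_sq])
      fun x h1 h2 => by
        rcases h.inf h1 h2 with e | e <;> rw [e]
        exacts [one_mem _, h.e2 ▸ h.q2.z_sq])

theorem mem_of_ev_sq (sP : s ∈ P) (h1 : QEv a b s) (h2 : QEv c d s) (ss : s * s ∈ D ⊔ E) :
    s ∈ D ⊔ E := by
  obtain ⟨k, j, h1⟩ := h1
  obtain ⟨k', j', h2⟩ := h2
  have aD := zpow_mem h.q1.a_mem (-j)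
  have cE := zpow_mem h.q2.a_mem (-j')
  have uY : c ^ (-j') * a ^ (-j) ∈ D ⊔ E := mul_mem (mem_sup_right cE) (mem_sup_left aD)
  have t1 : QAct a b (c ^ (-j') * a ^ (-j) * s) k 0 := by
    simpa [mul_assoc] using (qact_of_comm (h.comm _ h.q1.a_mem _ cE).symm
      (h.comm _ h.q1.b_mem _ cE).symm).mul (h.q1.ev_fix h1)
  have t2 : QAct c d (c ^ (-j') * a ^ (-j) * s) k' 0 := by
    rw [← h.comm _ aD _ cE]
    simpa [mul_assoc] using (qact_of_comm (h.comm _ aD _ h.q2.a_mem)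
      (h.comm _ aD _ h.q2.b_mem)).mul (h.q2.ev_fix h2)
  refine (mul_mem_cancel_left uY).1 ?_
  have tP := mul_mem (sup_le h.le1 h.le2 uY) sP
  have tt : c ^ (-j') * a ^ (-j) * s * (c ^ (-j') * a ^ (-j) * s) ∈ D ⊔ E := by
    convert mul_mem (mul_mem uY (h.nrm sP uY)) ss using 1
    group
  generalize c ^ (-j') * a ^ (-j) * s = t at t1 t2 tP tt
  refine sr_mem h.srP (sup_le h.le1 h.le2) (by have := h.di16; omega) tP (fun u hu => ?_) ?_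
  · obtain ⟨x, hx, y, hy, rfl⟩ := h.memY.1 hu
    have e := h.comm _ (Sq_le D (h.q1.ev_comm ⟨k, 0, t1⟩ hx)) _ (inv_mem hy)
    convert mul_mem (Sq_mono le_sup_left (h.q1.ev_comm ⟨k, 0, t1⟩ hx))
      (Sq_mono le_sup_right (h.q2.ev_comm ⟨k', 0, t2⟩ hy)) using 1
    rw [← mul_assoc _ y⁻¹, e]
    group
  · obtain ⟨x, hx, y, hy, e⟩ := h.memY.1 tt
    have c1 : ∀ u ∈ D, x * u * x⁻¹ = t * t * u * (t * t)⁻¹ := fun u hu => by
      rw [e, mul_assoc x y, ← h.comm u hu y hy]; group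
    have c2 : ∀ u ∈ E, y * u * y⁻¹ = t * t * u * (t * t)⁻¹ := fun u hu => by
      rw [e, h.comm x hx y hy, mul_assoc y x, h.comm x hx u hu]; group
    rw [e]
    refine mul_mem (Sq_mono le_sup_left ?_) (Sq_mono le_sup_right ?_)
    · rcases h.q1.eq_of_act_sq t1 hx (c1 _ h.q1.a_mem) (c1 _ h.q1.b_mem) with e | e <;> rw [e]
      exacts [one_mem _, h.q1.z_sq]
    · rcases h.q2.eq_of_act_sq t2 hy (c2 _ h.q2.a_mem) (c2 _ h.q2.b_mem) with e | e <;> rw [e]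
      exacts [one_mem _, h.q2.z_sq]

/-- the rank argument -/
theorem mem_of_ev (sP : s ∈ P) (h1 : QEv a b s) (h2 : QEv c d s) : s ∈ D ⊔ E := by
  obtain ⟨n, hn⟩ := isPGroup_iff_mem.1 h.pg s sP
  induction n generalizing s with
  | zero => rw [show s = 1 by simpa using hn]; exact one_mem _
  | succ n ih =>
    exact h.mem_of_ev_sq sP h1 h2 (ih (mul_mem sP sP) (h.q1.ev_mul h1 h1) (h.q2.ev_mul h2 h2)
      (by rw [← sq, ← pow_mul, ← pow_succ', hn]))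

theorem sq_mem (sP : s ∈ P) (hs : QN a b c d s) : s * s ∈ D ⊔ E := by
  obtain ⟨⟨_, _, h1⟩, _, _, h2⟩ := hs
  exact h.mem_of_ev (mul_mem sP sP) (h.q1.ev_sq h1) (h.q2.ev_sq h2)

theorem ev1_of_iff (sP : s ∈ P) (hs : QN a b c d s) (ht : QN a b c d t)
    (h1 : QOd a b s ↔ QOd a b t) : QEv a b (s⁻¹ * t) := by
  obtain ⟨⟨_, _, e1⟩, -⟩ := h.qn_inv sP hs
  obtain ⟨⟨_, _, e2⟩, -⟩ := ht
  rcases e1.ev_or_od with e1 | e1
  · exact h.q1.ev_mul e1 (e2.ev_or_od.resolve_right fun k =>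
      h.q1.not_ev_od e1 ((h.od1_inv sP hs).2 (h1.2 k)))
  · exact h.q1.od_mul_od e1 (h1.1 ((h.od1_inv sP hs).1 e1))

/-- two elements of the same type lie in one coset of `D E` -/
theorem mem_of_od (sP : s ∈ P) (tP : t ∈ P) (hs : QN a b c d s) (ht : QN a b c d t)
    (h1 : QOd a b s ↔ QOd a b t) (h2 : QOd c d s ↔ QOd c d t) : s⁻¹ * t ∈ D ⊔ E :=
  h.mem_of_ev (mul_mem (inv_mem sP) tP) (h.ev1_of_iff sP hs ht h1)
    (h.symm.ev1_of_iff sP hs.symm ht.symm h2)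

theorem cenE (hu : u ∈ D ⊔ E) (hc : u * c = c * u) (hd : u * d = d * u) : u ∈ D := by
  obtain ⟨x, hx, y, hy, rfl⟩ := h.memY.1 hu
  have c2 : ∀ u ∈ E, x * y * u = u * (x * y) → y * u = u * y := fun u hu e =>
    mul_left_cancel (a := x) (by rw [← mul_assoc, e, ← mul_assoc, ← mul_assoc, h.comm x hx u hu])
  rcases h.q2.eq_of_comm h.q2.two hy (c2 _ h.q2.a_mem hc) (c2 _ h.q2.b_mem hd) with e | e <;> rw [e]
  exacts [mul_mem hx (one_mem _), mul_mem hx (h.e2 ▸ h.zD)]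

theorem cenD (hu : u ∈ D ⊔ E) (ha : u * a = a * u) (hb : u * b = b * u) : u ∈ E := h.symm.cenE (sup_comm D E ▸ hu) ha hb

theorem cen (sP : s ∈ P) (ha : s * a = a * s) (hb : s * b = b * s) (hc : s * c = c * s)
    (hd : s * d = d * s) : s = 1 ∨ s = z :=
  h.e1 ▸ h.q1.eq_of_comm h.q1.two
    (h.cenE (h.mem_of_ev sP (qev_of_comm ha hb) (qev_of_comm hc hd)) hc hd) ha hb

theorem invY (hu : u ∈ D ⊔ E) (uu : u * u = 1) :
    u = 1 ∨ u = z ∨ ∃ x ∈ D, ∃ y ∈ E, x * x = z ∧ y * y = z ∧ u = x * y := by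
  obtain ⟨x, hx, y, hy, rfl⟩ := h.memY.1 hu
  have e : x * x = (y * y)⁻¹ := by
    rw [eq_inv_iff_mul_eq_one, ← uu, mul_assoc x y, ← mul_assoc y x, ← h.comm x hx y hy]; group
  rcases h.inf (mul_mem hx hx) (e ▸ inv_mem (mul_mem hy hy)) with h1 | h1
  · rcases h.q1.inv hx h1 with e1 | e1 <;> rcases h.q2.inv hy (inv_eq_one.1 (e ▸ h1)) with e2 | e2 <;>
      simp [e1, e2, h.e1, h.e2, h.zz]
  · refine .inr (.inr ⟨x, hx, y, hy, h1, ?_, rfl⟩)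
    rw [← inv_inv (y * y), ← e, h1, inv_eq_of_mul_eq_one_right h.zz]

/-- the factor group `P / D E` has no quaternion subgroup -/
theorem three (sP : s ∈ P) (tP : t ∈ P) (h1 : s * s = v) (h2 : t * t = v)
    (h3 : s * t * (s * t) = v) : v ∈ D ⊔ E := by
  rcases h.cases s sP with e | e
  · exact h1 ▸ h.sq_mem sP e
  · rcases h.cases t tP with e' | e'
    exacts [h2 ▸ h.sq_mem tP e', h3 ▸ h.sq_mem (mul_mem sP tP) (h.qs_mul_qs sP tP e e')]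

theorem eq_mn (σP : σ ∈ P) (hσ : QS D E σ) : m = n := by
  have e1 := orderOf_dvd_of_mem_zpowers (h.sw1 σ σP hσ)
  have e2 := orderOf_dvd_of_mem_zpowers (h.sw2 σ σP hσ)
  rw [ord_conj, h.q1.ord, h.q2.ord] at e1 e2
  have := Nat.dvd_antisymm e1 e2
  omega

theorem cj_sw (σP : σ ∈ P) (hσ : QS D E σ) : cj σ D = E :=
  le_antisymm (cj_le_iff.2 hσ.1) fun u hu =>
    mem_cj.2 (by simpa using (h.qs_inv σP hσ).2 u hu)

theorem q_sw (σP : σ ∈ P) (hσ : QS D E σ) : Q2 E m (σ * a * σ⁻¹) (σ * b * σ⁻¹) :=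
  h.cj_sw σP hσ ▸ h.q1.map σ

theorem qn_sw (σP : σ ∈ P) (sP : s ∈ P) (hs : QN a b c d s) :
    QN a b (σ * a * σ⁻¹) (σ * b * σ⁻¹) s := by
  obtain ⟨⟨k, j, e⟩, -⟩ := h.qn_conj (inv_mem σP) sP hs
  exact ⟨hs.1, k, j, by simpa [mul_assoc] using e.conj σ⟩

theorem reframe (σP : σ ∈ P) (hσ : QS D E σ) :
    BP P D E z m m a b (σ * a * σ⁻¹) (σ * b * σ⁻¹) := by
  refine ⟨h.q1, h.q_sw σP hσ, h.e1, by rw [conj_pow, h.e1, h.z_comm σP]; simp, h.pg, h.le1, h.le2,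
    h.comm, h.srP, fun s sP => (h.cases s sP).imp_left (h.qn_sw σP sP), fun s sP hs => ?_,
    fun s sP hs => ?_⟩
  · obtain ⟨⟨k, j, e⟩, -⟩ := h.qs_mul_qs (inv_mem σP) sP (h.qs_inv σP hσ) hs
    exact mem_zpowers_iff.2 ⟨k, by rw [conj_zpow, ← e.1]; group⟩
  · obtain ⟨⟨k, j, e⟩, -⟩ := h.qs_mul_qs sP σP hs hσ
    exact mem_zpowers_iff.2 ⟨k, by rw [← e.1]; group⟩

theorem reframe_qn (σP : σ ∈ P) (hσ : QS D E σ) (sP : s ∈ P) :
    QN a b (σ * a * σ⁻¹) (σ * b * σ⁻¹) s ↔ QN a b c d s :=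
  ⟨fun e => (h.cases s sP).resolve_right ((h.reframe σP hσ).not_qn_qs e), h.qn_sw σP sP⟩

theorem reframe_od (σP : σ ∈ P) (hσ : QS D E σ) (sP : s ∈ P) (hs : QN a b c d s) :
    QOd (σ * a * σ⁻¹) (σ * b * σ⁻¹) s ↔ QOd c d s := by
  have e := h.q2.od_of_frame (h.q_sw σP hσ) (h.sw1 σ σP hσ) hs.2
  refine ⟨e, (h.q_sw σP hσ).od_of_frame h.q2 ?_ (h.qn_sw σP sP hs).2⟩
  obtain ⟨k, hk⟩ := mem_zpowers_iff.1 (h.sw2 σ⁻¹ (inv_mem σP) (h.qs_inv σP hσ))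
  exact mem_zpowers_iff.2 ⟨k, by rw [conj_zpow, hk]; group⟩

theorem reframe_be (σP : σ ∈ P) (hσ : QS D E σ) (ev : BE P a b c d) :
    BE P a b (σ * a * σ⁻¹) (σ * b * σ⁻¹) := fun s sP hs =>
  have k := (h.reframe_qn σP hσ sP).1 hs
  (ev s sP k).trans (h.reframe_od σP hσ sP k).symm

theorem conj_od2' (σP : σ ∈ P) (hσ : QS D E σ) (sP : s ∈ P) (hs : QN a b c d s) :
    QOd c d (σ * s * σ⁻¹) ↔ QOd a b s := by
  rw [← h.reframe_od σP hσ (mul_mem (mul_mem σP sP) (inv_mem σP)) (h.qn_conj σP sP hs)]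
  exact ⟨fun ⟨k, j, e⟩ => ⟨k, j, by simpa [mul_assoc] using e.conj σ⁻¹⟩,
    fun ⟨k, j, e⟩ => ⟨k, j, e.conj σ⟩⟩

theorem conj_od1 (σP : σ ∈ P) (hσ : QS D E σ) (sP : s ∈ P) (hs : QN a b c d s) :
    QOd a b (σ * s * σ⁻¹) ↔ QOd c d s := h.symm.conj_od2' σP hσ.symm sP hs.symm

theorem conj_od2 (σP : σ ∈ P) (hσ : QS D E σ) (sP : s ∈ P) (hs : QN a b c d s) :
    QOd c d (σ * s * σ⁻¹) ↔ QOd a b s := h.conj_od2' σP hσ sP hs

theorem ii : a ^ (m / 2) * a ^ (m / 2) = z := h.q1.ii.trans h.e1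

theorem jj : c ^ (n / 2) * c ^ (n / 2) = z := h.q2.ii.trans h.e2

theorem iD : a ^ (m / 2) ∈ D := pow_mem h.q1.a_mem _

theorem jE : c ^ (n / 2) ∈ E := pow_mem h.q2.a_mem _

theorem ij : a ^ (m / 2) * c ^ (n / 2) = c ^ (n / 2) * a ^ (m / 2) := h.comm _ h.iD _ h.jE

theorem ww : a ^ (m / 2) * c ^ (n / 2) * (a ^ (m / 2) * c ^ (n / 2)) = 1 := by
  rw [mul_assoc, ← mul_assoc (c ^ (n / 2)), ← h.ij, mul_assoc, h.jj, ← mul_assoc, h.ii, h.zz]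

theorem w_ne : a ^ (m / 2) * c ^ (n / 2) ≠ 1 ∧ a ^ (m / 2) * c ^ (n / 2) ≠ z := by
  have k : a ^ (m / 2) * c ^ (n / 2) ∉ E := fun e => by
    have e1 := h.ii
    rcases h.inf h.iD ((mul_mem_cancel_right h.jE).1 e) with e | e <;> rw [e] at e1
    exacts [h.z_ne (by simpa using e1.symm), h.z_ne (e1.symm.trans h.zz)]
  exact ⟨fun e => k (e ▸ one_mem _), fun e => k (e ▸ h.zE)⟩

theorem wY : a ^ (m / 2) * c ^ (n / 2) ∈ D ⊔ E := mul_mem (mem_sup_left h.iD) (mem_sup_right h.jE)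

theorem w_aux (e1 : x = a ^ (m / 2) ∨ x = a ^ (m / 2) * z)
    (e2 : y = c ^ (n / 2) ∨ y = c ^ (n / 2) * z) :
    x * y = a ^ (m / 2) * c ^ (n / 2) ∨ x * y = a ^ (m / 2) * c ^ (n / 2) * z := by
  have k := h.z_comm (h.le2 h.jE)
  rcases e1 with rfl | rfl <;> rcases e2 with rfl | rfl
  · exact .inl rfl
  · exact .inr (mul_assoc _ _ _).symm
  · exact .inr (by rw [mul_assoc, ← k, mul_assoc])
  · exact .inl (by rw [mul_assoc, k, ← mul_assoc z, h.zz, one_mul])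

theorem sw_i (sP : s ∈ P) (hs : QS D E s) :
    s * a ^ (m / 2) * s⁻¹ = c ^ (n / 2) ∨ s * a ^ (m / 2) * s⁻¹ = c ^ (n / 2) * z := by
  obtain rfl := h.eq_mn sP hs
  obtain ⟨k, hk⟩ := mem_zpowers_iff.1 (h.sw1 s sP hs)
  rcases Int.even_or_odd' k with ⟨l, rfl | rfl⟩
  · refine absurd ?_ h.z_ne
    have := congrArg (· ^ m) hk
    simp only [conj_pow, h.e1] at this
    rw [← zpow_natCast, ← zpow_mul, h.q2.ze.2 ⟨l, by ring⟩] at this
    simpa using this.symm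
  · rw [← conj_pow, ← hk, ← h.e2]
    exact h.q2.odd_i l

theorem qn_i (hs : QN a b c d s) :
    s * a ^ (m / 2) * s⁻¹ = a ^ (m / 2) ∨ s * a ^ (m / 2) * s⁻¹ = a ^ (m / 2) * z := by
  obtain ⟨⟨k, j, e⟩, -⟩ := hs
  obtain ⟨l, rfl⟩ := h.q1.act_odd e
  rw [← conj_pow, e.1, ← h.e1]
  exact h.q1.odd_i l

theorem conj_w (sP : s ∈ P) : s * (a ^ (m / 2) * c ^ (n / 2)) * s⁻¹ = a ^ (m / 2) * c ^ (n / 2) ∨
    s * (a ^ (m / 2) * c ^ (n / 2)) * s⁻¹ = a ^ (m / 2) * c ^ (n / 2) * z := by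
  rw [← conj_mul]
  rcases h.cases s sP with e | e
  · exact h.w_aux (h.qn_i e) (h.symm.qn_i e.symm)
  · rw [← h.comm _ (e.2 _ h.jE) _ (e.1 _ h.iD)]
    exact h.w_aux (h.symm.sw_i sP e.symm) (h.sw_i sP e)

/-- the subgroup of the elements that normalise both factors -/
theorem exists_ns : ∃ M : Subgroup G, ∀ s, s ∈ M ↔ s ∈ P ∧ QN a b c d s :=
  ⟨{ carrier := {s | s ∈ P ∧ QN a b c d s}
     mul_mem' := fun e f => ⟨mul_mem e.1 f.1, h.qn_mul_qn e.2 f.2⟩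
     one_mem' := ⟨one_mem _, h.qn_one⟩
     inv_mem' := fun e => ⟨inv_mem e.1, h.qn_inv e.1 e.2⟩ }, fun _ => Iff.rfl⟩

end BP

namespace BF

variable (h : BF S D E z m n a b c d)
include h

theorem symm : BF S E D z n m c d a b :=
  ⟨h.toCtx, h.toBP.symm, h.syl, sup_comm D E ▸ h.fus, sup_comm D E ▸ h.cY,
    fun g hg s sS e hs => (h.cS g hg s sS e hs.symm).symm, fun g hg e => (h.cE g hg e).symm,
    fun g hg e => (h.cD g hg e).symm, sup_comm D E ▸ h.cI⟩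

theorem reframe (σS : σ ∈ S) (hσ : QS D E σ) :
    BF S D E z m m a b (σ * a * σ⁻¹) (σ * b * σ⁻¹) :=
  ⟨h.toCtx, h.toBP.reframe σS hσ, h.syl, h.fus, h.cY, h.cS, h.cD, h.cE, h.cI⟩

theorem cN {g : G} (hg : g ∈ Cx z) (sS : s ∈ S) (h1 : g * s * g⁻¹ ∈ S) (hs : QN a b c d s) :
    QN a b c d (g * s * g⁻¹) :=
  (h.cases _ h1).resolve_right fun e => h.toBP.not_qn_qs hs (by
    simpa [mul_assoc] using h.cS g⁻¹ (inv_mem hg) _ h1 (by simpa [mul_assoc] using sS) e)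

/-- extremal conjugation onto `z` -/
theorem ext (c : IsConj z u) :
    ∃ g : G, g * u * g⁻¹ = z ∧ ∀ y ∈ S, y * u = u * y → g * y * g⁻¹ ∈ S := by
  obtain ⟨k, hk⟩ := isConj_iff.1 c.symm
  obtain ⟨g, -, h1, h2⟩ := W2.exists_ext h.pg le_top (isSylowIn_cent_of_central h.syl h.toBP.z_cen)
    (mem_top k) hk
  exact ⟨g, h1, h2⟩

end BF

theorem BI.symm (h : BI D E z) : BI E D z := fun y hy => h y (sup_comm E D ▸ hy)

theorem BE.symm (h : BE S a b c d) : BE S c d a b := fun s sS hs => (h s sS hs.symm).symm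

end CfsgLib.GHE
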