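import Mathlib
import Cfsg.Agent.Lib.GHE.Defs2
import Cfsg.Agent.Lib.LBal.Term2

/-! Tools for 2-components under a bound on the sectional rank: pump-ups without maximality,
sections of commuting components, the quotients `L / O(L)` and `L / Z*(L)`. -/

set_option autoImplicit false

namespace CfsgLib.GHE

open Subgroup Cfsg CfsgLib.W2 CfsgLib.Tech CfsgLib.Sect CfsgLib.PComp CfsgLib.DihSyl
  CfsgLib.GW.Cor
open CfsgLib.LBal hiding cj
open scoped MatrixGroups commutatorElement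

universe u

variable {G : Type u} [Group G] [Finite G]

/-! ### pump-ups -/

/-- `J` is a pump-up in `H` of the component `K` of `C_H(x)` -/
structure PU (H : Subgroup G) (x : G) (K J : Subgroup G) : Prop where
  pc : PC 2 J H
  nle : ¬ K ≤ LBal.cmod 2 J
  alt : K ≤ J ∨ x ∉ normalizer (J : Set G) ∧
    (∀ c ∈ H, c ∈ normalizer (J : Set G) → c ∈ LBal.cmod 2 K → c ∈ LBal.cmod 2 J) ∧
    ∀ z ∈ K, orderOf z = 2 → z ∈ centralizer (J : Set G) →
      ∃ t ∈ J, t ∈ LBal.cmod 2 J ∧ orderOf t = 2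

theorem pu_top {x : G} (hx : orderOf x = 2) {K : Subgroup G} (hK : PC 2 K (Cx x)) :
    ∃ J, PU ⊤ x K J := by
  have hT := Comp.isPGroup_zpowers_of_orderOf hx
  have h1 := hK.map_piO
  rw [Cx, ← Core.centralizer_zpowers, PLocal.Constr.map_centralizer_of_coprime_ker piO_surjective
    coprime_ker_piO hT, MonoidHom.map_zpowers, Core.centralizer_zpowers] at h1
  have h2 : K.map (piO 2 G) ≤ layer _ := by
    rw [← map_pLayer_piO]
    exact map_mono (bal_two_singleton hx hK)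
  obtain ⟨L, hL, h3⟩ := pump (orderOf_piO hx) h1 h2
  obtain ⟨J, hJ, rfl⟩ := exists_pc_map_eq hL
  have hJk := inf_ker_piO (p := 2) (isPComponent_iff.1 hJ).1
  rcases h3 with h | ⟨ν, h⟩
  · have e : K ≤ J := le_of_le_sup_of_pec_eq hK.pqs.pec_eq (isPComponent_iff.1 hJ).1
      (by rw [← ker_piO]; exact coprime_ker_piO) (map_piO_le_iff.1 h.2)
    exact ⟨J, pc_top.2 hJ, fun h4 => hK.pqs.not_le_of_coprime (coprime_card_opOf J)
      (hK.perfect.ge.trans ((commutator_mono e le_rfl).trans (le_cmod_iff.1 h4))), .inl e⟩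
  refine ⟨J, pc_top.2 hJ, fun h4 => ?_, .inr ⟨fun h4 => ?_, fun c _ hc hcK => ?_,
    fun z hz oz hc => ?_⟩⟩
  · apply h.not_le_centralizer hL
    rintro _ ⟨k, hk, rfl⟩
    exact (mem_cmod_iff_piO hJk (cmod_le_normalizer _ (h4 hk))).1 (h4 hk)
  · exact h.notMem ((mem_normalizer_pc_iff hJ).1 h4)
  · rw [mem_cmod_iff_piO hJk hc]
    refine h.mem_centralizer (by rw [← map_commutator, pc_perfect hJ])
      ((mem_normalizer_pc_iff hJ).1 hc) (mem_centralizer_of_perfect h1.perfect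
        (le_normalizer_map _ (mem_map_of_mem _ (cmod_le_normalizer _ hcK))) ?_)
    rintro _ ⟨k, hk, rfl⟩
    have h5 := h1.pqs.qs_iff.1 (h.qs hL)
    rw [commutator_comm, commutator_eq_bot_iff_le_centralizer] at h5
    rw [← map_commutatorElement]
    exact h5 (map_opOf_le _ _ (mem_map_of_mem _ (LBal.mem_cmod.1 hcK k hk)))
  · have h5 : piO 2 G z ∈ ν.range := h.range ▸ mem_map_of_mem _ hz
    obtain ⟨⟨_, j, hj, rfl⟩, e⟩ := h5
    have h6 : piO 2 G z ∈ centralizer ((J.map (piO 2 G) : Subgroup _) : Set (G ⧸ pPrimeCore 2 G)) :=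
      (mem_cmod_iff_piO hJk (centralizer_le_normalizer _ hc)).1 (centralizer_le_cmod _ hc)
    have h7 := h.cent ⟨_, j, hj, rfl⟩
    rw [e, mul_mem_cancel_right h6, inv_mem_iff] at h7
    have h8 : j ∈ LBal.cmod 2 J := (mem_cmod_iff_piO hJk (le_normalizer hj)).2 h7
    obtain ⟨t, ht, ot⟩ := exists_invol_of_even (L := J ⊓ LBal.cmod 2 J) (by
      have h9 : orderOf (piO 2 G z) ∣ orderOf (⟨j, hj, h8⟩ : (J ⊓ LBal.cmod 2 J : Subgroup G)) := by
        rw [← e, ← orderOf_coe (⟨j, hj, h8⟩ : (J ⊓ LBal.cmod 2 J : Subgroup G))]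
        refine (orderOf_map_dvd ν _).trans ?_
        rw [← orderOf_coe]
        exact orderOf_map_dvd (piO 2 G) j
      rw [orderOf_piO oz] at h9
      exact even_iff_two_dvd.2 (h9.trans (orderOf_dvd_natCard _)))
    exact ⟨t, ht.1, ht.2, ot⟩

theorem exists_pu {H : Subgroup G} {x : G} (hx : orderOf x = 2) (hxH : x ∈ H) {K : Subgroup G}
    (hK : PC 2 K (H ⊓ Cx x)) : ∃ J, PU H x K J := by
  have hKH : K ≤ H := hK.le.trans inf_le_left
  have hi := H.subtype_injective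
  have eK := map_subgroupOf_eq_of_le hKH
  have h1 : PC 2 (K.subgroupOf H) (centralizer {(⟨x, hxH⟩ : H)}) := by
    have := hK.subgroupOf hKH
    rwa [inf_subgroupOf_left, ← centralizer_singleton_subgroup ⟨x, hxH⟩] at this
  obtain ⟨J, h⟩ := pu_top (x := (⟨x, hxH⟩ : H)) (by rw [← orderOf_coe]; exact hx) h1
  refine ⟨J.map H.subtype, pc_map_subtype.2 (pc_top.1 h.pc),
    fun h2 => h.nle fun k hk => (mem_cmod_map_iff hi).1 (h2 hk),
    h.alt.imp (fun h => ?_) fun h => ⟨?_, ?_, ?_⟩⟩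
  · rw [← eK]; exact map_mono h
  · exact fun h2 => h.1 ((mem_normalizer_map_iff hi).1 h2)
  · intro c hc h2 h3
    rw [← eK] at h3
    exact (mem_cmod_map_iff hi (c := ⟨c, hc⟩)).2 (h.2.1 _ trivial ((mem_normalizer_map_iff hi).1 h2)
      ((mem_cmod_map_iff hi).1 h3))
  · intro z hz oz hc
    obtain ⟨t, h2, h3, h4⟩ := h.2.2 ⟨z, hKH hz⟩ hz (by rw [← orderOf_coe]; exact oz)
      fun j hj => Subtype.ext (hc _ (mem_map_of_mem H.subtype hj))
    exact ⟨t, mem_map_of_mem _ h2, (mem_cmod_map_iff hi).2 h3, by rw [orderOf_coe, h4]⟩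

/-! ### sections -/

/-- `A` has a section of exponent two and order at least `n` that survives modulo `C` -/
def Sec (A C : Subgroup G) (n : ℕ) : Prop :=
  ∃ H M : Subgroup G, H ≤ A ∧ C ≤ M ∧ (∀ x ∈ H ⊔ C, x * x ∈ M) ∧ n ≤ M.relIndex H

omit [Finite G] in
theorem Sec.le {A C : Subgroup G} {n m : ℕ} (h : Sec A C n) (hs : SR m (⊤ : Subgroup G)) : n ≤ m := by
  obtain ⟨H, M, -, -, h1, h2⟩ := h
  exact h2.trans (hs H le_top M fun x hx => h1 x (mem_sup_left hx))

theorem Sec.mul {A C B D : Subgroup G} {a b : ℕ} (h : Sec A C a) (h' : Sec B D b) (h1 : A ≤ D)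
    (h2 : B ≤ C) : Sec (A ⊔ B) (C ⊓ D) (a * b) := by
  obtain ⟨H, M, a1, a2, a3, a4⟩ := h
  obtain ⟨H', M', b1, b2, b3, b4⟩ := h'
  refine ⟨H ⊔ H', M' ⊓ M, sup_le_sup a1 b1, le_inf (inf_le_right.trans b2) (inf_le_left.trans a2),
    fun x hx => ⟨b3 x ?_, a3 x ?_⟩, ?_⟩
  · exact (sup_le (sup_le ((a1.trans h1).trans le_sup_right) le_sup_left)
      (inf_le_right.trans le_sup_right) : _ ≤ H' ⊔ D) hx
  · exact (sup_le (sup_le le_sup_left ((b1.trans h2).trans le_sup_right))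
      (inf_le_left.trans le_sup_right) : _ ≤ H ⊔ C) hx
  · rw [← relIndex_inf_mul_relIndex, mul_comm]
    exact Nat.mul_le_mul (b4.trans (relIndex_mono_right _ (le_inf ((b1.trans h2).trans a2) le_sup_right)))
      (a4.trans (relIndex_mono_right _ le_sup_left))

theorem sec_of_hom {L : Subgroup G} {X : Type*} [Group X] {κ : L →* X} (hs : Function.Surjective κ)
    (hk : ∀ l : L, (l : G) ∈ LBal.cmod 2 L → κ l = 1) {E K : Subgroup X}
    (h : ∀ x ∈ E, x * x ∈ K) : Sec L (LBal.cmod 2 L) (K.relIndex E) := by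
  have hn : ∀ {A : Subgroup L}, ∀ a ∈ A.map L.subtype, ∀ b ∈ LBal.cmod 2 L,
      a * b * a⁻¹ ∈ LBal.cmod 2 L := fun a ha b hb => conj_mem_of_mem_normalizer
    (normalizer_le_normalizer_cmod L (le_normalizer (map_subtype_le _ ha))) hb
  refine ⟨(E.comap κ).map L.subtype, (K.comap κ).map L.subtype ⊔ LBal.cmod 2 L, map_subtype_le _,
    le_sup_right, fun x hx => ?_, ?_⟩
  · obtain ⟨_, ⟨a, ha, rfl⟩, c, hc, rfl⟩ := (mem_sup_of_norm hn).1 hx
    have e : L.subtype a * c * (L.subtype a * c) =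
        L.subtype (a * a) * ((L.subtype a)⁻¹ * c * (L.subtype a)⁻¹⁻¹ * c) := by
      rw [map_mul]; group
    rw [e]
    refine mul_mem (mem_sup_left (mem_map_of_mem _ ?_))
      (mem_sup_right (mul_mem (hn _ (inv_mem (mem_map_of_mem _ ha)) c hc) hc))
    rw [mem_comap, map_mul]
    exact h _ ha
  · rw [← relIndex_comap]
    conv_lhs => rw [← map_comap_eq_self_of_surjective hs E, ← relIndex_comap]
    refine relIndex_anti_left (fun m hm => ?_) _
    obtain ⟨_, ⟨a, ha, rfl⟩, c, hc, e⟩ := (mem_sup_of_norm hn).1 hm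
    have h1 : κ (a⁻¹ * m) = 1 := hk _ (by
      change (L.subtype a)⁻¹ * L.subtype m ∈ _
      rwa [e, inv_mul_cancel_left])
    rw [map_mul, map_inv, inv_mul_eq_one] at h1
    rw [mem_comap, ← h1]
    exact ha

/-! ### the quotients of a 2-component -/

/-- `L / O(L)` -/
abbrev Yq (L : Subgroup G) : Type u := L ⧸ pPrimeCore 2 L

/-- `L / Z*(L)` -/
abbrev Xq (L : Subgroup G) : Type u := Yq L ⧸ center (Yq L)

/-- the projection onto `L / Z*(L)` -/
def kap (L : Subgroup G) : L →* Xq L := (QuotientGroup.mk' _).comp (piO 2 L)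

omit [Finite G] in
theorem kap_surj (L : Subgroup G) : Function.Surjective (kap L) :=
  (QuotientGroup.mk'_surjective _).comp piO_surjective

theorem piO_mem_center {L : Subgroup G} (c : L) :
    piO 2 L c ∈ center (Yq L) ↔ (c : G) ∈ LBal.cmod 2 L := by
  rw [LBal.mem_cmod, mem_center_iff]
  constructor
  · intro h k hk
    refine (mem_opOf_iff (x := ⁅c, (⟨k, hk⟩ : L)⁆)).2 ?_
    rw [← ker_piO, MonoidHom.mem_ker, map_commutatorElement, commutatorElement_eq_one_iff_mul_comm]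
    exact (h _).symm
  · intro h g
    obtain ⟨g, rfl⟩ := piO_surjective g
    have := mem_opOf_iff.1 (show ((⁅c, g⁆ : L) : G) ∈ _ from h g g.2)
    rw [← ker_piO, MonoidHom.mem_ker, map_commutatorElement,
      commutatorElement_eq_one_iff_mul_comm] at this
    exact this.symm

theorem kap_eq_one {L : Subgroup G} (c : L) : kap L c = 1 ↔ (c : G) ∈ LBal.cmod 2 L :=
  (QuotientGroup.eq_one_iff _).trans (piO_mem_center c)

omit [Finite G] in
theorem xq_ncomm {L : Subgroup G} (h : IsPQs 2 L) : ¬ IsMulCommutative (Xq L) := fun hc => by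
  haveI := h.1.1
  haveI := h.1.2
  haveI : Group.IsPerfect (Xq L) := inferInstance
  exact Group.IsPerfect.not_isMulCommutative _ hc

theorem sr_yq {n : ℕ} (hs : SR n (⊤ : Subgroup G)) (L : Subgroup G) : SR n (⊤ : Subgroup (Yq L)) :=
  (SR.of_map L.subtype_injective (hs.mono le_top)).of_surjective piO_surjective

theorem ctx_xq (hs : SR 16 (⊤ : Subgroup G)) {L : Subgroup G} (h : IsPQs 2 L) : Ctx (Xq L) :=
  ⟨h.1.2, xq_ncomm h, (sr_yq hs L).of_surjective (QuotientGroup.mk'_surjective _)⟩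

theorem sec_four {L : Subgroup G} (h : IsPQs 2 L) : Sec L (LBal.cmod 2 L) 4 := by
  haveI := h.1.2
  have h2 : 2 ∣ Nat.card (Xq L) := by
    have := IsPQs.dvd_relIndex h
    rwa [relIndex_cmod] at this
  obtain ⟨S⟩ : Nonempty (Sylow 2 (Xq L)) := inferInstance
  have h4 : 4 ≤ di (S : Subgroup (Xq L)) := four_le_di S.isPGroup' fun x _ e =>
    SmallSimple.not_normalizer_le_centralizer (xq_ncomm h) S h2
      ((e ▸ inferInstance : IsCyclic (S : Subgroup (Xq L))).normalizer_le_centralizer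
        ((Nat.minFac_eq_two_iff _).2 h2))
  obtain ⟨H, M, a1, a2, a3, a4⟩ := sec_of_hom (kap_surj L) (fun l => (kap_eq_one l).2)
    (E := S) (K := Sq S) fun x hx => sq_mem hx
  exact ⟨H, M, a1, a2, a3, h4.trans a4⟩

/-- three 2-components need sectional rank 6 -/
theorem three_pc (hs : SR 16 (⊤ : Subgroup G)) {A B C H : Subgroup G} (hA : PC 2 A H) (hB : PC 2 B H)
    (hC : PC 2 C H) (h1 : A ≠ B) (h2 : A ≠ C) (h3 : B ≠ C) : False := by
  have := (((sec_four hA.pqs).mul (sec_four hB.pqs) ((hB.eq_or_le_cmod hA).resolve_left h1.symm)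
    ((hA.eq_or_le_cmod hB).resolve_left h1)).mul (sec_four hC.pqs)
    (sup_le ((hC.eq_or_le_cmod hA).resolve_left h2.symm) ((hC.eq_or_le_cmod hB).resolve_left h3.symm))
    (le_inf ((hA.eq_or_le_cmod hC).resolve_left h2) ((hB.eq_or_le_cmod hC).resolve_left h3))).le hs
  omega

/-- with two 2-components each has a simple quotient of sectional rank 2 -/
theorem two_pc (hs : SR 16 (⊤ : Subgroup G)) {A B H : Subgroup G} (hA : PC 2 A H) (hB : PC 2 B H)
    (h : A ≠ B) : SR 4 (⊤ : Subgroup (Xq A)) := fun E _ K hK => by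
  have := ((sec_of_hom (kap_surj A) (fun l => (kap_eq_one l).2) hK).mul (sec_four hB.pqs)
    ((hB.eq_or_le_cmod hA).resolve_left h.symm) ((hA.eq_or_le_cmod hB).resolve_left h)).le hs
  omega

theorem cv_yq (hs : SR 16 (⊤ : Subgroup G)) {L : Subgroup G} (h : IsPQs 2 L) {z : G}
    (hz : orderOf z = 2) (h1 : z ∈ L) (h2 : z ∈ LBal.cmod 2 L) : Cv (Yq L) := by
  refine ⟨h.1, ZStar.isPGroup_center_of_oddCore fun N hN ho => ?_, fun e => ?_, sr_yq hs L⟩
  · rw [eq_bot_iff, ← pPrimeCore_quotient (p := 2)]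
    exact le_pPrimeCore_of_isSubnormal hN.isSubnormal (Nat.coprime_two_right.2 ho)
  · have h3 := (piO_mem_center ⟨z, h1⟩).2 h2
    rw [e, mem_bot] at h3
    have h4 := orderOf_piO (p := 2) (x := (⟨z, h1⟩ : L)) (by rw [← orderOf_coe]; exact hz)
    rw [h3, orderOf_one] at h4
    omega

theorem card_xq_lt {L : Subgroup G} (h : Cv (Yq L)) : Nat.card (Xq L) < Nat.card G := by
  have h1 := card_eq_card_quotient_mul_card_subgroup (center (Yq L))
  have h2 : 1 < Nat.card (center (Yq L)) := (one_lt_card_iff_ne_bot _).2 h.ne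
  have h3 : Nat.card (Yq L) ≤ Nat.card L := Nat.card_le_card_of_surjective _ piO_surjective
  have h4 : Nat.card L ≤ Nat.card G := card_le_card_group L
  have h5 : 0 < Nat.card (Xq L) := Nat.card_pos
  change _ = Nat.card (Xq L) * _ at h1
  nlinarith

theorem card_inf_cmod (L : Subgroup G) : Nat.card (L ⊓ LBal.cmod 2 L : Subgroup G) =
    Nat.card (center (Yq L)) * Nat.card (pPrimeCore 2 L) := by
  have h1 := card_eq_relIndex (LBal.cmod 2 L) L
  rw [relIndex_cmod, inf_comm, card_eq_card_quotient_mul_card_subgroup (pPrimeCore 2 L),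
    ← card_mul_index (center (Yq L))] at h1
  apply Nat.eq_of_mul_eq_mul_right (Nat.pos_of_ne_zero (index_ne_zero_of_finite (H := center (Yq L))))
  rw [← h1]; ring

omit [Finite G] in
theorem quat_of_map {Y : Type*} [Group Y] {D : Subgroup G} (f : D →* Y) (hf : Function.Injective f)
    {m : ℕ} {a b : Y} (h : IsQuat f.range m a b) : ∃ a' b', IsQuat D m a' b' := by
  obtain ⟨a, rfl⟩ := h.a_mem
  obtain ⟨b, rfl⟩ := h.b_mem
  refine ⟨a, b, by rw [orderOf_coe, ← h.ord, orderOf_injective f hf], ?_, ?_, ?_, fun g => ?_⟩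
  · exact congrArg Subtype.val (hf (by simpa using h.bb) : b * b = a ^ m)
  · exact congrArg Subtype.val (hf (by simpa using h.conj) : b * a * b⁻¹ = a⁻¹)
  · rintro ⟨i, e⟩
    exact h.notMem ⟨i, by rw [← (Subtype.ext e : a ^ i = b)]; exact (map_zpow f a i).symm⟩
  · constructor
    · intro hg
      obtain ⟨i, e | e⟩ := (h.mem _).1 ⟨⟨g, hg⟩, rfl⟩
      · exact ⟨i, .inl (congrArg Subtype.val (hf (by simpa using e) : ⟨g, hg⟩ = a ^ i))⟩
      · exact ⟨i, .inr (congrArg Subtype.val (hf (by simpa using e) : ⟨g, hg⟩ = a ^ i * b))⟩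
    · rintro ⟨i, rfl | rfl⟩
      exacts [zpow_mem a.2 i, mul_mem (zpow_mem a.2 i) b.2]

theorem qt_of_yq {L : Subgroup G} (h : QT (⊤ : Subgroup (Yq L))) : QT L := fun D hD => by
  let f : D →* Yq L := (piO 2 L).comp (inclusion hD.le)
  have e : f.range = (D.subgroupOf L).map (piO 2 L) := by
    rw [MonoidHom.range_comp, inclusion_range]
  have hf : Function.Injective f := by
    rw [injective_iff_map_eq_one]
    intro d hd
    have : (d : G) ∈ D ⊓ opOf 2 L := ⟨d.2, (mem_opOf_iff (x := inclusion hD.le d)).2 (by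
      rw [← ker_piO]; exact hd)⟩
    rw [isPGroup_inf_opOf hD.pgroup, mem_bot] at this
    exact Subtype.ext this
  obtain ⟨m, a, b, h1, h2⟩ := h f.range ⟨le_top, hD.pgroup.of_surjective _ f.rangeRestrict_surjective,
    fun h3 => hD.not_dvd (by
      rw [relIndex_top_right, e] at h3
      exact h3.trans (index_map_dvd _ piO_surjective))⟩
  obtain ⟨a', b', h3⟩ := quat_of_map f hf h2
  exact ⟨m, a', b', h1, h3⟩

/-! ### the passage to an intrinsic component -/

theorem int_step {y z : G} (hy : orderOf y = 2) {L : Subgroup G} (hL : PC 2 L (Cx y))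
    (hz : orderOf z = 2) (h1 : z ∈ L) (h2 : z ∈ LBal.cmod 2 L) :
    (∃ K, PC 2 K (Cx z) ∧ z ∈ K) ∨ ∃ K, PC 2 K (Cx z) ∧ y ∉ normalizer (K : Set G) ∧
      (∀ c ∈ Cx z, c ∈ normalizer (K : Set G) → c ∈ LBal.cmod 2 L → c ∈ LBal.cmod 2 K) ∧
      ∃ t ∈ K, t ∈ LBal.cmod 2 K ∧ orderOf t = 2 := by
  have h3 := ky_pc hL hz h2
  rw [inf_comm] at h3
  have h4 : z ∈ Ky 2 L z := mem_pec_of_pow (k := 1) (mem_inf.2 ⟨h1, mem_Cx.2 rfl⟩)
    (by rw [pow_one, ← hz, pow_orderOf_eq_one])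
  obtain ⟨K, h⟩ := exists_pu hy (Cx_comm.1 (hL.le h1)) h3
  exact h.alt.imp (fun e => ⟨K, h.pc, e h4⟩) fun e => ⟨K, h.pc, e.1,
    fun c a1 a2 a3 => e.2.1 c a1 a2 (ky_cmod a1 a3),
    e.2.2 z h4 hz (mem_centralizer_singleton_of.1 h.pc.le)⟩

theorem exists_intrinsic (hs : SR 16 (⊤ : Subgroup G)) {y : G} (hy : orderOf y = 2) {L : Subgroup G}
    (hL : PC 2 L (Cx y)) (ev : ¬ Odd (Nat.card (L ⊓ LBal.cmod 2 L : Subgroup G))) :
    ∃ (z : G) (K : Subgroup G), orderOf z = 2 ∧ PC 2 K (Cx z) ∧ z ∈ K := by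
  obtain ⟨z, hz, oz⟩ := exists_invol_of_even (Nat.not_odd_iff_even.1 ev)
  rcases int_step hy hL oz hz.1 hz.2 with ⟨K, h⟩ | ⟨K, hK, yK, -, t, t1, t2, ot⟩
  · exact ⟨z, K, oz, h⟩
  rcases int_step oz hK ot t1 t2 with ⟨K, h⟩ | ⟨K₁, hK₁, zK, cm, -⟩
  · exact ⟨t, K, ot, h⟩
  exfalso
  have hK' : PC 2 (cj y K) (Cx z) := hK.cj_mem (Cx_comm.1 (hL.le hz.1))
  have ne : cj y K ≠ K := fun e => yK (mem_normalizer_iff_cj.2 e)
  have t3 : t ∈ LBal.cmod 2 (cj y K) := (hK'.eq_or_le_cmod hK).resolve_left ne t1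
  have zt : z ∈ Cx t := Cx_comm.1 (hK.le t1)
  have h3 := ky_pc hK' ot t3
  rw [inf_comm] at h3
  obtain ⟨K₂, h⟩ := exists_pu oz zt h3
  have h4 : Ky 2 (cj y K) t ≤ normalizer (K₁ : Set G) := by
    refine le_trans ?_ hK₁.pLayerOf_le_normalizer
    have h5 : PC 2 ((Ky 2 (cj y K) t).subgroupOf (Cx t)) (centralizer {(⟨z, zt⟩ : Cx t)}) := by
      have := h3.subgroupOf (ky_le' _ _)
      rwa [inf_subgroupOf_left, ← centralizer_singleton_subgroup ⟨z, zt⟩] at this
    rw [← map_subgroupOf_eq_of_le (ky_le' (p := 2) (cj y K) t)]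
    exact map_mono (bal_two_singleton (by rw [← orderOf_coe]; exact oz) h5)
  have h5 : Ky 2 (cj y K) t ≤ LBal.cmod 2 K₁ := fun c hc => cm c (ky_le' _ _ hc) (h4 hc)
    ((hK.eq_or_le_cmod hK').resolve_left ne.symm (ky_le _ _ hc))
  have h6 : Ky 2 (cj y K) t ≤ LBal.cmod 2 (cj z K₁) := fun c hc => by
    rw [← map_conj_cmod, ← mem_Cx'.1 (Cx_comm.1 (hK'.le (ky_le _ _ hc)))]
    exact conj_mem_map z (h5 hc)
  exact three_pc hs hK₁ (hK₁.cj_mem zt) h.pc (fun e => zK (mem_normalizer_iff_cj.2 e.symm))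
    (fun e => h.nle (e ▸ h5)) fun e => h.nle (e ▸ h6)

end CfsgLib.GHE
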