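import Mathlib
import Cfsg.Agent.Lib.GHE.B1b
import Cfsg.Agent.Lib.GHE.Int1

/-! Block B1, package FR1: the frame.  See `plans/GHE_B1.md`. -/

set_option autoImplicit false
set_option linter.unusedSectionVars false

namespace CfsgLib.GHE

open Subgroup Cfsg CfsgLib.W2 CfsgLib.Tech CfsgLib.Sect CfsgLib.PComp CfsgLib.DihSyl
  CfsgLib.GW.Cor
open CfsgLib.LBal hiding cj
open scoped MatrixGroups commutatorElement

universe u

variable {G : Type u} [Group G] [Finite G] {S P D E : Subgroup G} {m n : ℕ}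
  {z a b c d s t u v x y σ τ μ : G}

variable {L₁ L₂ : Subgroup G}

theorem B1.perm (h : B1 z L₁ L₂) {g : G} (hg : g ∈ Cx z) :
    (cj g L₁ = L₁ ∧ cj g L₂ = L₂) ∨ (cj g L₁ = L₂ ∧ cj g L₂ = L₁) := by
  have k : ∀ K, PC 2 K (Cx z) → K = L₁ ∨ K = L₂ := fun K hK => by
    by_contra c
    exact three_pc h.sr h.pc₁ h.pc₂ hK h.ne (fun e => c (.inl e.symm)) fun e => c (.inr e.symm)
  have ne : cj g L₁ ≠ cj g L₂ := fun e => h.ne (cj_injective g e)
  have k1 : cj g L₁ = L₁ ∨ cj g L₁ = L₂ := k _ (h.pc₁.cj_mem hg)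
  have k2 : cj g L₂ = L₁ ∨ cj g L₂ = L₂ := k _ (h.pc₂.cj_mem hg)
  rcases k1 with e1 | e1 <;> rcases k2 with e2 | e2
  · exact absurd (e1.trans e2.symm) ne
  · exact .inl ⟨e1, e2⟩
  · exact .inr ⟨e1, e2⟩
  · exact absurd (e1.trans e2.symm) ne

theorem b1_syl_subn {T K H : Subgroup G} (hT : IsSylowIn 2 T H) (h : SubnIn K H) :
    IsSylowIn 2 (T ⊓ K) K := by
  refine h.induction_on (P := fun A => IsSylowIn 2 (T ⊓ A) A) ?_ fun A B hAB _ hn hB => ?_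
  · rwa [inf_eq_left.mpr hT.le]
  · have := hB.inf_of_le_normalizer hn
    rwa [inf_assoc, inf_eq_right.mpr hAB] at this

/-- the commutators of the two components lie in the core of the centraliser -/
theorem B1.comm_mem (h : B1 z L₁ L₂) (hx : x ∈ L₁) (hy : y ∈ L₂) : ⁅x, y⁆ ∈ opOf 2 (Cx z) :=
  h.pc₁.opOf_le ((h.pc₁.eq_or_commutator_le h.pc₂).resolve_left h.ne
    (commutator_mem_commutator hx hy))

theorem Q2.b1_ncomm (q : Q2 D m a b) : a * b ≠ b * a := fun e => by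
  have h1 : a ^ (2 : ℤ) = 1 := by
    have := q.conj
    rw [← e, mul_inv_cancel_right] at this
    rw [zpow_two]
    exact mul_eq_one_iff_eq_inv.2 this
  have h2 := Int.le_of_dvd two_pos (q.ze.1 h1)
  have := q.two
  omega

theorem B1.exists_bp (h : B1 z L₁ L₂) : ∃ (S : Subgroup G) (m n : ℕ) (a b c d : G),
    IsSylowIn 2 S ⊤ ∧ IsSylowIn 2 (S ⊓ L₁) L₁ ∧ IsSylowIn 2 (S ⊓ L₂) L₂ ∧
      BP S (S ⊓ L₁) (S ⊓ L₂) z m n a b c d := by
  obtain ⟨T, hT⟩ := exists_isSylowIn 2 (Cx z)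
  have s1 := b1_syl_subn hT h.pc₁.subn
  have s2 := b1_syl_subn hT h.pc₂.subn
  have zz : z * z = 1 := by rw [← pow_two, ← h.ord, pow_orderOf_eq_one]
  have z1 : z ≠ 1 := fun e => by simpa [e] using h.ord
  have zT : z ∈ T := zpowers_le.1 (hT.le_of_le_normalizer (Comp.isPGroup_zpowers_of_orderOf h.ord)
    (zpowers_le.2 (mem_Cx.2 rfl)) (by
      rw [Cx, ← Core.centralizer_zpowers]; exact centralizer_le_normalizer _))
  have cm : ∀ x ∈ T ⊓ L₁, ∀ y ∈ T ⊓ L₂, x * y = y * x := fun x hx y hy => by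
    rw [← commutatorElement_eq_one_iff_mul_comm, ← mem_bot,
      ← isPGroup_inf_opOf hT.pgroup (Cx z)]
    have x1 : x ∈ T := hx.1
    have y1 : y ∈ T := hy.1
    exact mem_inf.2 ⟨mul_mem (mul_mem (mul_mem x1 y1) (inv_mem x1)) (inv_mem y1),
      h.comm_mem hx.2 hy.2⟩
  have pm : ∀ s ∈ T, (cj s (T ⊓ L₁) = T ⊓ L₁ ∧ cj s (T ⊓ L₂) = T ⊓ L₂) ∨
      (cj s (T ⊓ L₁) = T ⊓ L₂ ∧ cj s (T ⊓ L₂) = T ⊓ L₁) := fun s hs => by
    rw [cj_inf, cj_inf, cj_eq_of_mem hs]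
    exact (h.perm (hT.le hs)).imp (fun e => by rw [e.1, e.2]; exact ⟨rfl, rfl⟩)
      fun e => by rw [e.1, e.2]; exact ⟨rfl, rfl⟩
  have key : ∃ (m n : ℕ) (a b c d : G), BP T (T ⊓ L₁) (T ⊓ L₂) z m n a b c d := by
    obtain ⟨m, a0, b0, hm, q0⟩ := h.qt₁ _ s1
    obtain ⟨a, b, q1, -, n1⟩ := (q2_of q0 hm s1.pgroup).exists_norm
      (R := T ⊓ normalizer ((T ⊓ L₁ : Subgroup G) : Set G)) (hT.pgroup.to_le inf_le_left)
      (le_inf inf_le_left le_normalizer) inf_le_right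
    have e1 : a ^ m = z := ((q1.inv ⟨zT, h.mem₁⟩ zz).resolve_left z1).symm
    by_cases sw : ∃ τ ∈ T, cj τ (T ⊓ L₁) = T ⊓ L₂ ∧ cj τ (T ⊓ L₂) = T ⊓ L₁
    · obtain ⟨τ, τT, t1, t2⟩ := sw
      have q2 := q1.map τ
      rw [t1] at q2
      have nn : ∀ s ∈ T, (∀ u ∈ T ⊓ L₁, s * u * s⁻¹ ∈ T ⊓ L₁) → s * a * s⁻¹ ∈ zpowers a :=
        fun s hs e => by
          obtain ⟨k, j, h3⟩ := n1 s ⟨hs, mem_normalizer_of_cj_le (cj_le_iff.2 e)⟩
          exact ⟨k, h3.1.symm⟩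
      refine ⟨m, m, a, b, _, _, q1, q2, e1, ((q2.inv ⟨zT, h.mem₂⟩ zz).resolve_left z1).symm,
        hT.pgroup, inf_le_left, inf_le_left, cm, h.sr.mono le_top, fun s hs => ?_,
        fun s hs e => ?_, fun s hs e => ?_⟩
      · rcases pm s hs with ⟨h1, h2⟩ | ⟨h1, h2⟩
        · refine .inl ⟨n1 s ⟨hs, mem_normalizer_iff_cj.2 h1⟩, ?_⟩
          obtain ⟨k, j, h3⟩ := n1 (τ⁻¹ * s * τ) (mem_inf.2 ⟨mul_mem (mul_mem (inv_mem τT) hs) τT,
            mem_normalizer_iff_cj.2 (by rw [cj_mul, cj_mul, t1, h2, ← t1, cj_inv_cj])⟩)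
          exact ⟨k, j, by simpa [mul_assoc] using h3.conj τ⟩
        · exact .inr ⟨cj_le_iff.1 h1.le, cj_le_iff.1 h2.le⟩
      · obtain ⟨k, hk⟩ := nn (τ⁻¹ * s) (mul_mem (inv_mem τT) hs) fun u hu => by
          have := mem_cj.1 (t1.ge (e.1 u hu))
          simpa only [mul_inv_rev, inv_inv, mul_assoc] using this
        refine ⟨k, ?_⟩
        simp only at hk ⊢
        rw [conj_zpow, hk]
        group
      · have := nn (s * τ) (mul_mem hs τT) fun u hu => by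
          have := e.2 _ (t1.le (conj_mem_cj.2 hu))
          simpa only [mul_inv_rev, mul_assoc] using this
        simpa only [mul_inv_rev, mul_assoc] using this
    · obtain ⟨n, c0, d0, hn, r0⟩ := h.qt₂ _ s2
      have pm' := fun s hs => (pm s hs).resolve_right fun e => sw ⟨s, hs, e⟩
      obtain ⟨c, d, q2, -, n2⟩ := (q2_of r0 hn s2.pgroup).exists_norm hT.pgroup inf_le_left
        fun s hs => mem_normalizer_iff_cj.2 (pm' s hs).2
      have ns : ∀ s ∈ T, ¬ QS (T ⊓ L₁) (T ⊓ L₂) s := fun s hs e => q1.b1_ncomm (by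
        have := cm _ ((pm' s hs).1.le (conj_mem_cj.2 q1.a_mem)) _ (e.1 b q1.b_mem)
        rw [conj_mul, conj_mul] at this
        exact conj_injective this)
      exact ⟨m, n, a, b, c, d, q1, q2, e1, ((q2.inv ⟨zT, h.mem₂⟩ zz).resolve_left z1).symm,
        hT.pgroup, inf_le_left, inf_le_left, cm, h.sr.mono le_top,
        fun s hs => .inl ⟨n1 s ⟨hs, mem_normalizer_iff_cj.2 (pm' s hs).1⟩, n2 s hs⟩,
        fun s hs e => (ns s hs e).elim, fun s hs e => (ns s hs e).elim⟩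
  obtain ⟨m, n, a, b, c, d, p⟩ := key
  refine ⟨T, m, n, a, b, c, d, ?_, s1, s2, p⟩
  by_contra hn
  obtain ⟨R, hR, lt, -, hN⟩ := exists_lt_pgroup_normalizer hT.pgroup le_top hn
  refine lt.ne' (hT.eq_of_le hR lt.le fun g hg => mem_Cx'.2 ?_)
  have gN : cj g T = T := mem_normalizer_iff_cj.1 (hN hg)
  have cc : ∀ y ∈ T, g * z * g⁻¹ * y = y * (g * z * g⁻¹) := fun y hy => by
    have := mem_Cx.1 (hT.le (mem_cj.1 (gN.ge hy)))
    calc g * z * g⁻¹ * y = g * (z * (g⁻¹ * y * g)) * g⁻¹ := by group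
      _ = y * (g * z * g⁻¹) := by rw [← this]; group
  refine (p.cen (gN.le (conj_mem_cj.2 zT)) (cc _ (p.le1 p.q1.a_mem)) (cc _ (p.le1 p.q1.b_mem))
    (cc _ (p.le2 p.q2.a_mem)) (cc _ (p.le2 p.q2.b_mem))).resolve_left fun e => z1 ?_
  simpa using e

end CfsgLib.GHE
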