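import Mathlib
import Cfsg.Agent.Lib.GHE.B1b
import Cfsg.Agent.Lib.GHE.Int1
import Cfsg.Agent.Lib.Transfer.Thompson

/-! Block B1, package FR2: fusion in the product of the components.  See `plans/GHE_B1.md`. -/

set_option autoImplicit false
set_option linter.unusedSectionVars false

namespace CfsgLib.GHE

open Subgroup Cfsg CfsgLib.W2 CfsgLib.Tech CfsgLib.Sect CfsgLib.PComp CfsgLib.DihSyl
  CfsgLib.GW.Cor
open CfsgLib.LBal hiding cj
open scoped MatrixGroups commutatorElement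

universe u

variable {G : Type u} [Group G] [Finite G] {S P D E : Subgroup G} {m n : ℕ}
  {z a b c d s t u v x y σ τ μ : G}

variable {L₁ L₂ : Subgroup G}

/-- two involutions whose product lies in a group of odd order are conjugate in it -/
theorem b1e_dih {X : Subgroup G} (hX : (Nat.card X).Coprime 2) (uu : u * u = 1) (vv : v * v = 1)
    (hd : v * u ∈ X) : ∃ k ∈ X, k * u * k⁻¹ = v := by
  obtain ⟨j, hj⟩ := Nat.coprime_two_right.1 hX
  have h1 : (v * u) ^ (2 * j + 1) = 1 := by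
    have := congrArg Subtype.val (pow_card_eq_one' (x := (⟨_, hd⟩ : X)))
    rwa [hj] at this
  have hu : u⁻¹ = u := inv_eq_of_mul_eq_one_right uu
  have h2 : u * (v * u) * u⁻¹ = (v * u)⁻¹ := by
    rw [mul_inv_rev, hu, inv_eq_of_mul_eq_one_right vv, mul_assoc, mul_assoc, uu, mul_one]
  have h3 : u * (v * u) ^ (j + 1) * u⁻¹ = ((v * u) ^ (j + 1))⁻¹ := by rw [← conj_pow, h2, inv_pow]
  have h4 : (v * u) ^ (j + 1) * (v * u) ^ (j + 1) = v * u := by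
    rw [← pow_add, show j + 1 + (j + 1) = 2 * j + 1 + 1 by ring, pow_succ, h1, one_mul]
  refine ⟨(v * u) ^ (j + 1), pow_mem hd _, ?_⟩
  generalize (v * u) ^ (j + 1) = k at h3 h4
  have h5 : u * k⁻¹ * u⁻¹ = k := by rw [← conj_inv, h3, inv_inv]
  calc k * u * k⁻¹ = k * (u * k⁻¹ * u⁻¹) * u := by group
    _ = v := by rw [h5, h4, mul_assoc, uu, mul_one]

theorem b1e_idx {L : Subgroup G} (hL : ⁅L, L⁆ = L) (M : Subgroup L) : M.index ≠ 2 := fun e => by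
  have h1 : L ≤ M.map L.subtype := hL.ge.trans (commutator_le.2 fun x hx y hy =>
    ⟨⁅(⟨x, hx⟩ : L), ⟨y, hy⟩⁆, by
      simp only [commutatorElement_def, SetLike.mem_coe, mul_mem_iff_of_index_two e, inv_mem_iff]
      tauto, rfl⟩)
  have h2 : M = ⊤ := eq_top_iff.2 fun x _ => by
    obtain ⟨y, hy, e⟩ := h1 x.2
    rwa [← Subtype.ext e]
  simp [h2] at e

/-- the elements of order 4 of a perfect group with quaternion Sylow subgroups are conjugate -/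
theorem Q2.b1e_conj {L : Subgroup G} (q : Q2 D m a b) (hL : ⁅L, L⁆ = L) (s : IsSylowIn 2 D L)
    (hc : L ≤ Cx (a ^ m)) (hx : x ∈ D) (xx : x * x = a ^ m) :
    ∃ l ∈ L, l * x * l⁻¹ = a ^ (m / 2) := by
  have two := q.two
  have hi : (zpowers a).relIndex D = 2 := by
    have h1 := card_mul_index ((zpowers a).subgroupOf D)
    rw [Nat.card_congr (subgroupOfEquivOfLe (zpowers_le.2 q.a_mem)).toEquiv, Nat.card_zpowers,
      q.ord, q.card] at h1
    exact Nat.eq_of_mul_eq_mul_left (show 0 < 2 * m by omega) (h1.trans (by ring))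
  have ox : orderOf (⟨x, s.le hx⟩ : L) = 2 ^ 2 := by
    rw [← orderOf_coe]
    refine orderOf_eq_prime_pow (n := 1) ?_ ?_
    · rw [pow_one, pow_two, xx]; exact q.z1
    · rw [show 2 ^ (1 + 1) = 2 * 2 by norm_num, pow_mul, pow_two x, xx, pow_two, q.zz]
  obtain ⟨l, hl⟩ := (Transfer.thompson_transfer_large_order (H := D.subgroupOf L)
    (Q := (zpowers a).subgroupOf L) s.not_dvd (by rw [relIndex_subgroupOf s.le, hi]) ox
    fun y h1 h2 => by
      by_contra h3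
      have h4 : orderOf y = 1 ∨ orderOf y = 2 := by
        have := orderOf_pos y
        omega
      have h5 : y ^ 2 = 1 := orderOf_dvd_iff_pow_eq_one.1 (by rcases h4 with e | e <;> simp [e])
      have h6 : (y : G) * y = 1 := by rw [← pow_two]; exact congrArg Subtype.val h5
      rcases q.inv (mem_subgroupOf.1 h1) h6 with e | e
      · exact h2 (mem_subgroupOf.2 (e ▸ one_mem _))
      · exact h2 (mem_subgroupOf.2 (e ▸ pow_mem (mem_zpowers a) m))).resolve_left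
    fun ⟨M, _, e, _⟩ => b1e_idx hL M e
  obtain ⟨k, hk⟩ := mem_zpowers_iff.1 (mem_subgroupOf.1 hl)
  have hk' : a ^ k = (l : G) * x * (l : G)⁻¹ := hk
  have h1 : a ^ (k + k) = a ^ (m : ℤ) := by
    rw [zpow_add, hk', conj_mul, xx, mem_Cx'.1 (hc l.2), zpow_natCast]
  obtain ⟨r, hr⟩ := q.half
  obtain ⟨j, hj⟩ := q.zeq.1 h1
  have e2 : a ^ (m / 2) = a ^ r := by rw [← zpow_natCast, show ((m / 2 : ℕ) : ℤ) = r by omega]
  rw [e2]
  rcases Int.even_or_odd' j with ⟨i, rfl | rfl⟩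
  · refine ⟨l, l.2, hk'.symm.trans (q.zeq.2 ⟨i, ?_⟩)⟩
    linarith
  · refine ⟨b * l, mul_mem (s.le q.b_mem) l.2, ?_⟩
    rw [show b * l * x * (b * l)⁻¹ = b * (l * x * (l : G)⁻¹) * b⁻¹ by group, ← hk', ← conj_zpow,
      q.conj, inv_zpow, ← zpow_neg]
    refine q.zeq.2 ⟨-(i + 1), ?_⟩
    linarith

theorem B1.b1e_symm (h : B1 z L₁ L₂) : B1 z L₂ L₁ :=
  ⟨h.toCtx, h.ord, h.ne.symm, h.pc₂, h.pc₁, h.mem₂, h.mem₁, h.qt₂, h.qt₁⟩

theorem B1.b1e_step (h : B1 z L₁ L₂) (s1 : IsSylowIn 2 D L₁) (le : E ≤ L₂)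
    (p : BP S D E z m n a b c d) (hx : x ∈ D) (hy : y ∈ E) (xx : x * x = z) (yy : y * y = z) :
    ∃ g ∈ Cx z, g * (x * y) * g⁻¹ = a ^ (m / 2) * y := by
  obtain ⟨l, hl, e⟩ := p.q1.b1e_conj h.pc₁.perfect s1 (p.e1 ▸ h.pc₁.le) hx (p.e1 ▸ xx)
  have sq : ∀ x ∈ D, x * x = z → x * y * (x * y) = 1 := fun x hx xx => by
    rw [mul_assoc, ← mul_assoc y, ← p.comm x hx y hy, mul_assoc, ← mul_assoc, xx, yy, p.zz]
  have iD : a ^ (m / 2) ∈ D := pow_mem p.q1.a_mem _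
  have uu : l * (x * y) * l⁻¹ * (l * (x * y) * l⁻¹) = 1 := by rw [conj_mul, sq x hx xx]; group
  have h1 : ⁅l, y⁆ ∈ opOf 2 (Cx z) :=
    h.pc₁.opOf_le ((h.pc₁.eq_or_commutator_le h.pc₂).resolve_left h.ne
      (commutator_mem_commutator hl (le hy)))
  obtain ⟨k, hk, e'⟩ := b1e_dih (coprime_card_opOf (p := 2) (Cx z)) uu (sq _ iD p.ii) (by
    rw [← inv_eq_of_mul_eq_one_right uu, ← conj_mul, e]
    convert (mem_normalizer_iff.1 (le_normalizer_opOf _ (h.pc₁.le (s1.le iD))) _).1 (inv_mem h1)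
      using 1
    rw [commutatorElement_def]
    group)
  exact ⟨k * l, mul_mem (opOf_le _ hk) (h.pc₁.le hl), by rw [← e']; group⟩

theorem B1.fus (h : B1 z L₁ L₂) (s1 : IsSylowIn 2 D L₁) (s2 : IsSylowIn 2 E L₂)
    (p : BP S D E z m n a b c d) :
    ∀ y ∈ D ⊔ E, ∀ y' ∈ D ⊔ E, y * y = 1 → y' * y' = 1 → y ≠ 1 → y ≠ z → y' ≠ 1 → y' ≠ z →
      ∃ g ∈ Cx z, g * y * g⁻¹ = y' := by
  have key : ∀ u ∈ D ⊔ E, u * u = 1 → u ≠ 1 → u ≠ z →
      ∃ g ∈ Cx z, g * u * g⁻¹ = c ^ (n / 2) * a ^ (m / 2) := fun u hu uu u1 uz => by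
    obtain ⟨x, hx, y, hy, xx, yy, rfl⟩ := ((p.invY hu uu).resolve_left u1).resolve_left uz
    have iD : a ^ (m / 2) ∈ D := pow_mem p.q1.a_mem _
    obtain ⟨g, hg, e⟩ := h.b1e_step s1 s2.le p hx hy xx yy
    obtain ⟨k, hk, e'⟩ := h.b1e_symm.b1e_step s2 s1.le p.symm hy iD yy p.ii
    exact ⟨k * g, mul_mem hk hg, by rw [← e', ← p.comm _ iD _ hy, ← e]; group⟩
  intro y hy y' hy' yy yy' h1 h2 h3 h4
  obtain ⟨g, hg, e⟩ := key y hy yy h1 h2
  obtain ⟨k, hk, e'⟩ := key y' hy' yy' h3 h4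
  exact ⟨k⁻¹ * g, mul_mem (inv_mem hk) hg, by
    rw [show k⁻¹ * g * y * (k⁻¹ * g)⁻¹ = k⁻¹ * (g * y * g⁻¹) * k by group, e, ← e']; group⟩

end CfsgLib.GHE
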