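import Mathlib
import Cfsg.Agent.Lib.GHE.B1d
import Cfsg.Agent.Lib.GHE.B1e

/-! Block B1, package FR3: the frame with the fusion data.  See `plans/GHE_B1.md`. -/

set_option autoImplicit false
set_option linter.unusedSectionVars false

namespace CfsgLib.GHE

open Subgroup Cfsg CfsgLib.W2 CfsgLib.Tech CfsgLib.Sect CfsgLib.PComp CfsgLib.DihSyl
  CfsgLib.GW.Cor
open CfsgLib.LBal hiding cj
open scoped MatrixGroups commutatorElement

universe u

variable {G : Type u} [Group G] [Finite G] {S P D E : Subgroup G} {m n : ℕ}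
  {z a b c d s t u v x y σ τ μ : G}

variable {L₁ L₂ : Subgroup G}

theorem b1f_syl {N H P Q : Subgroup G} (hN : H ≤ normalizer (N : Set G)) (hP : IsSylowIn 2 P N)
    (hQ : IsSylowIn 2 Q H) (hn : Q ≤ normalizer (P : Set G)) : IsSylowIn 2 (Q ⊔ P) (H ⊔ N) := by
  have l := sup_le_sup hQ.le hP.le
  refine ⟨l, hQ.pgroup.to_sup_of_normal_right' hP.pgroup hn, fun k => ?_⟩
  have e1 := Core.card_sup_mul_card_inf_of_le_normalizer hN
  have e2 := Core.card_sup_mul_card_inf_of_le_normalizer hn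
  rw [← card_mul_relIndex' l, ← card_mul_relIndex' (inf_le_inf hQ.le hP.le), ← card_mul_relIndex' hQ.le,
    ← card_mul_relIndex' hP.le, mul_mul_mul_comm, e2, mul_mul_mul_comm _ (Q.relIndex H)] at e1
  have e3 := Nat.eq_of_mul_eq_mul_left (Nat.mul_pos Nat.card_pos Nat.card_pos) e1
  exact (Nat.prime_two.dvd_mul.1 (e3 ▸ k.mul_right _)).elim hQ.not_dvd hP.not_dvd

theorem B1.exists_bf (h : B1 z L₁ L₂) : ∃ (S D E : Subgroup G) (m n : ℕ) (a b c d : G),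
    BF S D E z m n a b c d := by
  obtain ⟨S, m, n, a, b, c, d, hS, s1, s2, p⟩ := h.exists_bp
  have nK : ∀ {g}, g ∈ Cx z → g ∈ normalizer ((L₁ ⊔ L₂ : Subgroup G) : Set G) := fun hg => by
    rw [mem_normalizer_iff_cj, cj_sup]
    rcases h.perm hg with ⟨e1, e2⟩ | ⟨e1, e2⟩ <;> rw [e1, e2]
    exact sup_comm _ _
  have sY : IsSylowIn 2 (S ⊓ L₁ ⊔ S ⊓ L₂) (L₁ ⊔ L₂) := b1f_syl (h.pc₂.le_normalizer h.pc₁) s2 s1 fun x hx =>
    mem_normalizer_of_forall fun y hy => by rwa [p.comm x hx y hy, mul_inv_cancel_right]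
  have eY : ∀ {u}, u ∈ S → u ∈ L₁ ⊔ L₂ → u ∈ S ⊓ L₁ ⊔ S ⊓ L₂ := fun h1 h2 =>
    (sY.eq_of_le (Q := S ⊓ (L₁ ⊔ L₂)) hS.pgroup.to_inf_left (le_inf p.leY sY.le) inf_le_right).le ⟨h1, h2⟩
  have key : ∀ {L L' : Subgroup G} {g}, IsSylowIn 2 (S ⊓ L) L → cj g L = L' → cj g (S ⊓ L) ≤ S →
      cj g (S ⊓ L) = S ⊓ L' := fun {L L' g} k e l => by
    have k' := k.cj g
    rw [e] at k'
    exact (k'.eq_of_le hS.pgroup.to_inf_left (le_inf l k'.le) inf_le_right).symm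
  refine ⟨S, _, _, m, n, a, b, c, d, h.toCtx, p, hS, h.fus s1 s2 p, fun g hg s hs k => ?_, fun g hg s hs k q => ?_,
    fun g hg l => ?_, fun g hg l => ?_, fun g hg s hs k ⟨y, hy, e⟩ => ?_⟩
  · exact eY k (conj_mem_of_mem_normalizer (nK hg) (sY.le hs))
  · have sw : cj s L₁ = L₂ ∧ cj s L₂ = L₁ := (h.perm (p.z_cen hs)).resolve_left fun e => by
      have bD := p.q1.b_mem
      have h1 : s * b * s⁻¹ ∈ S ⊓ L₁ := ⟨(q.1 b bD).1, e.1 ▸ conj_mem_cj.2 bD.2⟩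
      have h2 : s * b * s⁻¹ * (s * b * s⁻¹) = 1 := by
        rcases p.inf h1 (q.1 b bD) with k | k <;> rw [k]
        exacts [mul_one _, p.zz]
      rw [conj_mul, p.bb, conj_eq_one_iff] at h2
      exact p.z_ne h2
    have sw' : cj (g * s * g⁻¹) L₁ = L₂ ∧ cj (g * s * g⁻¹) L₂ = L₁ := by
      simp only [cj_mul]
      rcases h.perm hg with ⟨e1, e2⟩ | ⟨e1, e2⟩
      · exact ⟨by rw [← e1, cj_inv_cj, sw.1, e2], by rw [← e2, cj_inv_cj, sw.2, e1]⟩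
      · exact ⟨by rw [← e2, cj_inv_cj, sw.2, e1], by rw [← e1, cj_inv_cj, sw.1, e2]⟩
    exact ⟨fun u hu => ⟨S.mul_mem (S.mul_mem k hu.1) (S.inv_mem k), sw'.1 ▸ conj_mem_cj.2 hu.2⟩,
      fun u hu => ⟨S.mul_mem (S.mul_mem k hu.1) (S.inv_mem k), sw'.2 ▸ conj_mem_cj.2 hu.2⟩⟩
  · exact (h.perm hg).imp (fun e => key s1 e.1 l) fun e => key s1 e.1 l
  · exact (h.perm hg).symm.imp (fun e => key s2 e.2 l) fun e => key s2 e.2 l
  · have y0 := conj_mem_of_mem_normalizer (nK hg) (sY.le hy)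
    have e0 : g * s * g⁻¹ * (g * y * g⁻¹) * (g * s * g⁻¹ * (g * y * g⁻¹)) = 1 := by
      rw [conj_mul, conj_mul, e, mul_one, mul_inv_cancel]
    generalize g * s * g⁻¹ = r at k e0 ⊢
    generalize g * y * g⁻¹ = w at y0 e0
    have rK := zpowers_le.2 (nK (p.z_cen k))
    have pr := isPGroup_zpowers_of_mem hS.pgroup k
    obtain ⟨x, hx, e1⟩ := (b1f_syl rK sY ⟨le_rfl, pr, by simp⟩ (zpowers_le.2 (mem_normalizer_of_forall
      fun u => p.nrm k))).exists_conj_mem (mul_mem_sup (mem_zpowers r) y0)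
      (isPGroup_zpowers_of_pow (k := 1) (by rw [pow_one, sq, e0]))
    obtain ⟨f, hf, l, hl, rfl⟩ := (Core.mem_sup_of_le_normalizer_right rK).1 hx
    have e2 := (sup_le (zpowers_le.2 k) p.leY : _ ≤ S) e1
    refine ⟨r⁻¹ * (f * l * (r * w) * (f * l)⁻¹), eY (mul_mem (inv_mem k) e2) ?_, ?_⟩
    · obtain ⟨i, rfl⟩ := mem_zpowers_iff.1 hf
      rw [show r⁻¹ * (r ^ i * l * (r * w) * (r ^ i * l)⁻¹) = r ^ i * (r⁻¹ * l * r * (w * l⁻¹)) * (r ^ i)⁻¹ by group]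
      exact conj_mem_of_mem_normalizer (rK hf) (mul_mem (conj_mem_of_mem_normalizer' (rK (mem_zpowers r)) hl)
        (mul_mem y0 (inv_mem hl)))
    · rw [mul_inv_cancel_left, conj_mul, e0, mul_one, mul_inv_cancel]

end CfsgLib.GHE
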