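import Mathlib
import Cfsg.Agent.Lib.GHE.Defs
import Cfsg.Agent.Lib.LBal.Term1
import Cfsg.Agent.S3102
import Cfsg.Agent.S1742
import Cfsg.Agent.S1776
import Cfsg.Agent.S3100
import Cfsg.Agent.S0509
import Cfsg.Agent.S1738
import Cfsg.Agent.Lib.GHM.FinA
import Cfsg.Agent.Lib.GHC.N4d
import Cfsg.Agent.Lib.D5.BP
import Cfsg.Agent.Lib.Core2.T8B1
import Cfsg.Agent.Lib.CycZ.Rank

/-! Package BOX2: the types `G₂(q)`, `J₂`, `Ly`, `PSp₄(q)`.  See `plans/GHE.md`. -/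

set_option autoImplicit false

namespace CfsgLib.GHE

open Subgroup Cfsg CfsgLib.W2 CfsgLib.Tech CfsgLib.Sect CfsgLib.PComp CfsgLib.DihSyl
  CfsgLib.GW.Cor
open CfsgLib.LBal hiding cj
open scoped MatrixGroups commutatorElement

universe u

variable {G : Type u} [Group G] [Finite G]

omit [Finite G] in
theorem Big.b2_lst (h : Big G) : Lst G := .inr (.inr (.inr h))

omit [Finite G] in
theorem Spo.b2_lst (h : Spo G) : Lst G := Big.b2_lst (.inr (.inr (.inr (.inl h))))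

theorem Ctx.b2_core (h : Ctx G) : oddCore G = ⊥ :=
  have := h.simple
  (inferInstance : (oddCore G).Normal).eq_bot_or_eq_top.resolve_right fun e =>
    h.ncomm ⟨⟨(IsSimpleGroup.comm_iff_isSolvable (G := G)).2
      (Cfsg.Agent.S0205.result (by simpa [e] using Core.odd_card_oddCore G))⟩⟩

theorem Ctx.b2_idx (h : Ctx G) (M : Subgroup G) : M.index ≠ 2 := fun e => by
  have := h.simple
  rcases (normal_of_index_eq_two e).eq_bot_or_eq_top with rfl | rfl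
  · rw [index_bot] at e
    have := isCyclic_of_prime_card e
    exact h.ncomm inferInstance
  · rw [index_top] at e
    omega

theorem Ctx.box_3102 (h : Ctx G) {S U : Subgroup G} (hS : IsSylowIn 2 S ⊤)
    (h8 : ∀ E ≤ S, S ≤ normalizer (E : Set G) → (∀ a ∈ E, a * a = 1) → Nat.card E ≠ 8)
    (hU : V4 U) (le : U ≤ S) (nrm : S ≤ normalizer (U : Set G))
    (fus : ∀ u ∈ U, ∀ v ∈ U, u ≠ 1 → v ≠ 1 → IsConj u v) : Lst G := by
  have := h.simple
  obtain ⟨S, rfl⟩ : ∃ P : Sylow 2 G, (P : Subgroup G) = S := ⟨hS.toSylowTop, rfl⟩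
  by_cases h3 : PRankLE 2 2 (S : Subgroup G)
  · exact .inl (CycZ.pRankLE_of_sylow S h3)
  have c : Nat.card (U.subgroupOf S) = 4 := (Nat.card_congr (subgroupOfEquivOfLe le).toEquiv).trans hU.2
  have : Nontrivial (U.subgroupOf S) := Finite.one_lt_card_iff_nontrivial.1 (by rw [c]; norm_num)
  rcases Agent.S3102.result (fun N _ => h.b2_idx N) (ZStar.not_isolated_of_simple h.ncomm) S h3
    (fun E hE h2 e => h8 (E.map (S : Subgroup G).subtype) (map_subtype_le E)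
      ((normal_subgroupOf_iff_le_normalizer (map_subtype_le E)).1 (by
        rwa [subgroupOf, comap_map_eq_self_of_injective (subtype_injective _)]))
      (by rintro _ ⟨a, ha, rfl⟩; exact (pow_two _).symm.trans (congrArg Subtype.val (h2.2 a ha)))
      ((card_map_of_injective (subtype_injective _)).trans e))
    (U.subgroupOf S) ⟨c, (Monoid.exponent_eq_prime_iff Nat.prime_two).2 fun g hg =>
      orderOf_eq_prime (Subtype.ext (Subtype.ext ((pow_two _).trans (hU.1 _ g.2)))) hg⟩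
    ((normal_subgroupOf_iff_le_normalizer le).2 nrm)
    (fun u hu v hv u1 v1 => fus u hu v hv (fun e => u1 (Subtype.ext e)) fun e => v1 (Subtype.ext e)) with
    ⟨F, _, _, h1, P, e⟩ | ⟨P, e⟩ | e
  · rcases Agent.S1742.result (Nat.odd_iff.2 (by omega)) _ P e with e | e | e
    exacts [Big.b2_lst (.inr (.inl (.inl e))), Big.b2_lst (.inr (.inl (.inr (.inl e)))),
      Big.b2_lst (.inr (.inr (.inr (.inr e))))]
  · exact Spo.b2_lst (.inr (.inr ((Agent.S1776.result _ P e).imp_right .inl)))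
  · exact Spo.b2_lst (.inr (.inr (.inr (.inr (.inr (.inl (Agent.S3100.result h.ncomm _ e)))))))

theorem Ctx.box_tk (h : Ctx G) {k : ℕ} {φ : GHB.K.TK k →* G} (hφ : W2.Syl φ) : Lst G := by
  have := h.simple
  have key : ∀ ψ : GHB.K.TK k →* G, W2.Two (GHB.K.hh k) ψ → Lst G := fun ψ h => by
    obtain rfl := GHB.K.two_zero h
    exact Big.b2_lst (.inr (.inr (.inr (.inr (W2.T4.Two.isoM12 (φ := ψ) h)))))
  rcases hφ.two (GHB.K.cd k) with h' | h' | h'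
  swap
  · exact key _ h'
  swap
  · exact key _ h'
  obtain ⟨F₁, F₂, _, _, _, _, Q, -⟩ := GHB.K.exists_fw hφ h' (GHB.K.core hφ)
  have h2 : 2 ∣ Nat.card G := Q.A.orderOf_j ▸ orderOf_dvd_natCard Q.j
  have top : ∀ {N : Subgroup G} {M : Type} [Group M], N.Normal → N.index = Q.δ → Nonempty (N ≃* M) →
      Nonempty (G ≃* M) := fun hN h1 ⟨f⟩ => by
    rcases hN.eq_bot_or_eq_top with rfl | rfl
    · rw [index_bot] at h1
      exact absurd (h1 ▸ h2) Q.odd_δ.not_two_dvd_nat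
    · exact ⟨topEquiv.symm.trans f⟩
  have n1 := (normal_subgroupOf_iff_le_normalizer Q.A.L_le).2 Q.A.le_norm
  have hO : oddCore (centralizer ({Q.j} : Set G)) = ⊥ :=
    (map_eq_bot_iff_of_injective _ (subtype_injective _)).1 Q.core
  obtain ⟨-, o1, o2, h3 | ⟨-, h3, -⟩ | ⟨-, -, -, N, h3, h4, h5⟩ | ⟨-, -, N, h3, h4, ⟨h5, h6⟩ | ⟨h5, h6⟩⟩⟩ :=
    Agent.S3212.result Q.A.L Q.B.L (MonoidHom.ofInjective Q.A.inj).symm
      (MonoidHom.ofInjective Q.B.inj).symm Q.comm_AB Q.j Q.A.orderOf_j Q.inf_AB Q.Y_le hO Q.δ Q.odd_δ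
      (.inl ⟨(normal_subgroupOf_iff_le_normalizer Q.Y_le).2 Q.C_le_norm_Y, Q.idx⟩)
  · rw [h.b2_core, sup_bot_eq] at h3
    refine absurd ⟨Q.A.orderOf_j, fun g _ => ?_⟩ (ZStar.not_isolated_of_simple h.ncomm Q.j)
    rw [mem_centralizer_singleton_iff.1 (h3.ge (mem_top g)), mul_inv_cancel_right]
  · exact absurd n1 h3
  · exact Big.b2_lst (.inr (.inl (.inl ⟨F₁, _, _, o1, top h3 h4 h5⟩)))
  · exact Big.b2_lst (.inr (.inl (.inr (.inl ⟨F₂, _, _, _, o1, h5, top h3 h4 h6⟩))))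
  · exact Big.b2_lst (.inr (.inl (.inr (.inl ⟨F₁, _, _, _, o2, h5, top h3 h4 h6⟩))))

/-- `S = (⟨x⟩ × ⟨y⟩) ⟨s, d⟩` -/
theorem Ctx.box_tk' (h : Ctx G) {S : Subgroup G} (hS : IsSylowIn 2 S ⊤) {x y s d : G}
    (hx : 4 ∣ orderOf x) (xy : x * y = y * x) (inf : zpowers x ⊓ zpowers y = ⊥) (ss : s * s = 1)
    (dd : d * d = 1) (sd : s * d = d * s) (sx : s * x * s⁻¹ = y) (dx : d * x * d⁻¹ = x⁻¹)
    (e : S = closure {x, y, s, d}) : Lst G := by
  have m : ∀ g ∈ ({x, y, s, d} : Set G), g ∈ S := fun g hg => e ▸ subset_closure hg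
  obtain ⟨k, hk⟩ : ∃ k, orderOf x = 4 * 2 ^ k := by
    obtain ⟨n, hn⟩ := isPGroup_iff_mem.1 hS.pgroup x (m x (by simp))
    obtain ⟨j, -, hj⟩ := (Nat.dvd_prime_pow Nat.prime_two).1 (orderOf_dvd_of_pow_eq_one hn)
    have : 2 ≤ j := (Nat.pow_dvd_pow_iff_le_right one_lt_two).1 (show 2 ^ 2 ∣ 2 ^ j from hj ▸ hx)
    exact ⟨j - 2, by rw [hj, show 4 = 2 ^ 2 from rfl, ← pow_add, Nat.add_sub_cancel' this]⟩
  have oy : orderOf y = 4 * 2 ^ k := by
    rw [← hk, ← sx]; exact (MulAut.conj s).orderOf_eq x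
  have h2 : 2 < 4 * 2 ^ k := by have := Nat.one_le_two_pow (n := k); omega
  obtain ⟨φ, h1, h3⟩ := W2.exists_hom (N := 4 * 2 ^ k) h2 xy (fun i j => by
    rw [← hk, orderOf_dvd_iff_zpow_eq_one, hk, ← oy, orderOf_dvd_iff_zpow_eq_one]
    refine ⟨fun f => ?_, fun f => by rw [f.1, f.2, mul_one]⟩
    have : x ^ i = 1 := mem_bot.1 (inf.le (mem_inf.2 ⟨zpow_mem_zpowers x i,
      eq_inv_of_mul_eq_one_left f ▸ inv_mem (zpow_mem_zpowers y j)⟩))
    exact ⟨this, by rwa [this, one_mul] at f⟩) ss dd sd sx dx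
  have c1 : ((1 : ZMod (4 * 2 ^ k)).cast : ℤ) = 1 := by
    have : Fact (1 < 4 * 2 ^ k) := ⟨by omega⟩
    rw [ZMod.cast_eq_val, ZMod.val_one, Nat.cast_one]
  refine h.box_tk (φ := φ) ⟨h1, (le_antisymm ?_ ?_ : S = φ.range) ▸ hS⟩
  · rw [e, closure_le]
    rintro _ (rfl | rfl | rfl | rfl)
    · exact ⟨GHB.K.x0 k, by simp [h3, c1]⟩
    · exact ⟨GHB.K.y0 k, by simp [h3, c1]⟩
    · exact ⟨GHB.K.s0 k, by simp [h3]⟩
    · exact ⟨GHB.K.d0 k, by simp [h3]⟩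
  · rintro _ ⟨p, rfl⟩
    rw [h3]
    refine mul_mem (mul_mem (mul_mem (zpow_mem (m _ (by simp)) _) (zpow_mem (m _ (by simp)) _)) ?_) ?_ <;>
      split_ifs
    exacts [m _ (by simp), one_mem _, m _ (by simp), one_mem _]

theorem Ctx.box_xh (h : Ctx G) {S : Subgroup G} (hS : IsSylowIn 2 S ⊤)
    {ψ : GHM.Q8 × GHM.Q8 →* G} (hψ : GHM.XH ψ) (le : ψ.range ≤ S) (idx : ψ.range.relIndex S = 2)
    {x : G} (xS : x ∈ S) (xx : x * x = 1) (act : GHM.Ac ψ x GHM.t2 GHM.t2) : Lst G := by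
  obtain ⟨φ, hi, hr⟩ := GHM.F12.exists_hom hψ xx act
  refine h.box_tk (φ := φ) ⟨hi, ?_⟩
  rw [eq_of_le_of_card_ge (hr S le xS) (by
    rw [← card_mul_relIndex' le, idx, hψ.card,
      ← Nat.card_congr (MonoidHom.ofInjective hi).toEquiv, W2.TM.card_eq, Nat.card_zmod]
    norm_num)]
  exact hS

theorem Ctx.box_wr (h : Ctx G) {Q : Type*} [Group Q] {m : ℕ} {a b : Q} {ψ : Q × Q →* G} {τ : G}
    (hS : GHA.Syl m a b ψ τ) : Lst G := by
  have := h.simple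
  rcases D5.BPp.of_syl h.ncomm hS with e | e | e
  exacts [Big.b2_lst (.inl (.inl e)), Big.b2_lst (.inr (.inr (.inl ⟨8, le_rfl, by norm_num, e⟩))),
    Big.b2_lst (.inr (.inr (.inl ⟨9, by norm_num, by norm_num, e⟩)))]

/-- `S = (Δ ∘ Δ^σ) ⟨σ⟩` -/
theorem Ctx.box_wr' (h : Ctx G) {S Δ : Subgroup G} (hS : IsSylowIn 2 S ⊤) {m : ℕ} {a b σ : G}
    (hm : 2 ≤ m) (hq : IsQuat Δ m a b) (σσ : σ * σ = 1)
    (comm : ∀ x ∈ Δ, ∀ y ∈ cj σ Δ, x * y = y * x) (inf : Δ ⊓ cj σ Δ = zpowers (a ^ m))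
    (e : S = Δ ⊔ cj σ Δ ⊔ zpowers σ) : Lst G := by
  have mc : ∀ v ∈ Δ, σ * v * σ⁻¹ ∈ cj σ Δ := cj_le_iff.1 le_rfl
  let ψ : Δ × Δ →* G := Δ.subtype.noncommCoprod ((MulAut.conj σ).toMonoidHom.comp Δ.subtype)
    fun u v => comm u u.2 _ (mc v v.2)
  have hψ : ∀ u v : Δ, ψ (u, v) = u * (σ * v * σ⁻¹) := fun u v => rfl
  have oz := hq.ord_z (by omega)
  have ee : a ^ m * a ^ m = 1 := by rw [← pow_two, ← oz, pow_orderOf_eq_one]
  have e1 : a ^ m ≠ 1 := fun f => by rw [f, orderOf_one] at oz; omega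
  have zz : ∀ g ∈ zpowers (a ^ m), g = 1 ∨ g = a ^ m := fun g hg =>
    hq.eq_of_sq (by omega) (inf.ge hg).1 (by
      obtain ⟨i, rfl⟩ := hg
      exact ((Commute.refl _).mul_zpow i).symm.trans (by rw [ee, one_zpow]))
  have back : ∀ g : G, σ * (σ * g * σ⁻¹) * σ⁻¹ = g := fun g => by
    rw [show σ * (σ * g * σ⁻¹) * σ⁻¹ = σ * σ * g * (σ * σ)⁻¹ by group, σσ]; group
  have zΔ : a ^ m ∈ Δ := pow_mem hq.a_mem m
  have zc : a ^ m ∈ cj σ Δ := (inf.ge (mem_zpowers _)).2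
  have se : σ * a ^ m * σ⁻¹ = a ^ m := by
    obtain ⟨w, hw, f⟩ := zc
    refine (zz _ (inf.le (mem_inf.2 ⟨?_, mc _ zΔ⟩))).resolve_left (by rwa [conj_eq_one_iff])
    rw [← f]
    exact (back w).symm ▸ hw
  have hr : ψ.range = Δ ⊔ cj σ Δ := by
    refine le_antisymm ?_ (sup_le (fun u hu => ⟨(⟨u, hu⟩, 1), by simp [hψ]⟩)
      (cj_le_iff.2 fun u hu => ⟨(1, ⟨u, hu⟩), by simp [hψ]⟩))
    rintro _ ⟨p, rfl⟩
    exact mul_mem (mem_sup_left p.1.2) (mem_sup_right (mc _ p.2.2))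
  refine h.box_wr (m := m) (a := ⟨a, hq.a_mem⟩) (b := ⟨b, hq.b_mem⟩) (ψ := ψ) (τ := σ)
    ⟨⟨fun f => e1 (congrArg Subtype.val f), Subtype.ext ee, fun u => Subtype.ext (comm _ u.2 _ zc),
      fun u v => ?_, σσ, fun u v => ?_, ?_⟩,
      ⟨(Subgroup.orderOf_mk a hq.a_mem).trans hq.ord, Subtype.ext hq.bb, Subtype.ext hq.conj,
        fun ⟨i, hi⟩ => hq.notMem ⟨i, congrArg Subtype.val hi⟩, fun g => iff_of_true trivial
          (((hq.mem g).1 g.2).imp fun i h => h.imp Subtype.ext Subtype.ext)⟩, ?_, ?_⟩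
  · rw [hψ]
    constructor
    · intro f
      rcases zz u (inf.le (mem_inf.2 ⟨u.2, eq_inv_of_mul_eq_one_left f ▸ inv_mem (mc v v.2)⟩)) with k | k
      · rw [k, one_mul, conj_eq_one_iff] at f
        exact .inl ⟨Subtype.ext k, Subtype.ext f⟩
      · refine .inr ⟨Subtype.ext k, Subtype.ext ?_⟩
        rw [k, ← ee, mul_right_inj] at f
        exact (back v).symm.trans (f ▸ se)
    · rintro (⟨rfl, rfl⟩ | ⟨rfl, rfl⟩)
      · simp
      · exact (congrArg (a ^ m * ·) se).trans ee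
  · rw [hψ, hψ, ← conj_mul, back, comm _ v.2 _ (mc u u.2)]
  · rintro ⟨⟨u, v⟩, f⟩
    have k : σ * b * σ⁻¹ = u * b * (u : G)⁻¹ := by
      refine (congrArg (fun w => w * b * w⁻¹) f).symm.trans ?_
      rw [hψ, mul_assoc (u : G), ← comm b hq.b_mem _ (mc v v.2)]
      group
    have k' : σ * b * σ⁻¹ ∈ zpowers (a ^ m) :=
      inf.le (mem_inf.2 ⟨k ▸ mul_mem (mul_mem u.2 hq.b_mem) (inv_mem u.2), mc b hq.b_mem⟩)
    rcases zz _ k' with k | k
    · exact hq.notMem (conj_eq_one_iff.1 k ▸ one_mem _)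
    · refine hq.notMem ?_
      rw [← back b, k, se]
      exact pow_mem (mem_zpowers a) m
  · obtain ⟨n, hn⟩ := isPGroup_iff_mem.1 hS.pgroup a (e ▸ mem_sup_left (mem_sup_left hq.a_mem))
    obtain ⟨j, -, hj⟩ := (Nat.dvd_prime_pow Nat.prime_two).1
      ((Dvd.intro_left 2 hq.ord.symm).trans (orderOf_dvd_of_pow_eq_one hn))
    rcases j with _ | j
    · omega
    · exact ⟨j, hj⟩
  · rw [GHA.Sw, hr, ← e]
    exact hS

/-- a quaternion subgroup of the Sylow 2-subgroup of `A₈` -/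
noncomputable def b2_f8 : GHM.Q8 → T8
  | .a n => TG.o 21 ^ n.val
  | .xa n => TG.o 41 * TG.o 21 ^ n.val

/-- `Q₈ ∘ Q₈` in the Sylow 2-subgroup of `A₈` -/
noncomputable def b2_ψ8 : GHM.Q8 × GHM.Q8 →* T8 :=
  MonoidHom.mk' (fun p => b2_f8 p.1 * (T8.e0 * b2_f8 p.2 * T8.e0⁻¹)) (by decide +kernel)

theorem b2_wr8 : GHA.Wr (.a 1 ^ 2) b2_ψ8 T8.e0 :=
  ⟨by decide, by decide, by decide, by decide +kernel, by decide +kernel, by decide +kernel,
    fun ⟨p, e⟩ => (by decide +kernel : ∀ p, b2_ψ8 p ≠ T8.e0) p e⟩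

theorem Ctx.box_t8 (h : Ctx G) {φ : T8 →* G} (hφ : T8.S8 φ) : Lst G := by
  have hw := b2_wr8.map φ fun g _ => (map_eq_one_iff φ hφ.inj).1
  refine h.box_wr ⟨hw, GHC.N4.quat8, ⟨0, rfl⟩, ?_⟩
  rw [eq_of_le_of_card_ge (H := GHA.Sw (φ.comp b2_ψ8) (φ T8.e0)) (K := φ.range) (sup_le (by rintro _ ⟨p, rfl⟩; exact ⟨_, rfl⟩)
    (zpowers_le.2 ⟨_, rfl⟩)) (by
      rw [hw.card_Sw, ← Nat.card_congr (MonoidHom.ofInjective hφ.inj).toEquiv, T8.card_T,
        Nat.card_eq_fintype_card, QuaternionGroup.card])]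
  exact hφ.syl

/-- `S = Z₂ ≀ V₄` -/
theorem Ctx.box_wr4 (h : Ctx G) {S E : Subgroup G} (hS : IsSylowIn 2 S ⊤) {t p q : G}
    (E2 : ∀ a ∈ E, a * a = 1) (E16 : Nat.card E = 16)
    (gen : E = closure {t, p * t * p⁻¹, q * t * q⁻¹, p * q * t * (p * q)⁻¹}) (pp : p * p = 1)
    (qq : q * q = 1) (pq : p * q = q * p) (e : S = E ⊔ closure {p, q}) : Lst G := by
  have m : ∀ g ∈ ({t, p * t * p⁻¹, q * t * q⁻¹, p * q * t * (p * q)⁻¹} : Set G), g ∈ E :=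
    fun g hg => gen ▸ subset_closure hg
  have i : ∀ a ∈ E, a⁻¹ = a := fun a ha => inv_eq_of_mul_eq_one_right (E2 a ha)
  have c : ∀ a ∈ E, ∀ b ∈ E, a * b = b * a := fun a ha b hb => by
    rw [← i _ (mul_mem ha hb), mul_inv_rev, i a ha, i b hb]
  have e3 : q * (p * t * p⁻¹) * q⁻¹ = p * q * t * (p * q)⁻¹ := by rw [pq]; group
  have tE := m t (by simp)
  obtain ⟨φ, p0, p1, p2⟩ := Core2.exists_t8 (E2 t tE) pp qq pq.symm (c _ (m _ (by simp)) t tE)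
    (c _ (m _ (by simp)) t tE) (c _ (e3 ▸ m _ (by simp)) t tE)
  have k : ∀ u : T8, φ u * φ T8.e0 * (φ u)⁻¹ ∈ T8.A.map φ := fun u =>
    ⟨_, T8.A_conj u T8.e0 (by decide +kernel), by simp⟩
  have l : E ≤ T8.A.map φ := by
    rw [gen, closure_le, ← p0, ← p1, ← p2, ← map_mul φ T8.v1 T8.v2]
    rintro _ (rfl | rfl | rfl | rfl)
    exacts [⟨_, (by decide +kernel : T8.InA T8.e0), rfl⟩, k _, k _, k _]
  have s := φ.subgroupMap_surjective T8.A
  have hi := Core2.t8_inj φ fun f => by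
    have := ((Nat.bijective_iff_surjective_and_card _).2 ⟨s, le_antisymm
      (by rw [T8.card_A, ← E16]; exact card_le_of_le l) (Nat.card_le_card_of_surjective _ s)⟩).1
    exact absurd (congrArg Subtype.val ((injective_iff_map_eq_one _).1 this
      ⟨T8.z, (by decide +kernel : T8.InA T8.z)⟩ (Subtype.ext f))) (by decide +kernel)
  refine h.box_t8 ⟨hi, (le_antisymm ?_ ?_ : S = φ.range) ▸ hS⟩
  · rw [e]
    refine sup_le (l.trans (map_le_range _ _)) ((closure_le _).2 ?_)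
    rintro _ (rfl | rfl)
    exacts [⟨_, p1⟩, ⟨_, p2⟩]
  · rintro _ ⟨g, rfl⟩
    refine (TG.eq_top_of_genB (gs := [T8.e0, T8.v1, T8.v2]) (D := 4) (by decide +kernel)
      (S := S.comap φ) ?_).ge (mem_top g)
    simp only [List.forall_mem_cons, mem_comap, p0, p1, p2, e]
    exact ⟨mem_sup_left tE, mem_sup_right (subset_closure (by simp)),
      mem_sup_right (subset_closure (by simp)), by simp⟩

theorem Ctx.box_alt (h : Ctx G) {z : G} (hz : orderOf z = 2) {L : Subgroup G} (hL : PC 2 L (Cx z))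
    (mem : z ∈ L) {n : ℕ} (hn : 8 ≤ n)
    (hc : IsNonsplitDoubleCover (L ⧸ oddCore L) (alternatingGroup (Fin n))) : Lst G := by
  have := h.simple
  have q := Comp.qs_of_isSimpleGroup h.ncomm
  have e : G ≃* generalizedFittingSubgroup G := topEquiv.symm.trans
    (MulEquiv.subgroupCongr (eq_top_iff.2 ((Comp.layer_eq_top_of_qs q).ge.trans le_sup_left)).symm)
  rcases Sol.s1738 h.b2_core (Comp.qs_of_mulEquiv q e) ⟨hL, mem, hz, hc, hn⟩ with k | ⟨-, ⟨f⟩⟩ | ⟨-, ⟨f⟩⟩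
  · have k1 := (Fischer.nonsplit_congr e.symm k).1
    rcases (inferInstance : (center G).Normal).eq_bot_or_eq_top with f | f
    · rw [f, card_bot] at k1
      omega
    · exact absurd ⟨⟨fun a b => mem_center_iff.1 (f.ge (mem_top b)) a⟩⟩ h.ncomm
  · exact Spo.b2_lst (.inr (.inr (.inr (.inr (.inl ⟨e.trans f⟩)))))
  · exact Spo.b2_lst (.inr (.inr (.inr (.inr (.inr (.inl ⟨e.trans f⟩))))))

end CfsgLib.GHE
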