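import Mathlib
import Cfsg.Agent.Lib.GHE.B1b

/-! Block B1, package API2: normal forms.  See `plans/GHE_B1.md`. -/

set_option autoImplicit false
set_option linter.unusedSectionVars false

namespace CfsgLib.GHE

open Subgroup Cfsg CfsgLib.W2 CfsgLib.Tech CfsgLib.Sect CfsgLib.PComp CfsgLib.DihSyl
  CfsgLib.GW.Cor
open CfsgLib.LBal hiding cj
open scoped MatrixGroups commutatorElement

universe u

variable {G : Type u} [Group G] [Finite G] {S P D E : Subgroup G} {m n : ℕ}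
  {z a b c d s t u v x y σ τ μ : G}

theorem Q2.cop (h : Q2 D m a b) (i : ℤ) : IsCoprime (2 * m : ℤ) (2 * i + 1) := by
  obtain ⟨n, hn⟩ := h.pow
  rw [hn]; push_cast
  exact IsCoprime.mul_left ⟨-i, 1, by ring⟩ (IsCoprime.pow_left ⟨-i, 1, by ring⟩)

theorem Q2.act_congr (h : Q2 D m a b) {k j k' j' : ℤ} (hx : QAct a b x k j)
    (hk : (2 * m : ℤ) ∣ k - k') (hj : (2 * m : ℤ) ∣ j - j') : QAct a b x k' j' :=
  ⟨by rw [hx.1, h.zeq.2 hk], by rw [hx.2, h.zeq.2 hj]⟩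

theorem Q2.act_uniq (h : Q2 D m a b) {k j k' j' : ℤ} (hx : QAct a b x k j)
    (hy : QAct a b x k' j') : (2 * m : ℤ) ∣ k - k' ∧ (2 * m : ℤ) ∣ j - j' :=
  ⟨h.zeq.1 (hx.1.symm.trans hy.1), h.zeq.1 (mul_right_cancel (hx.2.symm.trans hy.2))⟩

theorem QAct.comm (hx : QAct a b x 1 0) : x * a = a * x ∧ x * b = b * x :=
  ⟨mul_inv_eq_iff_eq_mul.1 (by simpa using hx.1), mul_inv_eq_iff_eq_mul.1 (by simpa using hx.2)⟩

theorem Q2.half' (h : Q2 D m a b) : (m : ℤ) = 2 * ((m / 2 : ℕ) : ℤ) := by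
  obtain ⟨r, hr⟩ := h.half
  omega

theorem Q2.quarter (h : Q2 D m a b) (hm : 4 ≤ m) : ∃ r : ℤ, (m : ℤ) = 4 * r := by
  obtain ⟨n, rfl⟩ := h.pow
  rcases n with _ | n
  · omega
  · exact ⟨2 ^ n, by push_cast; ring⟩

theorem Q2.act_of_mem (h : Q2 D m a b) (hu : u ∈ D) :
    ∃ j, QAct a b u 1 (2 * j) ∨ QAct a b u (-1) (2 * j) := by
  obtain ⟨i, rfl | rfl⟩ := (h.mem u).1 hu
  · exact ⟨i, .inl (h.act_a i)⟩
  · exact ⟨i, .inr (by convert (h.act_a i).mul h.act_b using 1 <;> ring)⟩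

/-- the normal form of an automorphism whose square is inner -/
theorem Q2.nf (h : Q2 D m a b) {k t e ε : ℤ} (hx : QAct a b x k (2 * t + e))
    (hk : (2 * m : ℤ) ∣ k * k - 1) (hε : ε = 1 ∨ ε = -1) :
    ∃ y ∈ D, QAct a b (x * y) ε e ∨ 4 ≤ m ∧ QAct a b (x * y) (m + ε) e := by
  have fix : ∀ {y : G} {k : ℤ}, y ∈ D → QAct a b (x * y) k (2 * t + e) → (2 * m : ℤ) ∣ k * k - 1 →
      ∃ y' ∈ D, QAct a b (x * y') k e := fun {y k} hy h1 h2 => by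
    refine ⟨y * a ^ (-k * t), mul_mem hy (zpow_mem h.a_mem _), ?_⟩
    rw [← mul_assoc]
    refine h.act_congr (h1.mul (h.act_a _)) (by simp) ?_
    obtain ⟨l, hl⟩ := h2
    exact ⟨-2 * t * l, by linear_combination (-2 * t) * hl⟩
  have h0 : QAct a b (x * 1) k (2 * t + e) := by rwa [mul_one]
  have h1 : QAct a b (x * b) (-k) (2 * t + e) := by convert hx.mul h.act_b using 1 <;> ring
  have hk' : (2 * m : ℤ) ∣ -k * -k - 1 := by convert hk using 1; ring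
  obtain ⟨y0, y0D, h0⟩ := fix (one_mem D) h0 hk
  obtain ⟨y1, y1D, h1⟩ := fix h.b_mem h1 hk'
  obtain ⟨l, rfl⟩ := h.act_odd hx
  obtain ⟨r, hr⟩ := h.half
  have d0 : (2 * m : ℤ) ∣ e - e := by simp
  have key : ∃ i : ℤ, 2 * l + 1 = ε + m * i ∨ -(2 * l + 1) = ε + m * i := by
    have h2 : (2 * m : ℤ) ∣ 4 * (l * (l + 1)) := by convert hk using 1; ring
    have h3 : (2 * m : ℤ) ∣ 4 * l ∨ (2 * m : ℤ) ∣ 4 * (l + 1) := by
      rcases Int.even_or_odd' l with ⟨i, rfl | rfl⟩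
      · exact .inl ((h.cop i).dvd_of_dvd_mul_right (h2.trans (dvd_of_eq (by ring))))
      · exact .inr ((h.cop i).dvd_of_dvd_mul_right (h2.trans (dvd_of_eq (by ring))))
    rcases h3 with ⟨i, hi⟩ | ⟨i, hi⟩ <;> rcases hε with rfl | rfl
    · exact ⟨i, .inl (by linarith)⟩
    · exact ⟨-i, .inr (by linarith)⟩
    · exact ⟨-i, .inr (by linarith)⟩
    · exact ⟨i, .inl (by linarith)⟩
  have two := h.two
  have m24 : m = 2 ∨ 4 ≤ m := by omega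
  obtain ⟨i, hi⟩ := key
  rcases Int.even_or_odd' i with ⟨i, rfl | rfl⟩
  · rcases hi with hi | hi
    · exact ⟨y0, y0D, .inl (h.act_congr h0 ⟨i, by linarith⟩ d0)⟩
    · exact ⟨y1, y1D, .inl (h.act_congr h1 ⟨i, by linarith⟩ d0)⟩
  · rcases m24 with rfl | m4
    · rcases hi with hi | hi <;> rcases hε with rfl | rfl
      · exact ⟨y1, y1D, .inl (h.act_congr h1 ⟨-i - 1, by push_cast at hi ⊢; linarith⟩ d0)⟩
      · exact ⟨y1, y1D, .inl (h.act_congr h1 ⟨-i, by push_cast at hi ⊢; linarith⟩ d0)⟩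
      · exact ⟨y0, y0D, .inl (h.act_congr h0 ⟨-i - 1, by push_cast at hi ⊢; linarith⟩ d0)⟩
      · exact ⟨y0, y0D, .inl (h.act_congr h0 ⟨-i, by push_cast at hi ⊢; linarith⟩ d0)⟩
    · rcases hi with hi | hi
      · exact ⟨y0, y0D, .inr ⟨m4, h.act_congr h0 ⟨i, by linarith⟩ d0⟩⟩
      · exact ⟨y1, y1D, .inr ⟨m4, h.act_congr h1 ⟨i, by linarith⟩ d0⟩⟩

theorem Q2.sq_neg (h : Q2 D m a b) (hx : QAct a b x (-1) 1) : QAct a b (x * x) 1 0 := by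
  convert hx.mul hx using 1 <;> ring

theorem Q2.sq_one (h : Q2 D m a b) (hx : QAct a b x 1 0) : QAct a b (x * x) 1 0 := by
  convert hx.mul hx using 1 <;> ring

theorem Q2.sq_mod (h : Q2 D m a b) (hx : QAct a b x (1 + m) 0) : QAct a b (x * x) 1 0 := by
  obtain ⟨r, hr⟩ := h.half
  exact h.act_congr (hx.mul hx) ⟨r + 1, by rw [hr]; ring⟩ (by simp)

theorem Q2.sq_mix (h : Q2 D m a b) (hx : QAct a b x (m - 1) 1) :
    QAct a b ((a ^ (m / 2))⁻¹ * (x * x)) 1 0 := by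
  have hr := h.half'
  rw [← zpow_natCast, ← zpow_neg]
  generalize ((m / 2 : ℕ) : ℤ) = r at hr
  exact h.act_congr ((h.act_a _).mul (hx.mul hx)) ⟨r - 1, by rw [hr]; ring⟩ ⟨0, by rw [hr]; ring⟩

/-- an involution of odd type inverts `a` -/
theorem Q2.inv_od (h : Q2 D m a b) (ss : s * s = 1) (hs : QOd a b s) : s * a * s⁻¹ = a⁻¹ := by
  obtain ⟨k, j, hs⟩ := hs
  have h1 := (h.act_uniq (hs.mul hs) (qact_of_comm (by simp [ss]) (by simp [ss]))).2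
  rw [hs.1, ← zpow_neg_one, h.zeq]
  exact (h.cop j).dvd_of_dvd_mul_right (h1.trans (dvd_of_eq (by ring)))

/-- an involution of even type normalises a subgroup `Q₈` and centralises it modulo the centre -/
theorem Q2.inv_ev (h : Q2 D m a b) (ss : s * s = 1) (hs : QEv a b s) :
    ∃ p ∈ D, ∃ q ∈ D, p * p = a ^ m ∧ q * q = a ^ m ∧ p * q = a ^ m * (q * p) ∧
      (s * p * s⁻¹ = p ∨ s * p * s⁻¹ = p * a ^ m) ∧ (s * q * s⁻¹ = q ∨ s * q * s⁻¹ = q * a ^ m) := by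
  obtain ⟨k, j, hs⟩ := hs
  have h1 := (h.act_uniq (hs.mul hs) (qact_of_comm (by simp [ss]) (by simp [ss]))).2
  obtain ⟨l, rfl⟩ := h.act_odd hs
  obtain ⟨r, hr⟩ := h.half
  obtain ⟨i, e, hi⟩ : ∃ i e : ℤ, 2 * (l * i + j) = m * e := by
    rcases Int.even_or_odd' l with ⟨t, rfl | rfl⟩
    · obtain ⟨e, he⟩ : (2 * m : ℤ) ∣ 4 * j :=
        (h.cop t).dvd_of_dvd_mul_right (h1.trans (dvd_of_eq (by ring)))
      exact ⟨0, e, by linarith⟩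
    · obtain ⟨p, q, e⟩ := h.cop t
      exact ⟨-j * q, 4 * j * p, by linear_combination (-2 * j) * e⟩
  have alt : ∀ p q : ℤ, a ^ (p + m * q) = a ^ p ∨ a ^ (p + m * q) = a ^ p * a ^ m := fun p q => by
    rw [← zpow_natCast a m, ← zpow_add, h.zeq, h.zeq]
    rcases Int.even_or_odd' q with ⟨t, rfl | rfl⟩
    exacts [.inl ⟨t, by ring⟩, .inr ⟨t, by ring⟩]
  refine ⟨a ^ r, zpow_mem h.a_mem r, a ^ i * b, mul_mem (zpow_mem h.a_mem i) h.b_mem, ?_, h.sq_out i,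
    ?_, ?_, ?_⟩
  · rw [← zpow_add, ← two_mul, ← hr, zpow_natCast]
  · have := h.act_b.zpow r
    rw [← zpow_natCast a m, hr]
    calc _ = a ^ (2 * r) * (a ^ i * a ^ (-1 * r) * b) := by group
      _ = _ := by rw [← this]; group
  · rw [hs.zpow, show (2 * l + 1) * r = r + m * l by rw [hr]; ring]
    exact alt r l
  · rw [hs.out, show (2 * l + 1) * i + 2 * j = i + m * e by linarith, mul_assoc, h.z_comm h.b_mem,
      ← mul_assoc]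
    exact (alt i e).imp (fun k => by rw [k]) fun k => by rw [k]

namespace BP

variable (h : BP P D E z m n a b c d)
include h

theorem act1_mul {k j : ℤ} (hx : QAct a b x k j) (hy : y ∈ E) : QAct a b (x * y) k j := by
  simpa using hx.mul (qact_of_comm (h.comm _ h.q1.a_mem _ hy).symm (h.comm _ h.q1.b_mem _ hy).symm)

theorem act1_of_mem (hu : u ∈ D ⊔ E) : ∃ j, QAct a b u 1 (2 * j) ∨ QAct a b u (-1) (2 * j) := by
  obtain ⟨x, hx, y, hy, rfl⟩ := h.memY.1 hu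
  obtain ⟨j, e⟩ := h.q1.act_of_mem hx
  exact ⟨j, e.imp (h.act1_mul · hy) (h.act1_mul · hy)⟩

theorem sq_exp {k j : ℤ} (hx : QAct a b x k j) (xx : x * x ∈ D ⊔ E) : (2 * m : ℤ) ∣ k * k - 1 := by
  obtain ⟨i, e | e⟩ := h.act1_of_mem xx
  · exact (h.q1.act_uniq (hx.mul hx) e).1
  · obtain ⟨t, ht⟩ := (h.q1.act_uniq (hx.mul hx) e).1
    obtain ⟨l, rfl⟩ := h.q1.act_odd hx
    obtain ⟨r, hr⟩ := h.q1.half
    rw [hr] at ht
    have : 4 * (r * t - l * l - l) = 2 := by linear_combination -ht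
    omega

/-- the normal form on both sides -/
theorem nf (sP : s ∈ P) {k t e ε k' t' e' ε' : ℤ} (h1 : QAct a b s k (2 * t + e))
    (h2 : QAct c d s k' (2 * t' + e')) (hε : ε = 1 ∨ ε = -1) (hε' : ε' = 1 ∨ ε' = -1) :
    ∃ x ∈ P, s⁻¹ * x ∈ D ⊔ E ∧ (QAct a b x ε e ∨ 4 ≤ m ∧ QAct a b x (m + ε) e) ∧
      (QAct c d x ε' e' ∨ 4 ≤ n ∧ QAct c d x (n + ε') e') := by
  have ss := h.sq_mem sP ⟨⟨_, _, h1⟩, _, _, h2⟩
  obtain ⟨y, hy, e1⟩ := h.q1.nf h1 (h.sq_exp h1 ss) hε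
  obtain ⟨y', hy', e2⟩ := h.q2.nf h2 (h.symm.sq_exp h2 (by rwa [sup_comm])) hε'
  refine ⟨s * y * y', mul_mem (mul_mem sP (h.le1 hy)) (h.le2 hy'), ?_, ?_, ?_⟩
  · rw [mul_assoc, inv_mul_cancel_left]
    exact mul_mem (mem_sup_left hy) (mem_sup_right hy')
  · exact e1.imp (h.act1_mul · hy') fun e => ⟨e.1, h.act1_mul e.2 hy'⟩
  · rw [mul_assoc, h.comm _ hy _ hy', ← mul_assoc]
    exact e2.imp (h.symm.act1_mul · hy) fun e => ⟨e.1, h.symm.act1_mul e.2 hy⟩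

theorem cen' (sP : s ∈ P) (h1 : QAct a b s 1 0) (h2 : QAct c d s 1 0) : s = 1 ∨ s = z :=
  h.cen sP h1.comm.1 h1.comm.2 h2.comm.1 h2.comm.2

/-- the mixed type does not occur on one side only -/
theorem mixed (xP : x ∈ P) (hm : 4 ≤ m) (h1 : QAct a b x (m - 1) 1) (h2 : ∃ k j, QAct c d x k j)
    (h3 : QAct c d (x * x) 1 0) : False := by
  have xD := h.cenE (h.sq_mem xP ⟨⟨_, _, h1⟩, h2⟩) h3.comm.1 h3.comm.2
  have h4 := (h.q1.sq_mix h1).comm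
  have h5 := h.q1.eq_of_comm h.q1.two (mul_mem (inv_mem (pow_mem h.q1.a_mem _)) xD) h4.1 h4.2
  have h6 : x * a ^ (m / 2) * x⁻¹ = a ^ (m / 2) := by
    rcases h5 with e | e
    · rw [inv_mul_eq_one.1 e]; group
    · have e' : a ^ (m / 2) = x * x * z⁻¹ := by rw [← h.e1, ← e]; group
      rw [e']
      calc _ = x * x * (x * z * x⁻¹)⁻¹ := by group
        _ = _ := by rw [h.z_comm xP]; group
  rw [← zpow_natCast, h1.zpow, h.q1.zeq] at h6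
  obtain ⟨r, hr⟩ := h.q1.quarter hm
  have hr' := h.q1.half'
  obtain ⟨t, ht⟩ := h6
  rw [show ((m / 2 : ℕ) : ℤ) = 2 * r by omega, hr] at ht
  have h7 : r * (4 * (2 * r - 1 - 2 * t)) = 0 := by linear_combination ht
  rcases mul_eq_zero.1 h7 with e | e <;> omega

theorem nf_one (sP : s ∈ P) (h1 : QOd a b s) (h2 : QEv c d s) :
    ∃ x ∈ P, s⁻¹ * x ∈ D ⊔ E ∧ QAct a b x (-1) 1 ∧
      (QAct c d x 1 0 ∨ 4 ≤ n ∧ QAct c d x (1 + n) 0) ∧ (x * x = 1 ∨ x * x = z) := by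
  obtain ⟨k, j, h1⟩ := h1
  obtain ⟨k', j', h2⟩ := h2
  obtain ⟨x, xP, e, e1, e2⟩ := h.nf (e' := 0) sP h1 (by rwa [add_zero]) (.inr rfl) (.inl rfl)
  rw [add_comm (n : ℤ)] at e2
  have h3 : QAct c d (x * x) 1 0 := e2.elim h.q2.sq_one fun e => h.q2.sq_mod e.2
  have h4 : ∃ k j, QAct c d x k j := e2.elim (fun e => ⟨_, _, e⟩) fun e => ⟨_, _, e.2⟩
  have e1 := e1.resolve_right fun e => h.mixed xP e.1 e.2 h4 h3
  exact ⟨x, xP, e, e1, e2, h.cen' (mul_mem xP xP) (h.q1.sq_neg e1) h3⟩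

theorem nf_two (sP : s ∈ P) (h1 : QOd a b s) (h2 : QOd c d s) :
    ∃ x ∈ P, s⁻¹ * x ∈ D ⊔ E ∧
      (QAct a b x (-1) 1 ∧ QAct c d x (-1) 1 ∧ (x * x = 1 ∨ x * x = z) ∨
        4 ≤ m ∧ 4 ≤ n ∧ QAct a b x (m - 1) 1 ∧ QAct c d x (n - 1) 1 ∧
          (x * x = a ^ (m / 2) * c ^ (n / 2) ∨ x * x = a ^ (m / 2) * c ^ (n / 2) * z)) := by
  obtain ⟨k, j, h1⟩ := h1
  obtain ⟨k', j', h2⟩ := h2
  obtain ⟨x, xP, e, e1, e2⟩ := h.nf sP h1 h2 (.inr rfl) (.inr rfl)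
  refine ⟨x, xP, e, ?_⟩
  rcases e1 with e1 | ⟨m4, e1⟩ <;> rcases e2 with e2 | ⟨n4, e2⟩
  · exact .inl ⟨e1, e2, h.cen' (mul_mem xP xP) (h.q1.sq_neg e1) (h.q2.sq_neg e2)⟩
  · exact (h.symm.mixed xP n4 e2 ⟨_, _, e1⟩ (h.q1.sq_neg e1)).elim
  · exact (h.mixed xP m4 e1 ⟨_, _, e2⟩ (h.q2.sq_neg e2)).elim
  refine .inr ⟨m4, n4, e1, e2, ?_⟩
  have iD := inv_mem (pow_mem h.q1.a_mem (m / 2))
  have jE := inv_mem (pow_mem h.q2.a_mem (n / 2))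
  have k1 : QAct a b ((c ^ (n / 2))⁻¹ * ((a ^ (m / 2))⁻¹ * (x * x))) 1 0 := by
    simpa using (qact_of_comm (h.comm _ h.q1.a_mem _ jE).symm (h.comm _ h.q1.b_mem _ jE).symm).mul
      (h.q1.sq_mix e1)
  have k2 : QAct c d ((c ^ (n / 2))⁻¹ * ((a ^ (m / 2))⁻¹ * (x * x))) 1 0 := by
    rw [← mul_assoc, ← h.comm _ iD _ jE, mul_assoc]
    simpa using (qact_of_comm (h.comm _ iD _ h.q2.a_mem) (h.comm _ iD _ h.q2.b_mem)).mul
      (h.q2.sq_mix e2)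
  refine (h.cen' (mul_mem (h.le2 jE) (mul_mem (h.le1 iD) (mul_mem xP xP))) k1 k2).imp
    (fun k => ?_) fun k => ?_
  · rw [← mul_one (_ * c ^ (n / 2)), ← k]; group
  · rw [← k]; group

theorem sw_fix (hσ : QS D E σ) (hx : x ∈ D) (hy : y ∈ E) (e : σ * (x * y) = x * y * σ) :
    (σ * x * σ⁻¹)⁻¹ * y = 1 ∨ (σ * x * σ⁻¹)⁻¹ * y = z := by
  refine h.inf ?_ (mul_mem (inv_mem (hσ.1 x hx)) hy)
  have : (σ * x * σ⁻¹)⁻¹ * y = σ * y * σ⁻¹ * x⁻¹ := by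
    calc _ = (σ * x * σ⁻¹)⁻¹ * (y * x * σ) * σ⁻¹ * x⁻¹ := by group
      _ = _ := by rw [← h.comm x hx y hy, ← e]; group
  rw [this]
  exact mul_mem (hσ.2 y hy) (inv_mem hx)

theorem nf_sw (sP : s ∈ P) (hs : QS D E s) (ss : s * s ∈ D ⊔ E) :
    ∃ x ∈ P, s⁻¹ * x ∈ D ⊔ E ∧ (x * x = 1 ∨ x * x = z) := by
  obtain ⟨x, hx, y, hy, e⟩ := h.memY.1 ss
  refine ⟨s * x⁻¹, mul_mem sP (inv_mem (h.le1 hx)), ?_, ?_⟩
  · rw [inv_mul_cancel_left]; exact mem_sup_left (inv_mem hx)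
  · have : s * x⁻¹ * (s * x⁻¹) = (s * x * s⁻¹)⁻¹ * y := by
      calc _ = (s * x * s⁻¹)⁻¹ * (s * s) * x⁻¹ := by group
        _ = _ := by rw [e, h.comm x hx y hy]; group
    rw [this]
    exact h.sw_fix hs hx hy (by rw [← e]; group)

theorem cen_a (hu : u ∈ D ⊔ E) (ha : u * a = a * u) (hc : u * c = c * u) :
    ∃ i l : ℤ, u = a ^ i * c ^ l := by
  obtain ⟨x, hx, y, hy, rfl⟩ := h.memY.1 hu
  have key : ∀ {D : Subgroup G} {m : ℕ} {a b x : G}, Q2 D m a b → x ∈ D → x * a = a * x →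
      ∃ i : ℤ, x = a ^ i := fun {D m a b x} q hx e => by
    obtain ⟨i, rfl | rfl⟩ := (q.mem x).1 hx
    · exact ⟨i, rfl⟩
    · refine absurd (mul_left_cancel (a := a ^ i) ?_) (q.not_comm q.two)
      rw [← mul_assoc, e]; group
  obtain ⟨i, hi⟩ := key h.q1 hx (mul_right_cancel (b := y) (by
    rw [mul_assoc, h.comm _ h.q1.a_mem y hy, ← mul_assoc, ha, mul_assoc]))
  obtain ⟨l, hl⟩ := key h.q2 hy (mul_left_cancel (a := x) (by
    rw [← mul_assoc, hc, ← mul_assoc, ← mul_assoc, h.comm x hx _ h.q2.a_mem]))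
  exact ⟨i, l, by rw [hi, hl]⟩

/-- the elements of a coset that invert `a` and `c` have the same square -/
theorem dd_sq (ua : u * a * u⁻¹ = a⁻¹) (uc : u * c * u⁻¹ = c⁻¹) (va : v * a * v⁻¹ = a⁻¹)
    (vc : v * c * v⁻¹ = c⁻¹) (e : u⁻¹ * v ∈ D ⊔ E) : v * v = u * u := by
  have c1 : ∀ {x : G}, u * x * u⁻¹ = x⁻¹ → v * x * v⁻¹ = x⁻¹ → u⁻¹ * v * x = x * (u⁻¹ * v) :=
    fun {x} e1 e2 => by
      calc _ = u⁻¹ * (v * x * v⁻¹) * v := by group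
        _ = u⁻¹ * (u * x * u⁻¹) * v := by rw [e1, e2]
        _ = _ := by group
  obtain ⟨i, l, k⟩ := h.cen_a e (c1 ua va) (c1 uc vc)
  have k1 : u * (u⁻¹ * v) * u⁻¹ = (u⁻¹ * v)⁻¹ := by
    rw [k, ← conj_mul, ← conj_zpow, ← conj_zpow, ua, uc, inv_zpow, inv_zpow, ← mul_inv_rev,
      h.comm _ (zpow_mem h.q1.a_mem i) _ (zpow_mem h.q2.a_mem l)]
  calc _ = v * (u * (u⁻¹ * v) * u⁻¹) * u := by group
    _ = _ := by rw [k1]; group

theorem qs_z (hσ : QS D E σ) : σ * z * σ⁻¹ = z :=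
  (h.inf (hσ.2 _ h.zE) (hσ.1 _ h.zD)).resolve_left fun e => h.z_ne (by simpa using e)

/-- the central squares in a coset of swaps agree -/
theorem sw_sq (hσ : QS D E σ) (e : σ⁻¹ * τ ∈ D ⊔ E) (σσ : σ * σ = 1 ∨ σ * σ = z)
    (ττ : τ * τ = 1 ∨ τ * τ = z) : τ * τ = σ * σ := by
  obtain ⟨x, hx, y, hy, e⟩ := h.memY.1 e
  obtain rfl : τ = σ * (x * y) := by rw [← e]; group
  have mD : ∀ {u : G}, u = 1 ∨ u = z → u ∈ D := by
    rintro _ (rfl | rfl)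
    exacts [one_mem _, h.zD]
  have mE : ∀ {u : G}, u = 1 ∨ u = z → u ∈ E := by
    rintro _ (rfl | rfl)
    exacts [one_mem _, h.zE]
  have x' := hσ.1 x hx
  have y' := hσ.2 y hy
  have k1 : σ * (x * y) * (σ * (x * y)) = σ * y * σ⁻¹ * x * (σ * x * σ⁻¹ * y) * (σ * σ) := by
    calc _ = σ * x * σ⁻¹ * (σ * y * σ⁻¹) * (σ * σ * x) * y := by group
      _ = σ * x * σ⁻¹ * (σ * y * σ⁻¹ * x) * (σ * σ * y) := by rw [← h.comm x hx _ (mE σσ)]; group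
      _ = _ := by rw [h.comm _ (mD σσ) y hy, ← h.comm _ (mul_mem y' hx) _ x']; group
  have k2 : σ * y * σ⁻¹ * x = 1 ∨ σ * y * σ⁻¹ * x = z := by
    refine h.inf (mul_mem y' hx) ?_
    have := mul_mem (mul_mem (mE ττ) (inv_mem (mE σσ))) (inv_mem (mul_mem x' hy))
    rwa [k1, mul_inv_cancel_right, mul_inv_cancel_right] at this
  have k3 : σ * x * σ⁻¹ * y = y⁻¹ * (σ * (σ * y * σ⁻¹ * x) * σ⁻¹) * y := by
    calc _ = y⁻¹ * (y * (σ * σ)) * σ⁻¹ * x * σ⁻¹ * y := by group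
      _ = _ := by rw [← h.comm _ (mD σσ) y hy]; group
  rw [k1, k3]
  rcases k2 with k | k <;> rw [k]
  · group
  · rw [h.qs_z hσ, mul_assoc y⁻¹, h.comm _ h.zD y hy, inv_mul_cancel_left, h.zz, one_mul]

/-- a coset of mixed type contains no involution -/
theorem no_inv (hm : 4 ≤ m) {j : ℤ} (hx : QAct a b x (m - 1) (2 * j + 1)) (e : x⁻¹ * v ∈ D ⊔ E) :
    v * v ≠ 1 := by
  intro vv
  obtain ⟨i, k⟩ := h.act1_of_mem e
  have h1 := h.q1.inv_od vv (by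
    simpa using h.q1.od_mul_ev ⟨_, _, hx⟩ (h.ev1_of_mem e))
  rw [← zpow_neg_one a] at h1
  rcases k with k | k
  · have := (hx.mul k).1
    rw [mul_inv_cancel_left, h1, h.q1.zeq] at this
    have := Int.le_of_dvd (by omega) ((dvd_neg.2 this).trans (dvd_of_eq (show _ = (m : ℤ) by ring)))
    omega
  · have := (hx.mul k).1
    rw [mul_inv_cancel_left, h1, h.q1.zeq] at this
    have := Int.le_of_dvd (by omega) (this.trans (dvd_of_eq (show _ = (m : ℤ) - 2 by ring)))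
    omega

/-- the involutions in a coset of swaps -/
theorem sw_inv (hσ : QS D E σ) (σσ : σ * σ = 1) (hy : y ∈ D ⊔ E) (e : σ * y = y * σ) :
    ∃ x ∈ D, y = x * (σ * x * σ⁻¹) ∨ y = x * (σ * x * σ⁻¹) * z := by
  obtain ⟨x, hx, y, hy', rfl⟩ := h.memY.1 hy
  refine ⟨x, hx, (h.sw_fix hσ hx hy' e).imp (fun k => ?_) fun k => ?_⟩
  · rw [inv_mul_eq_one.1 k]
  · rw [← k]; group

theorem sw_b (sP : s ∈ P) (hs : QS D E s) : ∃ i : ℤ, s * b * s⁻¹ = c ^ i * d := by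
  obtain ⟨k, hk⟩ := mem_zpowers_iff.1 (h.sw1 s sP hs)
  obtain ⟨i, e | e⟩ := (h.q2.mem _).1 (hs.1 b h.q1.b_mem)
  · refine absurd ((MulAut.conj s).injective ?_) (h.q1.not_comm h.q1.two)
    simp only [map_mul, MulAut.conj_apply, e, ← hk]
    group
  · exact ⟨i, e⟩

theorem par_ex (sP : s ∈ P) : ∃ r l : ℤ, s * (b * d) * s⁻¹ = a ^ r * c ^ l * (b * d) := by
  rw [← conj_mul]
  rcases h.cases s sP with ⟨⟨_, j, h1⟩, _, j', h2⟩ | hs
  · refine ⟨j, j', ?_⟩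
    rw [h1.2, h2.2, mul_assoc, ← mul_assoc b, h.comm _ h.q1.b_mem _ (zpow_mem h.q2.a_mem j')]
    group
  · obtain ⟨i, h1⟩ := h.sw_b sP hs
    obtain ⟨j, h2⟩ := h.symm.sw_b sP hs.symm
    refine ⟨j, i, ?_⟩
    rw [h1, h2, ← h.comm _ (mul_mem (zpow_mem h.q1.a_mem j) h.q1.b_mem) _
      (mul_mem (zpow_mem h.q2.a_mem i) h.q2.b_mem), mul_assoc, ← mul_assoc b,
      h.comm _ h.q1.b_mem _ (zpow_mem h.q2.a_mem i)]
    group

theorem par_uniq {r l r' l' : ℤ} (e : a ^ r * c ^ l = a ^ r' * c ^ l') :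
    Even (r + l) ↔ Even (r' + l') := by
  have key : ∀ {D : Subgroup G} {m : ℕ} {a b : G} {i : ℤ}, Q2 D m a b → a ^ i = 1 ∨ a ^ i = a ^ m →
      ∃ t, i = 2 * t := fun {D m a b i} q e => by
    obtain ⟨r, hr⟩ := q.half
    rw [← zpow_natCast, q.ze, q.zeq, hr] at e
    rcases e with ⟨t, e⟩ | ⟨t, e⟩
    exacts [⟨2 * r * t, by linarith⟩, ⟨2 * r * t + r, by linarith⟩]
  have e1 : a ^ (-r' + r) = c ^ (l' - l) := by
    calc _ = a ^ (-r') * (a ^ r * c ^ l) * c ^ (-l) := by group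
      _ = _ := by rw [e]; group
  have e2 := h.inf (zpow_mem h.q1.a_mem (-r' + r)) (e1 ▸ zpow_mem h.q2.a_mem _)
  obtain ⟨t, ht⟩ := key h.q1 (h.e1 ▸ e2)
  obtain ⟨t', ht'⟩ := key h.q2 (h.e2 ▸ e1 ▸ e2)
  simp only [Int.even_iff]
  omega

theorem par_conj (sP : s ∈ P) (r l : ℤ) : ∃ r' l' : ℤ,
    s * (a ^ r * c ^ l) * s⁻¹ = a ^ r' * c ^ l' ∧ (Even (r' + l') ↔ Even (r + l)) := by
  rw [← conj_mul]
  rcases h.cases s sP with ⟨⟨k, _, h1⟩, k', _, h2⟩ | hs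
  · refine ⟨_, _, by rw [h1.zpow, h2.zpow], ?_⟩
    obtain ⟨t, rfl⟩ := h.q1.act_odd h1
    obtain ⟨t', rfl⟩ := h.q2.act_odd h2
    rw [show (2 * t + 1) * r + (2 * t' + 1) * l = r + l + 2 * (t * r + t' * l) by ring, Int.even_add]
    simp
  · obtain ⟨k, h1⟩ := mem_zpowers_iff.1 (h.sw1 s sP hs)
    obtain ⟨k', h2⟩ := mem_zpowers_iff.1 (h.sw2 s sP hs)
    obtain ⟨⟨k'', _, h3⟩, -⟩ := h.qn_sq sP
    obtain ⟨t, rfl⟩ := h.q1.act_odd h3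
    have h4 : a ^ (k' * k) = a ^ (2 * t + 1) := by
      rw [← h3.1, zpow_mul, h2, conj_zpow, h1]; group
    obtain ⟨t', h5⟩ := h.q1.zeq.1 h4
    have h6 : Odd (k' * k) := ⟨t + m * t', by linarith⟩
    obtain ⟨⟨p, rfl⟩, q, rfl⟩ := Int.odd_mul.1 h6
    refine ⟨(2 * p + 1) * l, (2 * q + 1) * r, ?_, ?_⟩
    · rw [← conj_zpow, ← conj_zpow, ← h1, ← h2, ← zpow_mul, ← zpow_mul,
        h.comm _ (zpow_mem h.q1.a_mem _) _ (zpow_mem h.q2.a_mem _)]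
    · rw [show (2 * p + 1) * l + (2 * q + 1) * r = r + l + 2 * (p * l + q * r) by ring, Int.even_add]
      simp

/-- a subgroup of index at most two that avoids the one-sided elements -/
theorem exists_par : ∃ M : Subgroup G, (∀ s ∈ P, ∀ t ∈ P, s * t ∈ M ↔ (s ∈ M ↔ t ∈ M)) ∧
    ∀ s ∈ P, QN a b c d s → (s ∈ M ↔ (QOd a b s ↔ QOd c d s)) := by
  obtain ⟨F, hF⟩ : ∃ F : G → Prop, ∀ s, F s ↔
      ∃ r l : ℤ, s * (b * d) * s⁻¹ = a ^ r * c ^ l * (b * d) ∧ Even (r + l) := ⟨_, fun _ => Iff.rfl⟩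
  have ev : ∀ {s : G} {r l : ℤ}, s * (b * d) * s⁻¹ = a ^ r * c ^ l * (b * d) → (F s ↔ Even (r + l)) :=
    fun {s r l} e => (hF s).trans ⟨fun ⟨r', l', e', k⟩ =>
      (h.par_uniq (mul_right_cancel (e'.symm.trans e))).1 k, fun k => ⟨r, l, e, k⟩⟩
  have key : ∀ s ∈ P, ∀ t ∈ P, F (s * t) ↔ (F s ↔ F t) := fun s sP t tP => by
    obtain ⟨r, l, e⟩ := h.par_ex sP
    obtain ⟨r', l', e'⟩ := h.par_ex tP
    obtain ⟨r'', l'', e'', k⟩ := h.par_conj sP r' l'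
    have e3 : s * t * (b * d) * (s * t)⁻¹ = a ^ (r'' + r) * c ^ (l'' + l) * (b * d) := by
      calc _ = s * (t * (b * d) * t⁻¹) * s⁻¹ := by group
        _ = s * (a ^ r' * c ^ l') * s⁻¹ * (s * (b * d) * s⁻¹) := by rw [e']; group
        _ = a ^ r'' * (c ^ l'' * a ^ r) * c ^ l * (b * d) := by rw [e, e'']; group
        _ = _ := by rw [← h.comm _ (zpow_mem h.q1.a_mem r) _ (zpow_mem h.q2.a_mem l'')]; group
    rw [ev e3, ev e, ev e', ← k]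
    simp only [Int.even_iff]
    omega
  have F1 : F 1 := (ev (r := 0) (l := 0) (by simp)).2 (by simp)
  refine ⟨⟨⟨⟨{s | s ∈ P ∧ F s}, fun {s t} hs ht => ⟨mul_mem hs.1 ht.1,
    (key s hs.1 t ht.1).2 (iff_of_true hs.2 ht.2)⟩⟩, one_mem P, F1⟩, fun {s} hs => ⟨inv_mem hs.1,
    ((key s hs.1 _ (inv_mem hs.1)).1 (by rwa [mul_inv_cancel])).1 hs.2⟩⟩, fun s sP t tP => ?_,
    fun s sP ⟨⟨k, j, h1⟩, k', j', h2⟩ => ?_⟩
  · change s * t ∈ P ∧ F _ ↔ (s ∈ P ∧ F s ↔ t ∈ P ∧ F t)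
    rw [and_iff_right (mul_mem sP tP), and_iff_right sP, and_iff_right tP, key s sP t tP]
  · change s ∈ P ∧ F s ↔ _
    have e : s * (b * d) * s⁻¹ = a ^ j * c ^ j' * (b * d) := by
      rw [← conj_mul, h1.2, h2.2, mul_assoc, ← mul_assoc b,
        h.comm _ h.q1.b_mem _ (zpow_mem h.q2.a_mem j')]
      group
    have od : ∀ {D : Subgroup G} {m : ℕ} {a b : G} {k j : ℤ}, Q2 D m a b → QAct a b s k j →
        (QOd a b s ↔ ¬ Even j) := fun {D m a b k j} q e => by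
      rcases Int.even_or_odd' j with ⟨i, rfl | rfl⟩
      · exact iff_of_false (q.not_ev_od ⟨k, i, e⟩) (by simp)
      · exact iff_of_true ⟨k, i, e⟩ (by simp)
    rw [and_iff_right sP, ev e, od h.q1 h1, od h.q2 h2, Int.even_add, not_iff_not]

end BP

end CfsgLib.GHE
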