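import Mathlib
import Cfsg.Agent.Lib.GHM.Tools
import Cfsg.Agent.Lib.GHA.Defs
import Cfsg.Agent.Lib.GHA.Mat
import Cfsg.Agent.Lib.Unitary.Center

/-! Package BOX3: wreath products, and a section of order 32 in `L₅(q)`, `U₅(q)`. -/

set_option autoImplicit false

namespace CfsgLib.GHE

open Subgroup Cfsg CfsgLib.Tech CfsgLib.Sect Matrix
open scoped MatrixGroups

/-- `(H × H^g) ⟨g⟩` is the wreath product -/
theorem exists_wreath {G : Type*} [Group G] {H : Subgroup G} {g : G}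
    (comm : ∀ x ∈ H, ∀ y ∈ cj g H, x * y = y * x) (inf : H ⊓ cj g H = ⊥) (gg : g * g ∈ H ⊔ cj g H) :
    ∃ (ρ : H × H →* G) (t : G), Function.Injective ρ ∧ t * t = 1 ∧
      (∀ x y, t * ρ (x, y) * t⁻¹ = ρ (y, x)) ∧ GHA.Sw ρ t = H ⊔ cj g H ⊔ zpowers g ∧
      (H ≠ ⊥ → t ∉ ρ.range) := by
  obtain ⟨a, ha, b, hb, e⟩ := (mem_sup_of_comm comm).1 gg
  have one : ∀ {x : G}, x ∈ H → x ∈ cj g H → x = 1 := fun h1 h2 => mem_bot.1 (inf ▸ ⟨h1, h2⟩)
  have c1 : ∀ {x : G}, x ∈ H → g * x * g⁻¹ ∈ cj g H := fun h => conj_mem_cj.2 h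
  have c2 : ∀ {x : G}, x ∈ H → g * (g * x * g⁻¹) * g⁻¹ = a * x * a⁻¹ := fun {x} h => by
    calc _ = g * g * x * (g * g)⁻¹ := by group
      _ = a * (b * x) * b⁻¹ * a⁻¹ := by rw [e]; group
      _ = _ := by rw [← comm x h b hb]; group
  have b1 : g * b * g⁻¹ ∈ H := by
    have := c2 (mem_cj.1 hb)
    rw [show g * (g⁻¹ * b * g) * g⁻¹ = b by group] at this
    exact this ▸ mul_mem (mul_mem ha (mem_cj.1 hb)) (inv_mem ha)
  have eb : g * a * g⁻¹ = b := by
    have h1 : g * a * g⁻¹ * (g * b * g⁻¹) = a * b := by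
      calc _ = g * (a * b) * g⁻¹ := by group
        _ = _ := by rw [← e]; group
    have h2 : g * b * g⁻¹ * a⁻¹ = (g * a * g⁻¹)⁻¹ * b := by
      rw [eq_inv_mul_iff_mul_eq, ← mul_assoc, h1, comm a ha b hb, mul_inv_cancel_right]
    exact inv_mul_eq_one.1 (one (h2 ▸ mul_mem b1 (inv_mem ha)) (mul_mem (inv_mem (c1 ha)) hb))
  have tt : a⁻¹ * g * (a⁻¹ * g) = 1 := by
    calc _ = a⁻¹ * (g * a * g⁻¹)⁻¹ * (g * g) := by group
      _ = 1 := by rw [eb, e, comm a ha b hb]; group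
  have c3 : ∀ {x : G}, x ∈ H → a⁻¹ * g * x * (a⁻¹ * g)⁻¹ = g * x * g⁻¹ := fun {x} h => by
    calc _ = a⁻¹ * (g * x * g⁻¹ * a) := by group
      _ = _ := by rw [← comm a ha _ (c1 h)]; group
  let ρ : H × H →* G := H.subtype.noncommCoprod ((MulAut.conj g).toMonoidHom.comp H.subtype)
    fun x y => comm _ x.2 _ (c1 y.2)
  have hρ : ∀ x y : H, ρ (x, y) = x * (g * y * g⁻¹) := fun _ _ => rfl
  have hr : ρ.range = H ⊔ cj g H := by
    rw [(MonoidHom.noncommCoprod_range ..: ρ.range = _), range_subtype, MonoidHom.range_comp, range_subtype]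
  refine ⟨ρ, a⁻¹ * g, (injective_iff_map_eq_one ρ).2 fun ⟨x, y⟩ h => ?_, tt, fun x y => ?_, ?_,
    fun h0 h => h0 ?_⟩
  · rw [hρ, mul_eq_one_iff_eq_inv] at h
    have h1 := one x.2 (h ▸ inv_mem (c1 y.2))
    rw [h1, eq_comm, inv_eq_one, mul_inv_eq_one, mul_eq_left] at h
    exact Prod.ext (Subtype.ext h1) (Subtype.ext h)
  · rw [hρ, hρ, comm _ y.2 _ (c1 x.2), ← c3 x.2, ← c3 y.2]
    calc _ = a⁻¹ * g * x * (a⁻¹ * g)⁻¹ * (a⁻¹ * g * (a⁻¹ * g)) * y * (a⁻¹ * g * (a⁻¹ * g))⁻¹ := by group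
      _ = _ := by rw [tt]; group
  · rw [GHA.Sw, hr]
    have aH : a ∈ H ⊔ cj g H := mem_sup_left ha
    refine le_antisymm (sup_le le_sup_left (zpowers_le.2 (mul_mem (inv_mem (mem_sup_left aH))
      (mem_sup_right (mem_zpowers g))))) (sup_le le_sup_left (zpowers_le.2 ?_))
    simpa using mul_mem (mem_sup_left aH : a ∈ H ⊔ cj g H ⊔ zpowers (a⁻¹ * g))
      (mem_sup_right (mem_zpowers (a⁻¹ * g)))
  · rw [hr] at h
    obtain ⟨p, hp, q, hq, e1⟩ := (mem_sup_of_comm comm).1 h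
    refine eq_bot_iff.2 fun x hx => ?_
    have h1 : g * x * g⁻¹ = p * x * p⁻¹ := by
      calc _ = p * (q * x) * q⁻¹ * p⁻¹ := by rw [← c3 hx, e1]; group
        _ = _ := by rw [← comm x hx q hq]; group
    simpa using one (h1 ▸ mul_mem (mul_mem hp hx) (inv_mem hp)) (c1 hx)

namespace B3

/-- the relations of `(Z₄ ∘ D₈) × D₈` -/
def rels : List (List (Fin 5) × List (Fin 5)) :=
  [([1, 1], []), ([2, 2], []), ([3, 3], []), ([4, 4], []), ([0, 1], [1, 0]), ([0, 2], [2, 0]),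
    ([0, 3], [3, 0]), ([0, 4], [4, 0]), ([1, 3], [3, 1]), ([1, 4], [4, 1]), ([2, 3], [3, 2]),
    ([2, 4], [4, 2]), ([2, 1, 2, 1], [0, 0]), ([0, 0, 0, 0], []), ([4, 3, 4, 3], [3, 4, 3, 4])]

def Rl {X : Type*} [Monoid X] (e : Fin 5 → X) : Prop := ∀ p ∈ rels, (p.1.map e).prod = (p.2.map e).prod

theorem Rl.map {X Y : Type*} [Monoid X] [Monoid Y] {e : Fin 5 → X} (h : Rl e) (f : X →* Y) : Rl (f ∘ e) :=
  fun p hp => by rw [← List.map_map, ← List.map_map, ← map_list_prod, ← map_list_prod, h p hp]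

theorem Rl.of_map {X Y : Type*} [Monoid X] [Monoid Y] {e : Fin 5 → X} {f : X →* Y}
    (hf : Function.Injective f) (h : Rl (f ∘ e)) : Rl e :=
  fun p hp => hf (by rw [map_list_prod, map_list_prod, List.map_map, List.map_map, h p hp])

/-- the elements commuting with `x` modulo the central subgroup `K` -/
def cm {X : Type*} [Group X] (K : Subgroup X) (x : X) : Subgroup X where
  carrier := {a | a ∈ centralizer (K : Set X) ∧ x * a * x⁻¹ * a⁻¹ ∈ K}
  one_mem' := ⟨one_mem _, by simp⟩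
  mul_mem' := fun {a b} ha hb => ⟨mul_mem ha.1 hb.1, by
    have := mul_mem ha.2 hb.2
    rw [← mul_inv_cancel_right (x * b * x⁻¹ * b⁻¹) a, ha.1 _ hb.2] at this
    convert this using 1; group⟩
  inv_mem' := fun {a} ha => ⟨inv_mem ha.1, by
    have h1 := inv_mem ha.2
    have h2 := h1
    rw [← inv_mul_cancel_left a (x * a * x⁻¹ * a⁻¹)⁻¹, ← ha.1 _ h1] at h2
    convert h2 using 1; group⟩

theorem Rl.not_sr {X : Type*} [Group X] [Finite X] {e : Fin 5 → X} (h : Rl e) (h1 : e 0 * e 0 ≠ 1)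
    (h2 : e 4 * e 3 * e 4 * e 3 ≠ 1) : ¬ SR 16 (⊤ : Subgroup X) := fun sr => by
  simp only [Rl, rels, List.forall_mem_cons, List.map_cons, List.map_nil, List.prod_cons, List.prod_nil,
    mul_one, ← mul_assoc] at h
  generalize e 0 = c, e 1 = x, e 2 = y, e 3 = u, e 4 = v at h h1 h2
  obtain ⟨xx, yy, uu, vv, cx, cy, cu, cv, xu, xv, yu, yv, yx, c4, vu, -⟩ := h
  have i : ∀ {a : X}, a * a = 1 → a⁻¹ = a := inv_eq_of_mul_eq_one_right
  have zz : v * u * v * u * (v * u * v * u) = 1 := by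
    nth_rw 1 [vu]
    calc _ = u * (v * (u * (v * v) * u) * v) * u := by group
      _ = 1 := by rw [vv, mul_one, uu, mul_one, vv, mul_one, uu]
  have zu : Commute (v * u * v * u) u := by
    show _ * u = u * _
    nth_rw 2 [vu]
    calc _ = v * u * v * (u * u) := by group
      _ = u * u * v * u * v := by rw [uu]; group
      _ = _ := by group
  have zv : Commute (v * u * v * u) v := by
    show _ * v = v * _
    nth_rw 2 [vu]
    group
  have cz : ∀ {a : X}, a * u = u * a → a * v = v * a → Commute (v * u * v * u) a := fun p q =>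
    (((Commute.symm q).mul_left (Commute.symm p)).mul_left (Commute.symm q)).mul_left (Commute.symm p)
  have cc : ∀ {a : X}, c * a = a * c → Commute (c * c) a := fun p => Commute.mul_left p p
  generalize hz : v * u * v * u = z at *
  have c4' : c * c * (c * c) = 1 := by rw [← mul_assoc, c4]
  set K := zpowers (c * c) ⊔ zpowers z
  have k1 : c * c ∈ K := mem_sup_left (mem_zpowers _)
  have k2 : z ∈ K := mem_sup_right (mem_zpowers _)
  have hK : ∀ {a : X}, Commute (c * c) a → Commute z a → K ≤ centralizer {a} := fun p q =>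
    sup_le (zpowers_le.2 (mem_cent.2 p)) (zpowers_le.2 (mem_cent.2 q))
  have hK' : ∀ {a : X}, K ≤ centralizer {a} → a ∈ centralizer (K : Set X) := fun p _ hk => mem_cent.1 (p hk)
  have Kc := hK (cc rfl) (cz cu cv)
  have Kx := hK (cc cx) (cz xu xv)
  have Ky := hK (cc cy) (cz yu yv)
  have Ku := hK (cc cu) zu
  have Kv := hK (cc cv) zv
  have KK : K ≤ centralizer (K : Set X) := sup_le (zpowers_le.2 (hK' (hK rfl (cz (cc cu) (cc cv)))))
    (zpowers_le.2 (hK' (hK (cz (cc cu) (cc cv)).symm rfl)))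
  have b : ∀ {a : X}, K ≤ centralizer {a} → K ≤ cm K a := fun p k hk =>
    ⟨KK hk, by rw [← mem_cent.1 (p hk)]; simp⟩
  have s : ∀ {a d : X}, K ≤ centralizer {d} → a * d = d * a → zpowers d ≤ cm K a := fun p q =>
    zpowers_le.2 ⟨hK' p, by rw [q]; simp⟩
  have n : ∀ {a d : X}, a * d = d * a → zpowers a ≤ centralizer {d} := fun q => zpowers_le.2 (mem_cent.2 q)
  have nx : y * x ≠ x * y := fun q => h1 (by rw [← yx, q, mul_assoc x, yy, mul_one, xx])
  have nu : v * u ≠ u * v := fun q => h2 (by rw [vu, mul_assoc u, q, ← mul_assoc, uu, one_mul, vv])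
  have e0 := (GHM.El.base (K := K)).step (x := c) (fun q => h1 (by
    obtain ⟨p, hp, r, hr, e⟩ := (mem_sup_of_comm fun p hp r hr =>
      KK (mem_sup_right hr) p (mem_sup_left hp)).1 q
    have a1 : p * p = 1 := by rcases (mem_zpowers_two c4').1 hp with rfl | rfl <;> simp [c4']
    have a2 : r * r = 1 := by rcases (mem_zpowers_two zz).1 hr with rfl | rfl <;> simp [zz]
    rw [e, mul_assoc, ← mul_assoc r, ← KK (mem_sup_right hr) p (mem_sup_left hp), mul_assoc, a2, mul_one, a1]))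
    k1 fun a ha => (b Kc ha).2
  have e1 := e0.step (x := x) (fun q => nx (mem_cent.1 (sup_le Ky (n cy) q)).symm) (xx ▸ one_mem _)
    fun a ha => (sup_le (b Kx) (s Kc cx.symm) ha).2
  have e2 := e1.step (x := u) (fun q => nu (mem_cent.1 (sup_le (sup_le Kv (n cv)) (n xv) q)).symm)
    (uu ▸ one_mem _) fun a ha => (sup_le (sup_le (b Ku) (s Kc cu.symm)) (s Kx xu.symm) ha).2
  have e3 := e2.step (x := v) (fun q => nu (mem_cent.1 (sup_le (sup_le (sup_le Ku (n cu)) (n xu)) (n rfl) q)))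
    (vv ▸ one_mem _) fun a ha => (sup_le (sup_le (sup_le (b Kv) (s Kc cv.symm)) (s Kx xv.symm))
      (zpowers_le.2 ⟨hK' Ku, by rw [i uu, i vv, hz]; exact k2⟩) ha).2
  exact (e3.step (x := y) (fun q => nx (mem_cent.1 (sup_le (sup_le (sup_le (sup_le Kx (n cx)) (n rfl))
    (n xu.symm)) (n xv.symm) q))) (yy ▸ one_mem _) fun a ha => (sup_le (sup_le (sup_le (sup_le (b Ky)
      (s Kc cy.symm)) (zpowers_le.2 ⟨hK' Kx, by rw [i xx, i yy, yx]; exact k1⟩)) (s Ku yu)) (s Kv yv) ha).2).false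
    (by norm_num) sr

/-- the five matrices -/
def M : Fin 5 → Matrix (Fin 5) (Fin 5) GaussianInt :=
  ![!![⟨0, 1⟩, 0, 0, 0, 0; 0, ⟨0, 1⟩, 0, 0, 0; 0, 0, 1, 0, 0; 0, 0, 0, 1, 0; 0, 0, 0, 0, -1],
    !![1, 0, 0, 0, 0; 0, -1, 0, 0, 0; 0, 0, 1, 0, 0; 0, 0, 0, 1, 0; 0, 0, 0, 0, -1],
    !![0, 1, 0, 0, 0; 1, 0, 0, 0, 0; 0, 0, 1, 0, 0; 0, 0, 0, 1, 0; 0, 0, 0, 0, -1],
    !![1, 0, 0, 0, 0; 0, 1, 0, 0, 0; 0, 0, 1, 0, 0; 0, 0, 0, -1, 0; 0, 0, 0, 0, -1],
    !![1, 0, 0, 0, 0; 0, 1, 0, 0, 0; 0, 0, 0, 1, 0; 0, 0, 1, 0, 0; 0, 0, 0, 0, -1]]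

theorem M_rl : Rl M := by unfold Rl; decide +kernel

theorem M_det : ∀ i, (M i).det = 1 := by decide +kernel

theorem M_unit : ∀ i, (M i)ᵀ * (M i).map (starRingEnd GaussianInt) = 1 := by decide +kernel

theorem M_val : (M 0 * M 0) 0 0 = -1 ∧ (M 0 * M 0) 2 2 = 1 ∧ (M 4 * M 3 * M 4 * M 3) 2 2 = -1 ∧
    (M 4 * M 3 * M 4 * M 3) 0 0 = 1 := by decide +kernel

variable {K : Type*} [Field K]

theorem five (h2 : (2 : K) ≠ 0) (φ : GaussianInt →+* K) {Λ : Type*} [Group Λ] [Finite Λ]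
    (κ : Λ →* Matrix (Fin 5) (Fin 5) K) (hκ : Function.Injective κ)
    (hc : ∀ g ∈ center Λ, ∃ a : K, κ g = a • 1) (he : ∀ i, ∃ g, κ g = (M i).map φ) :
    ¬ SR 16 (⊤ : Subgroup (Λ ⧸ center Λ)) := by
  choose e he using he
  have h1 : Rl e := Rl.of_map hκ (by
    convert M_rl.map φ.mapMatrix.toMonoidHom using 1
    exact funext he)
  have key : ∀ (g : Λ) (A : Matrix (Fin 5) (Fin 5) GaussianInt) (i j : Fin 5), κ g = A.map φ → A i i = -1 →
      A j j = 1 → QuotientGroup.mk' (center Λ) g ≠ 1 := fun g A i j p q r s => by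
    obtain ⟨a, ha⟩ := hc g ((QuotientGroup.eq_one_iff g).1 s)
    have a1 := congrFun₂ (p.symm.trans ha) i i
    have a2 := congrFun₂ (p.symm.trans ha) j j
    simp only [map_apply, q, r, map_neg, map_one, Matrix.smul_apply, one_apply_eq, smul_eq_mul, mul_one] at a1 a2
    exact h2 (by linear_combination a2 - a1)
  refine (h1.map (QuotientGroup.mk' _)).not_sr ?_ ?_ <;> simp only [Function.comp_apply, ← map_mul]
  · exact key _ _ 0 2 (by simp only [map_mul, he, Matrix.map_mul]) M_val.1 M_val.2.1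
  · exact key _ _ 2 0 (by simp only [map_mul, he, Matrix.map_mul]) M_val.2.2.1 M_val.2.2.2

theorem det_map (φ : GaussianInt →+* K) (i : Fin 5) : ((M i).map φ).det = 1 := by
  rw [← RingHom.mapMatrix_apply, ← RingHom.map_det, M_det, map_one]

variable [Fintype K]

theorem exists_φ (h : Fintype.card K % 4 = 1) : ∃ φ : GaussianInt →+* K, φ Zsqrtd.sqrtd ^ 2 = -1 := by
  obtain ⟨ι, hι⟩ := (FiniteField.isSquare_neg_one_iff (F := K)).2 (by omega)
  exact ⟨Zsqrtd.lift ⟨ι, by rw [← hι]; simp⟩, by rw [← map_pow, pow_two, Zsqrtd.dmuld]; simp⟩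

end B3

open B3

theorem not_sr_psl5 {K : Type*} [Field K] [Fintype K] (h : Fintype.card K % 4 = 1) :
    ¬ SR 16 (⊤ : Subgroup PSL(5, K)) := by
  obtain ⟨φ, -⟩ := exists_φ h
  refine five (GHA.two_ne_zero_of_odd (Nat.odd_iff.2 (by omega))) φ SpecialLinearGroup.coeMonoidHom
    SpecialLinearGroup.coeMonoidHom_injective (fun g hg => ?_) fun i => ⟨⟨_, det_map φ i⟩, rfl⟩
  obtain ⟨a, -, ha⟩ := Matrix.SpecialLinearGroup.mem_center_iff.1 hg
  exact ⟨a, by rw [SpecialLinearGroup.coeMonoidHom_apply, ← ha, scalar_apply, smul_one_eq_diagonal]⟩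

theorem not_sr_psu5 {K : Type*} [Field K] [Fintype K] {r : ℕ} (hK : Fintype.card K = r ^ 2)
    (h : r % 4 = 3) : ¬ SR 16 (⊤ : Subgroup (PSU 5 K r)) := by
  obtain ⟨k, rfl⟩ : ∃ k, r = 4 * k + 3 := ⟨r / 4, by omega⟩
  have h1 : Fintype.card K % 4 = 1 := by
    rw [hK, show (4 * k + 3) ^ 2 = 4 * (4 * k ^ 2 + 6 * k + 2) + 1 by ring]; omega
  obtain ⟨φ, hφ⟩ := exists_φ h1
  have hc : (Unitary.conj hK).comp φ = φ.comp (starRingEnd GaussianInt) := Zsqrtd.hom_ext _ _ (by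
    rw [RingHom.comp_apply, RingHom.comp_apply, Unitary.conj_apply,
      show starRingEnd GaussianInt Zsqrtd.sqrtd = -Zsqrtd.sqrtd by decide, map_neg, pow_add, pow_mul,
      show 4 = 2 * 2 from rfl, pow_mul, hφ, pow_succ _ 2, hφ]
    simp)
  refine five (GHA.two_ne_zero_of_odd (Nat.odd_iff.2 (by omega))) φ
    (SpecialLinearGroup.coeMonoidHom.comp (SU 5 K _).subtype)
    (SpecialLinearGroup.coeMonoidHom_injective.comp Subtype.val_injective)
    (fun g hg => (Unitary.mem_center_SU_iff hK (by norm_num)).1 hg)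
    fun i => ⟨⟨⟨_, det_map φ i⟩, (Unitary.mem_SU_iff hK _).2 ?_⟩, rfl⟩
  show ((M i).map φ)ᵀ * ((M i).map φ).map _ = 1
  rw [Matrix.map_map, ← RingHom.coe_comp, hc, RingHom.coe_comp, ← Matrix.map_map, ← transpose_map, ← Matrix.map_mul,
    M_unit, Matrix.map_one _ (map_zero φ) (map_one φ)]

end CfsgLib.GHE
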