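import Mathlib
import Cfsg.Agent.Lib.GHE.Defs
import Cfsg.Agent.Lib.GHE.Defs2
import Cfsg.Agent.Lib.GW.DS
import Cfsg.Agent.Lib.LBal.Term2
import Cfsg.Agent.Lib.Sect.Tools

/-! Block BASE, first part: layers of involution centralisers and configurations. -/

set_option autoImplicit false
set_option linter.unusedSectionVars false

namespace CfsgLib.GHE

open Subgroup Cfsg CfsgLib.W2 CfsgLib.Tech CfsgLib.Sect CfsgLib.PComp CfsgLib.DihSyl
  CfsgLib.GW.Cor
open CfsgLib.LBal hiding cj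
open scoped MatrixGroups commutatorElement

universe u

variable {G : Type u} [Group G] [Finite G]

/-! ### conjugation -/

theorem play_cj_le (g : G) (H : Subgroup G) : cj g (pLayerOf 2 H) ≤ pLayerOf 2 (cj g H) :=
  map_le_iff_le_comap.2 (pLayerOf_le_iff.2 fun _ hK =>
    map_le_iff_le_comap.1 (hK.conj g).le_pLayerOf)

theorem play_cj (g : G) (H : Subgroup G) : cj g (pLayerOf 2 H) = pLayerOf 2 (cj g H) :=
  le_antisymm (play_cj_le g H)
    (by simpa only [cj_cj_inv, cj_inv_cj] using cj_mono g (play_cj_le g⁻¹ (cj g H)))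

theorem LL_cj (g y : G) : cj g (LL y) = LL (g * y * g⁻¹) := by
  rw [LL, play_cj, cj_centralizer_singleton]

theorem MM_cj (g y : G) : cj g (MM y) = MM (g * y * g⁻¹) := by
  rw [MM, cj_inf, cj_centralizer_singleton, MM, ← LL_cj]
  exact congrArg _ (map_conj_cmod _ g)

theorem LL_le (y : G) : LL y ≤ Cx y := pLayerOf_le _

theorem MM_le (y : G) : MM y ≤ Cx y := inf_le_left

theorem LL_nrm (y : G) : Cx y ≤ normalizer (LL y : Set G) := fun g hg =>
  mem_normalizer_iff_cj.2 (by rw [LL_cj, mem_Cx'.1 hg])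

theorem MM_nrm (y : G) : Cx y ≤ normalizer (MM y : Set G) := fun g hg =>
  mem_normalizer_iff_cj.2 (by rw [MM_cj, mem_Cx'.1 hg])

theorem self_mem_MM (y : G) : y ∈ MM y :=
  ⟨mem_Cx.2 rfl, centralizer_le_cmod _ fun _ hl => mem_Cx.1 (LL_le y hl)⟩

theorem opOf_le_MM (y : G) : opOf 2 (LL y) ≤ MM y :=
  le_inf ((opOf_le _).trans (LL_le y)) (opOf_le_cmod _)

theorem LL_inf_MM (y : G) : LL y ⊓ MM y = LL y ⊓ LBal.cmod 2 (LL y) := by
  rw [MM, ← inf_assoc, inf_eq_left.2 (LL_le y)]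

theorem DS.conj {y : G} {m : ℕ} (h : DS (LL y) m) (g : G) : DS (LL (g * y * g⁻¹)) m := by
  refine ⟨h.1, fun H hH => ?_⟩
  have h1 := hH.cj g⁻¹
  rw [← LL_cj, cj_inv_cj] at h1
  obtain ⟨r, s, d⟩ := h.2 _ h1
  have h2 := GW.isDih_cj d g
  rw [cj_cj_inv] at h2
  exact ⟨_, _, h2⟩

theorem LL_conj_ne {y : G} (h : LL y ≠ ⊥) (g : G) : LL (g * y * g⁻¹) ≠ ⊥ := by
  rw [← LL_cj]; exact fun e => h (cj_eq_bot_iff.1 e)

theorem DS.two_or {L : Subgroup G} {m : ℕ} (h : DS L m) : m = 2 ∨ 4 ≤ m := by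
  obtain ⟨H, hH⟩ := exists_isSylowIn 2 L
  obtain ⟨r, s, d⟩ := h.2 H hH
  obtain ⟨k, rfl⟩ := d.exists_pow_of_isPGroup hH.pgroup
  have h2 := h.1
  rcases k with _ | _ | k
  · omega
  · exact .inl rfl
  · right
    have := Nat.one_le_two_pow (n := k)
    rw [pow_succ, pow_succ]; omega

theorem DS.of_syl {L H : Subgroup G} {m : ℕ} {r s : G} (hm : 2 ≤ m) (hH : IsSylowIn 2 H L)
    (d : IsDih H m r s) : DS L m := by
  refine ⟨hm, fun H' hH' => ?_⟩
  obtain ⟨g, -, rfl⟩ := hH.exists_cj_eq hH'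
  exact ⟨_, _, GW.isDih_cj d g⟩

/-! ### Sylow subgroups of components -/

omit [Finite G] in
theorem syl_map' {Y : Type*} [Group Y] {T H : Subgroup G} (h : IsSylowIn 2 T H) (f : G →* Y) :
    IsSylowIn 2 (T.map f) (H.map f) :=
  ⟨map_mono h.le, h.pgroup.map f, fun e => h.not_dvd (e.trans (by
    rw [← relIndex_comap]
    exact relIndex_dvd_of_le_left _ (le_comap_map f T)))⟩

theorem pqs_ncyc {K H : Subgroup G} (h : IsPQs 2 K) (hH : IsSylowIn 2 H K) : ¬ IsCyclic H := by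
  intro hc
  have h1 : IsCyclic (hH.toSylow : Subgroup K) :=
    isCyclic_of_surjective (subgroupOfEquivOfLe hH.le).symm (subgroupOfEquivOfLe hH.le).symm.surjective
  obtain ⟨P, N, hN, hc⟩ := GW.npc_of_cyclic _ h1
  have hp : Group.IsPerfect K := isPerfect_iff.2 h.perfect
  have h2 : IsPGroup 2 (K ⧸ N) := by
    obtain ⟨k, hk⟩ := P.isPGroup'.exists_card_eq
    exact IsPGroup.of_card (n := k) (by rw [← hk, ← hc.symm.index_eq_card]; rfl)
  have h3 : Subsingleton (K ⧸ N) := by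
    by_contra hn
    have := not_subsingleton_iff_nontrivial.1 hn
    exact Group.IsPerfect.not_isNilpotent (G := K ⧸ N) h2.isNilpotent
  have h4 : N.index = 1 := by
    rw [index]; exact Nat.card_eq_one_iff_unique.2 ⟨h3, inferInstance⟩
  have h5 : Nat.card P = 1 := by rw [← hc.symm.index_eq_card, h4]
  have h6 := P.not_dvd_index
  have h7 := (P : Subgroup K).card_mul_index
  rw [h5, one_mul] at h7
  exact h6 (h7 ▸ h.dvd_card)

theorem pqs_four_le_di {K H : Subgroup G} (h : IsPQs 2 K) (hH : IsSylowIn 2 H K) : 4 ≤ di H :=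
  four_le_di hH.pgroup fun _ _ e => pqs_ncyc h hH (e ▸ inferInstance)

theorem pqs_four_le_card {K H : Subgroup G} (h : IsPQs 2 K) (hH : IsSylowIn 2 H K) :
    4 ≤ Nat.card H := (pqs_four_le_di h hH).trans ((SR.of_card H).di_le le_rfl)

theorem eq_one_of_odd {A H : Subgroup G} (hA : Odd (Nat.card A)) (hH : IsPGroup 2 H) {x : G}
    (h1 : x ∈ A) (h2 : x ∈ H) : x = 1 := by
  have h3 : IsPGroup 2 (A ⊓ H : Subgroup G) := hH.to_le inf_le_right
  by_contra hx
  obtain ⟨y, hy, o⟩ := exists_involution_of_pgroup h3 (fun e => hx (by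
    have : x ∈ A ⊓ H := ⟨h1, h2⟩
    rwa [e] at this))
  exact odd_card_iff_no_involution.1 hA y hy.1 o

/-- A Sylow subgroup of a subgroup that covers `L` modulo the core is a Sylow subgroup of `L`. -/
theorem syl_of_cover {J L V : Subgroup G} (h1 : J ≤ L) (h2 : L ≤ J ⊔ opOf 2 L)
    (hV : IsSylowIn 2 V J) : IsSylowIn 2 V L :=
  hV.trans h1 fun e => by
    have h3 := relIndex_dvd_card_of_le_sup h1 h2 (h1.trans (le_normalizer_opOf L))
    exact absurd (Nat.eq_one_of_dvd_coprimes (coprime_card_opOf L) (e.trans h3) dvd_rfl) (by norm_num)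

theorem Ctx.sim (h : Ctx G) (o : ∀ (y : G) (L : Subgroup G), orderOf y = 2 → PC 2 L (Cx y) →
    Odd (Nat.card (L ⊓ LBal.cmod 2 L : Subgroup G))) : Sim G := by
  have key : ∀ y : G, orderOf y = 2 → LL y ≠ ⊥ → PC 2 (LL y) (Cx y) := by
    intro y hy ne
    obtain ⟨K, hK⟩ : ∃ K, PC 2 K (Cx y) := by
      by_contra hn
      exact ne (eq_bot_iff.2 (pLayerOf_le_iff.2 fun K hK => (hn ⟨K, hK⟩).elim))
    suffices e : LL y = K by rwa [e]
    refine le_antisymm (pLayerOf_le_iff.2 fun K' hK' => ?_) hK.le_pLayerOf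
    by_contra hle
    have hne : K ≠ K' := fun e => hle e.ge
    have c1 : K' ≤ LBal.cmod 2 K := (hK.eq_or_le_cmod hK').resolve_left hne
    have c2 : K ≤ LBal.cmod 2 K' := (hK'.eq_or_le_cmod hK).resolve_left hne.symm
    have y1 : ∀ L, PC 2 L (Cx y) → y ∈ LBal.cmod 2 L := fun L hL =>
      centralizer_le_cmod _ fun _ hl => mem_Cx.1 (hL.le hl)
    have n1 : ∀ L, PC 2 L (Cx y) → LL y ⊔ zpowers y ≤ normalizer (L : Set G) := fun L hL =>
      sup_le hL.pLayerOf_le_normalizer (zpowers_le.2 (cmod_le_normalizer _ (y1 L hL)))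
    obtain ⟨T, hT, hyT⟩ := exists_isSylowIn_ge (isPGroup_two_zpowers (mul_self_of_orderOf_two hy))
      (le_sup_right : zpowers y ≤ LL y ⊔ zpowers y)
    have s1 : ∀ L, PC 2 L (Cx y) → IsSylowIn 2 (T ⊓ L) L := fun L hL => by
      have := hT.inf_of_le_normalizer (n1 L hL)
      rwa [inf_eq_right.2 (hL.le_pLayerOf.trans le_sup_left)] at this
    have e1 : ∀ L, PC 2 L (Cx y) → ∀ x ∈ T ⊓ L, x ∈ LBal.cmod 2 L → x = 1 := fun L hL x hx hc =>
      eq_one_of_odd (o y L hy hL) hT.pgroup ⟨hx.2, hc⟩ hx.1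
    have cm : ∀ a ∈ T ⊓ K, ∀ b ∈ T ⊓ K', a * b = b * a := fun a ha b hb => by
      have h1 : ⁅b, a⁆ ∈ T ⊓ opOf 2 K :=
        ⟨T.mul_mem (T.mul_mem (T.mul_mem hb.1 ha.1) (T.inv_mem hb.1)) (T.inv_mem ha.1),
        mem_cmod.1 (c1 hb.2) a ha.2⟩
      rw [isPGroup_inf_opOf hT.pgroup] at h1
      exact (commutatorElement_eq_one_iff_mul_comm.1 h1).symm
    have i1 : ∀ x ∈ T ⊓ K, x ∈ T ⊓ K' → x = 1 := fun x hx hx' => e1 K hK x hx (c1 hx'.2)
    have d1 := di_mul_le cm (fun x hx hx' => by rw [i1 x hx hx']; exact one_mem _)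
      (fun x hx hx' => by rw [i1 x hx hx']; exact one_mem _)
    have d2 := two_mul_di_le (A := T ⊓ K ⊔ T ⊓ K') (x := y)
      (fun a ha => mem_Cx.1 (sup_le (inf_le_right.trans hK.le) (inf_le_right.trans hK'.le) ha))
      (fun hm => by
        obtain ⟨a, ha, b, hb, e⟩ := (mem_sup_of_comm cm).1 hm
        have a1 : a = 1 := e1 K hK a ha (by
          rw [eq_mul_inv_of_mul_eq e.symm]; exact mul_mem (y1 K hK) (inv_mem (c1 hb.2)))
        have b1 : b = 1 := e1 K' hK' b hb (by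
          rw [eq_inv_mul_of_mul_eq e.symm]; exact mul_mem (inv_mem (c2 ha.2)) (y1 K' hK'))
        rw [a1, b1, one_mul] at e
        exact ne_one_of_orderOf_two hy e)
      (by rw [mul_self_of_orderOf_two hy]; exact one_mem _)
    have d3 := h.sr.di_le (le_top : T ⊓ K ⊔ T ⊓ K' ⊔ zpowers y ≤ ⊤)
    have d4 := Nat.mul_le_mul (pqs_four_le_di hK.pqs (s1 K hK)) (pqs_four_le_di hK'.pqs (s1 K' hK'))
    omega
  refine ⟨h, key, fun y hy => ?_⟩
  by_cases ne : LL y = ⊥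
  · rw [ne, bot_inf_eq, card_bot]; exact odd_one
  · rw [LL_inf_MM]; exact o y _ hy (key y hy ne)

theorem Sim.inf_eq (h : Sim G) {y : G} (hy : orderOf y = 2) : LL y ⊓ MM y = opOf 2 (LL y) :=
  le_antisymm (le_opOf inf_le_left
    (le_normalizer_inf le_normalizer ((LL_le y).trans (MM_nrm y)))
    (Nat.coprime_two_right.2 (h.odd y hy))) (le_inf (opOf_le _) (opOf_le_MM y))

theorem Sim.eq_one (h : Sim G) {y : G} (hy : orderOf y = 2) {H : Subgroup G} (hH : IsPGroup 2 H)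
    {x : G} (h1 : x ∈ H) (h2 : x ∈ LL y) (h3 : x ∈ MM y) : x = 1 :=
  eq_one_of_odd (h.odd y hy) hH ⟨h2, h3⟩ h1

theorem Sim.notMem (h : Sim G) {y r : G} (hy : orderOf y = 2) (hr : r ∈ MM y)
    (o : orderOf r = 2) : r ∉ LL y := fun hl =>
  odd_card_iff_no_involution.1 (h.odd y hy) r ⟨hl, hr⟩ o

theorem Sim.self_notMem (h : Sim G) {y : G} (hy : orderOf y = 2) : y ∉ LL y :=
  h.notMem hy (self_mem_MM y) hy

theorem Sim.sr8 (h : Sim G) {y : G} (hy : orderOf y = 2) : SR 8 (LL y) := by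
  refine sr_of_di fun H hH => ?_
  have d2 := two_mul_di_le (A := H) (x := y) (fun a ha => mem_Cx.1 (LL_le y (hH ha)))
    (fun hm => h.self_notMem hy (hH hm)) (by rw [mul_self_of_orderOf_two hy]; exact one_mem _)
  have d3 := h.sr.di_le (le_top : H ⊔ zpowers y ≤ ⊤)
  omega

variable {I : Set G} {K₀ : Type u} [Group K₀] [Finite K₀]

theorem Sys.ker_eq (h : Sys I K₀) {y : G} (hy : y ∈ I) {κ : LL y →* K₀}
    (k : ∀ l, κ l = 1 ↔ (l : G) ∈ MM y) : κ.ker = pPrimeCore 2 (LL y) := by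
  ext l
  rw [MonoidHom.mem_ker, k, ← mem_opOf_iff, ← h.inf_eq (h.ord y hy)]
  exact ⟨fun e => ⟨l.2, e⟩, fun e => e.2⟩

omit [Finite G] in
theorem sr_top_of {L : Subgroup G} {n : ℕ} (h : SR n L) : SR n (⊤ : Subgroup L) :=
  SR.of_map L.subtype_injective (by rwa [← MonoidHom.range_eq_map, range_subtype])

theorem Sys.ctx (h : Sys I K₀) : Ctx K₀ := by
  obtain ⟨y, hy⟩ := h.ne
  obtain ⟨κ, hκ, k⟩ := h.iso y hy
  have pq := (h.pc y (h.ord y hy) (h.lay y hy)).pqs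
  have e : LL y ⧸ pPrimeCore 2 (LL y) ≃* K₀ :=
    (QuotientGroup.quotientMulEquivOfEq (h.ker_eq hy k).symm).trans
      (QuotientGroup.quotientKerEquivOfSurjective κ hκ)
  have qs : IsQuasisimple K₀ := Comp.qs_of_mulEquiv pq.1 e
  have hz : center K₀ = ⊥ := by
    rw [eq_bot_iff]
    intro c hc
    obtain ⟨l, rfl⟩ := hκ c
    refine (k l).2 ⟨LL_le y l.2, mem_cmod.2 fun x hx => ?_⟩
    refine (mem_opOf_iff (x := ⁅l, (⟨x, hx⟩ : LL y)⁆)).2 ?_
    rw [← h.ker_eq hy k, MonoidHom.mem_ker, map_commutatorElement,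
      commutatorElement_eq_one_iff_mul_comm]
    exact (mem_center_iff.1 hc _).symm
  exact ⟨Comp.isSimpleGroup_of_qs_of_center_eq_bot qs hz, Comp.qs_not_isMulCommutative qs,
    (sr_top_of (h.sr.mono le_top)).of_surjective hκ⟩

theorem Sys.sr8 (h : Sys I K₀) : SR 8 (⊤ : Subgroup K₀) := by
  obtain ⟨y, hy⟩ := h.ne
  obtain ⟨κ, hκ, -⟩ := h.iso y hy
  exact (sr_top_of (h.toSim.sr8 (h.ord y hy))).of_surjective hκ

theorem Sys.card_lt (h : Sys I K₀) : Nat.card K₀ < Nat.card G := by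
  obtain ⟨y, hy⟩ := h.ne
  obtain ⟨κ, hκ, -⟩ := h.iso y hy
  refine (Nat.card_le_card_of_surjective κ hκ).trans_lt ?_
  rw [← card_top (G := G)]
  exact card_lt_of_lt' (lt_top_iff_ne_top.2 fun e =>
    h.self_notMem (h.ord y hy) (by rw [e]; trivial))

theorem Sys.dt_iff (h : Sys I K₀) {y : G} (hy : y ∈ I) {m : ℕ} : DT K₀ m ↔ DS (LL y) m := by
  obtain ⟨κ, hκ, k⟩ := h.iso y hy
  obtain ⟨H, hH⟩ := exists_isSylowIn 2 (LL y)
  have hs : IsSylowIn 2 ((H.subgroupOf (LL y)).map κ) ⊤ := by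
    have := syl_map' (IsSylowIn.of_sylow_top hH.toSylow) κ
    rwa [map_top_of_surjective _ hκ] at this
  have inj : ∀ x ∈ H.subgroupOf (LL y), κ x = 1 → x = 1 := fun x hx e =>
    Subtype.ext (h.toSim.eq_one (h.ord y hy) hH.pgroup hx x.2 ((k x).1 e))
  constructor
  · rintro ⟨hm, d⟩
    obtain ⟨r, s, d⟩ := d _ hs
    have hc : Nat.card H = 2 * m := by
      rw [← d.card, ← Nat.card_congr (subgroupOfEquivOfLe hH.le).toEquiv]
      refine Nat.card_congr (Equiv.ofBijective (κ.subgroupMap _)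
        ⟨(injective_iff_map_eq_one _).2 fun x e => Subtype.ext (inj x x.2 (congrArg Subtype.val e)),
          κ.subgroupMap_surjective _⟩)
    obtain ⟨r', hr', rfl⟩ := d.r_mem
    obtain ⟨s', hs', rfl⟩ := d.s_mem
    have inj' : ∀ a ∈ H.subgroupOf (LL y), ∀ b ∈ H.subgroupOf (LL y), κ a = κ b → a = b :=
      fun a ha b hb e => inv_mul_eq_one.1 (inj _ (mul_mem (inv_mem ha) hb)
        (by rw [map_mul, map_inv, e, inv_mul_cancel]))
    have d' : IsDih (H.subgroupOf (LL y)) m r' s' := by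
      refine ⟨?_, inj _ (mul_mem hs' hs') (by rw [map_mul, d.ss]),
        inj' _ (mul_mem (mul_mem hs' hr') (inv_mem hs')) _ (inv_mem hr')
          (by rw [map_mul, map_mul, map_inv, map_inv, d.conj]), ?_, fun g => ⟨fun hg => ?_, ?_⟩⟩
      · rw [← d.ord]
        refine Nat.dvd_antisymm (orderOf_dvd_of_pow_eq_one (inj _ (pow_mem hr' _) ?_))
          (orderOf_map_dvd κ r')
        rw [map_pow, pow_orderOf_eq_one]
      · rintro ⟨i, e⟩
        exact d.notMem ⟨i, by rw [← e, map_zpow]⟩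
      · obtain ⟨i, e | e⟩ := (d.mem (κ g)).1 ⟨g, hg, rfl⟩
        · exact ⟨i, .inl (inj' _ hg _ (zpow_mem hr' i) (by rw [e, map_zpow]))⟩
        · exact ⟨i, .inr (inj' _ hg _ (mul_mem (zpow_mem hr' i) hs') (by rw [e, map_mul, map_zpow]))⟩
      · rintro ⟨i, rfl | rfl⟩
        exacts [zpow_mem hr' i, mul_mem (zpow_mem hr' i) hs']
    have d'' := GW.isDih_map_of_injOn d' (LL y).subtype (fun x _ e => Subtype.ext e)
    rw [subgroupOf_map_subtype, inf_eq_left.2 hH.le] at d''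
    exact DS.of_syl hm hH d''
  · rintro ⟨hm, d⟩
    obtain ⟨r, s, d⟩ := d _ hH
    have d' := GW.isDih_map_of_injOn (GW.isDih_subgroupOf (r := ⟨r, hH.le d.r_mem⟩)
      (s := ⟨s, hH.le d.s_mem⟩) hH.le d) κ inj
    exact DS.of_syl (L := ⊤) hm hs d'

theorem Sys.config (h : Sys I K₀) : (∃ S z, CA I K₀ S z) ∨ ∃ S T t g, CC I K₀ S T t g := by
  obtain ⟨y₀, hy₀⟩ := h.ne
  obtain ⟨⟨t, T⟩, ⟨ht, hT⟩, hmax⟩ := Set.exists_max_image
    {p : G × Subgroup G | p.1 ∈ I ∧ IsSylowIn 2 p.2 (Cx p.1)} (fun p => Nat.card p.2)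
    (Set.toFinite _) (by
      obtain ⟨T, hT⟩ := exists_isSylowIn 2 (Cx y₀)
      exact ⟨(y₀, T), hy₀, hT⟩)
  obtain ⟨S, hS, le⟩ := exists_isSylowIn_ge hT.pgroup (le_top : T ≤ ⊤)
  rcases le.eq_or_lt with e | lt
  · exact .inl ⟨S, t, h, ht, hS, e ▸ hT.le⟩
  · right
    obtain ⟨x, hxS, hxT, hxn⟩ := exists_mem_normalizer_of_lt hS.pgroup lt
    obtain ⟨j, j1, j2⟩ := exists_pow_sq (G := S) hS.pgroup (A := T.subgroupOf S) (x := ⟨x, hxS⟩) hxT
    refine ⟨S, T, t, x ^ j, h, ht, hS, hT, le, fun y hy Q hQ hle => ?_, pow_mem hxS j, j1, j2,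
      pow_mem hxn j⟩
    obtain ⟨T', hT', le'⟩ := exists_isSylowIn_ge hQ hle
    exact (card_le_of_le le').trans (hmax (y, T') ⟨hy, hT'⟩)

theorem Sys.ca (h : Sys I K₀) {z : G} (hz : z ∈ I) (c : IsTwoCentralInvolution z) :
    ∃ S, CA I K₀ S z := by
  obtain ⟨-, P, -, hP⟩ := c
  exact ⟨P, h, hz, IsSylowIn.of_sylow_top P, fun x hx => mem_Cx.2 (hP x hx)⟩

theorem CA.sylC {S : Subgroup G} {z : G} (h : CA I K₀ S z) : IsSylowIn 2 S (Cx z) :=
  h.syl.of_le h.cen le_top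

theorem CA.memS {S : Subgroup G} {z : G} (h : CA I K₀ S z) : z ∈ S :=
  h.sylC.le_of_le_normalizer (isPGroup_two_zpowers (mul_self_of_orderOf_two (h.ord z h.mem)))
    (zpowers_le.2 (mem_Cx.2 rfl)) (fun g hg => mem_normalizer_iff_cj.2 (by
      rw [cj_zpowers, mem_Cx'.1 hg])) (mem_zpowers z)

theorem CA.cen2 {S : Subgroup G} {z : G} (h : CA I K₀ S z) : IsTwoCentralInvolution z :=
  ⟨h.ord z h.mem, h.syl.toSylowTop, h.memS, fun _ hx => mem_Cx.1 (h.cen hx)⟩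

theorem syl_inf_LL {y : G} {T : Subgroup G} (hT : IsSylowIn 2 T (Cx y)) :
    IsSylowIn 2 (T ⊓ LL y) (LL y) := by
  have := hT.inf_of_le_normalizer (LL_nrm y)
  rwa [inf_eq_right.2 (LL_le y)] at this

theorem Sim.exists_df (h : Sim G) {y : G} (hy : orderOf y = 2) (ne : LL y ≠ ⊥) {m : ℕ}
    (d : DS (LL y) m) {T : Subgroup G} (hT : IsSylowIn 2 T (Cx y)) :
    ∃ a b w, DF y T m a b w := by
  have hH := syl_inf_LL hT
  obtain ⟨r, s, D⟩ := d.2 _ hH
  obtain ⟨w, hw, ow, cw⟩ := exists_mem_center_of_normalized hT.pgroup (inf_le_left : T ⊓ LL y ≤ T)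
    (le_normalizer_inf le_normalizer (hT.le.trans (LL_nrm y))) (fun e => by
      have := D.s_mem
      rw [e] at this
      exact D.notMem (by rw [show s = 1 from this]; exact one_mem _))
  have ww := mul_self_of_orderOf_two ow
  have w1 := ne_one_of_orderOf_two ow
  obtain ⟨r, s, D, hr⟩ : ∃ r s, IsDih (T ⊓ LL y) m r s ∧ w ∈ zpowers r := by
    obtain ⟨i, e | e⟩ := (D.mem w).1 hw
    · exact ⟨r, s, D, i, e.symm⟩
    · have h1 : r * r = 1 := by
        have h2 := cw r D.r_mem.1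
        have h3 := D.rpows_conj_rpow i 1
        rw [← e, zpow_one, ← h2, mul_inv_cancel_right, zpow_neg, zpow_one] at h3
        exact mul_eq_one_iff_eq_inv.2 h3
      have h2 : m = 2 := by
        have := orderOf_le_of_pow_eq_one (x := r) (n := 2) (by norm_num) (by rw [sq, h1])
        have := d.1
        have := D.ord
        omega
      have h3 : r ∉ zpowers w := fun hm => by
        rcases (mem_zpowers_two ww).1 hm with e1 | e1
        · have := D.ord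
          rw [e1, orderOf_one] at this; omega
        · exact D.rpows_notMem i (by rw [← e, ← e1]; exact mem_zpowers r)
      refine ⟨w, r, ⟨ow.trans h2.symm, h1, by
        rw [cw r D.r_mem.1, mul_inv_cancel_right, inv_eq_of_orderOf_two ow], h3, fun g => ⟨fun hg => ?_, ?_⟩⟩,
        mem_zpowers w⟩
      · have z1 : ∀ j : ℤ, r ^ j = 1 ∨ r ^ j = r := fun j =>
          (mem_zpowers_two h1).1 ⟨j, rfl⟩
        obtain ⟨j, rfl | rfl⟩ := (D.mem g).1 hg
        · rcases z1 j with e1 | e1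
          exacts [⟨0, .inl (by simp [e1])⟩, ⟨0, .inr (by simp [e1])⟩]
        · have e2 : r ^ j * s = r ^ (j - i) * w := by rw [e]; group
          rcases z1 (j - i) with e1 | e1
          · exact ⟨1, .inl (by rw [e2, e1]; simp)⟩
          · exact ⟨1, .inr (by rw [e2, e1, zpow_one, cw r D.r_mem.1])⟩
      · rintro ⟨j, rfl | rfl⟩
        exacts [zpow_mem hw j, mul_mem (zpow_mem hw j) D.r_mem]
  have ab : s * (s * r) = r := by rw [← mul_assoc, D.ss, one_mul]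
  obtain ⟨k, hk⟩ : ∃ k, m = 2 * k := by
    rcases d.two_or with e | -
    · exact ⟨1, e⟩
    · obtain ⟨j, rfl⟩ := D.exists_pow_of_isPGroup hH.pgroup
      rcases j with _ | j
      · have := d.1; omega
      · exact ⟨2 ^ j, by rw [pow_succ']⟩
  have hf := D.half hk (by have := d.1; omega)
  refine ⟨s, s * r, w, hy, h.pc y hy ne, h.odd y hy, hT, d.1, ?_, by rwa [ab], ?_,
    fun x hx => mem_Cx.2 (cw x hx)⟩
  · calc s * r * (s * r) = s * r * s⁻¹ * r := by rw [D.s_inv]; group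
      _ = 1 := by rw [D.conj, inv_mul_cancel]
  · rw [ab, show m / 2 = k by omega, ← zpow_natCast]
    exact D.eq_of_sq hr ⟨k, rfl⟩ ww hf.1 w1 hf.2

theorem Sys.exists_df (h : Sys I K₀) {y : G} (hy : y ∈ I) {m : ℕ} (d : DT K₀ m) {T : Subgroup G}
    (hT : IsSylowIn 2 T (Cx y)) : ∃ a b w, DF y T m a b w :=
  h.toSim.exists_df (h.ord y hy) (h.lay y hy) ((h.dt_iff hy).1 d) hT

end CfsgLib.GHE
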