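import Mathlib
import Cfsg.Agent.Lib.GHE.Base1
import Cfsg.Agent.Lib.ZStar.Main
import Cfsg.Agent.Lib.Transfer.Abelian

/-! Block BASE, second part: pump-ups. -/

set_option autoImplicit false
set_option linter.unusedSectionVars false

namespace CfsgLib.GHE

open Subgroup Cfsg CfsgLib.W2 CfsgLib.Tech CfsgLib.Sect CfsgLib.PComp CfsgLib.DihSyl
  CfsgLib.GW.Cor
open CfsgLib.LBal hiding cj
open scoped MatrixGroups commutatorElement

universe u

variable {G : Type u} [Group G] [Finite G]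

/-- balance in the centraliser of an involution -/
theorem le_LL_of_pc {y r : G} (hy : orderOf y = 2) (hyr : y ∈ Cx r) {J : Subgroup G}
    (hJ : PC 2 J (Cx y ⊓ Cx r)) : J ≤ LL r := by
  have hle : J ≤ Cx r := hJ.le.trans inf_le_right
  have h1 := hJ.subgroupOf hle
  rw [inf_subgroupOf_right, ← centralizer_singleton_subgroup (⟨y, hyr⟩ : Cx r)] at h1
  have h2 := bal_two_singleton (by rw [← hy]; exact (orderOf_coe _).symm) h1
  intro j hj
  exact ⟨⟨j, hle hj⟩, h2 hj, rfl⟩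

/-- `J` is the component of `C(y, r)` that covers the component of `C(y)` -/
structure PJ (y r : G) (J : Subgroup G) : Prop where
  pc : PC 2 J (Cx y ⊓ Cx r)
  le₁ : J ≤ LL y
  le₂ : J ≤ LL r
  cov : LL y ≤ J ⊔ opOf 2 (LL y)
  inf : J ⊓ MM r ≤ opOf 2 (LL y)

theorem Sim.exists_pj (h : Sim G) {y r : G} (hy : orderOf y = 2) (ne : LL y ≠ ⊥) (hr : r ∈ MM y)
    (o : orderOf r = 2) : ∃ J, PJ y r J := by
  have pc := h.pc y hy ne
  have h1 := ky_pc pc o hr.2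
  have h2 := ky_cov pc.pqs o hr.2
  have h3 := le_LL_of_pc hy (mem_cent_symm hr.1) h1
  refine ⟨_, h1, ky_le _ _, h3, h2, le_trans ?_ (opOf_le_of_cover (ky_le _ _) h2)⟩
  refine le_opOf inf_le_left (le_normalizer_inf le_normalizer ((ky_le' _ _).trans (MM_nrm r))) ?_
  exact (Nat.coprime_two_right.2 (h.odd r o)).coprime_dvd_left
    (card_dvd_of_le (inf_le_inf_right _ h3))

theorem PJ.ne_bot {y r : G} {J : Subgroup G} (h : PJ y r J) : LL r ≠ ⊥ := fun e =>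
  h.pc.pqs.ne_bot (eq_bot_iff.2 (e ▸ h.le₂))

theorem PJ.covM {y r : G} {J : Subgroup G} (h : PJ y r J) : LL y ≤ J ⊔ MM y :=
  h.cov.trans (sup_le_sup_left (opOf_le_MM y) _)

theorem exists_of_cover {y : G} {J : Subgroup G} (h1 : J ≤ Cx y) {l : G} (hl : l ∈ J ⊔ MM y) :
    ∃ j ∈ J, j⁻¹ * l ∈ MM y := by
  obtain ⟨a, ha, b, hb, rfl⟩ := (mem_sup_of_norm
    (fun a ha b hb => conj_mem_of_mem_normalizer (MM_nrm y (h1 ha)) hb)).1 hl
  exact ⟨a, ha, by rwa [inv_mul_cancel_left]⟩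

theorem PJ.chain {y r : G} {J : Subgroup G} (h : PJ y r J) :
    (MM y).relIndex (LL y) ≤ (MM y).relIndex J ∧ (MM y).relIndex J ≤ (MM r).relIndex J ∧
      (MM r).relIndex J ≤ (MM r).relIndex (LL r) := by
  refine ⟨relIndex_le_of_cover h.le₁ fun x hx =>
    exists_of_cover (h.le₁.trans (LL_le y)) (h.covM hx), ?_, relIndex_mono_right _ h.le₂⟩
  rw [← inf_relIndex_left J (MM r)]
  exact relIndex_anti_left (h.inf.trans (opOf_le_MM y)) _

theorem PJ.sz_le {y r : G} {J : Subgroup G} (h : PJ y r J) :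
    (MM y).relIndex (LL y) ≤ (MM r).relIndex (LL r) :=
  h.chain.1.trans (h.chain.2.1.trans h.chain.2.2)

theorem PJ.triv {y r : G} {J : Subgroup G} (h : PJ y r J)
    (hle : (MM r).relIndex (LL r) ≤ (MM y).relIndex (LL y)) :
    LL r ≤ J ⊔ MM r ∧ ∀ x ∈ J, x ∈ MM y ↔ x ∈ MM r := by
  obtain ⟨c1, c2, c3⟩ := h.chain
  constructor
  · have h1 := relIndex_mono_right (MM r) (le_inf h.le₂ le_sup_left : J ≤ LL r ⊓ (J ⊔ MM r))
    have h2 := card_eq_relIndex (MM r) (LL r ⊓ (J ⊔ MM r))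
    have h3 := card_eq_relIndex (MM r) (LL r)
    have h4 : MM r ⊓ (LL r ⊓ (J ⊔ MM r)) = MM r ⊓ LL r :=
      le_antisymm (inf_le_inf_left _ inf_le_left)
        (le_inf inf_le_left (le_inf inf_le_right (inf_le_left.trans le_sup_right)))
    rw [h4] at h2
    have h5 := eq_of_le_of_card_ge (inf_le_left : LL r ⊓ (J ⊔ MM r) ≤ LL r)
      (by rw [h2, h3]; exact Nat.mul_le_mul_left _ (by omega))
    exact inf_eq_left.1 h5
  · have h2 := card_eq_relIndex (MM r) J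
    have h3 := card_eq_relIndex (MM y) J
    have h4 : MM r ⊓ J ≤ MM y ⊓ J :=
      le_inf (by rw [inf_comm]; exact h.inf.trans (opOf_le_MM y)) inf_le_right
    have h5 := eq_of_le_of_card_ge h4 (by
      have e : (MM r).relIndex J = (MM y).relIndex J := by omega
      rw [e, h3] at h2
      exact (Nat.eq_of_mul_eq_mul_right (Nat.pos_of_ne_zero (relIndex_ne _ _)) h2).le)
    intro x hx
    exact ⟨fun e => (h5.ge ⟨e, hx⟩).1, fun e => (h5.le ⟨e, hx⟩).1⟩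

theorem surj_of_cover {y : G} {J : Subgroup G} {X : Type*} [Group X] {κ : LL y →* X}
    (hκ : Function.Surjective κ) (k : ∀ l, κ l = 1 ↔ (l : G) ∈ MM y) (hJ : J ≤ LL y)
    (h : LL y ≤ J ⊔ MM y) : Function.Surjective (κ.comp (inclusion hJ)) := fun x => by
  obtain ⟨l, rfl⟩ := hκ x
  obtain ⟨j, hj, e⟩ := exists_of_cover (hJ.trans (LL_le y)) (h l.2)
  refine ⟨⟨j, hj⟩, ?_⟩
  have := (k ((inclusion hJ ⟨j, hj⟩)⁻¹ * l)).2 e
  rwa [map_mul, map_inv, inv_mul_eq_one] at this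

theorem exists_kappa (y : G) : ∃ (K₀ : Type u) (_ : Group K₀) (_ : Finite K₀) (κ : LL y →* K₀),
    Function.Surjective κ ∧ ∀ l, κ l = 1 ↔ (l : G) ∈ MM y := by
  have : ((MM y).subgroupOf (LL y)).Normal :=
    normal_subgroupOf_of_le_normalizer ((LL_le y).trans (MM_nrm y))
  exact ⟨LL y ⧸ (MM y).subgroupOf (LL y), inferInstance, inferInstance, QuotientGroup.mk' _,
    QuotientGroup.mk'_surjective _, fun l => QuotientGroup.eq_one_iff l⟩

theorem Sim.mkSys (h : Sim G) (P : G → Prop) (hP : ∀ y, P y → orderOf y = 2 ∧ LL y ≠ ⊥)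
    (conj : ∀ y g, P y → P (g * y * g⁻¹))
    (pump : ∀ y r, P y → r ∈ MM y → orderOf r = 2 →
      P r ∧ (MM r).relIndex (LL r) ≤ (MM y).relIndex (LL y)) {z : G} (hz : P z) :
    ∃ (I : Set G) (K₀ : Type u) (_ : Group K₀) (_ : Finite K₀),
      Sys I K₀ ∧ z ∈ I ∧ ∀ y ∈ I, P y := by
  obtain ⟨K₀, _, _, κ₀, h₀⟩ := exists_kappa z
  refine ⟨{y | P y ∧ ∃ κ : LL y →* K₀, Function.Surjective κ ∧ ∀ l, κ l = 1 ↔ (l : G) ∈ MM y},
    K₀, inferInstance, inferInstance, ⟨h, ⟨z, hz, κ₀, h₀⟩, fun y hy => (hP y hy.1).1,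
      fun y hy => (hP y hy.1).2, ?_, fun y hy => hy.2, ?_⟩, ⟨hz, κ₀, h₀⟩, fun y hy => hy.1⟩
  · rintro y ⟨hy, κ, hκ, k⟩ g
    let e : LL (g * y * g⁻¹) ≃* LL y :=
      (MulEquiv.subgroupCongr (LL_cj g y).symm).trans (cjEquiv g (LL y)).symm
    refine ⟨conj y g hy, κ.comp e.toMonoidHom, hκ.comp e.surjective, fun l => ?_⟩
    obtain ⟨l, rfl⟩ := e.symm.surjective l
    change κ (e (e.symm l)) = 1 ↔ g * l * g⁻¹ ∈ _
    rw [e.apply_symm_apply, k, ← MM_cj, conj_mem_cj]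
  · rintro y ⟨hy, κ, hκ, k⟩ r hr o
    obtain ⟨p1, p2⟩ := pump y r hy hr o
    obtain ⟨J, hJ⟩ := h.exists_pj (hP y hy).1 (hP y hy).2 hr o
    obtain ⟨t1, t2⟩ := hJ.triv p2
    refine ⟨⟨p1, ?_⟩, J, le_inf hJ.le₁ hJ.le₂, hJ.covM, t1⟩
    obtain ⟨K₁, _, _, κ₁, s₁, k₁⟩ := exists_kappa r
    have s := surj_of_cover hκ k hJ.le₁ hJ.covM
    have s' := surj_of_cover s₁ k₁ hJ.le₂ t1
    have ek : (κ₁.comp (inclusion hJ.le₂)).ker = (κ.comp (inclusion hJ.le₁)).ker := by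
      ext j
      exact (k₁ _).trans ((t2 j j.2).symm.trans (k (inclusion hJ.le₁ j)).symm)
    let e : K₁ ≃* K₀ := (QuotientGroup.quotientKerEquivOfSurjective _ s').symm.trans
      ((QuotientGroup.quotientMulEquivOfEq ek).trans (QuotientGroup.quotientKerEquivOfSurjective _ s))
    exact ⟨e.toMonoidHom.comp κ₁, e.surjective.comp s₁, fun l =>
      (map_eq_one_iff e e.injective).trans (k₁ l)⟩

/-- the members of largest order in a class of components that is closed under pump-ups -/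
theorem Sim.sys (h : Sim G) (P : G → Prop) (hP : ∀ y, P y → orderOf y = 2 ∧ LL y ≠ ⊥)
    (conj : ∀ y g, P y → P (g * y * g⁻¹))
    (pump : ∀ y r, P y → r ∈ MM y → orderOf r = 2 → P r) (ne : ∃ y, P y) :
    ∃ (I : Set G) (K₀ : Type u) (_ : Group K₀) (_ : Finite K₀), Sys I K₀ ∧ ∀ y ∈ I, P y := by
  obtain ⟨z, hz, hmax⟩ := Set.exists_max_image {y | P y} (fun y => (MM y).relIndex (LL y))
    (Set.toFinite _) ne
  obtain ⟨I, K₀, _, _, y, -, hI⟩ := h.mkSys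
    (fun y => P y ∧ (MM z).relIndex (LL z) ≤ (MM y).relIndex (LL y)) (fun y hy => hP y hy.1)
    (fun y g hy => ⟨conj y g hy.1, by rw [← MM_cj, ← LL_cj, relIndex_cj]; exact hy.2⟩)
    (fun y r hy hr o => by
      obtain ⟨J, hJ⟩ := h.exists_pj (hP y hy.1).1 (hP y hy.1).2 hr o
      have p := pump y r hy.1 hr o
      exact ⟨⟨p, hy.2.trans hJ.sz_le⟩, (hmax r p).trans hy.2⟩) (z := z) ⟨hz, le_rfl⟩
  exact ⟨I, K₀, _, ‹_›, y, fun y hy => (hI y hy).1⟩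

theorem zs_aux {X : Type*} [Group X] [Finite X] {L : Subgroup X} (hL : commutator X ≤ L)
    (P : Sylow 2 X) (e : ∀ a ∈ (P : Subgroup X), a * a = 1) (hP : ¬ (P : Subgroup X) ≤ L) :
    ∃ y ∈ (P : Subgroup X), y ∉ L ∧ ∀ g, y * g * y⁻¹ * g⁻¹ ∈ pPrimeCore 2 X := by
  have hc : IsMulCommutative P := ⟨⟨fun a b => Subtype.ext (by
    have := comm_mem (K := ⊥) e a.2 b.2
    rwa [mem_bot, ← commutatorElement_def, commutatorElement_eq_one_iff_mul_comm] at this)⟩⟩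
  have h1 := Transfer.commutator_normalizer_sup_centralizer_of_abelian_sylow P hc
  rw [← Transfer.commutator_inf_eq_of_abelian_sylow P hc] at h1
  obtain ⟨y, hy, hyL⟩ : ∃ y ∈ (P : Subgroup X) ⊓
      centralizer (normalizer ((P : Subgroup X) : Set X) : Set X), y ∉ L := by
    by_contra hn
    push Not at hn
    exact hP (h1 ▸ sup_le (inf_le_left.trans hL) hn)
  refine ⟨y, hy.1, hyL, ZStar.zstar (ZStar.isIsolatedInvolution_of_sylow P
    (orderOf_two_of_mul_self (e y hy.1) fun e => hyL (e ▸ one_mem _)) hy.1 fun g hg => ?_)⟩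
  obtain ⟨u, hu, e⟩ := Transfer.control_of_abelian_sylow P hc y hy.1 g hg
  rw [e, hy.2 u hu, mul_inv_cancel_right]

theorem Sim.mem_MM (h : Sim G) {y r : G} (hy : orderOf y = 2) (ne : LL y ≠ ⊥) (hr : r ∈ MM y)
    (o : orderOf r = 2) (d : DS (LL r) 2) : y ∈ MM r := by
  obtain ⟨J, hJ⟩ := h.exists_pj hy ne hr o
  have yy := mul_self_of_orderOf_two hy
  have hyr : y ∈ Cx r := mem_cent_symm hr.1
  obtain ⟨V, hV⟩ := exists_isSylowIn 2 J
  have hVy : ∀ v ∈ J, v * y = y * v := fun v hv => mem_Cx.1 (LL_le y (hJ.le₁ hv))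
  have hV' : IsSylowIn 2 V (LL r) := by
    obtain ⟨H, hH⟩ := exists_isSylowIn 2 (LL r)
    obtain ⟨a, b, D⟩ := d.2 H hH
    exact hH.of_card_le hV.pgroup (hV.le.trans hJ.le₂)
      (by rw [D.card]; exact pqs_four_le_card hJ.pc.pqs hV)
  have vv : ∀ v ∈ V, v * v = 1 := fun v hv => by
    obtain ⟨a, b, D⟩ := d.2 V hV'
    by_contra hn
    have h1 := orderOf_dvd_of_mem_zpowers (D.mem_zpowers_of_sq_ne_one hv hn)
    rw [D.ord, orderOf_dvd_iff_pow_eq_one, sq] at h1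
    exact hn h1
  have hyL : y ∉ LL r := fun hm => by
    have h1 : zpowers y ≤ V := hV'.le_of_normalizes (isPGroup_two_zpowers yy) (zpowers_le.2 hm)
      (zpowers_le.2 (centralizer_le_normalizer _ fun v hv => hVy v (hV.le hv)))
    exact h.self_notMem hy (hJ.le₁ (hV.le (h1 (mem_zpowers y))))
  set X := zpowers y ⊔ LL r with hX
  have hXC : X ≤ Cx r := sup_le (zpowers_le.2 hyr) (LL_le r)
  have mX : ∀ x ∈ X, x ∈ LL r ∨ ∃ b ∈ LL r, x = y * b := fun x hx => by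
    obtain ⟨a, ha, b, hb, rfl⟩ := (mem_sup_of_norm (fun a ha b hb =>
      conj_mem_of_mem_normalizer (LL_nrm r (zpowers_le.2 hyr ha)) hb)).1 hx
    rcases (mem_zpowers_two yy).1 ha with rfl | rfl
    exacts [.inl (by rwa [one_mul]), .inr ⟨b, hb, rfl⟩]
  have sqX : ∀ x ∈ X, x * x ∈ LL r := fun x hx => by
    rcases mX x hx with h1 | ⟨b, hb, rfl⟩
    · exact mul_mem h1 h1
    · rw [show y * b * (y * b) = y * b * y⁻¹ * b by rw [inv_eq_of_orderOf_two hy]; group]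
      exact mul_mem (conj_mem_of_mem_normalizer (LL_nrm r hyr) hb) hb
  have pE : IsPGroup 2 (zpowers y ⊔ V : Subgroup G) :=
    (isPGroup_two_zpowers yy).to_sup_of_normal_right' hV.pgroup
      (zpowers_le.2 (centralizer_le_normalizer _ fun v hv => hVy v (hV.le hv)))
  obtain ⟨E, hE, le⟩ := exists_isSylowIn_ge pE (sup_le_sup_left hV'.le _ : _ ≤ X)
  have yE : y ∈ E := le (mem_sup_left (mem_zpowers y))
  have EL : ∀ x ∈ E, x ∈ LL r → x ∈ V := fun x hx hl => by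
    rw [← hV'.eq_of_le (hE.pgroup.to_le inf_le_left : IsPGroup 2 (E ⊓ LL r : Subgroup G))
      (le_inf (le_sup_right.trans le) hV'.le) inf_le_right]
    exact ⟨hx, hl⟩
  have mE : ∀ x ∈ E, x ∈ V ∨ ∃ b ∈ V, x = y * b := fun x hx => by
    rcases mX x (hE.le hx) with h1 | ⟨b, hb, rfl⟩
    · exact .inl (EL x hx h1)
    · exact .inr ⟨b, EL b ((mul_mem_cancel_left yE).1 hx) hb, rfl⟩
  obtain ⟨y₀, h1, h2, h3⟩ := zs_aux (X := X) (L := (LL r).subgroupOf X)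
    (commutator_le.2 fun a _ b _ => comm_mem sqX a.2 b.2) hE.toSylow
    (fun a ha => Subtype.ext (by
      rcases mE a ha with h1 | ⟨b, hb, e⟩
      · exact vv _ h1
      · change (a : G) * a = 1
        rw [e, mul_assoc, ← mul_assoc b, hVy b (hV.le hb), mul_assoc, vv b hb, mul_one, yy]))
    (fun hle => hyL (hle (show (⟨y, hE.le yE⟩ : X) ∈ (hE.toSylow : Subgroup X) from yE)))
  have h4 : ∀ l ∈ LL r, ⁅(y₀ : G), l⁆ ∈ opOf 2 (LL r) := fun l hl =>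
    inf_opOf_le (le_sup_right : LL r ≤ X) ⟨by
      rw [commutatorElement_def]
      exact (LL r).mul_mem (conj_mem_of_mem_normalizer (LL_nrm r (hXC y₀.2)) hl) ((LL r).inv_mem hl),
      mem_opOf_iff.2 (h3 ⟨l, mem_sup_right hl⟩)⟩
  have h5 : (y₀ : G) ∈ MM r := ⟨hXC y₀.2, mem_cmod.2 h4⟩
  rcases mE y₀ h1 with h6 | ⟨v, hv, e⟩
  · exact absurd (hV'.le h6) h2
  have h7 : v ∈ LBal.cmod 2 (LL y) := cmod_of_cover hJ.le₁ hJ.cov
    (le_normalizer (hJ.le₁ (hV.le hv))) fun j hj => by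
      have hc : ⁅v, j⁆ ∈ J := by
        rw [commutatorElement_def]
        exact J.mul_mem (J.mul_mem (J.mul_mem (hV.le hv) hj) (J.inv_mem (hV.le hv))) (J.inv_mem hj)
      refine hJ.inf ⟨hc, ?_⟩
      have h8 := opOf_le_MM r (h4 j (hJ.le₂ hj))
      have h9 : ⁅(y₀ : G), j⁆ = ⁅v, j⁆ := by
        have e1 := hVy _ (J.mul_mem (J.mul_mem (hV.le hv) hj) (J.inv_mem (hV.le hv)))
        rw [e, commutatorElement_def, commutatorElement_def]
        calc y * v * j * (y * v)⁻¹ * j⁻¹ = y * (v * j * v⁻¹) * y⁻¹ * j⁻¹ := by group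
          _ = _ := by rw [← e1]; group
      rwa [h9] at h8
  have h8 : v = 1 := h.eq_one hy hV.pgroup hv (hJ.le₁ (hV.le hv)) ⟨LL_le y (hJ.le₁ (hV.le hv)), h7⟩
  rwa [e, h8, mul_one] at h5

/-- if all components have four-groups as Sylow 2-subgroups, then pump-ups are trivial -/
theorem Sim.sys2 (h : Sim G) (a : All2 G) {z : G} (hz : orderOf z = 2) (ne : LL z ≠ ⊥) :
    ∃ (I : Set G) (K₀ : Type u) (_ : Group K₀) (_ : Finite K₀), Sys I K₀ ∧ z ∈ I := by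
  obtain ⟨I, K₀, _, _, y, hI, -⟩ := h.mkSys (fun y => orderOf y = 2 ∧ LL y ≠ ⊥) (fun _ hy => hy)
    (fun y g hy => ⟨by rw [orderOf_conj_eq, hy.1], LL_conj_ne hy.2 g⟩)
    (fun y r hy hr o => by
      obtain ⟨J, hJ⟩ := h.exists_pj hy.1 hy.2 hr o
      obtain ⟨J', hJ'⟩ := h.exists_pj o hJ.ne_bot (h.mem_MM hy.1 hy.2 hr o (a r o hJ.ne_bot)) hy.1
      exact ⟨⟨o, hJ.ne_bot⟩, hJ'.sz_le⟩) (z := z) ⟨hz, ne⟩
  exact ⟨I, K₀, _, ‹_›, y, hI⟩

theorem Sim.pump_nd (h : Sim G) {y r : G} (hy : orderOf y = 2) (ne : LL y ≠ ⊥)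
    (nd : ¬ ∃ m, DS (LL y) m) (hr : r ∈ MM y) (o : orderOf r = 2) :
    LL r ≠ ⊥ ∧ ¬ ∃ m, DS (LL r) m := by
  obtain ⟨J, hJ⟩ := h.exists_pj hy ne hr o
  refine ⟨hJ.ne_bot, fun ⟨m, d⟩ => nd ?_⟩
  obtain ⟨V, hV⟩ := exists_isSylowIn 2 J
  obtain ⟨H, hH, le⟩ := exists_isSylowIn_ge hV.pgroup (hV.le.trans hJ.le₂)
  obtain ⟨a, b, D⟩ := d.2 H hH
  rcases GW.gd_of_le_isDih D le with c | ⟨m', a', b', hm, D'⟩
  · exact absurd c (pqs_ncyc hJ.pc.pqs hV)
  · exact ⟨m', DS.of_syl hm (syl_of_cover hJ.le₁ hJ.cov hV) D'⟩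

theorem Sim.pump_four (h : Sim G) (a : AllD G) {y r : G} (hy : orderOf y = 2) (ne : LL y ≠ ⊥)
    (d : ∃ m, 4 ≤ m ∧ DS (LL y) m) (hr : r ∈ MM y) (o : orderOf r = 2) :
    LL r ≠ ⊥ ∧ ∃ m, 4 ≤ m ∧ DS (LL r) m := by
  obtain ⟨J, hJ⟩ := h.exists_pj hy ne hr o
  obtain ⟨m, hm, d⟩ := d
  obtain ⟨m', d'⟩ := a r o hJ.ne_bot
  refine ⟨hJ.ne_bot, m', ?_, d'⟩
  obtain ⟨V, hV⟩ := exists_isSylowIn 2 J
  obtain ⟨H, hH, le⟩ := exists_isSylowIn_ge hV.pgroup (hV.le.trans hJ.le₂)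
  obtain ⟨_, _, D⟩ := d.2 V (syl_of_cover hJ.le₁ hJ.cov hV)
  obtain ⟨_, _, D'⟩ := d'.2 H hH
  have := card_le_of_le le
  rw [D.card, D'.card] at this
  omega

end CfsgLib.GHE
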