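import Mathlib
import Cfsg.Agent.Lib.GHE.Defs2

/-! More vocabulary: field-type elements in a dihedral frame.  See `plans/GHE.md`. -/

set_option autoImplicit false

namespace CfsgLib.GHE

open Subgroup Cfsg CfsgLib.W2 CfsgLib.Tech CfsgLib.Sect CfsgLib.PComp CfsgLib.DihSyl
  CfsgLib.GW.Cor
open CfsgLib.LBal hiding cj
open scoped MatrixGroups commutatorElement

universe u

variable {G : Type u} [Group G] [Finite G]

/-- `x ∈ T` induces an outer involution that centralises `T ∩ L`, and some `ρ ∈ L` that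
centralises `x` and `T ∩ M` permutes `w, a, a w` -/
structure GP (y : G) (T : Subgroup G) (a w x : G) : Prop where
  mem : x ∈ T
  out : x ∉ LL y ⊔ MM y
  sq : x * x ∈ MM y
  cen : T ⊓ LL y ≤ Cx x
  rho : ∃ ρ ∈ LL y ⊓ Cx x ⊓ centralizer ((T ⊓ MM y : Subgroup G) : Set G), Cy ρ w a

/-- `x` is a 2-element -/
def E2 {X : Type*} [Group X] (x : X) : Prop := ∃ k : ℕ, x ^ 2 ^ k = 1

end CfsgLib.GHE
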