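import Mathlib
import Cfsg.Agent.Lib.GHE.Defs
import Cfsg.Agent.Lib.GHE.Defs3
import Cfsg.Agent.Lib.GHE.Base2

/-! Package APIA: the component of an involution centraliser, pump-ups.  See `plans/GHE.md`.
The lemmas `LL_le`, `MM_le`, `self_mem_MM` are in `Base1`. -/

set_option autoImplicit false
set_option linter.unusedSectionVars false

namespace CfsgLib.GHE

open Subgroup Cfsg CfsgLib.W2 CfsgLib.Tech CfsgLib.Sect CfsgLib.PComp CfsgLib.DihSyl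
  CfsgLib.GW.Cor
open CfsgLib.LBal hiding cj
open scoped MatrixGroups commutatorElement

universe u

variable {G : Type u} [Group G] [Finite G]

variable {y r x : G} {T A : Subgroup G}

theorem LL_conj (y g : G) : LL (g * y * g⁻¹) = cj g (LL y) := (LL_cj g y).symm

theorem MM_conj (y g : G) : MM (g * y * g⁻¹) = cj g (MM y) := (MM_cj g y).symm

theorem Cx_le_nL (y : G) : Cx y ≤ normalizer (LL y : Set G) := LL_nrm y

theorem Cx_le_nM (y : G) : Cx y ≤ normalizer (MM y : Set G) := MM_nrm y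

theorem sylL (hT : IsSylowIn 2 T (Cx y)) : IsSylowIn 2 (T ⊓ LL y) (LL y) := syl_inf_LL hT

theorem sylM (hT : IsSylowIn 2 T (Cx y)) : IsSylowIn 2 (T ⊓ MM y) (MM y) := by
  have := hT.inf_of_le_normalizer (MM_nrm y)
  rwa [inf_eq_right.2 (MM_le y)] at this

omit [Finite G] in
theorem syl_subgroupOf {S B C : Subgroup G} (h : IsSylowIn 2 S B) (le : B ≤ C) :
    IsSylowIn 2 (S.subgroupOf C) (B.subgroupOf C) :=
  ⟨comap_mono h.le, h.pgroup.comap_subtype, by rw [relIndex_subgroupOf le]; exact h.not_dvd⟩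

/-- a 2-subgroup of `B M` that contains a Sylow subgroup `S` of `B` lies in `S M` -/
theorem exists_syl_mul {S B M C P : Subgroup G} (h : IsSylowIn 2 S B) (hB : B ≤ C) (hM : M ≤ C)
    (n : C ≤ normalizer (M : Set G)) (hP : IsPGroup 2 P) (h1 : S ≤ P) (h2 : P ≤ B ⊔ M)
    (hx : x ∈ P) : ∃ k ∈ S, k⁻¹ * x ∈ M := by
  have : (M.subgroupOf C).Normal := normal_subgroupOf_of_le_normalizer n
  have hPC : P ≤ C := h2.trans (sup_le hB hM)
  have h3 := syl_map' (syl_subgroupOf h hB) (QuotientGroup.mk' (M.subgroupOf C))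
  have h4 := h3.eq_of_le (Q := (P.subgroupOf C).map (QuotientGroup.mk' (M.subgroupOf C)))
    (hP.comap_subtype.map _) (map_mono (comap_mono h1)) (by
      rintro _ ⟨p, hp, rfl⟩
      obtain ⟨a, ha, b, hb, e⟩ := (mem_sup_of_norm
        (fun a ha b hb => conj_mem_of_mem_normalizer (n (hB ha)) hb)).1 (h2 hp)
      refine ⟨⟨a, hB ha⟩, ha, QuotientGroup.eq.2 ?_⟩
      change a⁻¹ * C.subtype p ∈ M
      rwa [e, inv_mul_cancel_left])
  obtain ⟨k, hk, e⟩ := h4.le ⟨⟨x, hPC hx⟩, hx, rfl⟩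
  exact ⟨k, hk, (QuotientGroup.eq (s := M.subgroupOf C)).1 e⟩

theorem sylLM (hT : IsSylowIn 2 T (Cx y)) (hx : x ∈ T) (h : x ∈ LL y ⊔ MM y) :
    ∃ k ∈ T ⊓ LL y, ∃ r ∈ T ⊓ MM y, x = k * r := by
  obtain ⟨k, hk, e⟩ := exists_syl_mul (sylL hT) (LL_le y) (MM_le y) (MM_nrm y)
    (hT.pgroup.to_le inf_le_left : IsPGroup 2 (T ⊓ (LL y ⊔ MM y) : Subgroup G))
    (inf_le_inf_left _ le_sup_left) inf_le_right ⟨hx, h⟩
  exact ⟨k, hk, k⁻¹ * x, ⟨T.mul_mem (T.inv_mem hk.1) hx, e⟩, (mul_inv_cancel_left _ _).symm⟩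

omit [Finite G] in
theorem E2.pg (e : E2 x) : IsPGroup 2 (zpowers x) := isPGroup_zpowers_of_pow e.choose_spec

omit [Finite G] in
theorem E2.of_mem (hT : IsPGroup 2 T) (hx : x ∈ T) : E2 x := isPGroup_iff_mem.1 hT x hx

theorem eq_one_of_LM (o : Odd (Nat.card (LL y ⊓ MM y : Subgroup G))) (e : E2 x) (h1 : x ∈ LL y)
    (h2 : x ∈ MM y) : x = 1 :=
  eq_one_of_odd o e.pg ⟨h1, h2⟩ (mem_zpowers x)

theorem comm_LM (hT : IsPGroup 2 T) (h1 : x ∈ T ⊓ LL y) (h2 : r ∈ T ⊓ MM y) : x * r = r * x := by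
  have h3 : ⁅r, x⁆ ∈ T ⊓ opOf 2 (LL y) :=
    ⟨T.mul_mem (T.mul_mem (T.mul_mem h2.1 h1.1) (T.inv_mem h2.1)) (T.inv_mem h1.1),
      mem_cmod.1 h2.2.2 x h1.2⟩
  rw [isPGroup_inf_opOf hT] at h3
  exact (commutatorElement_eq_one_iff_mul_comm.1 h3).symm

/-- a 2-subgroup of `M` centralises a perfect subgroup that covers the component -/
theorem exists_cov (pc : PC 2 (LL y) (Cx y)) (hA : IsPGroup 2 A) (le : A ≤ MM y) :
    ∃ J ≤ LL y ⊓ centralizer (A : Set G), ⁅J, J⁆ = J ∧ J ≠ ⊥ ∧ LL y ≤ J ⊔ MM y := by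
  have h1 : A ≤ LBal.cmod 2 (LL y) := le.trans inf_le_right
  obtain ⟨h2, h3⟩ := IsPQs.cent pc.pqs hA (h1.trans (cmod_le_normalizer _)) (le_cmod_iff.1 h1)
  exact ⟨_, pec_le _, h2.perfect, h2.ne_bot, h3.trans (sup_le_sup_left (opOf_le_MM y) _)⟩

/-- a component of `C(y) ∩ C(x)` lies in the component of `C(x)` -/
theorem le_LL {J : Subgroup G} (hy : orderOf y = 2) (c : y ∈ Cx x) (hJ : PC 2 J (Cx x ⊓ Cx y)) :
    J ≤ LL x :=
  le_LL_of_pc hy c (by rwa [inf_comm])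

theorem nrm_LL_inf (h1 : x ∈ Cx y) (h2 : x ∈ Cx r) :
    x ∈ normalizer ((LL y ⊓ LL r : Subgroup G) : Set G) :=
  le_normalizer_inf (U := zpowers x) (zpowers_le.2 (LL_nrm y h1)) (zpowers_le.2 (LL_nrm r h2))
    (mem_zpowers x)

theorem memM_aux (c : LL r ≤ LL y ⊓ LL r ⊔ opOf 2 (LL r)) (h1 : x ∈ MM y) (h2 : x ∈ Cx r) :
    x ∈ MM r := by
  refine ⟨h2, cmod_of_cover inf_le_right c (LL_nrm r h2) fun j hj => ?_⟩
  refine opOf_le_of_cover inf_le_right c (inf_opOf_le (inf_le_left : LL y ⊓ LL r ≤ LL y)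
    ⟨?_, mem_cmod.1 h1.2 j hj.1⟩)
  rw [commutatorElement_def]
  exact Subgroup.mul_mem _ (conj_mem_of_mem_normalizer (nrm_LL_inf h1.1 h2) hj)
    (Subgroup.inv_mem _ hj)

theorem mem_of_cover {J L : Subgroup G} (h1 : J ≤ L) (h2 : L ≤ J ⊔ opOf 2 L) (e : E2 x)
    (hx : x ∈ L) (n : x ∈ normalizer (J : Set G)) : x ∈ J := by
  obtain ⟨V, hV, le⟩ := exists_isSylowIn_ge e.pg (le_sup_right : zpowers x ≤ J ⊔ zpowers x)
  have h3 := hV.inf_of_le_normalizer (sup_le le_normalizer (zpowers_le.2 n))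
  rw [inf_eq_right.2 (le_sup_left : J ≤ J ⊔ zpowers x)] at h3
  have h4 := (syl_of_cover h1 h2 h3).eq_of_le hV.pgroup inf_le_left
    (hV.le.trans (sup_le h1 (zpowers_le.2 hx)))
  exact (h4.le (le (mem_zpowers x))).2

theorem memLM_aux (c : LL y ≤ LL y ⊓ LL r ⊔ opOf 2 (LL y))
    (c' : LL r ≤ LL y ⊓ LL r ⊔ opOf 2 (LL r)) (h1 : x ∈ LL y ⊔ MM y) (h2 : x ∈ Cx r) :
    x ∈ LL r ⊔ MM r := by
  have h3 : x ∈ LL y ⊓ LL r ⊔ MM y :=
    sup_le (c.trans (sup_le_sup_left (opOf_le_MM y) _)) le_sup_right h1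
  obtain ⟨j, hj, e⟩ := exists_of_cover (inf_le_left.trans (LL_le y)) h3
  have h4 := memM_aux c' e (mul_mem (inv_mem (LL_le r hj.2)) h2)
  rw [← mul_inv_cancel_left j x]
  exact mul_mem_sup hj.2 h4

variable {I : Set G} {K₀ : Type u} [Group K₀] [Finite K₀] {S : Subgroup G} {z t g : G}

theorem Sim.cov_aux (h : Sim G) (hy : orderOf y = 2) {J : Subgroup G} (h1 : J ≤ LL y)
    (h2 : LL y ≤ J ⊔ MM y) : LL y ≤ J ⊔ opOf 2 (LL y) := fun l hl => by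
  obtain ⟨j, hj, e⟩ := exists_of_cover (h1.trans (LL_le y)) (h2 hl)
  rw [← mul_inv_cancel_left j l, ← h.inf_eq hy]
  exact mul_mem_sup hj ⟨(LL y).mul_mem ((LL y).inv_mem (h1 hj)) hl, e⟩

/-- `LL y ⊓ LL r` covers both components modulo their cores -/
theorem Sys.cov (h : Sys I K₀) (hy : y ∈ I) (hr : r ∈ MM y) (o : orderOf r = 2) :
    LL y ≤ LL y ⊓ LL r ⊔ opOf 2 (LL y) ∧ LL r ≤ LL y ⊓ LL r ⊔ opOf 2 (LL r) := by
  obtain ⟨-, J, h1, h2, h3⟩ := h.pump y hy r hr o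
  exact ⟨h.cov_aux (h.ord y hy) inf_le_left (h2.trans (sup_le_sup_right h1 _)),
    h.cov_aux o inf_le_right (h3.trans (sup_le_sup_right h1 _))⟩

theorem Sys.memM (h : Sys I K₀) (hy : y ∈ I) (hr : r ∈ MM y) (o : orderOf r = 2) (h1 : x ∈ Cx y)
    (h2 : x ∈ Cx r) : x ∈ MM y ↔ x ∈ MM r := by
  obtain ⟨c, c'⟩ := h.cov hy hr o
  exact ⟨fun e => memM_aux c' e h2, fun e => memM_aux (by rwa [inf_comm]) e h1⟩

theorem Sys.memL (h : Sys I K₀) (hy : y ∈ I) (hr : r ∈ MM y) (o : orderOf r = 2) (h1 : x ∈ Cx y)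
    (h2 : x ∈ Cx r) (e : E2 x) : x ∈ LL y ↔ x ∈ LL r := by
  obtain ⟨c, c'⟩ := h.cov hy hr o
  exact ⟨fun hx => (mem_of_cover inf_le_left c e hx (nrm_LL_inf h1 h2)).2,
    fun hx => (mem_of_cover inf_le_right c' e hx (nrm_LL_inf h1 h2)).1⟩

theorem Sys.memLM (h : Sys I K₀) (hy : y ∈ I) (hr : r ∈ MM y) (o : orderOf r = 2) (h1 : x ∈ Cx y)
    (h2 : x ∈ Cx r) : x ∈ LL y ⊔ MM y ↔ x ∈ LL r ⊔ MM r := by
  obtain ⟨c, c'⟩ := h.cov hy hr o
  exact ⟨fun e => memLM_aux c c' e h2,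
    fun e => memLM_aux (by rwa [inf_comm]) (by rwa [inf_comm]) e h1⟩

theorem Sys.symm (h : Sys I K₀) (hy : y ∈ I) (hr : r ∈ MM y) (o : orderOf r = 2) : y ∈ MM r :=
  (h.memM hy hr o (mem_Cx.2 rfl) (Cx_comm.1 hr.1)).1 (self_mem_MM y)

theorem CC.gt_ne (h : CC I K₀ S T t g) : g * t * g⁻¹ ≠ t := fun e =>
  h.gT (h.sylT.le_of_normalizes (isPGroup_zpowers_of_mem h.syl.pgroup h.gS)
    (zpowers_le.2 (mem_Cx'.2 e)) (zpowers_le.2 h.gn) (mem_zpowers g))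

theorem CC.cjT (h : CC I K₀ S T t g) : cj g T = T := mem_normalizer_iff_cj.1 h.gn

theorem CC.le' (h : CC I K₀ S T t g) : T ≤ Cx (g * t * g⁻¹) := by
  have := cj_mono g h.sylT.le
  rwa [h.cjT, cj_centralizer_singleton] at this

theorem CC.cjR (h : CC I K₀ S T t g) : cj g (T ⊓ MM t) = T ⊓ MM (g * t * g⁻¹) := by
  rw [cj_inf, h.cjT, MM_cj]

theorem CC.nrmR (h : CC I K₀ S T t g) : T ≤ normalizer ((T ⊓ MM t : Subgroup G) : Set G) :=
  le_normalizer_inf le_normalizer (h.sylT.le.trans (MM_nrm t))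

theorem CC.nrmR' (h : CC I K₀ S T t g) : T ≤ normalizer (cj g (T ⊓ MM t) : Set G) := by
  rw [h.cjR]
  exact le_normalizer_inf le_normalizer (h.le'.trans (MM_nrm _))

theorem CC.infR (h : CC I K₀ S T t g) : T ⊓ MM t ⊓ cj g (T ⊓ MM t) = ⊥ := by
  by_contra ne
  have hP : T ⊔ zpowers g ≤ S := sup_le h.le (zpowers_le.2 h.gS)
  obtain ⟨r, hr, o, c⟩ := exists_mem_center_of_normalized (h.syl.pgroup.to_le hP)
    ((inf_le_left.trans inf_le_left).trans le_sup_left)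
    (sup_le (le_normalizer_inf h.nrmR h.nrmR') (zpowers_le.2 (mem_normalizer_iff_cj.2 (by
      rw [cj_inf, ← cj_mul, mem_normalizer_iff_cj.1 (h.nrmR h.gg), inf_comm])))) ne
  have h1 := h.max r (h.pump t h.mem r hr.1.2 o).1 _ (h.syl.pgroup.to_le hP)
    fun x hx => mem_Cx.2 (c x hx)
  have h2 := eq_of_le_of_card_ge (le_sup_left : T ≤ T ⊔ zpowers g) h1
  exact h.gT (h2.ge (mem_sup_right (mem_zpowers g)))

theorem CC.commR (h : CC I K₀ S T t g) (hx : x ∈ T ⊓ MM t) (hr : r ∈ cj g (T ⊓ MM t)) :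
    x * r = r * x := by
  have hr' : r ∈ T := by rw [h.cjR] at hr; exact hr.1
  have h1 : ⁅x, r⁆ ∈ T ⊓ MM t ⊓ cj g (T ⊓ MM t) := by
    refine ⟨?_, ?_⟩
    · rw [show ⁅x, r⁆ = x * (r * x⁻¹ * r⁻¹) by rw [commutatorElement_def]; group]
      exact mul_mem hx (conj_mem_of_mem_normalizer (h.nrmR hr') (inv_mem hx))
    · rw [commutatorElement_def]
      exact Subgroup.mul_mem _ (conj_mem_of_mem_normalizer (h.nrmR' hx.1) hr)
        (Subgroup.inv_mem _ hr)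
  rw [h.infR] at h1
  exact commutatorElement_eq_one_iff_mul_comm.1 h1

/-- `T` is a Sylow subgroup of the centraliser of every member of `I` that it centralises -/
theorem CC.syl' (h : CC I K₀ S T t g) (hy : y ∈ I) (le : T ≤ Cx y) : IsSylowIn 2 T (Cx y) := by
  obtain ⟨T', h1, -⟩ := exists_isSylowIn_ge h.sylT.pgroup le
  exact h1.of_card_le h.sylT.pgroup le (h.max y hy T' h1.pgroup h1.le)

theorem CC.not_central (h : CC I K₀ S T t g) (hy : y ∈ I) : ¬ IsTwoCentralInvolution y := by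
  rintro ⟨-, P, -, hP⟩
  have h1 := h.max y hy P P.isPGroup' fun x hx => mem_Cx.2 (hP x hx)
  rw [(IsSylowIn.of_sylow_top P).card_eq h.syl] at h1
  exact h.gT ((eq_of_le_of_card_ge h.le h1).ge h.gS)

theorem CC.swap (h : CC I K₀ S T t g) : CC I K₀ S T (g * t * g⁻¹) g :=
  ⟨h.toSys, h.conj t h.mem g, h.syl, h.syl' (h.conj t h.mem g) h.le', h.le, h.max, h.gS, h.gT,
    h.gg, h.gn⟩

end CfsgLib.GHE
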