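import Mathlib
import Cfsg.Agent.Lib.GHE.Defs
import Cfsg.Agent.Lib.GHA.SL2
import Cfsg.Agent.Lib.Unitary.UTAut
import Cfsg.Agent.Lib.Unitary.Center

/-! Groups of 2-rank at most 2: `L₂(q)`, `L₃(q)`, `U₃(q)` for odd `q`, and `U₃(4)`. -/

set_option autoImplicit false

namespace CfsgLib.GHE

open Subgroup Cfsg CfsgLib.Tech CfsgLib.DihSyl
open scoped MatrixGroups commutatorElement

section gen

variable {G : Type*} [Group G]

theorem comm_of_sq {E : Subgroup G} (h : ∀ a ∈ E, a * a = 1) {a b : G} (ha : a ∈ E) (hb : b ∈ E) :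
    a * b = b * a := by
  have := inv_eq_of_mul_eq_one_right (h _ (mul_mem ha hb))
  rw [_root_.mul_inv_rev, inv_eq_of_mul_eq_one_right (h _ ha), inv_eq_of_mul_eq_one_right (h _ hb)] at this
  exact this.symm

theorem rk_iff : PRankLE 2 2 G ↔ ∀ E : Subgroup G, (∀ a ∈ E, a * a = 1) → Nat.card E ≤ 4 :=
  ⟨fun h E hE => h E ⟨⟨fun a b => Subtype.ext (comm_of_sq hE a.2 b.2)⟩⟩ fun a ha => by rw [sq, hE a ha],
    fun h E _ hE => h E fun a ha => by rw [← sq, hE a ha]⟩

theorem rk_of_inj {H : Type*} [Group H] (h : PRankLE 2 2 H) (f : G →* H) (hf : Function.Injective f) :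
    PRankLE 2 2 G := rk_iff.2 fun E hE => by
  rw [← card_map_of_injective hf]
  refine rk_iff.1 h _ ?_
  rintro _ ⟨a, ha, rfl⟩
  rw [← map_mul, hE a ha, map_one]

theorem rk_of_equiv {H : Type*} [Group H] (h : PRankLE 2 2 H) (e : G ≃* H) : PRankLE 2 2 G :=
  rk_of_inj h e.toMonoidHom e.injective

theorem pg_of_sq {E : Subgroup G} (h : ∀ a ∈ E, a * a = 1) : IsPGroup 2 E :=
  isPGroup_iff_mem.2 fun x hx => ⟨1, by rw [pow_one, sq, h x hx]⟩

theorem rk_of_sylow [Finite G] (S : Sylow 2 G)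
    (h : ∀ E ≤ (S : Subgroup G), (∀ a ∈ E, a * a = 1) → Nat.card E ≤ 4) : PRankLE 2 2 G :=
  rk_iff.2 fun E hE => by
    obtain ⟨Q, hQ⟩ := (pg_of_sq hE).exists_le_sylow
    obtain ⟨g, rfl⟩ := MulAction.exists_smul_eq G Q S
    rw [← card_map_of_injective (f := (MulAut.conj g).toMonoidHom) (MulAut.conj g).injective]
    refine h _ (cj_mono g hQ) ?_
    rintro _ ⟨a, ha, rfl⟩
    rw [← map_mul, hE a ha, map_one]

theorem card_le_of_three [Finite G] {E : Subgroup G}
    (h : ∀ a ∈ E, ∀ b ∈ E, ∀ c ∈ E, a ≠ 1 → b ≠ 1 → c ≠ 1 → a ≠ b → a ≠ c → b ≠ c → c = a * b) :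
    Nat.card E ≤ 4 := by
  classical
  by_contra hc
  have : Fintype E := Fintype.ofFinite E
  rw [Nat.card_eq_fintype_card, not_le] at hc
  have key : ∀ s : Finset E, s.card ≤ 4 → ∃ x : E, x ∉ s := fun s hs => by
    by_contra hn
    push Not at hn
    have : s = Finset.univ := Finset.eq_univ_of_forall hn
    rw [this, Finset.card_univ] at hs
    omega
  obtain ⟨a, ha⟩ := key {1} (by simp)
  obtain ⟨b, hb⟩ := key {1, a} (Finset.card_le_two.trans (by norm_num))
  obtain ⟨c, hc⟩ := key {1, a, b, a * b} Finset.card_le_four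
  simp only [Finset.mem_insert, Finset.mem_singleton, not_or] at ha hb hc
  refine hc.2.2.2 (Subtype.ext (h a a.2 b b.2 c c.2 ?_ ?_ ?_ ?_ ?_ ?_))
  · exact fun e => ha (Subtype.ext e)
  · exact fun e => hb.1 (Subtype.ext e)
  · exact fun e => hc.1 (Subtype.ext e)
  · exact fun e => hb.2 (Subtype.ext e.symm)
  · exact fun e => hc.2.1 (Subtype.ext e.symm)
  · exact fun e => hc.2.2.1 (Subtype.ext e.symm)

theorem card_le_of_dih [Finite G] {D E : Subgroup G} {n : ℕ} {r s : G} (h : IsDih D n r s) (hE : E ≤ D)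
    (h2 : ∀ a ∈ E, a * a = 1) : Nat.card E ≤ 4 := by
  have ho : ∀ x ∈ E, ∀ y ∈ E, x ∉ zpowers r → y ∉ zpowers r → x * y ∈ zpowers r := fun x hx y hy h1 h3 => by
    obtain ⟨i, rfl | rfl⟩ := (h.mem x).1 (hE hx)
    · exact absurd (zpow_mem (mem_zpowers r) i) h1
    obtain ⟨j, rfl | rfl⟩ := (h.mem y).1 (hE hy)
    · exact absurd (zpow_mem (mem_zpowers r) j) h3
    have : r ^ i * s * (r ^ j * s) = r ^ i * r ^ (-j) := by
      rw [mul_assoc, ← mul_assoc s, h.s_mul, mul_assoc, h.ss, mul_one]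
    rw [this]
    exact mul_mem (zpow_mem (mem_zpowers r) _) (zpow_mem (mem_zpowers r) _)
  have hu : ∀ x ∈ E, ∀ y ∈ E, x ∈ zpowers r → y ∈ zpowers r → x ≠ 1 → y ≠ 1 → x = y :=
    fun x hx y hy h1 h3 x1 y1 => h.eq_of_sq h1 h3 (h2 x hx) (h2 y hy) x1 y1
  have ne : ∀ x ∈ E, ∀ y ∈ E, x ≠ y → x * y ≠ 1 := fun x hx y _ hxy e =>
    hxy (by rw [← inv_eq_of_mul_eq_one_right e, inv_eq_of_mul_eq_one_right (h2 x hx)])
  refine card_le_of_three fun a ha b hb c hc a1 b1 c1 ab ac bc => ?_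
  by_cases ea : a ∈ zpowers r
  · have eb : b ∉ zpowers r := fun e => ab (hu a ha b hb ea e a1 b1)
    have ec : c ∉ zpowers r := fun e => ac (hu a ha c hc ea e a1 c1)
    have := hu a ha _ (mul_mem hc hb) ea (ho c hc b hb ec eb) a1 (ne c hc b hb bc.symm)
    rw [this, mul_assoc, h2 b hb, mul_one]
  by_cases eb : b ∈ zpowers r
  · have ec : c ∉ zpowers r := fun e => bc (hu b hb c hc eb e b1 c1)
    have := hu b hb _ (mul_mem ha hc) eb (ho a ha c hc ea ec) b1 (ne a ha c hc ac)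
    rw [this, ← mul_assoc, h2 a ha, one_mul]
  by_cases ec : c ∈ zpowers r
  · exact hu c hc _ (mul_mem ha hb) ec (ho a ha b hb ea eb) c1 (ne a ha b hb ab)
  · have := hu _ (mul_mem ha hb) _ (mul_mem ha hc) (ho a ha b hb ea eb) (ho a ha c hc ea ec)
      (ne a ha b hb ab) (ne a ha c hc ac)
    exact absurd (mul_left_cancel this) bc

theorem rk_of_dih [Finite G] (h : GW.DihSylow G) : PRankLE 2 2 G := by
  obtain ⟨S, n, r, s, -, h⟩ := h
  exact rk_of_sylow S fun E hE h2 => card_le_of_dih h hE h2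

/-- a group of order at most 16 with an elementary abelian subgroup of order 8 has class at most 2 -/
theorem cl2_of_card [Finite G] {S E : Subgroup G} (hS : IsPGroup 2 S) (h16 : Nat.card S ≤ 16) (hE : E ≤ S)
    (h2 : ∀ a ∈ E, a * a = 1) (h4 : 4 < Nat.card E) :
    ∀ a ∈ S, ∀ b ∈ S, ∀ c ∈ S, c * ⁅a, b⁆ = ⁅a, b⁆ * c := by
  have hi : E.relIndex S = 1 ∨ E.relIndex S = 2 := by
    have e := card_mul_relIndex' hE
    obtain ⟨k, hk⟩ := (hS.index (E.subgroupOf S))
    change E.relIndex S = _ at hk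
    rcases k with _ | _ | k
    · exact .inl hk
    · exact .inr hk
    · rw [hk, pow_succ, pow_succ] at e
      have : 0 < 2 ^ k := by positivity
      nlinarith
  have hm : ∀ x ∈ S, ∀ y ∈ S, x ∉ E → y ∉ E → x * y ∈ E := fun x hx y hy h1 h3 => by
    rcases hi with hi | hi
    · exact absurd (relIndex_eq_one.1 hi hx) h1
    · exact (mul_mem_iff_of_index_two (H := E.subgroupOf S) hi (a := ⟨x, hx⟩) (b := ⟨y, hy⟩)).2
        (iff_of_false h1 h3)
  have hn : ∀ x ∈ S, ∀ e ∈ E, x * e * x⁻¹ ∈ E := fun x hx e he => by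
    by_cases h1 : x ∈ E
    · exact mul_mem (mul_mem h1 he) (inv_mem h1)
    · exact hm _ (mul_mem hx (hE he)) _ (inv_mem hx) (fun h3 => h1 ((mul_mem_cancel_right he).1 h3))
        fun h3 => h1 (inv_mem_iff.1 h3)
  -- `[x, e]` is central
  have hz : ∀ x ∈ S, ∀ e ∈ E, ∀ c ∈ S, c * (x * e * x⁻¹ * e) = x * e * x⁻¹ * e * c := fun x hx e he c hc => by
    have hx' := hn x hx e he
    by_cases h1 : x ∈ E
    · rw [comm_of_sq h2 h1 he, mul_inv_cancel_right, h2 e he, mul_one, one_mul]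
    have k : x * (x * e * x⁻¹ * e) = x * e * x⁻¹ * e * x := by
      have h3 := comm_of_sq h2 (hm x hx x hx h1 h1) he
      have h5 := comm_of_sq h2 hx' he
      calc x * (x * e * x⁻¹ * e) = x * x * e * (x * x)⁻¹ * (x * e * x⁻¹) * x := by group
        _ = e * (x * e * x⁻¹) * x := by rw [h3, mul_inv_cancel_right]
        _ = _ := by rw [← h5]
    by_cases h3 : c ∈ E
    · exact comm_of_sq h2 h3 (mul_mem hx' he)
    · have h5 := comm_of_sq h2 (hm c hc _ (inv_mem hx) h3 fun h3 => h1 (inv_mem_iff.1 h3)) (mul_mem hx' he)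
      calc c * (x * e * x⁻¹ * e) = c * x⁻¹ * (x * (x * e * x⁻¹ * e)) := by group
        _ = c * x⁻¹ * (x * e * x⁻¹ * e) * x := by rw [k]; group
        _ = _ := by rw [h5]; group
  intro a ha b hb c hc
  by_cases h1 : b ∈ E
  · rw [commutatorElement_def, inv_eq_of_mul_eq_one_right (h2 b h1)]
    exact hz a ha b h1 c hc
  by_cases h3 : a ∈ E
  · have := hz b hb a h3 c hc
    have e : ⁅a, b⁆ = (b * a * b⁻¹ * a)⁻¹ := by
      have h5 := inv_eq_of_mul_eq_one_right (h2 a h3)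
      simp only [commutatorElement_def, _root_.mul_inv_rev, inv_inv, h5, mul_assoc]
    rw [e]
    exact (Commute.inv_right this).eq
  · have h5 := hm _ (inv_mem ha) b hb (fun h => h3 (inv_mem_iff.1 h)) h1
    have h6 := hn a ha _ h5
    have := hz a ha _ h6 c hc
    have e : ⁅a, b⁆ = a * (a * (a⁻¹ * b) * a⁻¹) * a⁻¹ * (a * (a⁻¹ * b) * a⁻¹) := by
      rw [← mul_inv_eq_iff_eq_mul, inv_eq_of_mul_eq_one_right (h2 _ h6), commutatorElement_def]
      group
    rw [e]
    exact this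

end gen

section lin

variable {F : Type*} [Field F]

theorem ch3 (M : Matrix (Fin 3) (Fin 3) F) :
    (2 : F) • (M * M * M) - (2 * M.trace) • (M * M) + (M.trace ^ 2 - (M * M).trace) • M =
      (2 * M.det) • (1 : Matrix (Fin 3) (Fin 3) F) := by
  ext i j
  fin_cases i <;> fin_cases j <;>
    simp [Matrix.mul_apply, Matrix.trace, Fin.sum_univ_three, Matrix.det_fin_three] <;> ring

theorem trace_inv (h2 : (2 : F) ≠ 0) {a : Matrix (Fin 3) (Fin 3) F} (hd : a.det = 1) (ha : a * a = 1)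
    (h1 : a ≠ 1) : a.trace = -1 := by
  by_contra ht
  have h := ch3 a
  rw [ha, one_mul, hd, Matrix.trace_one, Fintype.card_fin] at h
  have ht' : a.trace + 1 ≠ 0 := fun e => ht (eq_neg_of_add_eq_zero_left e)
  have h3 : (a.trace - 1) • a = (2 : F) • (1 : Matrix (Fin 3) (Fin 3) F) := by
    apply smul_right_injective _ ht'
    simp only [smul_smul]
    rw [← sub_eq_zero] at h ⊢
    rw [← h]
    push_cast
    module
  have h4 : a.trace - 1 ≠ 0 := fun e => by
    rw [e, zero_smul] at h3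
    have := congrFun (congrFun h3 0) 0
    simp [h2.symm] at this
  obtain ⟨l, rfl⟩ : ∃ l : F, a = l • (1 : Matrix (Fin 3) (Fin 3) F) :=
    ⟨(a.trace - 1)⁻¹ * 2, by rw [mul_smul, ← h3, inv_smul_smul₀ h4]⟩
  have h5 : l * l = 1 := by simpa using congrFun (congrFun ha 0) 0
  have h6 : l ^ 3 = 1 := by simpa using hd
  have : l = 1 := by rw [← h6, pow_succ, sq, h5, one_mul]
  exact h1 (by rw [this, one_smul])

theorem mul_eq_zero3 (h2 : (2 : F) ≠ 0) {a b : Matrix (Fin 3) (Fin 3) F} (da : a.det = 1) (db : b.det = 1)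
    (ha : a * a = 1) (hb : b * b = 1) (hab : a * b = b * a) (a1 : a ≠ 1) (b1 : b ≠ 1) (ab : a * b ≠ 1) :
    (1 + a) * (1 + b) = 0 := by
  have hq : a * b * (a * b) = 1 := by
    rw [mul_assoc, ← mul_assoc b, ← hab, mul_assoc, hb, mul_one, ha]
  have t := trace_inv h2 (by rw [Matrix.det_mul, da, db, one_mul]) hq ab
  obtain ⟨e, he⟩ : ∃ e, e = (1 + a) * (1 + b) := ⟨_, rfl⟩
  have ea : a * e = e := by rw [he, ← mul_assoc, mul_add a, ha, mul_one, add_comm a]
  have eb : b * e = e := by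
    have : b * (1 + a) = (1 + a) * b := by rw [mul_add, add_mul, hab, mul_one, one_mul]
    rw [he, ← mul_assoc, this, mul_assoc, mul_add b, hb, mul_one, add_comm b]
  have ee : e * e = (4 : F) • e := by
    conv_lhs => arg 1; rw [he]
    rw [mul_assoc, add_mul 1 b, eb, one_mul, add_mul, one_mul, mul_add, ea]
    module
  have te : e.trace = 0 := by
    rw [he, add_mul, mul_add, mul_add, one_mul, one_mul, mul_one]
    simp only [Matrix.trace_add, trace_inv h2 da ha a1, trace_inv h2 db hb b1, t, Matrix.trace_one,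
      Fintype.card_fin]
    push_cast
    ring
  have h := ch3 e
  rw [ee, smul_mul_assoc, ee, Matrix.trace_smul, te] at h
  have h3 : (32 : F) • e = (2 * e.det) • (1 : Matrix (Fin 3) (Fin 3) F) := by
    rw [← h]
    simp only [smul_eq_mul, mul_zero]
    module
  have h32 : (32 : F) ≠ 0 := by
    have := pow_ne_zero 5 h2
    norm_num at this
    exact this
  have h4 : (2 * e.det) • a = (2 * e.det) • (1 : Matrix (Fin 3) (Fin 3) F) := by
    rw [← h3, ← ea, ← mul_smul_comm, ea, h3, mul_smul_comm, mul_one]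
  have h5 : 2 * e.det = 0 := by
    by_contra hn
    exact a1 (smul_right_injective _ hn h4)
  rw [h5, zero_smul] at h3
  rw [← he]
  exact (smul_eq_zero.1 h3).resolve_left h32

theorem rk_sl3 (h2 : (2 : F) ≠ 0) [Finite F] : PRankLE 2 2 SL(3, F) := rk_iff.2 fun E hE => by
  refine card_le_of_three fun a ha b hb c hc a1 b1 c1 ab ac bc => ?_
  by_contra hn
  have ne : ∀ x ∈ E, ∀ y ∈ E, x ≠ y → x * y ≠ 1 := fun x hx y _ hxy e =>
    hxy (by rw [← inv_eq_of_mul_eq_one_right e, inv_eq_of_mul_eq_one_right (hE x hx)])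
  have key : ∀ y ∈ E, y ≠ 1 → a ≠ y → (1 + a.1) * y.1 = -(1 + a.1) := fun y hy y1 ay => by
    have := mul_eq_zero3 h2 a.2 y.2 (congrArg Subtype.val (hE a ha)) (congrArg Subtype.val (hE y hy))
      (congrArg Subtype.val (comm_of_sq hE ha hy)) (fun e => a1 (Subtype.ext e))
      (fun e => y1 (Subtype.ext e)) fun e => ne a ha y hy ay (Subtype.ext e)
    rw [mul_add, mul_one] at this
    exact eq_neg_of_add_eq_zero_right this
  have h3 := key (b * c) (mul_mem hb hc) (ne b hb c hc bc) fun e => hn (by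
    rw [e, mul_assoc, comm_of_sq hE hc hb, ← mul_assoc, hE b hb, one_mul])
  rw [Matrix.SpecialLinearGroup.coe_mul, ← mul_assoc, key b hb b1 ab, neg_mul, key c hc c1 ac, neg_neg] at h3
  have h4 : (2 : F) • (1 + a.1) = 0 := by rw [two_smul]; exact add_eq_zero_iff_eq_neg.2 h3
  have h5 : a.1 = -1 := eq_neg_of_add_eq_zero_right ((smul_eq_zero.1 h4).resolve_left h2)
  have h6 := a.2
  rw [h5, Matrix.det_neg, Matrix.det_one] at h6
  apply h2
  norm_num at h6
  linear_combination -h6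

/-- the rank does not grow in a quotient by a central subgroup of exponent 3 -/
theorem rk_quot {Y : Type*} [Group Y] [Finite Y] (h : PRankLE 2 2 Y) (h3 : ∀ z ∈ center Y, z ^ 3 = 1) :
    PRankLE 2 2 (Y ⧸ center Y) := rk_iff.2 fun E hE => by
  have z1 : ∀ z ∈ center Y, z * z = 1 → z = 1 := fun z hz e => by
    rw [← h3 z hz, pow_succ, sq, e, one_mul]
  have mk : ∀ y : Y, (y : Y ⧸ center Y) = 1 ↔ y ∈ center Y := fun y => QuotientGroup.eq_one_iff y
  have cm : ∀ a b : Y, (a : Y ⧸ center Y) ∈ E → (b : Y ⧸ center Y) ∈ E → b * b = 1 → a * b = b * a :=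
    fun a b ha hb bb => by
      have h1 : a * b * a⁻¹ * b⁻¹ ∈ center Y := by
        rw [← mk]
        simp only [QuotientGroup.mk_mul, QuotientGroup.mk_inv]
        rw [comm_of_sq hE ha hb]
        group
      have h4 := mem_center_iff.1 h1
      have h5 : a * b * a⁻¹ * b⁻¹ * (a * b * a⁻¹ * b⁻¹) = 1 := by
        calc a * b * a⁻¹ * b⁻¹ * (a * b * a⁻¹ * b⁻¹)
            = a * b * a⁻¹ * (b⁻¹ * (a * b * a⁻¹ * b⁻¹)) := by group
          _ = a * (b * b) * a⁻¹ * (b * b)⁻¹ := by rw [h4]; group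
          _ = 1 := by rw [bb]; group
      have := z1 _ h1 h5
      rwa [mul_inv_eq_one, mul_inv_eq_iff_eq_mul] at this
  let A : Subgroup Y :=
    { carrier := {y | (y : Y ⧸ center Y) ∈ E ∧ y * y = 1}
      one_mem' := ⟨E.one_mem, one_mul 1⟩
      mul_mem' := fun {a b} ha hb => ⟨E.mul_mem ha.1 hb.1, by
        rw [mul_assoc, ← mul_assoc b, ← cm a b ha.1 hb.1 hb.2, mul_assoc, hb.2, mul_one, ha.2]⟩
      inv_mem' := fun {a} ha => ⟨E.inv_mem ha.1, by rw [← _root_.mul_inv_rev, ha.2, inv_one]⟩ }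
  refine le_trans (Nat.card_le_card_of_surjective (fun a : A => (⟨(a : Y), a.2.1⟩ : E)) fun e => ?_)
    (rk_iff.1 h A fun a ha => ha.2)
  obtain ⟨e, he⟩ := e
  obtain ⟨y, rfl⟩ := QuotientGroup.mk_surjective e
  have h1 : y * y ∈ center Y := by rw [← mk, QuotientGroup.mk_mul, hE _ he]
  have h4 : ((y ^ 3 : Y) : Y ⧸ center Y) = y := by
    rw [pow_succ, sq, QuotientGroup.mk_mul, (mk _).2 h1, one_mul]
  refine ⟨⟨y ^ 3, h4 ▸ he, ?_⟩, Subtype.ext h4⟩
  rw [← h3 _ h1, ← sq, ← sq, ← pow_mul, ← pow_mul]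

variable [Fintype F]

theorem two_ne_of_odd (hF : Odd (Fintype.card F)) : (2 : F) ≠ 0 := fun h => by
  obtain ⟨k, hk⟩ := hF
  have := FiniteField.cast_card_eq_zero F
  rw [hk] at this
  push_cast at this
  rw [h, zero_mul, zero_add] at this
  exact one_ne_zero this

theorem rk_psl2 (hF : Odd (Fintype.card F)) : PRankLE 2 2 PSL(2, F) := rk_of_dih (GHA.S2.dihSylow hF)

theorem rk_psl3 (hF : Odd (Fintype.card F)) : PRankLE 2 2 PSL(3, F) :=
  rk_quot (rk_sl3 (two_ne_of_odd hF)) fun z hz => by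
    obtain ⟨r, hr, e⟩ := Matrix.SpecialLinearGroup.mem_center_iff.1 hz
    apply Subtype.ext
    rw [Matrix.SpecialLinearGroup.coe_pow, ← e, ← map_pow]
    rw [Fintype.card_fin] at hr
    rw [hr, map_one, Matrix.SpecialLinearGroup.coe_one]

theorem rk_psu3 {q : ℕ} (hF : Fintype.card F = q ^ 2) (hq : Odd q) : PRankLE 2 2 (PSU 3 F q) :=
  rk_quot (rk_of_inj (rk_sl3 (two_ne_of_odd (hF ▸ hq.pow))) (SU 3 F q).subtype
    (SU 3 F q).subtype_injective) fun z hz => by
    have h1 : (⟨z, hz⟩ : center (SU 3 F q)) ^ 3 = 1 := orderOf_dvd_iff_pow_eq_one.1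
      ((_root_.orderOf_dvd_natCard _).trans
        (Unitary.card_center_SU (n := 3) hF (by norm_num) ▸ Nat.gcd_dvd_left _ _))
    exact congrArg Subtype.val h1

theorem rk_u34 (hF : Fintype.card F = 16) : PRankLE 2 2 (PSU 3 F 4) := by
  have : Fact (Fintype.card F = 4 ^ 2) := ⟨hF⟩
  have h2 : (2 : F) = 0 := Unitary.two_eq_zero_of_card (n := 4) hF
  obtain ⟨P⟩ : Nonempty (Sylow 2 (PSU 3 F 4)) := inferInstance
  obtain ⟨e⟩ := Unitary.sylow_PSU_iso h2 P
  have : Finite (Unitary.UT F 4) := .of_equiv _ e.toEquiv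
  have h : PRankLE 2 2 (Unitary.UT F 4) := rk_iff.2 fun E hE => by
    exact (card_le_of_le fun u hu => Unitary.UT.mem_center_iff.2
      ((Unitary.UT.mul_self_eq_one_iff h2).1 (hE u hu))).trans (Unitary.UT.card_center (F := F) (q := 4)).le
  refine rk_of_sylow P fun E hE h3 => ?_
  rw [← Nat.card_congr (subgroupOfEquivOfLe hE).toEquiv]
  exact rk_iff.1 (rk_of_equiv h e) _ fun a ha => Subtype.ext (h3 a ha)

end lin

end CfsgLib.GHE
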