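import Mathlib
import Cfsg.Agent.Lib.GHE.Defs
import Cfsg.Agent.Lib.GHE.Defs3
import Cfsg.Agent.Lib.GHE.Rk2
import Cfsg.Agent.Lib.Transfer.Cocycle
import Cfsg.Agent.Lib.PD.ToolsA
import Cfsg.Agent.Lib.ZStar.Main

/-! Package TOOL1: transfer and fusion.  See `plans/GHE.md`. -/

set_option autoImplicit false

namespace CfsgLib.GHE

open Subgroup Cfsg CfsgLib.W2 CfsgLib.Tech CfsgLib.Sect CfsgLib.PComp CfsgLib.DihSyl
  CfsgLib.GW.Cor
open CfsgLib.LBal hiding cj
open scoped MatrixGroups commutatorElement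

universe u

variable {G : Type u} [Group G] [Finite G]

variable {S T M Q : Subgroup G} {y t z : G}

omit [Finite G] in
theorem Ctx.t1_perf (h : Ctx G) : _root_.commutator G = ⊤ := by
  have := h.simple
  refine (inferInstance : (_root_.commutator G).Normal).eq_bot_or_eq_top.resolve_left fun e => ?_
  refine h.ncomm ⟨⟨fun a b => ?_⟩⟩
  have : ⁅a, b⁆ ∈ _root_.commutator G := commutator_mem_commutator (mem_top a) (mem_top b)
  rw [e, mem_bot] at this
  exact commutatorElement_eq_one_iff_mul_comm.1 this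

omit [Finite G] in
/-- `G` has no subgroup of index two -/
theorem Ctx.t1_idx (h : Ctx G) (N : Subgroup G) : N.index ≠ 2 := fun e => by
  have := N.normal_of_index_eq_two e
  have h1 : _root_.commutator G ≤ N := by
    rw [_root_.commutator, commutator_le]
    intro a _ b _
    rw [commutatorElement_def, mul_assoc, mul_assoc, mul_mem_iff_of_index_two e, mul_mem_iff_of_index_two e,
      mul_mem_iff_of_index_two e, inv_mem_iff, inv_mem_iff]
    tauto
  rw [h.t1_perf, top_le_iff] at h1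
  rw [h1, index_top] at e
  omega

open CfsgLib.Transfer in
/-- transfer into `S / M`, with an extremal conclusion -/
theorem Ctx.transfer_ext (h : Ctx G) (hS : IsSylowIn 2 S ⊤)
    (hM : ∀ a ∈ S, ∀ b ∈ S, ⁅a, b⁆ ∈ M) (yS : y ∈ S) (yM : y ∉ M)
    (one : ∀ c : G, c * y * c⁻¹ ∈ S → c * y * c⁻¹ ∈ M ∨ c * y * c⁻¹ * y⁻¹ ∈ M)
    (pw : ∀ k : ℕ, ∀ c : G, c * y ^ 2 ^ (k + 1) * c⁻¹ ∈ S → c * y ^ 2 ^ (k + 1) * c⁻¹ ∈ M)
    (hQ : IsPGroup 2 Q) (le : Q ≤ Cx y) : ∃ c : G, c * y * c⁻¹ ∈ S ⊓ M ∧ cj c Q ≤ S := by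
  classical
  have := Fintype.ofFinite (G ⧸ S)
  have := Fact.mk Nat.prime_two
  let N : Subgroup (Abelianization S) := (M.subgroupOf S).map Abelianization.of
  let ϕ : S →* Abelianization S ⧸ N := (QuotientGroup.mk' N).comp Abelianization.of
  have hϕ : ∀ s : S, ϕ s = 1 ↔ (s : G) ∈ M := fun s => by
    have h1 : _root_.commutator S ≤ M.subgroupOf S := by
      rw [_root_.commutator, commutator_le]
      exact fun a _ b _ => hM a a.2 b b.2
    have h2 : N.comap Abelianization.of = M.subgroupOf S :=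
      comap_map_eq_self (by rwa [Abelianization.ker_of])
    rw [← mem_subgroupOf, ← h2, mem_comap]
    exact QuotientGroup.eq_one_iff _
  have hc := isCocycle_cosetCocycle ϕ
  have htr : tr ϕ y = 1 := Abelianization.commutator_subset_ker _ (h.t1_perf ▸ mem_top y)
  obtain ⟨n, hn⟩ := isPGroup_iff_mem.1 hS.pgroup y yS
  set σ := ϕ ⟨y, yS⟩ with hσ
  have σ1 : σ ≠ 1 := fun e => yM ((hϕ _).1 e)
  have σ2 : σ ^ 2 = 1 := by
    rw [hσ, ← map_pow, hϕ]
    simpa using pw 0 1 (by simpa using pow_mem yS 2)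
  let Z : SubMulAction Q (G ⧸ S) :=
    { carrier := {q | y • q = q ∧ cosetCocycle ϕ y q = 1}
      smul_mem' := fun r q hq => by
        have h3 : (r : G) * y * (r : G)⁻¹ = y := mem_Cx'.1 (le r.2)
        refine ⟨?_, ?_⟩
        · change y • (r : G) • q = (r : G) • q
          rw [← mul_smul, ← mem_Cx.1 (le r.2), mul_smul, hq.1]
        · change cosetCocycle ϕ y ((r : G) • q) = 1
          rw [← hq.2, ← hc.conj r hq.1, h3] }
  have hodd : ¬ 2 ∣ Nat.card Z := by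
    intro hd
    let F : Finset (G ⧸ S) := Finset.univ.filter fun q => y • q = q
    have e1 : ∏ q ∈ Finset.univ.filter (fun q => ¬ y • q = q), cosetCocycle ϕ y q = 1 := by
      refine hc.prod_eq_one (zpowers y) _ ?_ ?_ (mem_zpowers y)
      · intro k hk q hq
        refine Finset.mem_filter.2 ⟨Finset.mem_univ _, fun e => (Finset.mem_filter.1 hq).2 ?_⟩
        obtain ⟨j, rfl⟩ := mem_zpowers_iff.1 hk
        rw [← mul_smul, (Commute.self_zpow y j).eq, mul_smul] at e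
        exact MulAction.injective _ e
      · intro k hk q hq e
        induction q using QuotientGroup.induction_on with | H c => ?_
        have h5 := smul_mk_eq_iff.1 e
        rw [cosetCocycle_mk ϕ h5, hϕ]
        change c⁻¹ * k * c ∈ M
        obtain ⟨j, rfl⟩ := (Submonoid.mem_powers_iff _ _).1 (mem_powers_iff_mem_zpowers.2 hk)
        rcases Nat.eq_zero_or_pos j with rfl | hj
        · simp
        obtain ⟨i, u, hu, rfl⟩ := Nat.exists_eq_two_pow_mul_odd hj.ne'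
        have h6 : y ^ 2 ^ i ∈ cj c S := by
          refine mem_of_coprime_pow (a := u) (b := 2 ^ n) (Nat.Coprime.pow_right _ hu.coprime_two_right)
            (by rw [← pow_mul]; exact mem_cj.2 h5) ?_
          rw [← pow_mul, mul_comm, pow_mul, hn, one_pow]
          exact one_mem _
        rcases i with _ | i
        · exact absurd (smul_mk_eq_iff.2 (by simpa using mem_cj.1 h6)) (Finset.mem_filter.1 hq).2
        · have h7 := pw i c⁻¹ (by simpa using mem_cj.1 h6)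
          have h8 : y ^ 2 ^ (i + 1) ∈ cj c M := mem_cj.2 (by simpa using h7)
          exact mem_cj.1 (by rw [pow_mul]; exact pow_mem h8 u)
    have e2 : ∏ q ∈ F, cosetCocycle ϕ y q = 1 := by
      have := Finset.prod_filter_mul_prod_filter_not Finset.univ (fun q : G ⧸ S => y • q = q)
        (cosetCocycle ϕ y)
      rwa [e1, mul_one, ← tr_apply, htr] at this
    have e3 : ∏ q ∈ F.filter (fun q => ¬ cosetCocycle ϕ y q = 1), cosetCocycle ϕ y q =
        σ ^ (F.filter (fun q => ¬ cosetCocycle ϕ y q = 1)).card := by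
      refine Finset.prod_eq_pow_card fun q hq => ?_
      induction q using QuotientGroup.induction_on with | H c => ?_
      obtain ⟨h3, h4⟩ := Finset.mem_filter.1 hq
      have h5 := smul_mk_eq_iff.1 (Finset.mem_filter.1 h3).2
      rw [cosetCocycle_mk ϕ h5] at h4 ⊢
      rcases one c⁻¹ (by simpa using h5) with h6 | h6
      · exact absurd ((hϕ _).2 (by simpa using h6)) h4
      · rw [hσ, ← mul_inv_eq_one, ← map_inv, ← map_mul, hϕ]
        simpa using h6
    have e4 := Finset.prod_filter_mul_prod_filter_not F (fun q => cosetCocycle ϕ y q = 1)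
      (cosetCocycle ϕ y)
    rw [e2, e3, Finset.prod_eq_one fun q hq => (Finset.mem_filter.1 hq).2, one_mul,
      ← orderOf_dvd_iff_pow_eq_one, orderOf_eq_prime σ2 σ1] at e4
    have e5 := Finset.card_filter_add_card_filter_not (s := F) (fun q => cosetCocycle ϕ y q = 1)
    have e6 : (F.filter (fun q => cosetCocycle ϕ y q = 1)).card = Nat.card Z := by
      rw [Finset.filter_filter, ← Fintype.card_subtype, ← Nat.card_eq_fintype_card]
      rfl
    have e7 : F.card = Nat.card (MulAction.fixedPoints (zpowers y) (G ⧸ S)) := by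
      rw [← Fintype.card_subtype, ← Nat.card_eq_fintype_card]
      refine Nat.card_congr (Equiv.subtypeEquivRight fun q => ⟨fun e k => ?_, fun e => e ⟨y, mem_zpowers y⟩⟩)
      exact (zpowers_le.2 (show y ∈ MulAction.stabilizer G q from e)) k.2
    have e8 := (isPGroup_zpowers_of_pow hn).card_modEq_card_fixedPoints (G ⧸ S)
    have e9 : ¬ 2 ∣ Nat.card (G ⧸ S) := by
      have := hS.not_dvd
      rwa [relIndex_top_right] at this
    rw [← e7, ← e5, e6] at e8
    exact e9 ((e8.dvd_iff dvd_rfl).2 (dvd_add hd e4))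
  obtain ⟨⟨q, hq1, hq2⟩, hq⟩ := hQ.nonempty_fixed_point_of_prime_not_dvd_card Z hodd
  induction q using QuotientGroup.induction_on with | H c => ?_
  have h5 := smul_mk_eq_iff.1 hq1
  rw [cosetCocycle_mk ϕ h5, hϕ] at hq2
  refine ⟨c⁻¹, ⟨by simpa using h5, by simpa using hq2⟩, cj_le_iff.2 fun r hr => ?_⟩
  simpa using smul_mk_eq_iff.1 (congrArg Subtype.val (hq ⟨r, hr⟩))

theorem Ctx.transfer_inv (h : Ctx G) (hS : IsSylowIn 2 S ⊤)
    (hM : ∀ a ∈ S, ∀ b ∈ S, ⁅a, b⁆ ∈ M) (yS : y ∈ S) (yy : y * y = 1)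
    (one : ∀ c : G, c * y * c⁻¹ ∈ S → c * y * c⁻¹ ∈ M ∨ c * y * c⁻¹ * y⁻¹ ∈ M)
    (hQ : IsPGroup 2 Q) (le : Q ≤ Cx y) (yM : y ∉ M) :
    ∃ c : G, c * y * c⁻¹ ∈ S ⊓ M ∧ cj c Q ≤ S :=
  h.transfer_ext hS hM yS yM one (fun k c _ => by
    rw [pow_succ', pow_mul, pow_two, yy, one_pow, mul_one, mul_inv_cancel]
    exact one_mem _) hQ le

/-- extremal conjugation -/
theorem exists_extremal (hT : IsSylowIn 2 T (Cx t)) (c : IsConj y t) (hQ : IsPGroup 2 Q)
    (le : Q ≤ Cx y) : ∃ g : G, g * y * g⁻¹ = t ∧ cj g Q ≤ T := by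
  have := Fact.mk Nat.prime_two
  obtain ⟨k, rfl⟩ := isConj_iff.1 c
  obtain ⟨g, hg, h1⟩ := hT.exists_cj_le (isPGroup_cj k hQ) (cj_Cx k y ▸ cj_mono k le)
  refine ⟨g * k, ?_, by rwa [cj_mul]⟩
  rw [← mem_Cx'.1 hg]
  conv_rhs => rw [mem_Cx'.1 hg]
  rw [← mem_Cx'.1 hg]
  group

theorem exists_extremal' (hS : IsSylowIn 2 S ⊤) (y : G) (e : E2 y) :
    ∃ g : G, g * y * g⁻¹ ∈ S ∧ IsSylowIn 2 (S ⊓ Cx (g * y * g⁻¹)) (Cx (g * y * g⁻¹)) := by
  have := Fact.mk Nat.prime_two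
  obtain ⟨k, hk⟩ := e
  obtain ⟨Q, hQ, le⟩ := exists_isSylowIn_ge (H := Cx y) (isPGroup_zpowers_of_pow hk)
    (zpowers_le.2 (mem_Cx.2 rfl))
  obtain ⟨g, -, h1⟩ := hS.exists_cj_le hQ.pgroup le_top
  have h2 := hQ.cj g
  rw [cj_Cx] at h2
  refine ⟨g, h1 (conj_mem_cj.2 (le (mem_zpowers y))), ?_⟩
  rwa [h2.eq_of_le (hS.pgroup.to_le inf_le_left) (le_inf h1 h2.le) inf_le_right]

/-- Burnside -/
theorem conj_center (hS : IsSylowIn 2 S ⊤) (hy : y ∈ S) (ht : t ∈ S) (cy : S ≤ Cx y)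
    (ct : S ≤ Cx t) (c : IsConj y t) : ∃ n ∈ normalizer (S : Set G), n * y * n⁻¹ = t := by
  have _ := hy
  have _ := ht
  obtain ⟨g, h1, h2⟩ := exists_extremal (hS.of_le ct le_top) c hS.pgroup cy
  exact ⟨g, mem_normalizer_of_cj_le h2, h1⟩

theorem Ctx.zstar (h : Ctx G) (hS : IsSylowIn 2 S ⊤) (hz : z ∈ S) (o : orderOf z = 2) :
    ∃ y ∈ S, y ≠ z ∧ IsConj z y ∧ y * z = z * y := by
  have := Fact.mk Nat.prime_two
  have := h.simple
  by_cases hc : S ≤ Cx z
  · have h1 := ZStar.not_isolated_of_simple h.ncomm z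
    simp only [IsIsolatedInvolution, o, true_and, not_forall] at h1
    obtain ⟨g, h2, h3⟩ := h1
    obtain ⟨c, h4, h5⟩ := (hS.of_le hc le_top).exists_conj_mem (mem_Cx.2 h2.eq.symm)
      (isPGroup_zpowers_iff.2 ⟨1, by rw [ord_conj, o, pow_one]⟩)
    refine ⟨_, h5, fun e => h3 ?_, (isConj_iff.2 ⟨g, rfl⟩).trans (isConj_iff.2 ⟨c, rfl⟩),
      mem_Cx.1 (hc h5)⟩
    rw [← mem_Cx'.1 h4] at e
    simpa [mem_Cx'.1 h4] using (MulAut.conj c).injective (a₁ := g * z * g⁻¹) (a₂ := z)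
      (by simpa [mem_Cx'.1 h4] using e)
  · obtain ⟨s, h1, h2, h3⟩ := exists_mem_normalizer_of_lt (Q := S ⊓ Cx z) hS.pgroup
      (lt_of_le_of_ne inf_le_left fun e => hc (e ▸ inf_le_right))
    have h4 := conj_mem_of_mem_normalizer h3 (show z ∈ S ⊓ Cx z from ⟨hz, mem_Cx.2 rfl⟩)
    exact ⟨_, h4.1, fun e => h2 ⟨h1, mem_Cx'.2 e⟩, isConj_iff.2 ⟨s, rfl⟩, mem_Cx.1 h4.2⟩

theorem exists_normal_v4 (hS : IsPGroup 2 S) {E : Subgroup G} (le : E ≤ S) (hE : ∀ x ∈ E, x * x = 1)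
    (c : 8 ≤ Nat.card E) : ∃ W ≤ S, V4 W ∧ S ≤ normalizer (W : Set G) := by
  rcases PD.ToolsA.exists_four_or_cyclic hS with ⟨A, h1, h2, h3⟩ | ⟨x, h1, h2⟩
  · exact ⟨A, h1.1, ⟨h3, h2⟩, h1.2⟩
  exfalso
  have h3 : (zpowers x).relIndex E ≤ 2 :=
    (relIndex_le_of_le_right le FiniteIndex.index_ne_zero).trans h2
  have h4 := card_mul_relIndex' (inf_le_right : zpowers x ⊓ E ≤ E)
  rw [inf_relIndex_right] at h4
  have : IsCyclic (zpowers x ⊓ E : Subgroup G) := isCyclic_of_le inf_le_left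
  have h5 : Nat.card (zpowers x ⊓ E : Subgroup G) ∣ 2 := by
    rw [← IsCyclic.exponent_eq_card]
    exact Monoid.exponent_dvd_of_forall_pow_eq_one fun a => Subtype.ext (by
      rw [pow_two]; exact hE a a.2.2)
  have h6 := Nat.le_of_dvd two_pos h5
  nlinarith

omit [Finite G] in
/-- the elements of a four-group -/
theorem V4.t1_mem {W : Subgroup G} (h : V4 W) {w a x : G} (hw : w ∈ W) (ha : a ∈ W) (w1 : w ≠ 1)
    (a1 : a ≠ 1) (aw : a ≠ w) (hx : x ∈ W) : x = 1 ∨ x = w ∨ x = a ∨ x = a * w := by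
  classical
  by_contra hn
  push Not at hn
  obtain ⟨h1, h2, h3, h4⟩ := hn
  have : Finite W := Nat.finite_of_card_ne_zero (by rw [h.2]; omega)
  have h5 : a * w ≠ 1 := fun e => aw (by rw [← mul_one a, ← h.1 w hw, ← mul_assoc, e, one_mul])
  have h6 : a * w ≠ w := fun e => a1 (by simpa using e)
  have h7 : a * w ≠ a := fun e => w1 (by simpa using e)
  have h8 : (({x, 1, w, a, a * w} : Finset G) : Set G) ⊆ W := by
    intro u hu
    simp only [Finset.coe_insert, Finset.coe_singleton, Set.mem_insert_iff, Set.mem_singleton_iff] at hu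
    rcases hu with rfl | rfl | rfl | rfl | rfl
    exacts [hx, one_mem _, hw, ha, mul_mem ha hw]
  have h9 := Set.ncard_le_ncard h8 (Set.toFinite _)
  rw [Set.ncard_coe_finset, ← Nat.card_coe_set_eq, Finset.card_insert_of_notMem (by simp [*]),
    Finset.card_insert_of_notMem (by simp [w1.symm, a1.symm, h5.symm]),
    Finset.card_insert_of_notMem (by simp [aw.symm, h6.symm]),
    Finset.card_insert_of_notMem (by simp [h7.symm]), Finset.card_singleton] at h9
  have := h.2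
  change _ ≤ Nat.card W at h9
  omega

/-- the centraliser of a normal four-group has index at most two -/
theorem V4.t1_cent {W : Subgroup G} (h : V4 W) (hS : IsPGroup 2 S) (le : W ≤ S)
    (n : S ≤ normalizer (W : Set G)) : ∃ w a, w ∈ W ∧ a ∈ W ∧ w ≠ 1 ∧ a ≠ 1 ∧ a ≠ w ∧ S ≤ Cx w ∧
      ∀ s ∈ S, s * a * s⁻¹ = a ∨ s * a * s⁻¹ = a * w := by
  have := Fact.mk Nat.prime_two
  have h1 : W ≠ ⊥ := fun e => by
    have := h.2
    rw [e, card_bot] at this
    omega
  obtain ⟨w, w0, w2, hw⟩ : ∃ w ∈ W, w ≠ 1 ∧ S ≤ Cx w := by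
    obtain ⟨w, h2, h3, h4⟩ := Tech.exists_mem_center_of_normalized hS le n h1
    exact ⟨w, h2, ne_one_of_ord h3, fun s hs => mem_Cx.2 (h4 s hs)⟩
  obtain ⟨a, ha, a1, aw⟩ : ∃ a ∈ W, a ≠ 1 ∧ a ≠ w := by
    by_contra hn
    push Not at hn
    have h2 : W ≤ zpowers w := fun x hx => by
      by_cases e : x = 1
      · exact e ▸ one_mem _
      · exact hn x hx e ▸ mem_zpowers _
    have h3 := card_le_of_le h2
    rw [h.2, Nat.card_zpowers, ord_two (h.1 _ w0) w2] at h3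
    omega
  refine ⟨w, a, w0, ha, w2, a1, aw, hw, fun s hs => ?_⟩
  rcases h.t1_mem w0 ha w2 a1 aw (conj_mem_of_mem_normalizer (n hs) ha) with e | e | e
  · exact absurd (by simpa using e) a1
  · rw [← mem_Cx'.1 (hw hs)] at e
    exact absurd (by simpa using e) aw
  · exact e

/-- a Sylow 2-subgroup of an involution centraliser contains a normal four-subgroup of a Sylow
2-subgroup of `G` -/
theorem Ctx.d3 (h : Ctx G) (r : ¬ PRankLE 2 2 G) (o : orderOf t = 2) (hT : IsSylowIn 2 T (Cx t)) :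
    ∃ S W : Subgroup G, IsSylowIn 2 S ⊤ ∧ T ≤ S ∧ V4 W ∧ W ≤ T ∧ S ≤ normalizer (W : Set G) := by
  have := Fact.mk Nat.prime_two
  obtain ⟨S, hS, -⟩ := exists_isSylowIn_ge hT.pgroup le_top
  rw [rk_iff] at r
  push Not at r
  obtain ⟨E, h1, h2⟩ := r
  obtain ⟨k, hk⟩ := IsPGroup.iff_card.1 (pg_of_sq h1)
  have h3 : 8 ≤ Nat.card E := by
    rw [hk] at h2 ⊢
    exact Nat.pow_le_pow_right (n := 2) (i := 3) two_pos
      ((Nat.pow_lt_pow_iff_right (a := 2) (n := 2) one_lt_two).1 h2)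
  obtain ⟨g, -, h4⟩ := hS.exists_cj_le (pg_of_sq h1) le_top
  obtain ⟨W, h5, h6, h7⟩ := exists_normal_v4 hS.pgroup h4 (fun x hx => by
    have := h1 _ (mem_cj.1 hx)
    rw [show x * x = g * (g⁻¹ * x * g * (g⁻¹ * x * g)) * g⁻¹ by group, this]
    group) (by rwa [card_cj])
  obtain ⟨w, a, hw, ha, w1, a1, aw, cw, h8⟩ := h6.t1_cent hS.pgroup h5 h7
  have ww := h6.1 w hw
  obtain ⟨c, h9, h10⟩ : ∃ c : G, c * t * c⁻¹ ∈ S ⊓ Cx a ∧ cj c T ≤ S := by
    by_cases hc : S ≤ Cx a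
    · obtain ⟨c, -, h9⟩ := hS.exists_cj_le hT.pgroup le_top
      have : c * t * c⁻¹ ∈ S := h9 (conj_mem_cj.2 (hT.le_of_le_normalizer
        (isPGroup_zpowers_iff.2 ⟨1, by rw [o, pow_one]⟩) (zpowers_le.2 (mem_Cx.2 rfl))
        (fun x hx => mem_normalizer_iff_cj.2 (by rw [cj_zpowers, mem_Cx'.1 hx])) (mem_zpowers t)))
      exact ⟨c, ⟨this, hc this⟩, h9⟩
    · obtain ⟨s, hs, sa⟩ := SetLike.not_le_iff_exists.1 hc
      have e1 := (h8 s hs).resolve_left fun e => sa (mem_Cx'.2 e)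
      have hi : (S ⊓ Cx a).relIndex S = 2 := by
        refine index_eq_two_iff.2 ⟨⟨s, hs⟩, fun b => ?_⟩
        simp only [mem_subgroupOf, mem_inf, coe_mul, mem_Cx', mul_mem b.2 hs, b.2, true_and]
        have e2 : b * s * a * ((b : G) * s)⁻¹ = b * a * (b : G)⁻¹ * w := by
          rw [← mem_Cx'.1 (cw b.2), show (b : G) * s * a * ((b : G) * s)⁻¹ =
            b * (s * a * s⁻¹) * (b : G)⁻¹ by group, e1]
          group
        rw [e2]
        rcases h8 b b.2 with e | e <;> rw [e]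
        · exact Or.inr ⟨rfl, by simpa using w1⟩
        · exact Or.inl ⟨by rw [mul_assoc, ww, mul_one], by simpa using w1⟩
      obtain ⟨c, h9, h10⟩ := Transfer.thompson_transfer_extremal h.t1_idx
        (by rw [← relIndex_top_right]; exact hS.not_dvd) hi (sq_of_ord o) hT.pgroup hT.le
      exact ⟨c⁻¹, by simpa using h9, cj_le_iff.2 fun x hx => by simpa using h10 x hx⟩
  have h11 := hT.cj c
  rw [cj_Cx] at h11
  have h12 : W ≤ cj c T := by
    rw [← h11.eq_of_le (hS.pgroup.to_le inf_le_left) (le_inf h10 h11.le) inf_le_right]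
    refine le_inf h5 fun x hx => Cx_comm.1 ?_
    rcases h6.t1_mem hw ha w1 a1 aw hx with e | e | e | e <;> rw [e]
    · exact mem_Cx.2 (by simp)
    · exact cw h9.1
    · exact h9.2
    · exact Cx_comm.1 (mul_mem (Cx_comm.1 h9.2) (Cx_comm.1 (cw h9.1)))
  refine ⟨cj c⁻¹ S, cj c⁻¹ W, hS.cj_of_mem (mem_top _), ?_, ⟨fun x hx => ?_, ?_⟩, ?_, ?_⟩
  · rw [← cj_inv_cj c T]
    exact cj_mono _ h10
  · have := h6.1 _ (mem_cj.1 hx)
    rw [show x * x = c⁻¹ * (c⁻¹⁻¹ * x * c⁻¹ * (c⁻¹⁻¹ * x * c⁻¹)) * c by group, this]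
    group
  · rw [card_cj, h6.2]
  · rw [← cj_inv_cj c T]
    exact cj_mono _ h12
  · rw [← cj_normalizer]
    exact cj_mono _ h7

end CfsgLib.GHE
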