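import Mathlib
import Cfsg.Agent.Lib.GHE.B1c
import Cfsg.Agent.Lib.GHE.Tool1

/-! Block B1, package W3: two transfer arguments for `Q₈ ∘ Q₈`.  See `plans/GHE_B1.md`. -/

set_option autoImplicit false
set_option linter.unusedSectionVars false

namespace CfsgLib.GHE

open Subgroup Cfsg CfsgLib.W2 CfsgLib.Tech CfsgLib.Sect CfsgLib.PComp CfsgLib.DihSyl
  CfsgLib.GW.Cor
open CfsgLib.LBal hiding cj
open scoped MatrixGroups commutatorElement

universe u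

variable {G : Type u} [Group G] [Finite G] {S P D E : Subgroup G} {m n : ℕ}
  {z a b c d s t u v x y σ τ μ : G}

/-- three different nontrivial elements of a four-group -/
theorem b1o_three {w e₁ e₂ e₃ : G} (zz : z * z = 1) (ww : w * w = 1) (zw : z * w = w * z)
    (h1 : e₁ = 1 ∨ e₁ = z ∨ e₁ = w ∨ e₁ = w * z) (h2 : e₂ = 1 ∨ e₂ = z ∨ e₂ = w ∨ e₂ = w * z)
    (h3 : e₃ = 1 ∨ e₃ = z ∨ e₃ = w ∨ e₃ = w * z) (n1 : e₁ ≠ 1) (n2 : e₂ ≠ 1) (n3 : e₃ ≠ 1)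
    (n12 : e₁ ≠ e₂) (n13 : e₁ ≠ e₃) (n23 : e₂ ≠ e₃) : e₁ = e₂ * e₃ := by
  have a1 : z = w * (w * z) := by rw [← mul_assoc, ww, one_mul]
  have a2 : z = w * z * w := by rw [mul_assoc, zw, ← a1]
  have a3 : w = z * (w * z) := by rw [← zw, ← mul_assoc, zz, one_mul]
  have a4 : w = w * z * z := by rw [mul_assoc, zz, mul_one]
  rcases h1 with h1 | h1 | h1 | h1 <;> rcases h2 with h2 | h2 | h2 | h2 <;>
    rcases h3 with h3 | h3 | h3 | h3 <;>
    first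
    | exact absurd h1 n1
    | exact absurd h2 n2
    | exact absurd h3 n3
    | exact absurd (h1.trans h2.symm) n12
    | exact absurd (h1.trans h3.symm) n13
    | exact absurd (h2.trans h3.symm) n23
    | (rw [h1, h2, h3]; done)
    | (rw [h1, h2, h3]; first | exact a1 | exact a2 | exact a3 | exact a4 | exact zw.symm)

theorem b1o_inj {g p q : G} (h : g * p * g⁻¹ = g * q * g⁻¹) : p = q := by simpa using h

theorem b1o_sq {g p : G} (h : p * p = 1) : g * p * g⁻¹ * (g * p * g⁻¹) = 1 := by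
  rw [conj_mul, h, mul_one, mul_inv_cancel]

theorem b1o_comm {g p q : G} (h : p * q = q * p) :
    g * p * g⁻¹ * (g * q * g⁻¹) = g * q * g⁻¹ * (g * p * g⁻¹) := by rw [conj_mul, conj_mul, h]

theorem Q2.b1o_pow (h : Q2 D 2 a b) (i : ℤ) :
    ∃ p ζ, (p = 1 ∨ p = a) ∧ (ζ = 1 ∨ ζ = a ^ 2) ∧ a ^ i = p * ζ := by
  have e : ∀ r : ℤ, i % 4 = r → a ^ i = a ^ r := fun r hr => h.zeq.2 (by push_cast; omega)
  rcases (by omega : i % 4 = 0 ∨ i % 4 = 1 ∨ i % 4 = 2 ∨ i % 4 = 3) with r | r | r | r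
  · exact ⟨1, 1, .inl rfl, .inl rfl, by rw [e _ r]; group⟩
  · exact ⟨a, 1, .inr rfl, .inl rfl, by rw [e _ r]; group⟩
  · exact ⟨1, _, .inl rfl, .inr rfl, by rw [e _ r]; group⟩
  · exact ⟨a, _, .inr rfl, .inr rfl, by rw [e _ r]; group⟩

theorem Q2.b1o_mem (h : Q2 D 2 a b) (hu : u ∈ D) :
    ∃ p ζ, (p = 1 ∨ p = a ∨ p = b ∨ p = a * b) ∧ (ζ = 1 ∨ ζ = a ^ 2) ∧ u = p * ζ := by
  obtain ⟨i, rfl | rfl⟩ := (h.mem u).1 hu <;> obtain ⟨p, ζ, hp, hζ, e⟩ := h.b1o_pow i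
  · exact ⟨p, ζ, hp.imp_right .inl, hζ, e⟩
  · refine ⟨p * b, ζ, .inr (.inr (hp.imp (fun e => by rw [e, one_mul]) fun e => by rw [e])), hζ, ?_⟩
    rw [e, mul_assoc, mul_assoc]
    rcases hζ with rfl | rfl
    · rw [one_mul, mul_one]
    · rw [h.z_comm h.b_mem]

theorem Q2.b1o_sq (h : Q2 D 2 a b) (hu : u ∈ D) : u * u = 1 ∨ u * u = a ^ 2 := by
  obtain ⟨i, rfl | rfl⟩ := (h.mem u).1 hu
  · rw [← zpow_add, ← zpow_natCast, h.ze, h.zeq]
    push_cast; omega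
  · exact .inr (h.sq_out i)

/-- centralisers in `Q₈` -/
theorem Q2.b1o_cen (h : Q2 D 2 a b) (hu : u ∈ D) (hv : v ∈ D) (vv : v * v = a ^ 2)
    (e : u * v = v * u) : u = 1 ∨ u = a ^ 2 ∨ u = v ∨ u = v * a ^ 2 := by
  obtain ⟨p, ζ, hp, hζ, rfl⟩ := h.b1o_mem hu
  obtain ⟨q, ξ, hq, hξ, rfl⟩ := h.b1o_mem hv
  have ab := h.not_comm le_rfl
  have cz : ∀ η, (η = 1 ∨ η = a ^ 2) → ∀ r ∈ D, Commute r η := by
    rintro η (rfl | rfl) r hr
    exacts [Commute.one_right r, h.z_comm hr]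
  have mD : ∀ r, (r = 1 ∨ r = a ∨ r = b ∨ r = a * b) → r ∈ D := by
    rintro r (rfl | rfl | rfl | rfl)
    exacts [one_mem _, h.a_mem, h.b_mem, mul_mem h.a_mem h.b_mem]
  have e' : p * q = q * p := by
    have c1 : Commute (p * ζ) q := by
      have := (show Commute (p * ζ) (q * ξ) from e).mul_right (cz ξ hξ _ hu).inv_right
      rwa [mul_inv_cancel_right] at this
    have := c1.mul_left (cz ζ hζ _ (mD q hq)).symm.inv_left
    rwa [mul_inv_cancel_right] at this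
  have q1 : q ≠ 1 := by
    rintro rfl
    rcases hξ with rfl | rfl
    · exact h.z1 (by rw [← vv]; simp)
    · exact h.z1 (by rw [← vv, one_mul, h.zz])
  have pq : p = 1 ∨ p = q := by
    rcases hp with rfl | rfl | rfl | rfl <;> rcases hq with rfl | rfl | rfl | rfl <;>
      first
      | exact .inl rfl
      | exact .inr rfl
      | exact absurd rfl q1
      | exact absurd e' ab
      | exact absurd e'.symm ab
      | exact absurd (by simpa [mul_assoc] using e') ab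
      | exact absurd (by simpa [mul_assoc] using e'.symm) ab
      | exact absurd (by simpa [← mul_assoc] using e') ab
      | exact absurd (by simpa [← mul_assoc] using e'.symm) ab
  rcases pq with rfl | rfl
  · rw [one_mul]; exact hζ.imp_right .inl
  · rcases hζ with rfl | rfl <;> rcases hξ with rfl | rfl
    · exact .inr (.inr (.inl rfl))
    · exact .inr (.inr (.inr (by rw [mul_assoc, h.zz])))
    · exact .inr (.inr (.inr (by rw [mul_one])))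
    · exact .inr (.inr (.inl rfl))

/-- an element of odd type centralises only `⟨a⟩` modulo the centre -/
theorem Q2.b1o_od (h : Q2 D m a b) (hx : QOd a b x) (hu : u ∈ D)
    (e : x * u * x⁻¹ = u ∨ x * u * x⁻¹ = u * a ^ m) : ∃ i : ℤ, u = a ^ i := by
  obtain ⟨i, rfl | rfl⟩ := (h.mem u).1 hu
  · exact ⟨i, rfl⟩
  exfalso
  obtain ⟨k, j, hx⟩ := hx
  obtain ⟨l, rfl⟩ := h.act_odd hx
  obtain ⟨r, hr⟩ := h.half
  rw [hx.out, mul_assoc, h.z_comm h.b_mem, ← mul_assoc, mul_left_inj, mul_left_inj, ← zpow_natCast, ← zpow_add,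
    h.zeq, h.zeq, hr] at e
  rcases e with ⟨q, e⟩ | ⟨q, e⟩
  · have : 2 * (l * i + j - 2 * r * q) + 1 = 0 := by linarith
    omega
  · have : 2 * (l * i + j - r - 2 * r * q) + 1 = 0 := by linarith
    omega

namespace BP

theorem b1o_nz (h : BP P D E z m n a b c d) (hx : x ∈ D) (hy : y ∈ E) (xx : x * x = z) :
    x * y ≠ 1 ∧ x * y ≠ z := by
  have k : x ∉ E := fun e => by
    rcases h.inf hx e with rfl | rfl
    · exact h.z_ne (by rw [← xx, one_mul])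
    · exact h.z_ne (xx.symm.trans h.zz)
  exact ⟨fun e => k (eq_inv_of_mul_eq_one_left e ▸ inv_mem hy),
    fun e => k (eq_mul_inv_of_mul_eq e ▸ mul_mem h.zE (inv_mem hy))⟩

/-- splitting a relation `x' y' = x y` -/
theorem b1o_split (h : BP P D E z m n a b c d) {x' y' : G} (hx : x ∈ D) (hy : y ∈ E) (hx' : x' ∈ D)
    (hy' : y' ∈ E) (e : x' * y' = x * y) : x' = x ∧ y' = y ∨ x' = x * z ∧ y' = y * z := by
  have e1 : x⁻¹ * x' = y * y'⁻¹ := by
    rw [inv_mul_eq_iff_eq_mul, ← mul_assoc, ← e, mul_inv_cancel_right]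
  rcases h.inf (mul_mem (inv_mem hx) hx') (e1 ▸ mul_mem hy (inv_mem hy')) with k | k
  · exact .inl ⟨(inv_mul_eq_one.1 k).symm, (mul_inv_eq_one.1 (e1 ▸ k)).symm⟩
  · refine .inr ⟨inv_mul_eq_iff_eq_mul.1 k, ?_⟩
    rw [mul_inv_eq_iff_eq_mul.1 (e1.symm.trans k), ← h.z_comm (h.le2 hy'), mul_assoc, h.zz, mul_one]

variable (h : BP P D E z 2 2 a b c d)
include h

theorem b1o_sq (hu : u ∈ D ⊔ E) : u * u = 1 ∨ u * u = z := by
  obtain ⟨x, hx, y, hy, rfl⟩ := h.memY.1 hu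
  rw [← (show Commute x y from h.comm x hx y hy).mul_mul_mul_comm]
  have h1 := h.q1.b1o_sq hx
  have h2 := h.q2.b1o_sq hy
  rw [h.e1] at h1
  rw [h.e2] at h2
  rcases h1 with h1 | h1 <;> rcases h2 with h2 | h2 <;> simp [h1, h2, h.zz]

theorem b1o_aa : a * a = z := by rw [← pow_two, h.e1]

theorem b1o_cc : c * c = z := by rw [← pow_two, h.e2]

theorem b1o_ww : a * c * (a * c) = 1 := by simpa using h.ww

theorem b1o_abab : a * b * (a * b) = z := by simpa [h.e1] using h.q1.sq_out 1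

/-- the involutions of `D E` that centralise a two-sided element -/
theorem b1o_two (h1 : QOd a b x) (h2 : QOd c d x) (hu : u ∈ D ⊔ E) (uu : u * u = 1) (e : x * u = u * x) :
    u = 1 ∨ u = z ∨ u = a * c ∨ u = a * c * z := by
  obtain ⟨p, hp, q, hq, rfl⟩ := h.memY.1 hu
  obtain ⟨k, j, a1⟩ := id h1
  obtain ⟨k', j', a2⟩ := id h2
  have e1 := h.b1o_split hp hq (h.q1.act_mem a1 hp) (h.q2.act_mem a2 hq)
    (by rw [conj_mul, e, mul_inv_cancel_right])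
  obtain ⟨i, rfl⟩ := h.q1.b1o_od h1 hp (e1.imp And.left fun e => by rw [h.e1, e.1])
  obtain ⟨l, rfl⟩ := h.q2.b1o_od h2 hq (e1.imp And.right fun e => by rw [h.e2, e.2])
  obtain ⟨p, ζ, hp', hζ, e2⟩ := h.q1.b1o_pow i
  obtain ⟨q, ξ, hq', hξ, e3⟩ := h.q2.b1o_pow l
  rw [h.e1] at hζ
  rw [h.e2] at hξ
  have zc := h.z_comm (h.le2 h.q2.a_mem)
  have za := h.z_comm (h.le1 h.q1.a_mem)
  obtain ⟨η, hη, e4⟩ : ∃ η, (η = 1 ∨ η = z) ∧ a ^ i * c ^ l = p * q * η := by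
    have zq : z * q = q * z := by rcases hq' with rfl | rfl <;> simp [zc]
    rw [e2, e3]
    rcases hζ with rfl | rfl <;> rcases hξ with rfl | rfl
    · exact ⟨1, .inl rfl, by simp⟩
    · exact ⟨_, .inr rfl, by simp [mul_assoc]⟩
    · exact ⟨_, .inr rfl, by rw [mul_one, mul_assoc, zq, mul_assoc]⟩
    · exact ⟨1, .inl rfl, by rw [mul_assoc, ← mul_assoc _ q, zq, mul_assoc q, h.zz, mul_one, mul_one]⟩
  rw [e4] at uu ⊢
  have sq : ∀ r, r * r = z → r * z = z * r → r * η * (r * η) ≠ 1 := fun r r1 r2 e => h.z_ne (by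
    rcases hη with rfl | rfl
    · rwa [mul_one, r1] at e
    · rwa [mul_assoc, ← mul_assoc _ r, ← r2, mul_assoc r, h.zz, mul_one, r1] at e)
  rcases hp' with rfl | rfl <;> rcases hq' with rfl | rfl
  · rw [one_mul, one_mul]; exact hη.imp_right .inl
  · rw [one_mul] at uu; exact absurd uu (sq _ h.b1o_cc zc)
  · rw [mul_one] at uu; exact absurd uu (sq _ h.b1o_aa za)
  · exact .inr (.inr (hη.imp (fun e => by rw [e, mul_one]) fun e => by rw [e]))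

/-- the centraliser in `D E` of a swap whose square is a noncentral involution -/
theorem b1o_swap (hx : QS D E x) (xx : x * x = v) (hv : v ∈ D ⊔ E) (vv : v * v = 1) (v1 : v ≠ 1)
    (vz : v ≠ z) (hu : u ∈ D ⊔ E) (e : x * u = u * x) : u = 1 ∨ u = z ∨ u = v ∨ u = v * z := by
  obtain ⟨e₁, h1, e₂, h2, s1, -, rfl⟩ := ((h.invY hv vv).resolve_left v1).resolve_left vz
  have zx : ∀ r, x * (r * z) * x⁻¹ = x * r * x⁻¹ * z := fun r => by
    have := (h.inf (hx.2 z h.zE) (hx.1 z h.zD)).resolve_left fun e => h.z_ne (b1o_inj (g := x) (by simpa using e))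
    rw [← conj_mul, this]
  have key : ∀ p ∈ D, ∀ q ∈ E, x * (p * q) = p * q * x →
      x * q * x⁻¹ = p ∧ x * p * x⁻¹ = q ∨ x * q * x⁻¹ = p * z ∧ x * p * x⁻¹ = q * z := fun p hp q hq e =>
    h.b1o_split hp hq (hx.2 q hq) (hx.1 p hp) (by
      rw [conj_mul, ← h.comm p hp q hq, e, mul_inv_cancel_right])
  obtain ⟨p, hp, q, hq, rfl⟩ := h.memY.1 hu
  have k1 := key p hp q hq e
  have k2 := key e₁ h1 e₂ h2 (by rw [← xx, mul_assoc])
  have c1 : x * x * p * (x * x)⁻¹ = p := by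
    rw [show x * x * p * (x * x)⁻¹ = x * (x * p * x⁻¹) * x⁻¹ by group]
    rcases k1 with k | k
    · rw [k.2, k.1]
    · rw [k.2, zx, k.1, mul_assoc, h.zz, mul_one]
  have c2 : p * e₁ = e₁ * p := by
    rw [xx, mul_inv_eq_iff_eq_mul, mul_assoc, ← h.comm p hp e₂ h2, ← mul_assoc, ← mul_assoc, mul_left_inj] at c1
    exact c1.symm
  have c3 := h.q1.b1o_cen hp h1 (by rw [s1, h.e1]) c2
  rw [h.e1] at c3
  have k3 : q = x * p * x⁻¹ ∨ q = x * p * x⁻¹ * z :=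
    k1.imp (fun k => k.2.symm) fun k => by rw [k.2, mul_assoc, h.zz, mul_one]
  have k4 : x * e₁ * x⁻¹ = e₂ ∨ x * e₁ * x⁻¹ = e₂ * z := k2.imp And.right And.right
  have z2 := h.z_comm (h.le2 h2)
  have zz' : ∀ r, z * (z * r) = r := fun r => by rw [← mul_assoc, h.zz, one_mul]
  have zx' := zx 1
  rw [one_mul, mul_one, mul_inv_cancel, one_mul] at zx'
  rcases c3 with rfl | rfl | rfl | rfl
  · rcases k3 with k | k <;> simp [k]
  · rcases k3 with k | k <;> simp [k, zx', h.zz]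
  · rcases k3 with k | k <;> rcases k4 with k' | k' <;> simp [k, k', mul_assoc, h.zz]
  · rw [zx] at k3
    rcases k3 with k | k <;> rcases k4 with k' | k' <;> rw [k, k'] <;> simp [mul_assoc, h.zz, z2, zz']

end BP

theorem BF.b1o_w3 (h : BF S D E z 2 2 a b (σ * a * σ⁻¹) (σ * b * σ⁻¹))
    (ev : BE S a b (σ * a * σ⁻¹) (σ * b * σ⁻¹)) (σS : σ ∈ S) (hσ : QS D E σ)
    (σσ : σ * σ = z) (no : ∀ s ∈ S, QS D E s → s * s ≠ 1) : False := by
  have hp := h.toBP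
  generalize hc : σ * a * σ⁻¹ = c at *
  generalize hd : σ * b * σ⁻¹ = d at *
  have aD := hp.q1.a_mem
  have bD := hp.q1.b_mem
  have cE := hp.q2.a_mem
  have dE := hp.q2.b_mem
  have sw : ∀ p ∈ D, ∀ q ∈ E, σ * p * σ⁻¹ = q → p * q * σ = σ * (p * q) := fun p hp' q hq e => by
    have e1 : σ * q * σ⁻¹ = p := by
      rw [← e, show σ * (σ * p * σ⁻¹) * σ⁻¹ = σ * σ * p * (σ * σ)⁻¹ by group, σσ, ← hp.z_comm (hp.le1 hp'),
        mul_inv_cancel_right]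
    rw [eq_comm, ← mul_inv_eq_iff_eq_mul, ← conj_mul, e, e1, hp.comm p hp' q hq]
  have wσ := sw a aD c cE hc
  have tσ := sw b bD d dE hd
  have wS : a * c ∈ S := mul_mem (hp.le1 aD) (hp.le2 cE)
  have tS : b * d ∈ S := mul_mem (hp.le1 bD) (hp.le2 dE)
  obtain ⟨M, hM⟩ := hp.exists_ns
  have inv : ∀ s ∈ S, s * s = 1 → QN a b c d s := fun s hs ss =>
    (hp.cases s hs).resolve_right fun k => no s hs k ss
  obtain ⟨g, ⟨xS, xM⟩, hg⟩ := h.toCtx.transfer_ext (M := M) (y := σ) (Q := S ⊓ Cx σ) h.syl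
    (fun p hp' q hq => comm_mem (H := S) (fun s hs => (hM _).2 ⟨mul_mem hs hs, hp.qn_sq hs⟩) hp' hq) σS
    (fun k => hp.not_qn_qs ((hM _).1 k).2 hσ)
    (fun g hg => (hp.cases _ hg).imp (fun k => (hM _).2 ⟨hg, k⟩) fun k =>
      (hM _).2 ⟨mul_mem hg (inv_mem σS), hp.qs_mul_qs hg (inv_mem σS) k (hp.qs_inv σS hσ)⟩)
    (fun k g hg => (hM _).2 ⟨hg, inv _ hg (b1o_sq (by
      rw [pow_succ', pow_mul, pow_two, σσ, ← (Commute.refl z).mul_pow, hp.zz, one_pow]))⟩)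
    (h.syl.pgroup.to_le inf_le_left) inf_le_right
  have xN := ((hM _).1 xM).2
  by_cases gz : g * z * g⁻¹ = z
  · exact hp.not_qn_qs xN (h.cS g (mem_Cx.2 (mul_inv_eq_iff_eq_mul.1 gz)) σ σS xS hσ)
  have xx : g * σ * g⁻¹ * (g * σ * g⁻¹) = g * z * g⁻¹ := by rw [conj_mul, σσ]
  have g1 : ∀ {r}, r ≠ 1 → g * r * g⁻¹ ≠ 1 := fun k e => k (b1o_inj (g := g) (by simpa using e))
  have nY : ∀ r ∈ D ⊔ E, r * r ≠ (g * z * g⁻¹)⁻¹ ∧ r * r ≠ g * z * g⁻¹ := fun r hr => by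
    rw [inv_eq_of_mul_eq_one_right (b1o_sq hp.zz), and_self]
    intro e
    exact (hp.b1o_sq hr).elim (fun k => g1 hp.z_ne (e ▸ k)) fun k => gz (e ▸ k)
  have typ : ∀ s ∈ S, QN a b c d s → s ∈ D ⊔ E ∨ QOd a b s ∧ QOd c d s := fun s hs k => by
    obtain ⟨⟨_, _, k1⟩, ⟨_, _, k2⟩⟩ := id k
    rcases k1.ev_or_od with k1 | k1 <;> rcases k2.ev_or_od with k2 | k2
    · exact .inl (hp.mem_of_ev hs k1 k2)
    · exact .inr ⟨(ev s hs k).2 k2, k2⟩
    · exact .inr ⟨k1, (ev s hs k).1 k1⟩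
    · exact .inr ⟨k1, k2⟩
  obtain ⟨o1, o2⟩ := (typ _ xS xN).resolve_left fun k => (nY _ k).2 xx
  have key : ∀ r ∈ S, r * σ = σ * r → r * r = 1 → g * r * g⁻¹ = 1 ∨ g * r * g⁻¹ = z ∨
      g * r * g⁻¹ = a * c ∨ g * r * g⁻¹ = a * c * z := fun r hr c1 rr => by
    have rS : g * r * g⁻¹ ∈ S := hg (conj_mem_cj.2 ⟨hr, mem_Cx.2 c1⟩)
    have rN := inv _ rS (b1o_sq rr)
    have cm : Commute (g * σ * g⁻¹) (g * r * g⁻¹) := b1o_comm c1.symm
    refine hp.b1o_two o1 o2 ((typ _ rS rN).resolve_right fun k => ?_) (b1o_sq rr) cm.eq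
    refine (nY _ (hp.mem_of_od xS rS xN rN (iff_of_true o1 k.1) (iff_of_true o2 k.2))).1 ?_
    rw [← cm.inv_left.mul_mul_mul_comm, b1o_sq rr, mul_one, ← _root_.mul_inv_rev, xx]
  have tt : b * d * (b * d) = 1 := by
    rw [← (show Commute b d from hp.comm b bD d dE).mul_mul_mul_comm, hp.bb, hp.dd, hp.zz]
  have wt : a * c * (b * d) = a * b * (c * d) :=
    ((show Commute b c from hp.comm b bD c cE).mul_mul_mul_comm a d).symm
  have n1 := hp.b1o_nz aD cE hp.b1o_aa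
  have n2 := hp.b1o_nz bD dE hp.bb
  have n3 := hp.b1o_nz (mul_mem aD bD) (mul_mem cE dE) hp.b1o_abab
  have := b1o_three hp.zz hp.b1o_ww (hp.z_comm wS).symm (key z hp.zP (hp.z_comm σS).symm hp.zz)
    (key _ wS wσ hp.b1o_ww) (key _ tS tσ tt) (g1 hp.z_ne) (g1 n1.1) (g1 n2.1)
    (fun e => n1.2 (b1o_inj e).symm) (fun e => n2.2 (b1o_inj e).symm)
    fun e => n3.1 (by rw [← wt, b1o_inj e, tt])
  rw [conj_mul, wt] at this
  exact n3.2 (b1o_inj this).symm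

theorem BF.w3 (h : BF S D E z 2 2 a b c d) (ev : BE S a b c d) (σS : σ ∈ S) (hσ : QS D E σ)
    (σσ : σ * σ = z) (no : ∀ s ∈ S, QS D E s → s * s ≠ 1) : False :=
  (h.reframe σS hσ).b1o_w3 (h.toBP.reframe_be σS hσ ev) σS hσ σσ no

theorem BF.d011 (h : BF S D E z 2 2 a b (σ * a * σ⁻¹) (σ * b * σ⁻¹))
    (ev : BE S a b (σ * a * σ⁻¹) (σ * b * σ⁻¹)) (σS : σ ∈ S) (σσ : σ * σ = 1) (μS : μ ∈ S)
    (μ1 : QAct a b μ (-1) 1) (μ2 : QAct (σ * a * σ⁻¹) (σ * b * σ⁻¹) μ (-1) 1) (μμ : μ * μ = z)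
    (e : σ * μ * (σ * μ) = z) : False := by
  have hp := h.toBP
  generalize hc : σ * a * σ⁻¹ = c at *
  generalize hd : σ * b * σ⁻¹ = d at *
  have aD := hp.q1.a_mem
  have cE := hp.q2.a_mem
  have σi : σ⁻¹ = σ := inv_eq_of_mul_eq_one_right σσ
  have hσ : QS D E σ := (hp.cases σ σS).resolve_left fun ⟨⟨_, _, k⟩, _⟩ => by
    rcases hp.inf (hc ▸ hp.q1.act_mem k aD) cE with k | k
    · exact hp.z_ne (by rw [← hp.b1o_cc, k, one_mul])
    · exact hp.z_ne (by rw [← hp.b1o_cc, k, hp.zz])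
  have σμ : σ * μ = μ * σ := by
    rw [← μμ, ← mul_assoc, mul_left_inj, ← eq_mul_inv_iff_mul_eq, σi] at e
    exact e
  have o1 : QOd a b μ := ⟨-1, 0, μ1⟩
  have o2 : QOd c d μ := ⟨-1, 0, μ2⟩
  have μN : QN a b c d μ := ⟨⟨_, _, μ1⟩, _, _, μ2⟩
  have μa : μ * a * μ⁻¹ = a⁻¹ := by simpa using μ1.1
  have μc : μ * c * μ⁻¹ = c⁻¹ := by simpa using μ2.1
  have σY : σ ∉ D ⊔ E := fun k => hp.not_qn_qs (hp.qn_of_mem k) hσ
  have typ : ∀ s ∈ S, QN a b c d s → s ∈ D ⊔ E ∨ μ⁻¹ * s ∈ D ⊔ E := fun s hs k => by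
    obtain ⟨⟨_, _, k1⟩, ⟨_, _, k2⟩⟩ := id k
    by_cases o : QOd a b s
    · exact .inr (hp.mem_of_od μS hs μN k (iff_of_true o1 o) (iff_of_true o2 ((ev s hs k).1 o)))
    · exact .inl (hp.mem_of_ev hs (k1.ev_or_od.resolve_right o)
        (k2.ev_or_od.resolve_right fun o' => o ((ev s hs k).2 o')))
  have cls : ∀ s ∈ S, (s ∈ D ⊔ E ∨ σ⁻¹ * s ∈ D ⊔ E) ∨ μ⁻¹ * s ∈ D ⊔ E ∨ (σ * μ)⁻¹ * s ∈ D ⊔ E :=
    fun s hs => by
      rcases hp.cases s hs with k | k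
      · exact (typ s hs k).elim (fun k => .inl (.inl k)) fun k => .inr (.inl k)
      · refine (typ _ (mul_mem (inv_mem σS) hs) (hp.qs_mul_qs (inv_mem σS) hs (hp.qs_inv σS hσ) k)).elim
          (fun k => .inl (.inr k)) fun k => .inr (.inr ?_)
        rwa [_root_.mul_inv_rev, mul_assoc]
  have sqY : ∀ s ∈ S, s * s ∈ D ⊔ E := fun s hs => by
    have k : ∀ r ∈ S, r * r ∈ D ⊔ E → r⁻¹ * s ∈ D ⊔ E → s * s ∈ D ⊔ E := fun r hr r1 r2 => by
      have := mul_mem (mul_mem r1 (hp.nrm (inv_mem hr) r2)) r2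
      convert this using 1; group
    rcases cls s hs with (k1 | k1) | k1 | k1
    exacts [mul_mem k1 k1, k σ σS (σσ ▸ one_mem _) k1, k μ μS (μμ ▸ hp.zY) k1,
      k _ (mul_mem σS μS) (by rw [σμ, mul_assoc, ← mul_assoc σ, σμ, mul_assoc, σσ, mul_one, μμ]; exact hp.zY) k1]
  have inv : ∀ s ∈ S, s * s = 1 → s ∈ D ⊔ E ∨ σ⁻¹ * s ∈ D ⊔ E := fun s hs ss => by
    refine (cls s hs).resolve_right ?_
    rintro (k | k)
    · have p1 := hp.q1.od_mul_ev o1 (hp.ev1_of_mem k)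
      have p2 := hp.q2.od_mul_ev o2 (hp.ev2_of_mem k)
      rw [mul_inv_cancel_left] at p1 p2
      exact hp.z_ne (by rw [← μμ, ← hp.dd_sq μa μc (hp.q1.inv_od ss p1) (hp.q2.inv_od ss p2) k, ss])
    · have e' : σ * μ * (σ * μ) = z := by
        rw [σμ, mul_assoc, ← mul_assoc σ, σμ, mul_assoc, σσ, mul_one, μμ]
      exact hp.z_ne (by rw [← e', ← hp.sw_sq (hp.qs_mul_qn hσ μN) k (.inr e') (.inl ss), ss])
  have mM : ∀ s, s ∈ zpowers σ ⊔ (D ⊔ E) ↔ s ∈ D ⊔ E ∨ σ⁻¹ * s ∈ D ⊔ E := fun s => by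
    rw [mem_sup_of_norm fun p hp' q hq => hp.nrm (zpowers_le.2 σS hp') hq]
    constructor
    · rintro ⟨p, hp', q, hq, rfl⟩
      rcases (mem_zpowers_two σσ).1 hp' with rfl | rfl
      · exact .inl (by rwa [one_mul])
      · exact .inr (by rwa [inv_mul_cancel_left])
    · rintro (k | k)
      · exact ⟨1, one_mem _, s, k, (one_mul s).symm⟩
      · exact ⟨σ, mem_zpowers σ, _, k, (mul_inv_cancel_left _ _).symm⟩
  have qs : ∀ s, σ⁻¹ * s ∈ D ⊔ E → QS D E s := fun s k => by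
    have := hp.qs_mul_qn hσ (hp.qn_of_mem k)
    rwa [mul_inv_cancel_left] at this
  have μY : μ ∉ D ⊔ E := fun k => hp.q1.not_ev_od (hp.ev1_of_mem k) o1
  obtain ⟨g, ⟨xS, xM⟩, hg⟩ := h.toCtx.transfer_ext (M := zpowers σ ⊔ (D ⊔ E)) (y := μ) (Q := S ⊓ Cx μ) h.syl
    (fun p hp' q hq => comm_mem (H := S) (fun s hs => mem_sup_right (sqY s hs)) hp' hq) μS
    (fun k => ((mM μ).1 k).elim μY fun k => hp.not_qn_qs μN (qs μ k))
    (fun g hg => (cls _ hg).imp (mM _).2 fun k => by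
      generalize g * μ * g⁻¹ = r at *
      rcases k with k | k
      · have := hp.nrm μS k
        rw [mul_inv_cancel_left] at this
        exact mem_sup_right this
      · have := hp.nrm μS k
        refine (mM _).2 (.inr ?_)
        convert this using 1; group)
    (fun k g hg => (mM _).2 (inv _ hg (b1o_sq (by
      rw [pow_succ', pow_mul, pow_two, μμ, ← (Commute.refl z).mul_pow, hp.zz, one_pow]))))
    (h.syl.pgroup.to_le inf_le_left) inf_le_right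
  have xM' := (mM _).1 xM
  by_cases gz : g * z * g⁻¹ = z
  · have gC : g ∈ Cx z := mem_Cx.2 (mul_inv_eq_iff_eq_mul.1 gz)
    have k := xM'.resolve_right fun k => hp.not_qn_qs (h.cN gC μS xS μN) (qs _ k)
    have e1 : g⁻¹ * (g * μ * g⁻¹) * g⁻¹⁻¹ = μ := by group
    exact μY (e1 ▸ h.cY g⁻¹ (inv_mem gC) _ k (e1.symm ▸ μS))
  have xx : g * μ * g⁻¹ * (g * μ * g⁻¹) = g * z * g⁻¹ := by rw [conj_mul, μμ]
  have g1 : ∀ {r}, r ≠ 1 → g * r * g⁻¹ ≠ 1 := fun k e => k (b1o_inj (g := g) (by simpa using e))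
  have xσ := xM'.resolve_left fun k =>
    (hp.b1o_sq k).elim (fun k => g1 hp.z_ne (xx ▸ k)) fun k => gz (xx ▸ k)
  have vY : g * z * g⁻¹ ∈ D ⊔ E := xx ▸ sqY _ xS
  have vv := b1o_sq (g := g) hp.zz
  have cen := fun {u} => hp.b1o_swap (u := u) (qs _ xσ) xx vY vv (g1 hp.z_ne) gz
  have vz := (hp.z_comm (hp.leY vY)).symm
  have key : ∀ r ∈ S, r * μ = μ * r → r * r = 1 → g * r * g⁻¹ = 1 ∨ g * r * g⁻¹ = z ∨
      g * r * g⁻¹ = g * z * g⁻¹ ∨ g * r * g⁻¹ = g * z * g⁻¹ * z := fun r hr c1 rr => by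
    have rS : g * r * g⁻¹ ∈ S := hg (conj_mem_cj.2 ⟨hr, mem_Cx.2 c1⟩)
    have cm : Commute (g * μ * g⁻¹) (g * r * g⁻¹) := b1o_comm c1.symm
    refine cen ((inv _ rS (b1o_sq rr)).resolve_right fun k => ?_) cm.eq
    have k1 := mul_mem (hp.nrm σS k) (σi ▸ xσ)
    rw [mul_inv_cancel_left, mul_assoc, σi, ← mul_assoc σ σ, σσ, one_mul] at k1
    have k2 : g * r * g⁻¹ * (g * μ * g⁻¹) * (g * r * g⁻¹ * (g * μ * g⁻¹)) = g * z * g⁻¹ := by
      rw [← cm.symm.mul_mul_mul_comm, b1o_sq rr, one_mul, xx]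
    refine g1 hp.z_ne ?_
    rw [← k2]
    rcases cen k1 (cm.mul_right (Commute.refl _)).eq with k3 | k3 | k3 | k3 <;> rw [k3]
    · rw [one_mul]
    · exact hp.zz
    · exact vv
    · rw [← (show Commute (g * z * g⁻¹) z from vz.symm).mul_mul_mul_comm, vv, hp.zz, one_mul]
  have wS : a * c ∈ S := mul_mem (hp.le1 aD) (hp.le2 cE)
  have wY : a * c ∈ D ⊔ E := mul_mem (mem_sup_left aD) (mem_sup_right cE)
  have wμ : a * c * μ = μ * (a * c) := by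
    rw [eq_comm, ← mul_inv_eq_iff_eq_mul, ← conj_mul, μa, μc, ← _root_.mul_inv_rev, ← hp.comm a aD c cE]
    exact inv_eq_of_mul_eq_one_right hp.b1o_ww
  have n1 := hp.b1o_nz aD cE hp.b1o_aa
  have := b1o_three hp.zz vv vz (.inr (.inr (.inl rfl))) (key _ wS wμ hp.b1o_ww) (key σ σS σμ σσ)
    (g1 hp.z_ne) (g1 n1.1) (g1 fun e => σY (e ▸ one_mem _)) (fun e => n1.2 (b1o_inj e).symm)
    (fun e => σY (b1o_inj e ▸ hp.zY)) fun e => σY (b1o_inj e ▸ wY)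
  rw [conj_mul] at this
  exact σY ((mul_mem_cancel_left wY).1 (b1o_inj this ▸ hp.zY))

end CfsgLib.GHE
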