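import Mathlib
import Cfsg.Agent.Lib.GHE.Defs
import Cfsg.Agent.Lib.GHE.Defs2
import Cfsg.Agent.Lib.GHE.Base1
import Cfsg.Agent.Lib.GHE.Base2

/-! Block BASE: the choice of the configuration.  See `plans/GHE.md`. -/
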