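import Mathlib
import Cfsg.Agent.Lib.GHE.Qa
import Cfsg.Agent.Lib.SL2.TwoComm
import Cfsg.Agent.Lib.Transfer.Focal
import Cfsg.Agent.Lib.Schur.Metacyclic
import Cfsg.Agent.Lib.Classical.SL2Torus

/-! Block BLOCKS, part A: pairs of quaternion groups, lifts of `SL₂(q)`.  See `plans/GHE.md`. -/

set_option autoImplicit false

namespace CfsgLib.GHE.Bk

open Subgroup Cfsg CfsgLib.W2 CfsgLib.Tech CfsgLib.Sect CfsgLib.PComp CfsgLib.DihSyl
  CfsgLib.GW.Cor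
open CfsgLib.LBal hiding cj
open scoped MatrixGroups commutatorElement

variable {G : Type*} [Group G]

theorem pow_sq {A : Subgroup G} {k : ℕ} : ∀ {x : G}, x ^ 2 ^ k = 1 → x ∉ A →
    ∃ n : ℕ, x ^ n ∉ A ∧ x ^ n * x ^ n ∈ A := by
  induction k with
  | zero => exact fun hx h => (h (by rw [pow_zero, pow_one] at hx; exact hx ▸ one_mem A)).elim
  | succ k ih =>
    intro x hx h
    by_cases h2 : x ^ 2 ∈ A
    · exact ⟨1, by rwa [pow_one], by rwa [pow_one, ← pow_two]⟩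
    obtain ⟨n, h3⟩ := ih (x := x ^ 2) (by rw [← pow_mul, ← pow_succ', hx]) h2
    exact ⟨2 * n, by rwa [pow_mul]⟩

section quat

variable {D : Subgroup G} {m : ℕ} {a b : G}

theorem q_pg (h : Q2 D m a b) : IsPGroup 2 D := by
  obtain ⟨n, e⟩ := h.pow
  exact IsPGroup.of_card (n := n + 3) (by rw [h.card, e]; ring)

theorem q_map (h : Q2 D m a b) {H : Type*} [Group H] (f : G →* H) (hf : Function.Injective f) :
    Q2 (D.map f) m (f a) (f b) := by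
  refine ⟨⟨by rw [orderOf_injective f hf, h.ord], by rw [← map_mul, h.bb, map_pow],
    by rw [← map_inv, ← map_mul, ← map_mul, h.conj, map_inv], fun ⟨i, e⟩ => h.notMem ⟨i, hf ?_⟩,
    fun g => ⟨?_, ?_⟩⟩, h.pow⟩
  · exact (map_zpow f a i).trans e
  · rintro ⟨x, hx, rfl⟩
    obtain ⟨i, rfl | rfl⟩ := (h.mem x).1 hx
    exacts [⟨i, .inl (by simp)⟩, ⟨i, .inr (by simp)⟩]
  · rintro ⟨i, rfl | rfl⟩
    exacts [⟨_, (h.mem _).2 ⟨i, .inl rfl⟩, by simp⟩, ⟨_, (h.mem _).2 ⟨i, .inr rfl⟩, by simp⟩]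

theorem q_pull {H : Type*} [Group H] (f : G →* H) {R : Subgroup G} (hf : ∀ x ∈ R, f x = 1 → x = 1)
    {E : Subgroup H} (ha : a ∈ R) (hb : b ∈ R) (h : Q2 E m (f a) (f b)) :
    Q2 (R ⊓ E.comap f) m a b := by
  have i : ∀ x ∈ R, ∀ y ∈ R, f x = f y → x = y := fun x hx y hy e =>
    mul_inv_eq_one.1 (hf _ (mul_mem hx (inv_mem hy)) (by rw [map_mul, map_inv, e, mul_inv_cancel]))
  refine ⟨⟨?_, i _ (mul_mem hb hb) _ (pow_mem ha _) (by rw [map_mul, h.bb, map_pow]),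
    i _ (mul_mem (mul_mem hb ha) (inv_mem hb)) _ (inv_mem ha) (by simpa using h.conj),
    fun ⟨k, e⟩ => h.notMem ⟨k, by rw [← e]; exact (map_zpow f a k).symm⟩, fun g => ⟨fun hg => ?_, ?_⟩⟩,
    h.pow⟩
  · rw [← h.ord]
    exact Nat.dvd_antisymm (orderOf_dvd_of_pow_eq_one (hf _ (pow_mem ha _)
      (by rw [map_pow, pow_orderOf_eq_one]))) (orderOf_map_dvd f a)
  · obtain ⟨k, e | e⟩ := (h.mem _).1 hg.2
    · exact ⟨k, .inl (i _ hg.1 _ (zpow_mem ha k) (by simpa using e))⟩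
    · exact ⟨k, .inr (i _ hg.1 _ (mul_mem (zpow_mem ha k) hb) (by simpa using e))⟩
  · rintro ⟨k, rfl | rfl⟩
    · exact ⟨zpow_mem ha k, (h.mem _).2 ⟨k, .inl (by simp)⟩⟩
    · exact ⟨mul_mem (zpow_mem ha k) hb, (h.mem _).2 ⟨k, .inr (by simp)⟩⟩

theorem q_cen (h : Q2 D m a b) {u : G} (hu : u ∈ D) (hc : ∀ d ∈ D, d * u = u * d) :
    u = 1 ∨ u = a ^ m :=
  h.eq_of_comm h.two hu (hc _ h.a_mem).symm (hc _ h.b_mem).symm

/-- a 2-element that centralises two commuting quaternion groups lies in their product -/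
theorem cent_pair [Finite G] (hs : SR 16 (⊤ : Subgroup G)) {D' : Subgroup G} {m' : ℕ} {a' b' : G}
    (h : Q2 D m a b) (h' : Q2 D' m' a' b') (c : ∀ x ∈ D, ∀ y ∈ D', x * y = y * x) {x : G} {k : ℕ}
    (hx : x ^ 2 ^ k = 1) (c1 : ∀ d ∈ D, d * x = x * d) (c2 : ∀ d ∈ D', d * x = x * d) :
    ∃ u v, (u = 1 ∨ u = a ^ m) ∧ (v = 1 ∨ v = a' ^ m') ∧ x = u * v := by
  have key : ∀ y ∈ D ⊔ D', (∀ d ∈ D ⊔ D', d * y = y * d) →
      ∃ u v, (u = 1 ∨ u = a ^ m) ∧ (v = 1 ∨ v = a' ^ m') ∧ y = u * v := fun y hy hc => by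
    obtain ⟨u, hu, v, hv, rfl⟩ := (mem_sup_of_comm c).1 hy
    refine ⟨u, v, q_cen h hu fun d hd => mul_right_cancel (b := v) ?_,
      q_cen h' hv fun d hd => mul_left_cancel (a := u) ?_, rfl⟩
    · rw [mul_assoc, hc d (mem_sup_left hd), mul_assoc, mul_assoc, c d hd v hv]
    · rw [← mul_assoc, c u hu d hd, mul_assoc, hc d (mem_sup_right hd), mul_assoc]
  have cx : ∀ d ∈ D ⊔ D', Commute d x := fun d hd => by
    obtain ⟨u, hu, v, hv, rfl⟩ := (mem_sup_of_comm c).1 hd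
    exact Commute.mul_left (c1 u hu) (c2 v hv)
  refine key x (by_contra fun hn => ?_) cx
  obtain ⟨n, n1, n2⟩ := pow_sq hx hn
  have s1 : ∀ u, u = 1 ∨ u = a ^ m → u ∈ Sq D := by
    rintro _ (rfl | rfl)
    exacts [one_mem _, h.z_sq]
  have s2 : ∀ u, u = 1 ∨ u = a' ^ m' → u ∈ Sq D' := by
    rintro _ (rfl | rfl)
    exacts [one_mem _, h'.z_sq]
  obtain ⟨u, v, hu, hv, e⟩ := key _ n2 fun d hd =>
    ((cx d hd).pow_right n).mul_right ((cx d hd).pow_right n)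
  have t1 := two_mul_di_le (fun d hd => ((cx d hd).pow_right n).eq) n1
    (e ▸ mul_mem (Sq_mono le_sup_left (s1 u hu)) (Sq_mono le_sup_right (s2 v hv)))
  have t2 := di_mul_le c (fun y hy hy' => s1 y (q_cen h hy fun d hd => c d hd y hy'))
    fun y hy hy' => s2 y (q_cen h' hy' fun d hd => (c y hy d hd).symm)
  have t3 := four_le_di_of_ne (q_pg h) h.b_mem h.a_mem (h.not_comm h.two)
  have t4 := four_le_di_of_ne (q_pg h') h'.b_mem h'.a_mem (h'.not_comm h'.two)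
  have t5 := hs.di_le (le_top (a := D ⊔ D' ⊔ zpowers (x ^ n)))
  have t6 := Nat.mul_le_mul t3 t4
  omega

/-- `K ≅ SL₂(q)` and `M` normalise each other -/
theorem side {K T M : Subgroup G} (hK : SL2.SLIn K (a ^ m)) (h : Q2 (T ⊓ K) m a b)
    (n1 : M ≤ normalizer (K : Set G)) (n2 : K ≤ normalizer (M : Set G)) :
    T ⊓ K ≤ M ∨ ∀ x ∈ T ⊓ M, x * b = b * x := by
  have cm : ∀ x ∈ M, ∀ y ∈ K, x * y * x⁻¹ * y⁻¹ ∈ K ⊓ M := fun x hx y hy =>
    mem_inf.2 ⟨mul_mem (conj_mem_of_mem_normalizer (n1 hx) hy) (inv_mem hy), by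
      rw [mul_assoc, mul_assoc, ← mul_assoc y]
      exact mul_mem hx (conj_mem_of_mem_normalizer (n2 hy) (inv_mem hx))⟩
  have out : ∀ i : ℤ, a ^ i * b ∈ T ⊓ K := fun i => (h.mem _).2 ⟨i, .inr rfl⟩
  by_cases h4 : ∃ i ∈ K ⊓ M, i * i = a ^ m
  · obtain ⟨i, hi, ii⟩ := h4
    have o2 : ∀ k : ℤ, a ^ k * b ∈ M := fun k => by
      obtain ⟨g, hg, e⟩ := hK.conj i hi.1 _ (out k).2 ii (h.sq_out k)
      exact e ▸ conj_mem_of_mem_normalizer (n2 hg) hi.2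
    refine .inl fun x hx => ?_
    obtain ⟨k, rfl | rfl⟩ := (h.mem x).1 hx
    · simpa using mul_mem (o2 k) (inv_mem (o2 0))
    · exact o2 k
  refine .inr fun x hx => by_contra fun ne => ?_
  have z2 : ∀ {u}, u ∈ zpowers (a ^ m) ↔ u = 1 ∨ u = a ^ m := mem_zpowers_two h.zz
  have jc : ∀ g ∈ K, g * a ^ m = a ^ m * g := fun g hg => by
    rcases z2.1 (hK.sq (g * a ^ m * g⁻¹) (mul_mem (mul_mem hg h.z_mem.2) (inv_mem hg))
      (by rw [conj_mul, h.zz, mul_one, mul_inv_cancel])) with e | e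
    · exact (h.z1 (by simpa using e)).elim
    · exact mul_inv_eq_iff_eq_mul.1 e
  have act : ∀ y ∈ T ⊓ K, x * y * x⁻¹ = y ∨ x * y * x⁻¹ = a ^ m * y := fun y hy => by
    have c1 := cm x hx.2 y hy.2
    have c2 : x * y * x⁻¹ * y⁻¹ ∈ T ⊓ K :=
      ⟨T.mul_mem (T.mul_mem (T.mul_mem hx.1 hy.1) (T.inv_mem hx.1)) (T.inv_mem hy.1), c1.1⟩
    refine (z2.1 (by_contra fun hn => ?_)).imp mul_inv_eq_one.1 mul_inv_eq_iff_eq_mul.1
    obtain ⟨k, hk⟩ := isPGroup_iff_mem.1 (q_pg h) _ c2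
    obtain ⟨n, p1, p2⟩ := pow_sq hk hn
    exact (z2.1 p2).elim (fun e => p1 (hK.sq _ (pow_mem c1.1 n) e)) fun e => h4 ⟨_, pow_mem c1 n, e⟩
  have xb : x * b * x⁻¹ = a ^ m * b :=
    (act b h.b_mem).resolve_left fun e => ne (mul_inv_eq_iff_eq_mul.1 e)
  obtain ⟨u, hu, uu, xu⟩ : ∃ u ∈ K, u * u = a ^ m ∧ x * u * x⁻¹ = u := by
    obtain ⟨r, hr⟩ := h.half
    have ar : a ^ r ∈ T ⊓ K := zpow_mem h.a_mem r
    rcases act _ ar with e | e
    · exact ⟨_, ar.2, by rw [← zpow_add, ← two_mul, ← hr, zpow_natCast], e⟩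
    · refine ⟨_, (out r).2, h.sq_out r, ?_⟩
      rw [← conj_mul, e, xb, mul_assoc, ← mul_assoc (a ^ r), jc _ ar.2, mul_assoc, ← mul_assoc, h.zz,
        one_mul]
  obtain ⟨g, hg, e⟩ := hK.conj b h.b_mem.2 u hu h.bb uu
  have hn := cm x hx.2 g hg
  set n := x * g * x⁻¹ * g⁻¹ with nd
  have nu : n * (a ^ m * u) * n⁻¹ = u := by
    calc _ = x * g * x⁻¹ * (g⁻¹ * a ^ m * g * b) * (x * g * x⁻¹)⁻¹ := by rw [nd, ← e]; group
      _ = x * (g * b * g⁻¹) * x⁻¹ := by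
        rw [mul_assoc g⁻¹, ← jc g hg, inv_mul_cancel_left, ← xb]; group
      _ = u := by rw [e, xu]
  clear_value n
  have nc : n * u ≠ u * n := fun c => h.z1 (by
    rw [← mul_assoc, jc n hn.1, mul_assoc (a ^ m), c, mul_assoc, mul_inv_cancel_right] at nu
    exact mul_eq_right.1 nu)
  have nu' : n * u = a ^ m * (u * n) := by
    rw [← mul_assoc, jc n hn.1, mul_inv_eq_iff_eq_mul] at nu
    rw [← nu, mul_assoc (a ^ m), ← mul_assoc (a ^ m), h.zz, one_mul]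
  by_cases h5 : n * n ∈ zpowers (a ^ m)
  · refine (z2.1 h5).elim (fun e1 => nc ?_) fun e1 => h4 ⟨n, hn, e1⟩
    rcases z2.1 (hK.sq n hn.1 e1) with e2 | e2 <;> rw [e2]
    exacts [by simp, (jc u hu).symm]
  · refine nc (hK.ca _ (mul_mem hn.1 hn.1) h5 n hn.1 u hu (mul_assoc ..).symm ?_)
    rw [mul_assoc n, nu', ← mul_assoc n, jc n hn.1, mul_assoc (a ^ m), ← mul_assoc n, nu',
      mul_assoc (a ^ m), ← mul_assoc (a ^ m), h.zz, one_mul, mul_assoc]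

theorem one_side [Finite G] (hs : SR 16 (⊤ : Subgroup G)) {K T M₁ M₂ : Subgroup G}
    (hT : IsPGroup 2 T) (hK : SL2.SLIn K (a ^ m)) (h : Q2 (T ⊓ K) m a b) {m₁ m₂ : ℕ}
    {a₁ b₁ a₂ b₂ : G} (h₁ : Q2 (T ⊓ M₁) m₁ a₁ b₁) (h₂ : Q2 (T ⊓ M₂) m₂ a₂ b₂)
    (c : ∀ x ∈ M₁, ∀ y ∈ M₂, x * y = y * x) (n₁ : M₁ ≤ normalizer (K : Set G))
    (n₂ : M₂ ≤ normalizer (K : Set G)) (k₁ : K ≤ normalizer (M₁ : Set G))
    (k₂ : K ≤ normalizer (M₂ : Set G)) : T ⊓ K ≤ M₁ ∨ T ⊓ K ≤ M₂ := by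
  refine (side hK h n₁ k₁).imp_right fun c1 => (side hK h n₂ k₂).resolve_right fun c2 => ?_
  obtain ⟨k, hk⟩ := isPGroup_iff_mem.1 hT b h.b_mem.1
  obtain ⟨u, v, hu, hv, e⟩ := cent_pair hs h₁ h₂ (fun x hx y hy => c x hx.2 y hy.2) hk c1 c2
  refine h.z1 ?_
  rw [← h.bb, e]
  rcases hu with rfl | rfl <;> rcases hv with rfl | rfl
  · simp
  · simpa using h₂.zz
  · simpa using h₁.zz
  · rw [mul_assoc, ← mul_assoc (a₂ ^ m₂), ← c _ h₁.z_mem.2 _ h₂.z_mem.2, mul_assoc, h₂.zz, mul_one,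
      h₁.zz]

end quat

section sl

variable {F : Type*} [Field F] [Fintype F] (hF : Odd (Fintype.card F))
include hF

theorem sl_quat : ∃ (Q : Subgroup SL(2, F)) (m : ℕ) (a b : SL(2, F)),
    IsSylowIn 2 Q ⊤ ∧ Q2 Q m a b ∧ a ^ m = -1 := by
  obtain ⟨P⟩ : Nonempty (Sylow 2 SL(2, F)) := inferInstance
  obtain ⟨k, hk, ⟨f⟩⟩ := Classical.sl2_sylow_two_quaternion hF P
  obtain ⟨a, b, hq⟩ := exists_isQuat f
  have h : Q2 P (2 ^ k) a b := ⟨hq, k - 1, by rw [Nat.sub_add_cancel hk]⟩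
  exact ⟨_, _, a, b, .of_sylow_top P, h, ((SL2.isScal_iff _).1 ((SL2.sq_eq_one_iff_isScal
    (SL2.two_ne_zero_of_odd hF) _).1 h.zz)).resolve_left h.z1⟩

theorem sl_res : pResidual 2 SL(2, F) = ⊤ := by
  obtain ⟨Q, m, a, b, hQ, h, e⟩ := sl_quat hF
  have h2 := SL2.two_ne_zero_of_odd hF
  have ha : a ∈ commutator SL(2, F) := by
    obtain ⟨g, hg⟩ := isConj_iff.1 (SL2.isConj_of_sq h2 (h.bb.trans e) ((h.sq_out 1).trans e))
    have := commutator_mem_commutator (mem_top g) (mem_top b)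
    rwa [commutatorElement_def, hg, zpow_one, mul_inv_cancel_right] at this
  have hb : b ∈ commutator SL(2, F) := by
    obtain ⟨r, hr⟩ := h.half
    obtain ⟨g, hg⟩ := isConj_iff.1 (SL2.isConj_of_sq h2 (i := a ^ r)
      (by rw [← zpow_add, ← two_mul, ← hr, zpow_natCast, e]) (h.bb.trans e))
    exact hg ▸ Normal.conj_mem inferInstance _ (zpow_mem ha r) g
  refine (Transfer.pResidual_eq_top_iff_le_commutator hQ.toSylowTop).2 fun x hx => ?_
  obtain ⟨i, rfl | rfl⟩ := (h.mem x).1 hx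
  exacts [zpow_mem ha i, mul_mem (zpow_mem ha i) hb]

theorem sl_ind {N : Subgroup SL(2, F)} (h : ∀ g, (orderOf g).Coprime 2 → g ∈ N) (g : SL(2, F)) :
    g ∈ N :=
  Transfer.pResidual_le_iff.2 h (sl_res hF ▸ mem_top g)

/-- a central extension of `SL₂(q)` by a 2-group splits -/
theorem res_inj {E : Type*} [Group E] [Finite E] (f : E →* SL(2, F)) (hf : Function.Surjective f)
    (hc : f.ker ≤ center E) (hp : IsPGroup 2 f.ker) {ζ : E} (h1 : ζ ∈ pResidual 2 E) (h2 : f ζ = 1) :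
    ζ = 1 := by
  obtain ⟨Q, m, a, b, hQ, h, -⟩ := sl_quat hF
  obtain ⟨a, rfl⟩ := hf a
  obtain ⟨b, rfl⟩ := hf b
  have hD : IsSylowIn 2 (Q.comap f) ⊤ := ⟨le_top, hQ.pgroup.comap_of_ker_isPGroup f hp, by
    rw [relIndex_top_right, index_comap_of_surjective _ hf, ← relIndex_top_right]; exact hQ.not_dvd⟩
  have z1 : ζ ∈ Q.comap f := by rw [mem_comap, h2]; exact one_mem _
  have z2 := Transfer.pResidual_inf_sylow_le_commutator hD.toSylowTop ⟨h1, z1⟩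
  have z3 := Transfer.inf_commutator_inf_center_le_of_hall hD.toSylowTop.card_coprime_index
    ⟨⟨z1, z2⟩, hc h2⟩
  have md : Schur.MetaData a b (-1) := ⟨hc (by simp [MonoidHom.mem_ker, h.conj])⟩
  have dec : ∀ g ∈ Q.comap f, ∃ i : ℤ, ∃ c ∈ center E, g = a ^ i * c ∨ g = a ^ i * b * c := fun g hg => by
    obtain ⟨i, e | e⟩ := (h.mem _).1 hg
    · exact ⟨i, (a ^ i)⁻¹ * g, hc (by simp [MonoidHom.mem_ker, e]), .inl (by group)⟩
    · exact ⟨i, (a ^ i * b)⁻¹ * g, hc (by simp [MonoidHom.mem_ker, e]), .inr (by group)⟩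
  have c1 : ∀ i j : ℤ, a ^ i * (b * a ^ j * b⁻¹) * (a ^ (i + j))⁻¹ ∈ zpowers ⁅b, a⁆ := fun i j =>
    ⟨j, by rw [md.conj_zpow, ← mul_assoc, ← (md.commute.zpow_zpow j i).eq]; group⟩
  have c2 : ∀ i j : ℤ, ⁅a ^ i * b, a ^ j⁆ ∈ zpowers ⁅b, a⁆ := fun i j => by
    convert c1 i j using 1; group
  obtain ⟨i, rfl⟩ : ζ ∈ zpowers ⁅b, a⁆ := by
    refine commutator_le.2 (fun g hg k hk => ?_) z3
    obtain ⟨i, c, hc, e⟩ := dec g hg
    obtain ⟨j, d, hd, e'⟩ := dec k hk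
    rcases e with rfl | rfl <;> rcases e' with rfl | rfl <;>
      rw [Schur.commutatorElement_mul_central hc hd]
    · rw [commutatorElement_eq_one_iff_commute.2 ((Commute.refl a).zpow_zpow i j)]; exact one_mem _
    · exact inv_mem_iff.1 (by rw [commutatorElement_inv]; exact c2 j i)
    · exact c2 i j
    · convert c1 i (j - i) using 1; group
  have cm : ⁅b, a⁆ ^ (m : ℤ) = 1 := md.zpow_eq_one_of_commute (by
    obtain ⟨c, hc, e⟩ : ∃ c ∈ center E, a ^ (m : ℤ) = b * b * c :=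
      ⟨(b * b)⁻¹ * a ^ m, hc (by
        rw [MonoidHom.mem_ker, map_mul, map_inv, map_mul, h.bb, map_pow, inv_mul_cancel]), by
          rw [mul_inv_cancel_left, zpow_natCast]⟩
    exact e ▸ ((Commute.refl b).mul_right (.refl b)).mul_right (mem_center_iff.1 hc b))
  obtain ⟨k, rfl⟩ : (m : ℤ) ∣ i := by
    have : f a ^ (-2 * i) = 1 := by
      rw [← h2, map_zpow, map_commutatorElement, commutatorElement_def, h.conj]; group
    obtain ⟨k, e⟩ := h.ze.1 this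
    exact ⟨-k, by linarith⟩
  simp only [zpow_mul, cm, one_zpow]

/-- the canonical lift of a subgroup `SL₂(q)` -/
theorem exists_lift {Y X : Type*} [Group Y] [Finite Y] [Group X] (κ : Y →* X)
    (hκ : Function.Surjective κ) (hc : κ.ker ≤ center Y) (hp : IsPGroup 2 κ.ker)
    (ι : SL(2, F) →* X) (hι : Function.Injective ι) : ∃ s : SL(2, F) →* Y, (∀ g, κ (s g) = ι g) ∧
      ∀ y, κ y ∈ normalizer (ι.range : Set X) → y ∈ normalizer (s.range : Set Y) := by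
  let E := ι.range.comap κ
  let f : E →* SL(2, F) := (MonoidHom.ofInjective hι).symm.toMonoidHom.comp
    ((κ.comp E.subtype).codRestrict ι.range fun x => x.2)
  have fe : ∀ x : E, ι (f x) = κ x := fun x => MonoidHom.apply_ofInjective_symm hι _
  have hf : Function.Surjective f := fun g => by
    obtain ⟨y, hy⟩ := hκ (ι g)
    exact ⟨⟨y, g, hy.symm⟩, hι ((fe _).trans hy)⟩
  have k1 : ∀ x ∈ f.ker, (x : Y) ∈ κ.ker := fun x hx => by
    rw [MonoidHom.mem_ker, ← fe, hx, map_one]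
  have hb : Function.Bijective (f.comp (pResidual 2 E).subtype) := ⟨(injective_iff_map_eq_one _).2
    fun x hx => Subtype.ext (res_inj hF f hf (fun y hy => mem_center_iff.2 fun g =>
      Subtype.ext (mem_center_iff.1 (hc (k1 y hy)) g)) (isPGroup_iff_mem.2 fun y hy =>
        (isPGroup_iff_mem.1 hp _ (k1 y hy)).imp fun _ e => Subtype.ext (by simpa using e)) x.2 hx), fun g => by
    obtain ⟨x, hx, e⟩ := ((Transfer.map_pResidual_of_surjective (p := 2) f hf).trans (sl_res hF)).ge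
      (mem_top g)
    exact ⟨⟨x, hx⟩, e⟩⟩
  let e := MulEquiv.ofBijective _ hb
  let s := (E.subtype.comp (pResidual 2 E).subtype).comp e.symm.toMonoidHom
  have hs : ∀ g, κ (s g) = ι g := fun g => (fe _).symm.trans (congrArg ι (e.apply_symm_apply g))
  refine ⟨s, hs, fun y hy => mem_normalizer_of_forall ?_⟩
  rintro _ ⟨g, rfl⟩
  refine sl_ind hF (N := (s.range.comap (MulAut.conj y).toMonoidHom).comap s) (fun g hg => ?_) g
  have m1 : y * s g * y⁻¹ ∈ E := by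
    simpa [E, hs] using conj_mem_of_mem_normalizer hy (show ι g ∈ ι.range from ⟨g, rfl⟩)
  have m2 : (⟨_, m1⟩ : E) ∈ pResidual 2 E := Transfer.mem_pResidual_of_coprime (by
    rw [← orderOf_coe, ord_conj]; exact hg.coprime_dvd_left (orderOf_map_dvd s g))
  exact ⟨e ⟨_, m2⟩, congrArg (fun x : pResidual 2 E => ((x : E) : Y)) (e.symm_apply_apply ⟨_, m2⟩)⟩

end sl

end CfsgLib.GHE.Bk
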