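import Mathlib
import Cfsg.Agent.Lib.GHE.BlocksA
import Cfsg.Agent.Lib.GHA.Model
import Cfsg.Agent.Lib.GHA.WrL

/-! Block BLOCKS, part B: the two quaternion groups in the cover.  See `plans/GHE.md`. -/

set_option autoImplicit false

namespace CfsgLib.GHE.Bk

open Subgroup Cfsg CfsgLib.W2 CfsgLib.Tech CfsgLib.Sect CfsgLib.PComp CfsgLib.DihSyl
  CfsgLib.GW.Cor
open CfsgLib.LBal hiding cj
open scoped MatrixGroups commutatorElement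

universe u

theorem perm_of {G : Type*} [Group G] [Finite G] (hs : SR 16 (⊤ : Subgroup G))
    {P C L₁ L₂ : Subgroup G} {m : ℕ} {a₁ b₁ a₂ b₂ : G} (hP : IsPGroup 2 P)
    (k₁ : SL2.SLIn L₁ (a₁ ^ m)) (k₂ : SL2.SLIn L₂ (a₂ ^ m)) (q₁ : Q2 (P ⊓ L₁) m a₁ b₁)
    (q₂ : Q2 (P ⊓ L₂) m a₂ b₂) (c : ∀ x ∈ L₁, ∀ y ∈ L₂, x * y = y * x) (ne : P ⊓ L₁ ≠ P ⊓ L₂)
    (l₁ : L₁ ≤ Sq C) (l₂ : L₂ ≤ Sq C) (n₁ : Sq C ≤ normalizer (L₁ : Set G))
    (n₂ : Sq C ≤ normalizer (L₂ : Set G)) (β : G →* G) (hβ : Function.Injective β)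
    (βP : P.map β = P) (βC : C.map β = C) :
    ((P ⊓ L₁).map β = P ⊓ L₁ ∧ (P ⊓ L₂).map β = P ⊓ L₂) ∨
      ((P ⊓ L₁).map β = P ⊓ L₂ ∧ (P ⊓ L₂).map β = P ⊓ L₁) := by
  have e : ∀ L : Subgroup G, (P ⊓ L).map β = P ⊓ L.map β := fun L => by rw [map_inf _ _ _ hβ, βP]
  have s : (Sq C).map β = Sq C := by rw [← Sq_map, βC]
  have r₁ := e L₁ ▸ q_map q₁ β hβ
  have r₂ := e L₂ ▸ q_map q₂ β hβ
  have c' : ∀ x ∈ L₁.map β, ∀ y ∈ L₂.map β, x * y = y * x := by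
    rintro _ ⟨x, hx, rfl⟩ _ ⟨y, hy, rfl⟩
    rw [← map_mul, c x hx y hy, map_mul]
  have m₁ : L₁.map β ≤ Sq C := s ▸ map_mono l₁
  have m₂ : L₂.map β ≤ Sq C := s ▸ map_mono l₂
  have p₁ : Sq C ≤ normalizer (L₁.map β : Set G) := s ▸ (map_mono n₁).trans (le_normalizer_map β)
  have p₂ : Sq C ≤ normalizer (L₂.map β : Set G) := s ▸ (map_mono n₂).trans (le_normalizer_map β)
  have key : ∀ {K M : Subgroup G} {a b a' b' : G}, Q2 (P ⊓ K) m a b → Q2 (P ⊓ M) m a' b' →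
      P ⊓ K ≤ M → P ⊓ M = P ⊓ K := fun h h' le =>
    (eq_of_le_of_card_ge (le_inf inf_le_left le) (h'.card.trans h.card.symm).le).symm
  rw [e, e]
  rcases one_side hs hP k₁ q₁ r₁ r₂ c' (m₁.trans n₁) (m₂.trans n₁) (l₁.trans p₁) (l₁.trans p₂)
    with h1 | h1 <;>
  rcases one_side hs hP k₂ q₂ r₁ r₂ c' (m₁.trans n₂) (m₂.trans n₂) (l₂.trans p₁) (l₂.trans p₂)
    with h2 | h2
  · exact (ne ((key q₁ r₁ h1).symm.trans (key q₂ r₁ h2))).elim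
  · exact .inl ⟨key q₁ r₁ h1, key q₂ r₂ h2⟩
  · exact .inr ⟨key q₂ r₁ h2, key q₁ r₂ h1⟩
  · exact (ne ((key q₁ r₂ h1).symm.trans (key q₂ r₂ h2))).elim

theorem cover {Y X : Type u} [Group Y] [Finite Y] [Group X] [Finite X] (hs : SR 16 (⊤ : Subgroup Y))
    (κ : Y →* X) (hκ : Function.Surjective κ) (hk : ∀ y, κ y = 1 ↔ y ∈ center Y)
    (hp : IsPGroup 2 (center Y)) (bl : Blk X) {z : Y} (hz : z ∈ center Y) (z1 : z ≠ 1) :
    ∃ (P D : Subgroup Y) (m : ℕ) (a b σ : Y), IsSylowIn 2 P ⊤ ∧ Q2 D m a b ∧ D ≤ P ∧ σ ∈ P ∧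
      D ⊓ cj σ D = ⊥ ∧ (∀ x ∈ D, ∀ y ∈ cj σ D, x * y = y * x) ∧ z = a ^ m * (σ * a ^ m * σ⁻¹) ∧
      ∀ β : Y ≃* Y, P.map β.toMonoidHom = P →
        (D.map β.toMonoidHom = D ∧ (cj σ D).map β.toMonoidHom = cj σ D) ∨
          (D.map β.toMonoidHom = cj σ D ∧ (cj σ D).map β.toMonoidHom = D) := by
  obtain ⟨F, _, _, φ, τ, hF, w, o, n⟩ := bl
  obtain ⟨Q, m, a, b, hQ, h, e⟩ := sl_quat hF
  have ker : κ.ker = center Y := Subgroup.ext hk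
  have i1 : Function.Injective (φ.comp (MonoidHom.inl _ _)) := fun _ _ h => GHA.WL.inl_inj w h
  have i2 : Function.Injective (φ.comp (MonoidHom.inr _ _)) := fun x y h =>
    GHA.WL.inl_inj w (by rw [← w.swap, ← w.swap 1 y]; exact congrArg (fun u => τ * u * τ⁻¹) h)
  obtain ⟨s, hs1, hn⟩ := exists_lift hF κ hκ ker.le (ker ▸ hp) _ i1
  replace hs1 : ∀ g, κ (s g) = φ (g, 1) := hs1
  have si : Function.Injective s := fun x y h => GHA.WL.inl_inj w (by rw [← hs1, h, hs1])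
  have hw := w.comp Q.subtype Q.subtype_injective (e' := ⟨a ^ m, h.z_mem⟩) e
  obtain ⟨k, hk2⟩ := IsPGroup.iff_card.1 hQ.pgroup
  obtain ⟨PX, hX, le⟩ := exists_isSylowIn_ge (p := 2) (IsPGroup.of_card (n := k + k)
    (by rw [hw.card_Sw, hk2, pow_add])) (show _ ≤ Cx (φ (-1, 1)) by rw [← e]; exact hw.Sw_le)
  have hP : IsSylowIn 2 (PX.comap κ) ⊤ := ⟨le_top, hX.pgroup.comap_of_ker_isPGroup κ (ker ▸ hp), by
    rw [relIndex_top_right, index_comap_of_surjective _ hκ, ← relIndex_top_right]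
    exact (hX.trans le_top (by rw [relIndex_top_right]; exact o.not_two_dvd_nat)).not_dvd⟩
  have mP : ∀ {y}, y ∈ PX.comap κ ↔ κ y ∈ PX := mem_comap
  set P := PX.comap κ
  obtain ⟨σ, rfl⟩ := hκ τ
  have σP : σ ∈ P := le GHA.Wr.τ_mem
  have pq : ∀ x ∈ Q, ∀ y ∈ Q, φ (x, y) ∈ PX := fun x hx y hy =>
    le (GHA.Wr.pp_mem (ψ := φ.comp (Q.subtype.prodMap Q.subtype)) (⟨x, hx⟩, ⟨y, hy⟩))
  have eD : P ⊓ s.range = Q.map s := by
    rw [← hQ.eq_of_le (Q := (P ⊓ s.range).comap s) ((hP.pgroup.to_le inf_le_left).comap_of_injective s si)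
      (fun x hx => ⟨mP.2 (hs1 x ▸ pq x hx 1 (one_mem _)), x, rfl⟩) le_top, map_comap_eq_self inf_le_right]
  have q₁ : Q2 (P ⊓ s.range) m (s a) (s b) := eD ▸ q_map h s si
  have eD2 : cj σ (P ⊓ s.range) = P ⊓ cj σ s.range := by rw [cj_inf, cj_eq_of_mem σP]
  have q₂ := eD2 ▸ q₁.map σ
  have κ1 : κ (s a ^ m) = φ (-1, 1) := by rw [← map_pow, e, hs1]
  have hs2 : ∀ g, κ (σ * s g * σ⁻¹) = φ (1, g) := fun g => by
    rw [map_mul, map_mul, map_inv, hs1, w.swap]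
  have κ2 : κ ((σ * s a * σ⁻¹) ^ m) = φ (-1, 1) := by rw [conj_pow, ← map_pow, e, hs2, w.z_eq]
  have t1 : ∀ {x}, x ∈ normalizer (GHA.L2 φ : Set X) ↔ (κ σ)⁻¹ * x * κ σ ∈ normalizer (GHA.L1 φ : Set X) := by
    rw [← GHA.WL.cj_τ1 w, ← cj_normalizer]; exact mem_cj
  have t2 : ∀ {x}, x ∈ normalizer (GHA.L1 φ : Set X) ↔ (κ σ)⁻¹ * x * κ σ ∈ normalizer (GHA.L2 φ : Set X) := by
    rw [← GHA.WL.cj_τ2 w, ← cj_normalizer]; exact mem_cj
  have hn2 : ∀ y, κ y ∈ normalizer (GHA.L2 φ : Set X) → y ∈ normalizer (cj σ s.range : Set Y) :=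
    fun y hy => by
      rw [← cj_normalizer, mem_cj]
      exact hn _ (by simpa using t1.1 hy)
  have cm : ∀ x ∈ s.range, ∀ y ∈ cj σ s.range, x * y = y * x := by
    rintro _ ⟨g, rfl⟩ _ ⟨_, ⟨g', rfl⟩, rfl⟩
    have c1 : ∀ u, κ (σ * s g' * σ⁻¹) * φ (u, 1) * (κ (σ * s g' * σ⁻¹))⁻¹ = φ (u, 1) := fun u => by
      rw [hs2, GHA.conj_pp]; simp
    obtain ⟨u, hu⟩ := conj_mem_of_mem_normalizer (hn _ (mem_normalizer_of_forall (by
      rintro _ ⟨u, rfl⟩; exact ⟨u, (c1 u).symm⟩))) (show s g ∈ s.range from ⟨g, rfl⟩)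
    obtain rfl : u = g := GHA.WL.inl_inj w (by
      rw [← hs1, hu, map_mul, map_mul κ _ (s g), map_inv, hs1, c1])
    exact eq_mul_inv_iff_mul_eq.1 hu
  have mC : ∀ {y}, y ∈ (Cx (φ (-1, 1))).comap κ ↔ κ y * φ (-1, 1) = φ (-1, 1) * κ y := mem_Cx
  set C := (Cx (φ (-1, 1))).comap κ
  have PC : P ≤ C := comap_mono hX.le
  have sN : Sq C ≤ normalizer (s.range : Set Y) ⊓ normalizer (cj σ s.range : Set Y) :=
    Sq_le_iff.2 fun c hc => by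
      obtain ⟨k, rfl | rfl, k1, k2⟩ := n (κ c) hc
      · exact mul_mem ⟨hn c k1, hn2 c k2⟩ ⟨hn c k1, hn2 c k2⟩
      · have e1 : κ (c * c) = κ c * κ σ * ((κ σ)⁻¹ * (κ c * κ σ) * κ σ) := by
          rw [mul_assoc _⁻¹, mul_assoc (κ c) (κ σ) (κ σ), w.tt]; simp
        exact ⟨hn _ (e1 ▸ mul_mem k1 (t1.1 k2)), hn2 _ (e1 ▸ mul_mem k2 (t2.1 k1))⟩
  have l₁ : s.range ≤ Sq C := by
    rintro _ ⟨g, rfl⟩
    refine sl_ind hF (N := (Sq C).comap s) (fun g hg => ?_) g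
    obtain ⟨r, hr⟩ := Nat.coprime_two_right.1 hg
    have : g = g ^ (r + 1) * g ^ (r + 1) := by
      rw [← pow_add, show r + 1 + (r + 1) = orderOf g + 1 by omega, pow_succ, pow_orderOf_eq_one, one_mul]
    rw [mem_comap, this, map_mul]
    exact sq_mem (mC.2 (by rw [hs1]; exact w.pp_z _))
  have l₂ : cj σ s.range ≤ Sq C := cj_le_iff.2 fun x hx => conj_mem_Sq
    (fun y hy => mul_mem (mul_mem (PC σP) hy) (inv_mem (PC σP))) (l₁ hx)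
  have k₁ := SL2.slIn_of_equiv hF (MonoidHom.ofInjective si).symm q₁.oz q₁.z_mem.2
  have k₂ := SL2.slIn_of_equiv hF ((cjEquiv σ s.range).symm.trans (MonoidHom.ofInjective si).symm)
    q₂.oz q₂.z_mem.2
  have ez : z = s a ^ m * (σ * s a * σ⁻¹) ^ m := by
    obtain ⟨j, hj⟩ := isPGroup_iff_mem.1 hp z hz
    obtain ⟨u, v, hu, hv, rfl⟩ := cent_pair hs q₁ q₂ (fun x hx y hy => cm x hx.2 y hy.2) hj
      (fun d _ => mem_center_iff.1 hz d) fun d _ => mem_center_iff.1 hz d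
    have := (hk _).2 hz
    rcases hu with rfl | rfl <;> rcases hv with rfl | rfl
    · exact (z1 (one_mul _)).elim
    · exact (w.z_ne_one (by rwa [one_mul, κ2] at this)).elim
    · exact (w.z_ne_one (by rwa [mul_one, κ1] at this)).elim
    · rfl
  have inf : P ⊓ s.range ⊓ (P ⊓ cj σ s.range) = ⊥ := eq_bot_iff.2 fun d hd =>
    (q_cen q₁ hd.1 fun x hx => cm x hx.2 d hd.2.2).elim id fun e1 =>
      (q_cen q₂ hd.2 fun x hx => (cm d hd.1.2 x hx.2).symm).elim id fun e2 =>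
        (z1 (by rw [ez, ← e2, e1, q₁.zz])).elim
  have xc : ∀ x : X, x * x = 1 → (∀ y ∈ PX, y * x = x * y) → x = 1 ∨ x = φ (-1, 1) := fun x xx hx => by
    obtain ⟨u, v, hu, hv, rfl⟩ := cent_pair (hs.of_surjective hκ) (q_map h _ i1) (q_map h _ i2) (by
      rintro _ ⟨u, -, rfl⟩ _ ⟨v, -, rfl⟩
      exact (GHA.mul_pp ..).trans ((by simp : _ = φ (1 * u, v * 1)).trans (GHA.mul_pp ..).symm))
      (k := 1) (by rw [pow_one, pow_two, xx])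
      (by rintro _ ⟨u, hu, rfl⟩; exact hx _ (pq u hu 1 (one_mem _)))
      (by rintro _ ⟨u, hu, rfl⟩; exact hx _ (pq 1 (one_mem _) u hu))
    rw [← map_pow, e] at hu hv
    change u = 1 ∨ u = φ (-1, 1) at hu
    change v = 1 ∨ v = φ (1, -1) at hv
    rw [w.z_eq] at hv
    rcases hu with rfl | rfl <;> rcases hv with rfl | rfl <;> simp [w.zz]
  refine ⟨P, _, m, _, _, σ, hP, q₁, inf_le_left, σP, eD2 ▸ inf,
    eD2 ▸ fun x hx y hy => cm x hx.2 y hy.2, by rw [ez, conj_pow], fun β βP => ?_⟩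
  have βz : ∀ y, κ (β y) = 1 ↔ κ y = 1 := fun y => by
    rw [hk, hk, mem_center_iff, mem_center_iff, β.surjective.forall]
    simp only [← map_mul, β.apply_eq_iff_eq]
  have βc : ∀ x y, κ (β x) * κ (β y) = κ (β y) * κ (β x) ↔ κ x * κ y = κ y * κ x := fun x y => by
    simpa [commutatorElement_eq_one_iff_mul_comm] using βz ⁅x, y⁆
  have β1 : κ (β (s a ^ m)) = φ (-1, 1) := by
    refine (xc _ (by rw [← map_mul, ← map_mul, q₁.zz, map_one, map_one]) fun y hy => ?_).resolve_left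
      fun e1 => w.z_ne_one (κ1 ▸ (βz _).1 e1)
    obtain ⟨y, rfl⟩ := hκ y
    obtain ⟨y, hy', rfl⟩ := βP.ge (mP.2 hy)
    exact (βc _ _).2 (by rw [κ1]; exact mC.1 (PC hy'))
  have βC : C.map β.toMonoidHom = C := Subgroup.ext fun y => by
    obtain ⟨y, rfl⟩ := β.surjective y
    exact (mem_map_iff_mem β.injective).trans (by rw [mC, mC, ← β1, βc, κ1, β1])
  rw [eD2]
  exact perm_of hs hP.pgroup k₁ k₂ q₁ q₂ cm (fun e1 => q₁.z1 (mem_bot.1 (inf ▸ ⟨q₁.z_mem, e1 ▸ q₁.z_mem⟩)))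
    l₁ l₂ (sN.trans inf_le_left) (sN.trans inf_le_right) _ β.injective βP βC

end CfsgLib.GHE.Bk
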