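import Mathlib
import Cfsg.Agent.Lib.GHE.Defs
import Cfsg.Agent.Lib.GHE.Defs3
import Cfsg.Agent.Lib.GHE.ApiA
import Cfsg.Agent.Lib.Coprime.Action

/-! Package APIB: the projection onto `C / M` and lifting.  See `plans/GHE.md`. -/

set_option autoImplicit false
set_option linter.unusedSectionVars false

namespace CfsgLib.GHE

open Subgroup Cfsg CfsgLib.W2 CfsgLib.Tech CfsgLib.Sect CfsgLib.PComp CfsgLib.DihSyl
  CfsgLib.GW.Cor
open CfsgLib.LBal hiding cj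
open scoped MatrixGroups commutatorElement

universe u

variable {G : Type u} [Group G] [Finite G]

theorem inf_eq_opOf {y : G} (o : Odd (Nat.card (LL y ⊓ MM y : Subgroup G))) :
    LL y ⊓ MM y = opOf 2 (LL y) :=
  le_antisymm (le_opOf inf_le_left
    (le_normalizer_inf le_normalizer ((LL_le y).trans (MM_nrm y)))
    (Nat.coprime_two_right.2 o)) (le_inf (opOf_le _) (opOf_le_MM y))

theorem simple_of_kappa {y : G} (pc : PC 2 (LL y) (Cx y))
    (o : Odd (Nat.card (LL y ⊓ MM y : Subgroup G))) {X : Type*} [Group X] {κ : LL y →* X}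
    (hκ : Function.Surjective κ) (k : ∀ l, κ l = 1 ↔ (l : G) ∈ MM y) :
    IsSimpleGroup X ∧ ¬ IsMulCommutative X := by
  have : Finite X := Finite.of_surjective κ hκ
  have ek : κ.ker = pPrimeCore 2 (LL y) := by
    ext l
    rw [MonoidHom.mem_ker, k, ← mem_opOf_iff, ← inf_eq_opOf o]
    exact ⟨fun e => ⟨l.2, e⟩, fun e => e.2⟩
  have e : LL y ⧸ pPrimeCore 2 (LL y) ≃* X :=
    (QuotientGroup.quotientMulEquivOfEq ek.symm).trans
      (QuotientGroup.quotientKerEquivOfSurjective κ hκ)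
  have qs : IsQuasisimple X := Comp.qs_of_mulEquiv pc.pqs.1 e
  have hz : center X = ⊥ := by
    rw [eq_bot_iff]
    intro c hc
    obtain ⟨l, rfl⟩ := hκ c
    refine (k l).2 ⟨LL_le y l.2, mem_cmod.2 fun x hx => ?_⟩
    refine (mem_opOf_iff (x := ⁅l, (⟨x, hx⟩ : LL y)⁆)).2 ?_
    rw [← ek, MonoidHom.mem_ker, map_commutatorElement, commutatorElement_eq_one_iff_mul_comm]
    exact (mem_center_iff.1 hc _).symm
  exact ⟨Comp.isSimpleGroup_of_qs_of_center_eq_bot qs hz, Comp.qs_not_isMulCommutative qs⟩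

theorem exists_pr {y : G} (pc : PC 2 (LL y) (Cx y))
    (o : Odd (Nat.card (LL y ⊓ MM y : Subgroup G))) :
    ∃ (N : Type u) (_ : Group N) (_ : Finite N) (π : G → N) (K : Subgroup N),
      Pr (Cx y) (LL y) (MM y) π K := by
  classical
  have hM : ((MM y).subgroupOf (Cx y)).Normal := normal_subgroupOf_of_le_normalizer (MM_nrm y)
  have hL : ((LL y).subgroupOf (Cx y)).Normal := normal_subgroupOf_of_le_normalizer (LL_nrm y)
  let f := QuotientGroup.mk' ((MM y).subgroupOf (Cx y))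
  have hf : Function.Surjective f := QuotientGroup.mk'_surjective _
  have kf : ∀ a : Cx y, f a = 1 ↔ (a : G) ∈ MM y := fun a => QuotientGroup.eq_one_iff a
  let π : G → _ := fun g => if h : g ∈ Cx y then f ⟨g, h⟩ else 1
  have eπ : ∀ g (h : g ∈ Cx y), π g = f ⟨g, h⟩ := fun g h => dif_pos h
  let K := ((LL y).subgroupOf (Cx y)).map f
  let κ : LL y →* K := (f.comp (inclusion (LL_le y))).codRestrict K fun l => ⟨_, l.2, rfl⟩
  have hκ : Function.Surjective κ := by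
    rintro ⟨_, l, hl, rfl⟩
    exact ⟨⟨l, hl⟩, rfl⟩
  have hs := simple_of_kappa pc o hκ fun l => Subtype.ext_iff.trans (kf _)
  refine ⟨_, inferInstance, inferInstance, π, K, LL_le y, fun a ha b hb => ?_, fun a ha => ?_,
    fun n => ?_, fun n => ⟨?_, ?_⟩, hL.map f hf, hs.1, hs.2, eq_bot_iff.2 fun n hn => ?_⟩
  · rw [eπ _ ha, eπ _ hb, eπ _ (mul_mem ha hb), ← map_mul]; rfl
  · rw [eπ _ ha, kf]
  · obtain ⟨a, rfl⟩ := hf n
    exact ⟨a, a.2, eπ _ a.2⟩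
  · rintro ⟨l, hl, rfl⟩
    exact ⟨l, hl, eπ _ l.2⟩
  · rintro ⟨l, hl, rfl⟩
    exact ⟨⟨l, LL_le y hl⟩, hl, (eπ _ _).symm⟩
  · obtain ⟨c, rfl⟩ := hf n
    refine (kf c).2 ⟨c.2, mem_cmod.2 fun l hl => ?_⟩
    rw [← inf_eq_opOf o]
    refine ⟨?_, (kf ⁅c, (⟨l, LL_le y hl⟩ : Cx y)⁆).1 ?_⟩
    · rw [commutatorElement_def]
      exact (LL y).mul_mem (conj_mem_of_mem_normalizer (LL_nrm y c.2) hl) ((LL y).inv_mem hl)
    · rw [map_commutatorElement, commutatorElement_eq_one_iff_mul_comm]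
      exact (hn _ ⟨_, hl, rfl⟩).symm

variable {N : Type u} [Group N] [Finite N] {π : G → N} {K : Subgroup N} {y x x' : G}
  {T A U : Subgroup G}

/-- the projection as a homomorphism -/
def Pr.hom {C L M : Subgroup G} (p : Pr C L M π K) : C →* N :=
  MonoidHom.mk' (fun c => π c) fun a b => p.mul a a.2 b b.2

theorem Pr.hom_apply {C L M : Subgroup G} (p : Pr C L M π K) (c : C) : p.hom c = π c := rfl

theorem Pr.hom_surj {C L M : Subgroup G} (p : Pr C L M π K) : Function.Surjective p.hom :=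
  fun n => by
    obtain ⟨a, ha, e⟩ := p.surj n
    exact ⟨⟨a, ha⟩, e⟩

/-- the projection of `L` onto `K` -/
def Pr.kap {C L M : Subgroup G} (p : Pr C L M π K) : L →* K :=
  (p.hom.comp (inclusion p.le)).codRestrict K fun l => (p.img _).2 ⟨l, l.2, rfl⟩

theorem Pr.kap_surj {C L M : Subgroup G} (p : Pr C L M π K) : Function.Surjective p.kap := by
  rintro ⟨n, hn⟩
  obtain ⟨l, hl, rfl⟩ := (p.img n).1 hn
  exact ⟨⟨l, hl⟩, rfl⟩

theorem Pr.kap_ker {C L M : Subgroup G} (p : Pr C L M π K) (l : L) : p.kap l = 1 ↔ (l : G) ∈ M :=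
  Subtype.ext_iff.trans (p.ker l (p.le l.2))

theorem Pr.equiv (p : Pr (Cx y) (LL y) (MM y) π K) {I : Set G} {K₀ : Type u} [Group K₀]
    (h : Sys I K₀) (hy : y ∈ I) : Nonempty (K ≃* K₀) := by
  obtain ⟨κ, hκ, k⟩ := h.iso y hy
  have ek : p.kap.ker = κ.ker := by
    ext l
    exact (p.kap_ker l).trans (k l).symm
  exact ⟨(QuotientGroup.quotientKerEquivOfSurjective _ p.kap_surj).symm.trans
    ((QuotientGroup.quotientMulEquivOfEq ek).trans
      (QuotientGroup.quotientKerEquivOfSurjective _ hκ))⟩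

section

variable {C L M : Subgroup G} (p : Pr C L M π K)
include p

theorem Pr.one : π 1 = 1 := p.hom.map_one

theorem Pr.inv (hx : x ∈ C) : π x⁻¹ = (π x)⁻¹ := p.hom.map_inv ⟨x, hx⟩

theorem Pr.pow (hx : x ∈ C) (n : ℕ) : π (x ^ n) = π x ^ n := p.hom.map_pow ⟨x, hx⟩ n

theorem Pr.zpow (hx : x ∈ C) (n : ℤ) : π (x ^ n) = π x ^ n := p.hom.map_zpow ⟨x, hx⟩ n

theorem Pr.conj (hx : x ∈ C) (hx' : x' ∈ C) : π (x * x' * x⁻¹) = π x * π x' * (π x)⁻¹ := by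
  rw [p.mul _ (mul_mem hx hx') _ (inv_mem hx), p.mul _ hx _ hx', p.inv hx]

theorem Pr.eq_iff (hx : x ∈ C) (hx' : x' ∈ C) : π x = π x' ↔ x * x'⁻¹ ∈ M := by
  rw [← p.ker _ (mul_mem hx (inv_mem hx')), p.mul _ hx _ (inv_mem hx'), p.inv hx', mul_inv_eq_one]

theorem Pr.im_eq (le : T ≤ C) : im π T = (T.subgroupOf C).map p.hom := by
  rw [im, ← closure_eq ((T.subgroupOf C).map p.hom)]
  congr 1
  ext n
  exact ⟨fun ⟨s, hs, e⟩ => ⟨⟨s, le hs⟩, hs, e⟩, fun ⟨s, hs, e⟩ => ⟨s, hs, e⟩⟩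

theorem Pr.mem_im (le : T ≤ C) {n : N} : n ∈ im π T ↔ ∃ s ∈ T, π s = n := by
  rw [p.im_eq le]
  exact ⟨fun ⟨s, hs, e⟩ => ⟨s, hs, e⟩, fun ⟨s, hs, e⟩ => ⟨⟨s, le hs⟩, hs, e⟩⟩

theorem Pr.syl (hT : IsSylowIn 2 T C) : IsSylowIn 2 (im π T) ⊤ := by
  have := syl_map' (IsSylowIn.of_sylow_top hT.toSylow) p.hom
  rwa [map_top_of_surjective _ p.hom_surj, hT.coe_toSylow, ← p.im_eq hT.le] at this

theorem Pr.mem_K (hx : x ∈ L) : π x ∈ K := (p.img _).2 ⟨x, hx, rfl⟩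

end

omit [Finite G] [Finite N] in
theorem mem_im_of (hx : x ∈ T) : π x ∈ im π T := subset_closure ⟨x, hx, rfl⟩

variable (p : Pr (Cx y) (LL y) (MM y) π K) (o : Odd (Nat.card (LL y ⊓ MM y : Subgroup G)))
include p

theorem Pr.memK (hx : x ∈ Cx y) : π x ∈ K ↔ x ∈ LL y ⊔ MM y := by
  constructor
  · intro h
    obtain ⟨l, hl, e⟩ := (p.img _).1 h
    rw [← inv_mul_cancel_right x l, sup_comm]
    exact mul_mem_sup ((p.eq_iff hx (LL_le y hl)).1 e.symm) hl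
  · intro h
    obtain ⟨l, hl, e⟩ := exists_of_cover (LL_le y) h
    rw [← mul_inv_cancel_left l x, p.mul _ (LL_le y hl) _ e.1, (p.ker _ e.1).2 e, mul_one]
    exact p.mem_K hl

theorem Pr.im_inf (hT : IsSylowIn 2 T (Cx y)) : im π T ⊓ K = im π (T ⊓ LL y) := by
  refine le_antisymm (fun n hn => ?_) fun n hn => ?_
  · obtain ⟨s, hs, rfl⟩ := (p.mem_im hT.le).1 hn.1
    obtain ⟨k, hk, r, hr, rfl⟩ := sylLM hT hs ((p.memK (hT.le hs)).1 hn.2)
    rw [p.mul _ (hT.le hk.1) _ hr.2.1, (p.ker _ hr.2.1).2 hr.2, mul_one]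
    exact mem_im_of hk
  · obtain ⟨s, hs, rfl⟩ := (p.mem_im (inf_le_left.trans hT.le)).1 hn
    exact ⟨mem_im_of hs.1, p.mem_K hs.2⟩

include o

theorem Pr.inj (hT : IsPGroup 2 T) (hx : x ∈ T) (hx' : x' ∈ T) (c : x ∈ Cx y) (l : x * x'⁻¹ ∈ LL y)
    (e : π x = π x') : x = x' := by
  have c' : x' ∈ Cx y := by
    have := mul_mem (inv_mem (LL_le y l)) c
    rwa [mul_inv_rev, inv_inv, inv_mul_cancel_right] at this
  exact mul_inv_eq_one.1
    (eq_one_of_odd o hT ⟨l, (p.eq_iff c c').1 e⟩ (mul_mem hx (inv_mem hx')))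

omit p in
theorem cop_LM (hA : IsPGroup 2 A) {O : Subgroup G} (le : O ≤ LL y ⊓ MM y) :
    (Nat.card A).Coprime (Nat.card O) :=
  coprime_card_of_isPGroup hA ((Nat.coprime_two_right.2 o).coprime_dvd_left (card_dvd_of_le le))

omit p o in
theorem nrm_LM : Cx y ≤ normalizer ((LL y ⊓ MM y : Subgroup G) : Set G) :=
  le_normalizer_inf (LL_nrm y) (MM_nrm y)

omit p o in
theorem nrm_LMA : Cx y ⊓ centralizer (A : Set G) ≤
    normalizer ((LL y ⊓ MM y ⊓ centralizer (A : Set G) : Subgroup G) : Set G) :=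
  le_normalizer_inf (inf_le_left.trans nrm_LM) (inf_le_right.trans le_normalizer)

theorem Pr.lift0 (hA : IsPGroup 2 A) (leA : A ≤ Cx y) {k : N} (hk : k ∈ K)
    (cA : ∀ s ∈ A, k * π s = π s * k) : ∃ l ∈ LL y ⊓ centralizer (A : Set G), π l = k := by
  obtain ⟨l, hl, rfl⟩ := (p.img k).1 hk
  have lc := LL_le y hl
  obtain ⟨u, hu, e⟩ := Coprime.exists_mul_mem_centralizer' (leA.trans nrm_LM)
    (cop_LM o hA le_rfl) (.inl (Coprime.isSolvable_of_isPGroup hA)) l fun a ha =>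
      ⟨(LL y).mul_mem (conj_mem_of_mem_normalizer (LL_nrm y (leA ha)) hl) ((LL y).inv_mem hl),
        (p.eq_iff (mul_mem (mul_mem (leA ha) lc) (inv_mem (leA ha))) lc).1 (by
          rw [p.conj (leA ha) lc, ← cA a ha, mul_inv_cancel_right])⟩
  exact ⟨u * l, ⟨(LL y).mul_mem hu.1 hl, e⟩, by
    rw [p.mul _ hu.2.1 _ lc, (p.ker _ hu.2.1).2 hu.2, one_mul]⟩

theorem Pr.odd_of {l : G} (hl : l ∈ LL y) (h : Odd (orderOf (π l))) : Odd (orderOf l) := by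
  have h1 : l ^ orderOf (π l) ∈ LL y ⊓ MM y := ⟨pow_mem hl _, (p.ker _ (pow_mem (LL_le y hl) _)).1
    (by rw [p.pow (LL_le y hl), pow_orderOf_eq_one])⟩
  refine (h.mul o).of_dvd_nat (orderOf_dvd_of_pow_eq_one ?_)
  rw [pow_mul]
  exact congrArg Subtype.val (pow_card_eq_one' (x := (⟨_, h1⟩ : (LL y ⊓ MM y : Subgroup G))))

/-- lifting an element that centralises `π A` and normalises `π U` -/
theorem Pr.lift (hA : IsPGroup 2 A) (leA : A ≤ Cx y) (hU : IsPGroup 2 U)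
    (leU : U ≤ LL y ⊓ centralizer (A : Set G)) {k : N} (hk : k ∈ K)
    (cA : ∀ s ∈ A, k * π s = π s * k) (nU : k ∈ normalizer (im π U : Set N)) :
    ∃ l ∈ LL y ⊓ centralizer (A : Set G) ⊓ normalizer (U : Set G), π l = k ∧
      (Odd (orderOf k) → Odd (orderOf l)) := by
  obtain ⟨l, hl, rfl⟩ := p.lift0 o hA leA hk cA
  have lc := LL_le y hl.1
  have UC : U ≤ Cx y := fun u hu => LL_le y (leU hu).1
  have le1 : cj l U ≤ LL y ⊓ centralizer (A : Set G) := cj_le_iff.2 fun u hu =>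
    mul_mem (mul_mem hl (leU hu)) (inv_mem hl)
  obtain ⟨v, hv, e⟩ := Coprime.exists_conj_mem_of_subset_mul (S := U)
    ((le1.trans (inf_le_inf_right _ (LL_le y))).trans nrm_LMA)
    (cop_LM o (isPGroup_cj l hU) inf_le_left)
    (.inl (Coprime.isSolvable_of_isPGroup (isPGroup_cj l hU))) (by
      rintro _ ⟨u, hu, rfl⟩
      have h1 := conj_mem_of_mem_normalizer nU (mem_im_of (π := π) hu)
      rw [← p.conj lc (UC hu)] at h1
      obtain ⟨s, hs, e⟩ := (p.mem_im UC).1 h1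
      have h2 : l * u * l⁻¹ ∈ LL y ⊓ centralizer (A : Set G) := le1 (conj_mem_cj.2 hu)
      have h3 := mul_mem h2 (inv_mem (leU hs))
      exact ⟨l * u * l⁻¹ * s⁻¹, ⟨⟨h3.1, (p.eq_iff (LL_le y h2.1) (UC hs)).1 e.symm⟩, h3.2⟩, s, hs,
        (inv_mul_cancel_right _ _).symm⟩)
  have e1 : π (v * l) = π l := by
    rw [p.mul _ hv.1.2.1 _ lc, (p.ker _ hv.1.2.1).2 hv.1.2, one_mul]
  have h4 : v * l ∈ LL y := (LL y).mul_mem hv.1.1 hl.1
  refine ⟨v * l, ⟨⟨h4, Subgroup.mul_mem _ hv.2 hl.2⟩, mem_normalizer_of_forall fun u hu => ?_⟩, e1,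
    fun h => p.odd_of o h4 (e1 ▸ h)⟩
  have := e _ (conj_mem_cj.2 hu)
  rwa [show v * l * u * (v * l)⁻¹ = v * (l * u * l⁻¹) * v⁻¹ by group]

theorem Pr.fus (hA : IsPGroup 2 A) (leA : A ≤ Cx y) (hx : x ∈ Cx y ⊓ centralizer (A : Set G))
    (hx' : x' ∈ Cx y ⊓ centralizer (A : Set G)) (e : E2 x) (e' : E2 x') (l : x' * x⁻¹ ∈ LL y)
    {k : N} (hk : k ∈ K) (cA : ∀ s ∈ A, k * π s = π s * k) (c : k * π x * k⁻¹ = π x') :
    ∃ l ∈ LL y ⊓ centralizer (A : Set G), l * x * l⁻¹ = x' := by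
  obtain ⟨j, hj, rfl⟩ := p.lift0 o hA leA hk cA
  have jc : j ∈ Cx y ⊓ centralizer (A : Set G) := ⟨LL_le y hj.1, hj.2⟩
  have h1 : j * x * j⁻¹ ∈ Cx y ⊓ centralizer (A : Set G) := mul_mem (mul_mem jc hx) (inv_mem jc)
  have h2 : j * x * j⁻¹ * x'⁻¹ ∈ LL y ⊓ MM y ⊓ centralizer (A : Set G) := by
    refine ⟨⟨?_, (p.eq_iff h1.1 hx'.1).1 (by rw [p.conj jc.1 hx.1, c])⟩,
      (mul_mem h1 (inv_mem hx')).2⟩
    rw [show j * x * j⁻¹ * x'⁻¹ = j * (x * j⁻¹ * x⁻¹) * (x' * x⁻¹)⁻¹ by group]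
    exact (LL y).mul_mem ((LL y).mul_mem hj.1 (conj_mem_of_mem_normalizer (LL_nrm y hx.1)
      ((LL y).inv_mem hj.1))) ((LL y).inv_mem l)
  have pg : IsPGroup 2 (zpowers (j * x * j⁻¹)) := by rw [← cj_zpowers]; exact isPGroup_cj j e.pg
  obtain ⟨v, hv, f⟩ := Coprime.exists_conj_mem_of_subset_mul (S := zpowers x')
    ((zpowers_le.2 h1).trans nrm_LMA) (cop_LM o pg inf_le_left)
    (.inl (Coprime.isSolvable_of_isPGroup pg)) fun a ha => by
      have h3 : zpowers (j * x * j⁻¹) ≤ LL y ⊓ MM y ⊓ centralizer (A : Set G) ⊔ zpowers x' :=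
        zpowers_le.2 (by
          rw [← inv_mul_cancel_right (j * x * j⁻¹) x']
          exact mul_mem_sup h2 (mem_zpowers x'))
      obtain ⟨u, hu, s, hs, rfl⟩ := (Coprime.mem_sup_iff_of_le_normalizer
        ((zpowers_le.2 hx').trans nrm_LMA)).1 (h3 ha)
      exact ⟨u, hu, s, hs, rfl⟩
  refine ⟨v * j, mul_mem (⟨hv.1.1, hv.2⟩ : v ∈ LL y ⊓ centralizer (A : Set G)) hj, ?_⟩
  rw [show v * j * x * (v * j)⁻¹ = v * (j * x * j⁻¹) * v⁻¹ by group]
  refine mul_inv_eq_one.1 (eq_one_of_odd o e'.pg ?_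
    (mul_mem (f _ (mem_zpowers _)) (inv_mem (mem_zpowers x'))))
  rw [show v * (j * x * j⁻¹) * v⁻¹ * x'⁻¹ =
    v * (j * x * j⁻¹ * v⁻¹ * (j * x * j⁻¹)⁻¹) * (j * x * j⁻¹ * x'⁻¹) by group]
  exact mul_mem (mul_mem hv.1 (conj_mem_of_mem_normalizer (nrm_LM h1.1) (inv_mem hv.1))) h2.1

theorem Pr.cy (hA : IsPGroup 2 A) (leA : A ≤ Cx y) {w a : G} (hw : w ∈ LL y ⊓ centralizer (A : Set G))
    (ha : a ∈ LL y ⊓ centralizer (A : Set G)) (ww : w * w = 1) (aa : a * a = 1) (c : a * w = w * a)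
    {k : N} (hk : k ∈ K) (cA : ∀ s ∈ A, k * π s = π s * k) (cy : Cy k (π w) (π a)) :
    ∃ ρ ∈ LL y ⊓ centralizer (A : Set G), Cy ρ w a := by
  have leU : zpowers a ⊔ zpowers w ≤ LL y ⊓ centralizer (A : Set G) :=
    sup_le (zpowers_le.2 ha) (zpowers_le.2 hw)
  have UC : zpowers a ⊔ zpowers w ≤ Cx y := fun u hu => LL_le y (leU hu).1
  have nr : zpowers a ≤ normalizer (zpowers w : Set G) := zpowers_le.2 (mem_normalizer_iff_cj.2 (by
    rw [cj_zpowers, c, mul_inv_cancel_right]))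
  have pg : IsPGroup 2 (zpowers a ⊔ zpowers w : Subgroup G) :=
    (isPGroup_two_zpowers aa).to_sup_of_normal_right' (isPGroup_two_zpowers ww) nr
  have aU : a ∈ zpowers a ⊔ zpowers w := mem_sup_left (mem_zpowers a)
  have wU : w ∈ zpowers a ⊔ zpowers w := mem_sup_right (mem_zpowers w)
  obtain ⟨ρ, hρ, rfl, od⟩ := p.lift o hA leA pg leU hk cA (mem_normalizer_of_forall fun n hn => by
    obtain ⟨s, hs, rfl⟩ := (p.mem_im UC).1 hn
    obtain ⟨a', ha', w', hw', rfl⟩ := (Coprime.mem_sup_iff_of_le_normalizer' nr).1 hs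
    rw [p.mul _ (UC (mem_sup_left ha')) _ (UC (mem_sup_right hw')), ← conj_mul]
    refine mul_mem ?_ ?_
    · rcases (mem_zpowers_two aa).1 ha' with rfl | rfl
      · rw [p.one, mul_one, mul_inv_cancel]; exact one_mem _
      · rw [cy.ea]; exact mul_mem (mem_im_of aU) (mem_im_of wU)
    · rcases (mem_zpowers_two ww).1 hw' with rfl | rfl
      · rw [p.one, mul_one, mul_inv_cancel]; exact one_mem _
      · rw [cy.ew]; exact mem_im_of aU)
  have key : ∀ s ∈ zpowers a ⊔ zpowers w, ∀ s' ∈ zpowers a ⊔ zpowers w,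
      π ρ * π s * (π ρ)⁻¹ = π s' → ρ * s * ρ⁻¹ = s' := fun s hs s' hs' e =>
    have h1 := conj_mem_of_mem_normalizer hρ.2 hs
    p.inj o pg h1 hs' (UC h1) (leU (mul_mem h1 (inv_mem hs'))).1
      (by rw [p.conj (LL_le y hρ.1.1) (UC hs), e])
  exact ⟨ρ, hρ.1, od cy.odd, key w wU a aU cy.ew,
    key a aU _ (mul_mem aU wU) (by rw [cy.ea, p.mul _ (UC aU) _ (UC wU)])⟩

omit o in
theorem DF.dl {m : ℕ} {a b w : G} (d : DF y T m a b w) :
    DL K (im π T) m (π a) (π b) (π w) := by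
  have le : T ⊓ LL y ≤ Cx y := inf_le_left.trans d.syl.le
  have ac := le d.dih.s_mem
  have abc := le d.dih.r_mem
  have bc : b ∈ Cx y := (mul_mem_cancel_left ac).1 abc
  have wc : w ∈ Cx y := d.hw ▸ pow_mem abc _
  refine ⟨p.nrm, p.simple, p.ncomm, p.cent, p.syl d.syl, d.two,
    by rw [← p.mul _ bc _ bc, d.bb, p.one], ?_, by rw [← p.mul _ ac _ bc, ← p.pow abc, ← d.hw],
    fun n hn => ?_⟩
  · rw [p.im_inf d.syl, p.im_eq le, ← p.mul _ ac _ bc]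
    exact GW.isDih_map_of_injOn (GW.isDih_subgroupOf (r := ⟨_, abc⟩) (s := ⟨_, ac⟩) le d.dih) p.hom
      fun s hs e => Subtype.ext (eq_one_of_odd d.odd d.syl.pgroup ⟨hs.2, (p.ker _ s.2).1 e⟩ hs.1)
  · obtain ⟨s, hs, rfl⟩ := (p.mem_im d.syl.le).1 hn
    rw [mem_Cx, ← p.mul _ (d.syl.le hs) _ wc, mem_Cx.1 (d.fix hs), p.mul _ wc _ (d.syl.le hs)]

end CfsgLib.GHE
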