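import Mathlib
import Cfsg.Agent.Lib.GHE.Defs
import Cfsg.Agent.Lib.GHE.Defs3
import Cfsg.Agent.Lib.GHE.Base1

/-! Package LOCD1: elements that normalise a dihedral 2-group.  See `plans/GHE.md`. -/

set_option autoImplicit false

namespace CfsgLib.GHE

open Subgroup Cfsg CfsgLib.W2 CfsgLib.Tech CfsgLib.Sect CfsgLib.PComp CfsgLib.DihSyl
  CfsgLib.GW.Cor
open CfsgLib.LBal hiding cj
open scoped MatrixGroups commutatorElement

universe u

variable {G : Type u} [Group G] [Finite G]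

/-- `H = ⟨a, b⟩` is a dihedral normal subgroup of the 2-group `P` -/
structure DP (H P : Subgroup G) (m : ℕ) (a b w : G) : Prop where
  pg : IsPGroup 2 P
  le : H ≤ P
  nrm : P ≤ normalizer (H : Set G)
  two : 2 ≤ m
  bb : b * b = 1
  dih : IsDih H m (a * b) a
  hw : w = (a * b) ^ (m / 2)
  fix : P ≤ Cx w

variable {H P : Subgroup G} {m : ℕ} {a b w x y d : G}

theorem DL.dp {K : Subgroup G} (h : DL K P m a b w) : DP (P ⊓ K) P m a b w :=
  ⟨h.syl.pgroup, inf_le_left, fun x hx => mem_normalizer_fintype fun k hk =>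
    mem_inf.2 ⟨mul_mem (mul_mem hx (mem_inf.1 hk).1) (inv_mem hx), h.nrm.conj_mem k hk.2 x⟩, h.two, h.bb, h.dih, h.hw, h.fix⟩

theorem DF.dp {T : Subgroup G} (h : DF y T m a b w) : DP (T ⊓ LL y) T m a b w :=
  ⟨h.syl.pgroup, inf_le_left, fun x hx => mem_normalizer_fintype fun k hk =>
    mem_inf.2 ⟨mul_mem (mul_mem hx (mem_inf.1 hk).1) (inv_mem hx),
      (mem_normalizer_iff.1 (LL_nrm y (h.syl.1 hx)) k).1 hk.2⟩,
    h.two, h.bb, h.dih, h.hw, h.fix⟩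

omit [Finite G] in
/-- two elements with `s r s⁻¹ = r⁻¹` -/
theorem isDih_mk {D : Subgroup G} {n : ℕ} {r s : G} (h1 : orderOf r = n) (h2 : s * s = 1)
    (h3 : s * r * s⁻¹ = r⁻¹) (h4 : s ∉ zpowers r) (hr : r ∈ D) (hs : s ∈ D)
    (h5 : ∀ E : Subgroup G, r ∈ E → s ∈ E → D ≤ E) : IsDih D n r s := by
  have c : ∀ i : ℤ, s * r ^ i = r ^ (-i) * s := fun i => by
    rw [zpow_neg, ← inv_zpow, ← h3, conj_zpow, inv_mul_cancel_right]
  have si : s⁻¹ = s := inv_eq_of_mul_eq_one_right h2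
  let E : Subgroup G :=
    { carrier := {g | ∃ i : ℤ, g = r ^ i ∨ g = r ^ i * s}
      one_mem' := ⟨0, .inl (zpow_zero r).symm⟩
      mul_mem' := by
        rintro _ _ ⟨i, rfl | rfl⟩ ⟨j, rfl | rfl⟩
        · exact ⟨i + j, .inl (zpow_add r i j).symm⟩
        · exact ⟨i + j, .inr (by rw [zpow_add, mul_assoc])⟩
        · exact ⟨i + -j, .inr (by rw [zpow_add, mul_assoc, c, mul_assoc])⟩
        · exact ⟨i + -j, .inl (by rw [zpow_add, mul_assoc, ← mul_assoc s, c, mul_assoc, h2, mul_one])⟩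
      inv_mem' := by
        rintro _ ⟨i, rfl | rfl⟩
        · exact ⟨-i, .inl (zpow_neg r i).symm⟩
        · exact ⟨i, .inr (by rw [mul_inv_rev, si, ← zpow_neg, c, neg_neg])⟩ }
  refine ⟨h1, h2, h3, h4, fun g => ⟨fun hg => h5 E ⟨1, .inl (zpow_one r).symm⟩ ⟨0, .inr (by simp)⟩ hg, ?_⟩⟩
  rintro ⟨i, rfl | rfl⟩
  exacts [zpow_mem hr i, mul_mem (zpow_mem hr i) hs]

namespace DP

variable (h : DP H P m a b w)
include h

omit [Finite G] in
theorem b_eq : b = (a * b) ^ (-1 : ℤ) * a := by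
  rw [← h.dih.s_mul, zpow_one, ← mul_assoc, h.dih.ss, one_mul]

omit [Finite G] in
theorem ba : b * a = (a * b)⁻¹ := by
  rw [mul_inv_rev, h.dih.s_inv, inv_eq_of_mul_eq_one_right h.bb]

omit [Finite G] in
theorem b_mul (i : ℤ) : b * ((a * b) ^ i * a) = (a * b) ^ (-1 - i) := by
  nth_rewrite 1 [h.b_eq]
  exact h.dih.rpows_mul_rpows _ _

omit [Finite G] in
theorem a_mul (i : ℤ) : a * ((a * b) ^ i * a) = (a * b) ^ (-i) := by
  simpa using h.dih.rpows_mul_rpows 0 i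

theorem pow : ∃ k, m = 2 ^ (k + 1) := by
  obtain ⟨k, e⟩ := h.dih.exists_pow_of_isPGroup (h.pg.to_le h.le)
  have := h.two
  rcases k with _ | k
  · omega
  · exact ⟨k, e⟩

theorem m_eq : m = 2 * (m / 2) := by
  obtain ⟨k, rfl⟩ := h.pow
  omega

omit [Finite G] in
theorem w_eq : w = (a * b) ^ ((m / 2 : ℕ) : ℤ) := by rw [zpow_natCast, h.hw]

theorem ww : w * w = 1 ∧ w ≠ 1 := h.w_eq ▸ h.dih.half h.m_eq (by have := h.two; omega)

theorem w_zp : w ∈ zpowers (a * b) := ⟨_, h.w_eq.symm⟩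

theorem inv_zp (hx : x ∈ zpowers (a * b)) (xx : x * x = 1) : x = 1 ∨ x = w :=
  or_iff_not_imp_left.2 fun k => h.dih.eq_of_sq hx h.w_zp xx h.ww.1 k h.ww.2

omit [Finite G] in
theorem w_comm (hx : x ∈ P) : x * w = w * x := mem_Cx.1 (h.fix hx)

theorem symm : DP H P m b a w := by
  refine ⟨h.pg, h.le, h.nrm, h.two, h.dih.ss, isDih_mk (by rw [h.ba, orderOf_inv, h.dih.ord]) h.bb ?_ ?_ ?_ ?_ ?_,
    ?_, h.fix⟩
  · rw [← mul_assoc, h.bb, one_mul, mul_inv_rev, h.dih.s_inv]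
  · rw [h.ba, zpowers_inv]
    exact fun k => h.dih.rpows_notMem (-1) (by rwa [← h.b_eq])
  · exact h.ba ▸ inv_mem h.dih.r_mem
  · exact h.b_eq ▸ h.dih.rpows_mem _
  · intro E k1 k2 g hg
    have k3 := (mul_mem_cancel_left k2).1 k1
    obtain ⟨i, rfl | rfl⟩ := (h.dih.mem g).1 hg
    exacts [zpow_mem (mul_mem k3 k2) i, mul_mem (zpow_mem (mul_mem k3 k2) i) k3]
  · rw [h.ba, inv_pow, ← h.hw, inv_eq_of_mul_eq_one_right h.ww.1]

theorem basic : a ∈ H ∧ b ∈ H ∧ w ∈ H ∧ orderOf a = 2 ∧ orderOf b = 2 ∧ orderOf w = 2 ∧ a ≠ w ∧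
    b ≠ w ∧ a ≠ b ∧ Nat.card H = 2 * m := by
  have := Fact.mk Nat.prime_two
  refine ⟨h.dih.s_mem, h.symm.dih.s_mem, h.dih.zpowers_le h.w_zp, by simpa using h.dih.orderOf_rpows 0,
    by simpa using h.symm.dih.orderOf_rpows 0, orderOf_eq_prime (by rw [sq, h.ww.1]) h.ww.2,
    fun e => h.dih.notMem (e ▸ h.w_zp), fun e => h.symm.dih.notMem (e ▸ h.symm.w_zp), fun e => ?_, h.dih.card⟩
  have := h.dih.ord
  rw [← e, h.dih.ss, orderOf_one] at this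
  have := h.two
  omega

theorem v4 : V4 (closure {a, w}) ∧ ∀ u, u ∈ closure {a, w} ↔ u = 1 ∨ u = a ∨ u = w ∨ u = a * w := by
  obtain ⟨k1, -, k2⟩ := h.dih.isKleinFour_sup h.w_zp h.ww.1 h.ww.2 0
  have e : closure {a, w} = zpowers w ⊔ zpowers ((a * b) ^ (0 : ℤ) * a) := by
    rw [zpow_zero, one_mul, zpowers_eq_closure, zpowers_eq_closure, ← Subgroup.closure_union, Set.union_singleton]
  rw [e]
  refine ⟨⟨fun x hx => congrArg Subtype.val (IsKleinFour.mul_self (⟨x, hx⟩ : ↥(_ ⊔ _ : Subgroup G))), k1.card_four⟩,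
    fun u => ?_⟩
  rw [k2, zpow_zero, one_mul, h.w_comm (h.le h.dih.s_mem)]
  tauto

theorem mem_sq {j : ℤ} : (a * b) ^ j ∈ zpowers ((a * b) ^ 2) ↔ Even j := by
  refine ⟨fun ⟨i, e⟩ => ?_, fun ⟨i, e⟩ => ⟨i, by simp only [e, ← two_mul, zpow_mul, zpow_ofNat]⟩⟩
  replace e : (a * b) ^ (2 * i) = (a * b) ^ j := by rw [zpow_mul, zpow_ofNat]; exact e
  rw [h.dih.eq_iff] at e
  obtain ⟨c, e⟩ := e
  rw [h.m_eq] at e
  exact ⟨i - (m / 2 : ℕ) * c, by push_cast at e ⊢; linarith⟩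

theorem conj_zp (hx : x ∈ P) (hy : y ∈ zpowers (a * b)) : x * y * x⁻¹ ∈ zpowers (a * b) :=
  h.dih.conj_mem_zpowers le_rfl (fun k => (mem_normalizer_iff.1 (h.nrm hx) k).1) (.inr fun z hz zz => by
    rcases h.inv_zp hz zz with rfl | rfl
    · simp
    · rw [h.w_comm hx, mul_inv_cancel_right]) (h.dih.zpowers_le hy) hy

/-- the action of an element of `P` on `H` -/
theorem act (hx : x ∈ P) : ∃ k i : ℤ, Odd k ∧ (∀ j : ℤ, x * (a * b) ^ j * x⁻¹ = (a * b) ^ (k * j)) ∧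
    ∀ j : ℤ, x * ((a * b) ^ j * a) * x⁻¹ = (a * b) ^ (k * j + i) * a := by
  obtain ⟨k, e⟩ := h.conj_zp hx (mem_zpowers _)
  have e1 : ∀ j : ℤ, x * (a * b) ^ j * x⁻¹ = (a * b) ^ (k * j) := fun j => by rw [← conj_zpow, ← e, zpow_mul]
  obtain ⟨i, e2 | e2⟩ := (h.dih.mem _).1 ((mem_normalizer_iff.1 (h.nrm hx) a).1 h.dih.s_mem)
  · exact (h.dih.notMem (by simpa [mul_assoc] using h.conj_zp (inv_mem hx) ⟨i, e2.symm⟩)).elim
  refine ⟨k, i, Int.not_even_iff_odd.1 fun ⟨c, ec⟩ => h.ww.2 ?_, e1, fun j => by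
    rw [← conj_mul, e1, e2, zpow_add, mul_assoc]⟩
  have := e1 (m / 2 : ℕ)
  rw [← h.w_eq, h.w_comm hx, mul_inv_cancel_right] at this
  rw [this, h.dih.eq_one_iff, ec]
  exact ⟨c, by nth_rewrite 2 [h.m_eq]; push_cast; ring⟩

theorem cp_iff {i : ℤ} (e : x * a * x⁻¹ = (a * b) ^ i * a) : Cp a b x ↔ Even i := by
  rw [Cp, e, h.a_mul, h.mem_sq, even_neg]

theorem sp_iff {i : ℤ} (e : x * a * x⁻¹ = (a * b) ^ i * a) : Sp a b x ↔ Odd i := by
  rw [Sp, e, h.b_mul, h.mem_sq, Int.even_iff, Int.odd_iff]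
  omega

omit h [Finite G] in
theorem at0 {k i : ℤ} (e : ∀ j : ℤ, x * ((a * b) ^ j * a) * x⁻¹ = (a * b) ^ (k * j + i) * a) :
    x * a * x⁻¹ = (a * b) ^ i * a := by simpa using e 0

theorem cp_or_sp (hx : x ∈ P) : Cp a b x ∨ Sp a b x := by
  obtain ⟨k, i, -, -, e⟩ := h.act hx
  rw [h.cp_iff (at0 e), h.sp_iff (at0 e)]
  exact Int.even_or_odd i

theorem not_both : ¬ (Cp a b x ∧ Sp a b x) := fun ⟨k1, k2⟩ => by
  have := mul_mem k1 (inv_mem k2)
  rw [mul_inv_rev, mul_assoc, mul_inv_cancel_left, inv_eq_of_mul_eq_one_right h.bb, ← zpow_one (a * b),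
    ← zpow_ofNat, ← zpow_mul, one_mul, zpow_ofNat _ 2, h.mem_sq] at this
  exact Int.not_even_one this

theorem cp_of_mem (hx : x ∈ H) : Cp a b x := by
  obtain ⟨j, e⟩ := h.dih.conj_rpows hx 0
  rw [zpow_zero, one_mul] at e
  exact (h.cp_iff e).2 ⟨j, by ring⟩

theorem cp_of_comm (hx : x * a = a * x) : Cp a b x :=
  (h.cp_iff (i := 0) (by simp [hx])).2 Even.zero

theorem cp_symm (hx : x ∈ P) : Cp b a x ↔ Cp a b x := by
  obtain ⟨k, i, hk, -, e⟩ := h.act hx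
  have := e (-1)
  rw [← h.b_eq] at this
  rw [h.cp_iff (at0 e), Cp, this, h.b_mul, h.ba, inv_pow, zpowers_inv, h.mem_sq, Int.even_iff, Int.even_iff]
  rw [Int.odd_iff] at hk
  omega

theorem sp_iff_not (hx : x ∈ P) : Sp a b x ↔ ¬ Cp a b x :=
  ⟨fun k c => h.not_both ⟨c, k⟩, (h.cp_or_sp hx).resolve_left⟩

theorem sp_symm (hx : x ∈ P) : Sp b a x ↔ Sp a b x := by
  rw [h.symm.sp_iff_not hx, h.sp_iff_not hx, h.cp_symm hx]

theorem cp_mul (hx : x ∈ P) (hy : y ∈ P) : Cp a b (x * y) ↔ (Cp a b x ↔ Cp a b y) := by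
  obtain ⟨k, i, hk, -, e⟩ := h.act hx
  obtain ⟨k', j, -, -, e'⟩ := h.act hy
  rw [h.cp_iff (at0 e), h.cp_iff (at0 e'), h.cp_iff (i := k * j + i) (by rw [← e, ← at0 e']; group),
    Int.even_add, Int.even_mul, ← Int.not_odd_iff_even (n := k)]
  tauto

theorem cp_inv (hx : x ∈ P) : Cp a b x⁻¹ ↔ Cp a b x :=
  (h.cp_mul (inv_mem hx) hx).1 (h.cp_of_comm (by simp))

/-- a class-preserving element centralises `a` up to an element of `H` -/
theorem exists_comm (hx : x ∈ P) (c : Cp a b x) : ∃ k ∈ H, x * k * a = a * (x * k) := by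
  obtain ⟨k, i, -, -, e⟩ := h.act hx
  obtain ⟨j, rfl⟩ := (h.cp_iff (at0 e)).1 c
  refine ⟨x⁻¹ * (a * b) ^ (-j) * x⁻¹⁻¹, (mem_normalizer_iff.1 (h.nrm (inv_mem hx)) _).1 (h.dih.rpow_mem _),
    mul_inv_eq_iff_eq_mul.1 ?_⟩
  have := h.dih.rpow_conj_rpows (-j) (j + j)
  rw [show j + j + 2 * -j = 0 by ring, zpow_zero, one_mul, ← at0 e] at this
  exact Eq.trans (by group) this

theorem exists_swap (hx : x ∈ P) (c : Sp a b x) : ∃ k ∈ H, x * k * a * (x * k)⁻¹ = b := by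
  obtain ⟨k, i, -, -, e⟩ := h.act hx
  obtain ⟨j, rfl⟩ := (h.sp_iff (at0 e)).1 c
  refine ⟨x⁻¹ * (a * b) ^ (-j - 1) * x⁻¹⁻¹, (mem_normalizer_iff.1 (h.nrm (inv_mem hx)) _).1 (h.dih.rpow_mem _), ?_⟩
  have := h.dih.rpow_conj_rpows (-j - 1) (2 * j + 1)
  rw [show 2 * j + 1 + 2 * (-j - 1) = -1 by ring, ← h.b_eq, ← at0 e] at this
  exact Eq.trans (by group) this

/-- the involutions of `H` -/
theorem inv_H (hx : x ∈ H) (xx : x * x = 1) :
    x = 1 ∨ x = w ∨ (∃ k ∈ H, k * x * k⁻¹ = a) ∨ ∃ k ∈ H, k * x * k⁻¹ = b := by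
  obtain ⟨i, e | rfl⟩ := (h.dih.mem x).1 hx
  · exact (h.inv_zp ⟨i, e.symm⟩ xx).imp_right .inl
  obtain ⟨j, rfl | rfl⟩ := Int.even_or_odd' i
  · exact .inr (.inr (.inl ⟨_, h.dih.rpow_mem (-j), by rw [h.dih.rpow_conj_rpows]; simp⟩))
  · refine .inr (.inr (.inr ⟨_, h.dih.rpow_mem (-j - 1), ?_⟩))
    rw [h.dih.rpow_conj_rpows, show 2 * j + 1 + 2 * (-j - 1) = -1 by ring, ← h.b_eq]

theorem cent_a (hx : x ∈ H) (c : x * a = a * x) : x ∈ closure {a, w} := by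
  obtain ⟨z, hz, zz, e⟩ := h.dih.of_commute_rpows hx (i := 0) (by simpa using c)
  rw [zpow_zero, one_mul] at e
  rw [h.v4.2, h.w_comm (h.le h.dih.s_mem)]
  rcases h.inv_zp hz zz with rfl | rfl <;> rcases e with rfl | rfl <;> simp

omit [Finite G] in
theorem r_mem (hm : 4 ≤ m) : (a * b) * a ≠ a * (a * b) := fun e => by
  have := h.dih.rpow_conj_rpows 1 0
  rw [zpow_one, zpow_zero, one_mul, e, mul_inv_cancel_right, right_eq_mul, h.dih.eq_one_iff] at this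
  have := Int.le_of_dvd (by norm_num) this
  omega

theorem center (hm : 4 ≤ m) (hx : x ∈ H) (c : ∀ k ∈ H, x * k = k * x) : x = 1 ∨ x = w := by
  have k := c _ h.dih.r_mem
  have kw := h.w_comm (h.le h.dih.r_mem)
  rcases (h.v4.2 x).1 (h.cent_a hx (c a h.dih.s_mem)) with e | rfl | e | rfl
  · exact .inl e
  · exact (h.r_mem hm k.symm).elim
  · exact .inr e
  · rw [mul_assoc, ← kw, ← mul_assoc, ← mul_assoc _ a w, mul_left_inj] at k
    exact (h.r_mem hm k.symm).elim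

theorem w_mem_zp (hx : x ∈ zpowers (a * b)) (x1 : x ≠ 1) : w ∈ zpowers x := by
  have := Fact.mk Nat.prime_two
  refine mem_zpowers_of_orderOf_dvd (isOfFinOrder_of_finite _) h.w_zp hx ?_
  obtain ⟨k, e⟩ := h.pow
  obtain ⟨j, -, e2⟩ := (Nat.dvd_prime_pow Nat.prime_two).1 (e ▸ h.dih.ord ▸ orderOf_dvd_of_mem_zpowers hx)
  rw [h.basic.2.2.2.2.2.1, e2]
  exact dvd_pow_self 2 fun k => x1 (by simpa [k] using e2)

/-- a nontrivial subgroup of `H` that is normal in `P` contains `w`, unless `m = 2` -/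
theorem w_mem (hm : 4 ≤ m) {A : Subgroup G} (le : A ≤ H) (ne : A ≠ ⊥)
    (n : H ≤ normalizer (A : Set G)) : w ∈ A := by
  obtain ⟨⟨x, hx⟩, x1⟩ := ne_bot_iff_exists_ne_one.1 ne
  obtain ⟨i, e | rfl⟩ := (h.dih.mem x).1 (le hx)
  · exact zpowers_le.2 hx (h.w_mem_zp ⟨i, e.symm⟩ fun k => x1 (Subtype.ext k))
  have := mul_mem ((mem_normalizer_iff.1 (n (h.dih.rpow_mem 1)) _).1 hx) hx
  rw [h.dih.rpow_conj_rpows, h.dih.rpows_mul_rpows] at this
  refine zpowers_le.2 this (h.w_mem_zp ⟨_, rfl⟩ fun k => ?_)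
  have := Int.le_of_dvd (by omega) (h.dih.eq_one_iff.1 k)
  omega

theorem conj_aw (hm : 4 ≤ m) : (a * b) ^ (m / 4) * a * ((a * b) ^ (m / 4))⁻¹ = a * w := by
  have := h.dih.rpow_conj_rpows (m / 4 : ℕ) 0
  have e : (0 : ℤ) + 2 * (m / 4 : ℕ) = (m / 2 : ℕ) := by
    obtain ⟨k, rfl⟩ := h.pow
    rcases k with _ | k <;> omega
  rw [zpow_zero, one_mul, zpow_natCast, e, ← h.w_eq] at this
  rw [this, h.w_comm (h.le h.dih.s_mem)]

theorem dvd_of_odd {i j : ℤ} (hi : Odd i) (e : (m : ℤ) ∣ j * i) : (m : ℤ) ∣ j := by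
  obtain ⟨k, rfl⟩ := h.pow
  push_cast at e ⊢
  exact (Int.isCoprime_two_left.2 hi).pow_left.dvd_of_dvd_mul_right e

/-- normal form of the action of a class-swapping element whose square centralises `H` -/
theorem sp_act (hd : d ∈ P) (s : Sp a b d) (dd : ∀ k ∈ H, d * d * k = k * (d * d)) :
    ∃ i : ℤ, Odd i ∧ (∀ j : ℤ, d * (a * b) ^ j * d⁻¹ = (a * b) ^ (-j)) ∧
      ∀ j : ℤ, d * ((a * b) ^ j * a) * d⁻¹ = (a * b) ^ (i - j) * a := by
  obtain ⟨k, i, -, e1, e⟩ := h.act hd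
  have hi := (h.sp_iff (at0 e)).1 s
  have e2 := e i
  rw [← at0 e, show d * (d * a * d⁻¹) * d⁻¹ = d * d * a * (d * d)⁻¹ by group, dd a h.dih.s_mem,
    mul_inv_cancel_right, right_eq_mul, h.dih.eq_one_iff, show k * i + i = (k + 1) * i by ring] at e2
  obtain ⟨c, ec⟩ := h.dvd_of_odd hi e2
  refine ⟨i, hi, fun j => ?_, fun j => ?_⟩
  · rw [e1, h.dih.eq_iff]; exact ⟨c * j, by linear_combination j * ec⟩
  · rw [e, mul_left_inj, h.dih.eq_iff]; exact ⟨c * j, by linear_combination j * ec⟩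

/-- a class-swapping element whose square centralises `H` inverts `a b` -/
theorem sp_inv (hd : d ∈ P) (s : Sp a b d) (dd : ∀ k ∈ H, d * d * k = k * (d * d)) :
    d * (a * b) * d⁻¹ = (a * b)⁻¹ := by
  obtain ⟨i, -, e, -⟩ := h.sp_act hd s dd
  simpa using e 1

theorem ne_of_odd {i j : ℤ} (hi : Odd i) : (a * b) ^ (i - j) ≠ (a * b) ^ j := fun e => by
  obtain ⟨c, ec⟩ := h.dih.eq_iff.1 e
  obtain ⟨n, rfl⟩ := hi
  rw [h.m_eq] at ec
  have : 2 * n + 1 - j - j = 2 * ((m / 2 : ℕ) * c) := by rw [ec]; push_cast; ring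
  omega

theorem sp_cent (hd : d ∈ P) (s : Sp a b d) (dd : ∀ k ∈ H, d * d * k = k * (d * d)) (hx : x ∈ H)
    (c : x * d = d * x) : x = 1 ∨ x = w := by
  obtain ⟨i, hi, e1, e2⟩ := h.sp_act hd s dd
  obtain ⟨j, rfl | rfl⟩ := (h.dih.mem x).1 hx
  · refine h.inv_zp ⟨j, rfl⟩ ?_
    have := e1 j
    rw [← c, mul_inv_cancel_right, zpow_neg] at this
    exact eq_inv_iff_mul_eq_one.1 this
  · have := e2 j
    rw [← c, mul_inv_cancel_right, mul_left_inj] at this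
    exact (h.ne_of_odd hi this.symm).elim

theorem sp_dih (hd : d ∈ P) (s : Sp a b d) (dd : d * d = 1) :
    IsDih (H ⊔ zpowers d) (2 * m) (a * d) a := by
  obtain ⟨i, hi, -, e⟩ := h.sp_act hd s (by simp [dd])
  have di : d⁻¹ = d := inv_eq_of_mul_eq_one_right dd
  have e1 : (a * d) ^ 2 = (a * b) ^ (-i) := by
    rw [← h.a_mul, ← sub_zero i, ← e, zpow_zero, one_mul, di, sq]; simp only [mul_assoc]
  have e2 : a * b ∈ zpowers ((a * b) ^ (-i)) := by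
    obtain ⟨k, ek⟩ := h.pow
    obtain ⟨u, v, euv⟩ := (Int.isCoprime_two_left.2 hi).pow_left (m := k + 1)
    refine ⟨-v, ?_⟩
    rw [← zpow_one (a * b)]
    simp only [← zpow_mul, h.dih.eq_iff, ek]
    exact ⟨-u, by push_cast; linear_combination euv⟩
  have e3 : orderOf ((a * d) ^ 2) = m := by
    rw [e1, ← h.dih.ord]
    exact Nat.dvd_antisymm (orderOf_dvd_of_mem_zpowers ⟨_, rfl⟩) (orderOf_dvd_of_mem_zpowers e2)
  have ha : a ∈ H ⊔ zpowers d := mem_sup_left h.dih.s_mem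
  refine isDih_mk ?_ h.dih.ss (by rw [← mul_assoc, h.dih.ss, one_mul, mul_inv_rev, di]) ?_
    (mul_mem ha (mem_sup_right (mem_zpowers d))) ha fun E k1 k2 => sup_le (fun g hg => ?_)
      (zpowers_le.2 ((mul_mem_cancel_left k2).1 k1))
  · rw [orderOf_pow' _ two_ne_zero] at e3
    have := h.m_eq
    rcases Nat.even_or_odd (orderOf (a * d)) with k | k
    · rw [Nat.gcd_eq_right k.two_dvd] at e3
      obtain ⟨c, ec⟩ := k
      omega
    · rw [Nat.coprime_two_right.2 k] at e3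
      obtain ⟨c, ec⟩ := k
      omega
  · rintro ⟨j, ej⟩
    have c := (Commute.refl (a * d)).zpow_left j
    rw [show (a * d) ^ j = a from ej] at c
    exact h.not_both ⟨h.cp_of_comm (by simpa [mul_assoc] using c.eq.symm), s⟩
  · have k3 : a * b ∈ E := zpowers_le.2 (e1 ▸ pow_mem k1 2) e2
    obtain ⟨j, rfl | rfl⟩ := (h.dih.mem g).1 hg
    exacts [zpow_mem k3 j, mul_mem (zpow_mem k3 j) k2]

theorem sp_conj (hd : d ∈ P) (s : Sp a b d) (dd : d * d = 1) (hx : x * d ∈ H) (xx : x * x = 1) :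
    ∃ k ∈ H, k * d * k⁻¹ = x := by
  obtain ⟨i, hi, e1, e2⟩ := h.sp_act hd s (by simp [dd])
  have di : d⁻¹ = d := inv_eq_of_mul_eq_one_right dd
  have ex : x = x * d * d := by rw [mul_assoc, dd, mul_one]
  have c : ∀ k, k * d * k⁻¹ = k * (d * k⁻¹ * d⁻¹) * d := fun k => by group
  obtain ⟨j, e | e⟩ := (h.dih.mem _).1 hx
  · rw [ex, e]
    obtain ⟨l, rfl | rfl⟩ := Int.even_or_odd' j
    · exact ⟨_, h.dih.rpow_mem l, by rw [c, ← zpow_neg, e1, neg_neg, ← zpow_add, two_mul]⟩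
    · obtain ⟨n, rfl⟩ := hi
      refine ⟨_, h.dih.rpows_mem (l + n + 1), ?_⟩
      rw [c, h.dih.rpows_inv, e2, h.dih.rpows_mul_rpows]
      congr 2; ring
  · have := e2 j
    rw [← e, show d * (x * d) * d⁻¹ = (x * d)⁻¹ by rw [mul_inv_rev, inv_eq_of_mul_eq_one_right xx, ← mul_assoc, mul_inv_cancel_right, di], e,
      h.dih.rpows_inv, mul_left_inj] at this
    exact (h.ne_of_odd hi this.symm).elim

end DP

end CfsgLib.GHE
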