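import Mathlib
import Cfsg.Agent.Lib.GHE.Defs
import Cfsg.Agent.Lib.GHE.Defs3
import Cfsg.Agent.Lib.GHE.LocD1
import Cfsg.Agent.Lib.GHC.Aut2
import Cfsg.Agent.S0483

/-! Package LOCD2: the facts on `Aut K` that use the classification.  See `plans/GHE.md`. -/

set_option autoImplicit false

namespace CfsgLib.GHE

open Subgroup Cfsg CfsgLib.W2 CfsgLib.Tech CfsgLib.Sect CfsgLib.PComp CfsgLib.DihSyl
  CfsgLib.GW.Cor
open CfsgLib.LBal hiding cj
open scoped MatrixGroups commutatorElement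

universe u

variable {G : Type u} [Group G] [Finite G]

variable {N : Type u} [Group N] [Finite N] {K P : Subgroup N} {m : ℕ} {a b w v d x : N}

theorem DL.symm (h : DL K P m a b w) : DL K P m b a w :=
  ⟨h.nrm, h.simple, h.ncomm, h.cent, h.syl, h.two, h.dp.symm.bb, h.dp.symm.dih, h.dp.symm.hw, h.fix⟩

theorem DL.ld2_syl (h : DL K P m a b w) : IsSylowIn 2 (P ⊓ K) K := by
  haveI : Fact (Nat.Prime 2) := ⟨Nat.prime_two⟩
  haveI := h.nrm
  have := h.syl.inf_of_le_normalizer (N := K) le_normalizer_of_normal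
  rwa [top_inf_eq] at this

theorem DL.ld2_dih (h : DL K P m a b w) :
    IsDih ((P ⊓ K).subgroupOf K) m ⟨a * b, h.dih.r_mem.2⟩ ⟨a, h.dih.s_mem.2⟩ :=
  GW.isDih_subgroupOf inf_le_right h.dih

theorem DL.known (h : DL K P m a b w) : IsL2 K ∨ Nonempty (K ≃* alternatingGroup (Fin 7)) := by
  haveI : Fact (Nat.Prime 2) := ⟨Nat.prime_two⟩
  exact GW.ih_all ft (Nat.card K + 1) K (Nat.lt_succ_self _) h.simple h.ncomm
    ⟨h.ld2_syl.toSylow, m, _, _, h.two, h.ld2_dih⟩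

theorem DL.one (h : DL K P m a b w) {y : N} (hx : x ∈ K) (hy : y ∈ K) (ox : orderOf x = 2)
    (oy : orderOf y = 2) : ∃ k ∈ K, k * x * k⁻¹ = y := by
  haveI := h.simple
  obtain ⟨k, hk⟩ := Transfer.conj_of_cyclic_index_two (G := K) (fun M hM => by
      rcases (normal_of_index_eq_two hM).eq_bot_or_eq_top with e | e
      · rw [e, index_bot] at hM
        haveI : Fact (Nat.Prime 2) := ⟨Nat.prime_two⟩
        exact h.ncomm (isCyclic_of_prime_card hM).isMulCommutative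
      · rw [e, index_top] at hM
        omega) h.ld2_syl.not_dvd h.ld2_dih.relIndex_zpowers inferInstance
    (x := ⟨x, hx⟩) (y := ⟨y, hy⟩) (by rw [orderOf_mk, ox]) (by rw [orderOf_mk, oy])
  exact ⟨k, k.2, congrArg Subtype.val hk⟩

/-- the odd part of an element that permutes `w, a, a w` cyclically -/
theorem ld2_cy {σ : N} (e1 : σ * w * σ⁻¹ = a) (e2 : σ * a * σ⁻¹ = a * w) (aa : a * a = 1)
    (c : a * w = w * a) : ∃ n : ℕ, Cy (σ ^ n) w a := by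
  have e3 : σ * (a * w) * σ⁻¹ = w := by
    rw [← conj_mul, e1, e2, c, mul_assoc, aa, mul_one]
  have h3 : ∀ t : ℕ, σ ^ (3 * t + 1) * w * (σ ^ (3 * t + 1))⁻¹ = a ∧
      σ ^ (3 * t + 1) * a * (σ ^ (3 * t + 1))⁻¹ = a * w := fun t => by
    induction t with
    | zero => simpa using ⟨e1, e2⟩
    | succ t ih =>
      have e : ∀ u : N, σ ^ (3 * (t + 1) + 1) * u * (σ ^ (3 * (t + 1) + 1))⁻¹ =
          σ * (σ * (σ * (σ ^ (3 * t + 1) * u * (σ ^ (3 * t + 1))⁻¹) * σ⁻¹) * σ⁻¹) * σ⁻¹ :=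
        fun u => by group
      rw [e, e, ih.1, ih.2, e3, e1, e2, e3, e1]
      exact ⟨rfl, rfl⟩
  obtain ⟨j, n, hn, e⟩ := Nat.exists_eq_pow_mul_and_not_dvd (orderOf_pos σ).ne' 2 (by norm_num)
  obtain ⟨t, ht⟩ : ∃ t, 4 ^ j = 3 * t + 1 :=
    ⟨4 ^ j / 3, by have : 4 ^ j % 3 = 1 := by simp [Nat.pow_mod]
                   omega⟩
  refine ⟨4 ^ j, Odd.of_dvd_nat (Nat.odd_iff.2 (by omega : n % 2 = 1))
    (orderOf_dvd_of_pow_eq_one ?_), ht ▸ (h3 t).1, ht ▸ (h3 t).2⟩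
  rw [← pow_mul, show 4 = 2 * 2 from rfl, mul_pow, mul_assoc, ← e, mul_comm, pow_mul,
    pow_orderOf_eq_one, one_pow]

theorem DL.rho (h : DL K P m a b w) : ∃ ρ ∈ K, Cy ρ w a := by
  haveI : Fact (Nat.Prime 2) := ⟨Nat.prime_two⟩
  obtain ⟨ha, hb, hw, oa, ob, ow, aw, -, -, hc⟩ := h.dp.basic
  have c : a * w = w * a := mem_Cx.1 (h.fix ha.1)
  have aa := sq_of_ord oa
  have ww := sq_of_ord ow
  suffices ∃ σ ∈ K, σ * w * σ⁻¹ = a ∧ σ * a * σ⁻¹ = a * w by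
    obtain ⟨σ, hσ, e1, e2⟩ := this
    obtain ⟨n, hn⟩ := ld2_cy e1 e2 aa c
    exact ⟨_, pow_mem hσ n, hn⟩
  obtain ⟨k, hk, e⟩ := h.one ha.2 hw.2 oa ow
  obtain ⟨g, hg, g1, g2⟩ := exists_ext h.ld2_syl.pgroup inf_le_right
    (isSylowIn_cent_of_central h.ld2_syl (inf_le_left.trans h.fix)) hk e
  have g3 := g2 w hw c.symm
  have g4 : g * w * g⁻¹ ≠ 1 := fun e => ne_one_of_ord ow (conj_eq_one_iff.1 e)
  have g5 : g * w * g⁻¹ ≠ w := fun e => aw (conj_injective (g1.trans e.symm))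
  by_cases hm : 4 ≤ m
  · obtain ⟨τ, hτ, t1⟩ : ∃ τ ∈ P ⊓ K, τ * (g * w * g⁻¹) * τ⁻¹ = g * w * g⁻¹ * w := by
      have key : ∀ u k τ : N, k ∈ P ⊓ K → τ ∈ P ⊓ K → k * (g * w * g⁻¹) * k⁻¹ = u →
          τ * u * τ⁻¹ = u * w → ∃ τ ∈ P ⊓ K, τ * (g * w * g⁻¹) * τ⁻¹ = g * w * g⁻¹ * w :=
        fun u k τ hk hτ e1 e2 => ⟨k⁻¹ * τ * k, mul_mem (mul_mem (inv_mem hk) hτ) hk, by
          calc k⁻¹ * τ * k * (g * w * g⁻¹) * (k⁻¹ * τ * k)⁻¹
              = k⁻¹ * (τ * (k * (g * w * g⁻¹) * k⁻¹) * τ⁻¹) * k := by group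
            _ = k⁻¹ * (k * (g * w * g⁻¹) * k⁻¹) * (w * k) := by rw [e1, e2]; group
            _ = _ := by rw [← mem_Cx.1 (h.fix hk.1)]; group⟩
      rcases h.dp.inv_H g3 (by rw [conj_mul, ww]; group) with e | e | ⟨k, hk, e⟩ | ⟨k, hk, e⟩
      · exact absurd e g4
      · exact absurd e g5
      · exact key _ k _ hk (pow_mem (mul_mem ha hb) _) e (h.dp.conj_aw hm)
      · exact key _ k _ hk (pow_mem (mul_mem hb ha) _) e (h.dp.symm.conj_aw hm)
    have t2 : τ * w * τ⁻¹ = w := mem_Cx'.1 (h.fix hτ.1)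
    have hs : (a * b) ^ (m / 4) ∈ P ⊓ K := pow_mem (mul_mem ha hb) _
    have s1 := h.dp.conj_aw hm
    have s2 : (a * b) ^ (m / 4) * w * ((a * b) ^ (m / 4))⁻¹ = w := mem_Cx'.1 (h.fix hs.1)
    generalize (a * b) ^ (m / 4) = s at hs s1 s2
    refine ⟨s * (g⁻¹ * τ * g), mul_mem hs.2 (mul_mem (mul_mem (inv_mem hg) hτ.2) hg), ?_, ?_⟩
    · calc s * (g⁻¹ * τ * g) * w * (s * (g⁻¹ * τ * g))⁻¹
          = s * (g⁻¹ * (τ * (g * w * g⁻¹) * τ⁻¹) * g) * s⁻¹ := by group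
        _ = s * (g⁻¹ * (g * w * g⁻¹ * (g * a * g⁻¹)) * g) * s⁻¹ := by rw [t1, g1]
        _ = s * w * s⁻¹ * (s * a * s⁻¹) := by group
        _ = a := by rw [s1, s2, c, ← mul_assoc, ww, one_mul]
    · calc s * (g⁻¹ * τ * g) * a * (s * (g⁻¹ * τ * g))⁻¹
          = s * (g⁻¹ * (τ * (g * a * g⁻¹) * τ⁻¹) * g) * s⁻¹ := by group
        _ = s * (g⁻¹ * (g * a * g⁻¹) * g) * s⁻¹ := by rw [g1, t2]
        _ = a * w := by rw [← s1]; group
  obtain ⟨j, hj⟩ := h.dp.pow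
  have m2 : m = 2 := by
    rcases j with _ | j
    · exact hj
    · exact absurd (by rw [hj, pow_succ, pow_succ]; have := Nat.one_le_two_pow (n := j); omega) hm
  have hU : closure {a, w} = P ⊓ K := eq_of_le_of_card_ge
    ((closure_le _).2 (by rintro _ (rfl | rfl); exacts [ha, hw])) (by rw [hc, m2, h.dp.v4.1.2])
  have hU' : ∀ u, u ∈ P ⊓ K ↔ u = 1 ∨ u = a ∨ u = w ∨ u = a * w := fun u => hU ▸ h.dp.v4.2 u
  rcases (hU' _).1 g3 with e | e | e | e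
  · exact absurd e g4
  · exfalso
    have hn : g ∈ normalizer ((P ⊓ K : Subgroup N) : Set N) :=
      mem_normalizer_of_forall fun u hu => g2 u hu (by
        rcases (hU' u).1 hu with rfl | rfl | rfl | rfl
        · simp
        · rfl
        · exact c.symm
        · rw [mul_assoc, ← c])
    obtain ⟨i, n, hn', e1⟩ := Nat.exists_eq_pow_mul_and_not_dvd (orderOf_pos g).ne' 2 (by norm_num)
    have h1 : g ^ n ∈ P ⊓ K := h.ld2_syl.le_of_normalizes (Q := zpowers (g ^ n))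
      (isPGroup_zpowers_of_pow (k := i) (by rw [← pow_mul, mul_comm, ← e1, pow_orderOf_eq_one]))
      (zpowers_le.2 (pow_mem hg n)) (zpowers_le.2 (pow_mem hn n)) (mem_zpowers _)
    obtain ⟨t, rfl⟩ : Odd n := Nat.odd_iff.2 (by omega)
    have h2 : Commute (g ^ 2) w := by
      rw [pow_two]
      calc g * g * w = g * (g * w * g⁻¹) * g⁻¹ * (g * g) := by group
        _ = _ := by rw [e, g1]
    apply aw
    calc a = g * (g ^ (2 * t) * w) * (g ^ (2 * t + 1))⁻¹ := by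
          rw [pow_mul, (h2.pow_left t).eq, ← pow_mul, ← e]; group
      _ = g ^ (2 * t + 1) * w * (g ^ (2 * t + 1))⁻¹ := by group
      _ = w := mem_Cx'.1 (h.fix h1.1)
  · exact absurd e g5
  · have e3 : g * (a * w) * g⁻¹ = a := by
      rw [← conj_mul, g1, e, c, ← mul_assoc, ww, one_mul]
    exact ⟨g⁻¹, inv_mem hg, by rw [← g1]; group, by
      calc g⁻¹ * a * g⁻¹⁻¹ = g⁻¹ * (g * (a * w) * g⁻¹) * g := by rw [e3, inv_inv]
        _ = _ := by group⟩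

theorem DL.comm (h : DL K P m a b w) (x y : N) : ⁅x, y⁆ ∈ K := by
  haveI := h.nrm
  have := GHC.commutator_le_of_known h.known
    (commutator_mem_commutator (mem_top x) (mem_top y))
  rwa [h.cent, sup_bot_eq] at this

open CfsgLib.Dickson CfsgLib.GW.KP in
/-- a four-subgroup of `PSL₂(q)` is self-centralising in `PGL₂(q)` -/
theorem ld2_four {F : Type} [Field F] [Fintype F] (hodd : Odd (Fintype.card F))
    (h3 : 3 < Fintype.card F) {t u g : PGL(2, F)} (ht : t * t = 1) (ht1 : t ≠ 1) (hu : u * u = 1)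
    (hu1 : u ≠ 1) (hne : u ≠ t) (hc : u * t = t * u) (h1 : g * t = t * g) (h2 : g * u = u * g) :
    g = 1 ∨ g = t ∨ g * u = 1 ∨ g * u = t := by
  obtain ⟨p, _, -, hp, -⟩ := FiniteField.card' F
  have := Fact.mk hp
  obtain ⟨x, y, r, s, T⟩ := exists_tor p (GHC.Au.two_ne hodd) (by rwa [Nat.card_eq_fintype_card])
    ht ht1
  have ⟨u1, u2⟩ : u • x = y ∧ u • y = x := ((T.comm_iff p ht ht1).1 hc).resolve_left
    fun h => hne (eq_of_sq_of_fix p T.ne hu hu1 ht ht1 h.1 h.2 T.tx T.ty)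
  have key : ∀ g : PGL(2, F), g * u = u * g → g • x = x → g • y = y → g = 1 ∨ g = t :=
    fun g c g1 g2 => by
      have e := (mob_bar p).swap_conj T.ne u1 u2 g1 g2
      rw [← c, mul_inv_cancel_right, eq_inv_iff_mul_eq_one] at e
      exact or_iff_not_imp_left.2 fun hg => eq_of_sq_of_fix p T.ne e hg ht ht1 g1 g2 T.tx T.ty
  rcases (T.comm_iff p ht ht1).1 h1 with ⟨g1, g2⟩ | ⟨g1, g2⟩
  · exact (key g h2 g1 g2).imp_right Or.inl
  · exact Or.inr (Or.inr (key _ (by rw [← mul_assoc, ← h2]) (by rw [mul_smul, u1, g2])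
      (by rw [mul_smul, u2, g1])))

/-- the class-preserving part of `P` is cyclic over `P ∩ K` -/
theorem DL.cyc (h : DL K P m a b w) :
    ∃ q ∈ P, Cp a b q ∧ ∀ x ∈ P, Cp a b x → ∃ i : ℕ, x * (q ^ i)⁻¹ ∈ K := by
  haveI := h.nrm
  have c1 : Cp a b 1 := h.dp.cp_of_mem (one_mem _)
  rcases h.known with ⟨F, _, _, ho, h3, ⟨e⟩⟩ | ⟨⟨ε⟩⟩
  · obtain ⟨ρ, E⟩ := GW.KP.exists_emb K h.cent e
    let P₁ : Subgroup N :=
      { carrier := {x | x ∈ P ∧ Cp a b x}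
        one_mem' := ⟨one_mem _, c1⟩
        mul_mem' := fun hx hy => ⟨mul_mem hx.1 hy.1, (h.dp.cp_mul hx.1 hy.1).2 (iff_of_true hx.2 hy.2)⟩
        inv_mem' := fun hx => ⟨inv_mem hx.1, (h.dp.cp_inv hx.1).2 hx.2⟩ }
    have ker : ∀ x ∈ P₁, (ρ x).right = 1 → x ∈ K := fun x hx e1 => by
      obtain ⟨ha, -, hw, oa, -, ow, aw, -⟩ := h.dp.basic
      obtain ⟨k, hk, e2⟩ := h.dp.exists_comm hx.1 hx.2
      obtain ⟨g, -, e3⟩ := E.mem k hk.2
      obtain ⟨u, hu, eu⟩ := E.mem a ha.2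
      obtain ⟨t, ht, et⟩ := E.mem w hw.2
      have e4 := GW.KP.eq_inl (u := ρ (x * k))
        (by rw [map_mul, SemidirectProduct.mul_right, e1, e3]; simp)
      have : x * k ∈ K := (E.mem_iff e4).2 (by
        rcases ld2_four ho h3 ((E.mul_eq_one_iff et et).1 (sq_of_ord ow))
          (fun e => ne_one_of_ord ow ((E.eq_one_iff et).2 e))
          ((E.mul_eq_one_iff eu eu).1 (sq_of_ord oa))
          (fun e => ne_one_of_ord oa ((E.eq_one_iff eu).2 e))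
          (fun e => aw ((E.eq_iff eu et).2 e)) ((E.comm_iff eu et).1 (mem_Cx.1 (h.fix ha.1)))
          ((E.comm_iff e4 et).1 (mem_Cx.1 (h.fix (mul_mem hx.1 hk.1))))
          ((E.comm_iff e4 eu).1 e2) with e | e | e | e
        · rw [e]; exact one_mem _
        · rw [e]; exact ht
        · exact (mul_mem_cancel_right hu).1 (by rw [e]; exact one_mem _)
        · exact (mul_mem_cancel_right hu).1 (by rw [e]; exact ht))
      exact (K.mul_mem_cancel_right hk.2).1 this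
    haveI := ClAut.isCyclic_fieldAut (F := F)
    let χ : N →* (F ≃+* F) := SemidirectProduct.rightHom.comp ρ
    obtain ⟨⟨_, q, hq, rfl⟩, hg⟩ := IsCyclic.exists_monoid_generator (α := P₁.map χ)
    refine ⟨q, hq.1, hq.2, fun x hx c => ?_⟩
    obtain ⟨i, hi⟩ := hg ⟨χ x, x, ⟨hx, c⟩, rfl⟩
    have hi' : χ q ^ i = χ x := congrArg Subtype.val hi
    have hq' : q ∈ P₁ := hq
    refine ⟨i, ker _ (P₁.mul_mem ⟨hx, c⟩ (P₁.inv_mem (P₁.pow_mem hq' i))) ?_⟩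
    change χ (x * (q ^ i)⁻¹) = 1
    rw [map_mul, map_inv, map_pow, hi', mul_inv_cancel]
  · have A := GHC.Au.exists_ac (Or.inr rfl) ε
    have mem : ∀ {y : N} {g : PG 7}, AltAut.indAut ε y =
        (MulAut.conjNormal.comp (PG.E 7).symm.toMonoidHom) g → g ∈ PG.alt 7 → y ∈ K :=
      fun e hg => by have := A.mem_sup' e hg; rwa [h.cent, sup_bot_eq] at this
    by_cases h1 : ∀ x ∈ P, Cp a b x → x ∈ K
    · exact ⟨1, one_mem _, c1, fun x hx c => ⟨0, by simpa using h1 x hx c⟩⟩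
    push Not at h1
    obtain ⟨q, hq, cq, hq'⟩ := h1
    refine ⟨q, hq, cq, fun x _ _ => ?_⟩
    by_cases hx : x ∈ K
    · exact ⟨0, by simpa using hx⟩
    obtain ⟨s, es⟩ := A.crit x (Or.inl rfl)
    obtain ⟨t, et⟩ := A.crit q⁻¹ (Or.inl rfl)
    exact ⟨1, by
      rw [pow_one]
      exact mem (by rw [map_mul, map_mul, es, et]) (GHC.Au.mul_mem_alt (fun e => hx (mem es e))
        fun e => hq' ((inv_mem_iff (x := q)).1 (mem et e)))⟩

end CfsgLib.GHE
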