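import Mathlib
import Cfsg.Agent.Lib.GHE.Defs
import Cfsg.Agent.Lib.GHE.Defs3
import Cfsg.Agent.Lib.GHE.LocD2

/-! Package LOCD3, first part: the centraliser of a four-group.  See `plans/GHE.md`. -/

set_option autoImplicit false

namespace CfsgLib.GHE

open Subgroup Cfsg CfsgLib.W2 CfsgLib.Tech CfsgLib.Sect CfsgLib.PComp CfsgLib.DihSyl
  CfsgLib.GW.Cor
open CfsgLib.LBal hiding cj
open scoped MatrixGroups commutatorElement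

universe u

variable {N : Type u} [Group N] [Finite N] {K P : Subgroup N} {m : ℕ} {a b w v d x : N}

namespace L3

theorem odd_pow (c : N) : ∃ j : ℕ, Odd j ∧ ∃ k : ℕ, (c ^ j) ^ 2 ^ k = 1 := by
  obtain ⟨k, j, hj, e⟩ := Nat.exists_eq_two_pow_mul_odd (orderOf_pos c).ne'
  exact ⟨j, hj, k, by rw [← pow_mul, mul_comm, ← e, pow_orderOf_eq_one]⟩

omit [Finite N] in
theorem tw {c u : N} (e : c * x * c⁻¹ = x * u) (cu : c * u * c⁻¹ = u) (uu : u * u = 1) {j : ℕ}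
    (hj : Odd j) : c ^ j * x * (c ^ j)⁻¹ = x * u := by
  obtain ⟨i, rfl⟩ := hj
  rw [pow_conj_eq e cu, pow_succ, pow_mul, pow_two, uu, one_pow, one_mul]

omit [Finite N] in
theorem mk_iff [K.Normal] {y : N} : x * y⁻¹ ∈ K ↔ (x : N ⧸ K) = y := by
  rw [QuotientGroup.eq_iff_div_mem, div_eq_mul_inv]

omit [Finite N] in
theorem gen [K.Normal] {q q' : N} (e : q' * q⁻¹ ∈ K) {i : ℕ} (hx : x * (q ^ i)⁻¹ ∈ K) :
    x * (q' ^ i)⁻¹ ∈ K := by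
  rw [mk_iff] at e hx ⊢
  rw [hx, QuotientGroup.mk_pow, QuotientGroup.mk_pow, e]

omit [Finite N] in
theorem kf {V : Subgroup N} (h : V4 V) : IsKleinFour V := by
  have : Finite V := Nat.finite_of_card_ne_zero (by rw [h.2]; norm_num)
  have : Nontrivial V := Finite.one_lt_card_iff_nontrivial.1 (by rw [h.2]; norm_num)
  refine ⟨h.2, ?_⟩
  refine (Monoid.exponent_eq_prime_iff Nat.prime_two).2 fun g hg => ?_
  exact orderOf_eq_prime (by rw [pow_two]; exact Subtype.ext (h.1 g g.2)) hg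

/-- `ρ` permutes `w, a, a w` cyclically -/
def Q3 (ρ w a : N) : Prop := ρ * w * ρ⁻¹ = a ∧ ρ * a * ρ⁻¹ = a * w

omit [Finite N] in
theorem Q3.third {ρ : N} (c : Q3 ρ w a) (aa : a * a = 1) (aw : a * w = w * a) :
    ρ * (a * w) * ρ⁻¹ = w := by
  calc ρ * (a * w) * ρ⁻¹ = ρ * a * ρ⁻¹ * (ρ * w * ρ⁻¹) := by group
    _ = w := by rw [c.1, c.2, aw, mul_assoc, aa, mul_one]

omit [Finite N] in
theorem Q3.four {ρ : N} (c : Q3 ρ w a) (aa : a * a = 1) (aw : a * w = w * a) : Q3 (ρ ^ 4) w a := by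
  have e : ∀ y : N, ρ ^ 4 * y * (ρ ^ 4)⁻¹ = ρ * (ρ * (ρ * (ρ * y * ρ⁻¹) * ρ⁻¹) * ρ⁻¹) * ρ⁻¹ :=
    fun y => by simp [pow_succ, mul_assoc]
  exact ⟨by rw [e, c.1, c.2, c.third aa aw, c.1], by rw [e, c.2, c.third aa aw, c.1, c.2]⟩

theorem Q3.cy {ρ : N} (c : Q3 ρ w a) (aa : a * a = 1) (aw : a * w = w * a) :
    ∃ n : ℕ, Cy (ρ ^ n) w a := by
  have hq : ∀ k : ℕ, Q3 (ρ ^ 4 ^ k) w a := by
    intro k
    induction k with
    | zero => simpa using c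
    | succ k ih => rw [pow_succ, pow_mul]; exact ih.four aa aw
  obtain ⟨k, j, hj, e⟩ := Nat.exists_eq_two_pow_mul_odd (orderOf_pos ρ).ne'
  refine ⟨4 ^ k, hj.of_dvd_nat (orderOf_dvd_of_pow_eq_one ?_), (hq k).1, (hq k).2⟩
  rw [← pow_mul, show 4 ^ k * j = 2 ^ k * j * 2 ^ k by rw [show (4 : ℕ) = 2 * 2 from rfl, mul_pow]; ring,
    ← e, pow_mul, pow_orderOf_eq_one, one_pow]

end L3

open L3

omit [Finite N] in
theorem Cy.q3 {ρ : N} (c : Cy ρ w a) : Q3 ρ w a := ⟨c.ew, c.ea⟩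

namespace DL

variable (h : DL K P m a b w)
include h

theorem aP : a ∈ P := h.dp.basic.1.1
theorem bP : b ∈ P := h.dp.basic.2.1.1
theorem wP : w ∈ P := h.dp.basic.2.2.1.1
theorem aK : a ∈ K := h.dp.basic.1.2
theorem bK : b ∈ K := h.dp.basic.2.1.2
theorem wK : w ∈ K := h.dp.basic.2.2.1.2
theorem aa : a * a = 1 := sq_of_ord h.dp.basic.2.2.2.1
theorem ww : w * w = 1 := sq_of_ord h.dp.basic.2.2.2.2.2.1
theorem a_ne : a ≠ 1 := ne_one_of_ord h.dp.basic.2.2.2.1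
theorem w_ne : w ≠ 1 := ne_one_of_ord h.dp.basic.2.2.2.2.2.1
theorem a_ne_w : a ≠ w := h.dp.basic.2.2.2.2.2.2.1
theorem aw : a * w = w * a := mem_Cx.1 (h.fix h.aP)

theorem sylH : IsSylowIn 2 (P ⊓ K) K := by
  have := h.nrm
  have h1 := h.syl.inf_of_le_normalizer (N := K) le_normalizer_of_normal
  rwa [top_inf_eq] at h1

theorem U_le : closure {a, w} ≤ P ⊓ K := by
  rw [closure_le]
  rintro y (rfl | rfl)
  · exact h.dp.basic.1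
  · exact h.dp.basic.2.2.1

omit h in
theorem U_le_Cx (xa : x ∈ Cx a) (xw : x ∈ Cx w) : closure {a, w} ≤ Cx x := by
  rw [closure_le]
  rintro y (rfl | rfl)
  · exact Cx_comm.1 xa
  · exact Cx_comm.1 xw

theorem U_a : closure {a, w} ≤ Cx a := U_le_Cx (mem_Cx.2 rfl) (mem_Cx.2 h.aw)

theorem U_w : closure {a, w} ≤ Cx w := U_le_Cx (mem_Cx.2 h.aw.symm) (mem_Cx.2 rfl)

theorem q3_fpf {ρ u : N} (c : Q3 ρ w a) (hu : u ∈ closure {a, w}) (e : ρ * u * ρ⁻¹ = u) :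
    u = 1 := by
  rcases (h.dp.v4.2 u).1 hu with rfl | e1 | e1 | e1
  · rfl
  · rw [e1, c.2] at e; exact absurd (by simpa using e) h.w_ne
  · rw [e1, c.1] at e; exact absurd e h.a_ne_w
  · rw [e1, c.third h.aa h.aw] at e; exact absurd (by simpa using e) h.a_ne

theorem q3_nrm {ρ : N} (c : Q3 ρ w a) :
    ρ ∈ normalizer ((closure {a, w} : Subgroup N) : Set N) := by
  refine mem_normalizer_of_forall fun u hu => (h.dp.v4.2 _).2 ?_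
  rcases (h.dp.v4.2 u).1 hu with rfl | e1 | e1 | e1
  · simp
  · rw [e1, c.2]; simp
  · rw [e1, c.1]; simp
  · rw [e1, c.third h.aa h.aw]; simp

/-- a 2-element of `K` that centralises the four-group lies in it -/
theorem two_elt (xK : x ∈ K) (xa : x ∈ Cx a) (xw : x ∈ Cx w) {k : ℕ} (hk : x ^ 2 ^ k = 1) :
    x ∈ closure {a, w} := by
  have hU : IsPGroup 2 (closure {a, w} : Subgroup N) := h.sylH.pgroup.to_le h.U_le
  have hx : IsPGroup 2 (zpowers x) := isPGroup_zpowers_of_pow hk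
  have hn : zpowers x ≤ normalizer ((closure {a, w} : Subgroup N) : Set N) := by
    rw [zpowers_le]
    refine mem_normalizer_of_forall fun u hu => ?_
    rwa [mem_Cx'.1 (Cx_comm.1 (U_le_Cx xa xw hu))]
  have hQ : IsPGroup 2 (closure {a, w} ⊔ zpowers x : Subgroup N) :=
    hU.to_sup_of_normal_left' hx hn
  obtain ⟨g, -, hg⟩ := h.sylH.exists_cj_le hQ
    (sup_le (h.U_le.trans inf_le_right) (zpowers_le.2 xK))
  have hV : V4 (cj g (closure {a, w})) := by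
    refine ⟨fun y hy => ?_, by rw [card_cj, h.dp.v4.1.2]⟩
    have := h.dp.v4.1.1 _ (mem_cj.1 hy)
    calc y * y = g * (g⁻¹ * y * g * (g⁻¹ * y * g)) * g⁻¹ := by group
      _ = 1 := by rw [this]; group
  have h1 := h.dih.mem_of_commute_four ((cj_mono g le_sup_left).trans hg) (kf hV)
    (g := g * x * g⁻¹) (hg (conj_mem_cj.2 (mem_sup_right (mem_zpowers x)))) fun y hy => by
      have := mem_Cx.1 (U_le_Cx xa xw (mem_cj.1 hy))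
      calc y * (g * x * g⁻¹) = g * (g⁻¹ * y * g * x) * g⁻¹ := by group
        _ = g * x * g⁻¹ * y := by rw [this]; group
  exact conj_mem_cj.1 h1

theorem uniq0 {c u : N} (ca : c ∈ Cx a) (cw : c ∈ Cx w) {n : ℕ} (hn : Odd n) (cK : c ^ n ∈ K)
    (xa : x ∈ Cx a) (xw : x ∈ Cx w) (hu : u ∈ closure {a, w}) (e : c * x * c⁻¹ = x * u) :
    u = 1 := by
  obtain ⟨j, hj, k, hk⟩ := odd_pow c
  have h1 : c ^ j ∈ K := by
    refine mem_of_coprime_pow (a := 2 ^ k) (b := n) ((Nat.coprime_two_left.2 hn).pow_left k)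
      (by rw [hk]; exact K.one_mem) ?_
    rw [← pow_mul, mul_comm, pow_mul]; exact K.pow_mem cK j
  have h2 := h.two_elt h1 (pow_mem ca j) (pow_mem cw j) hk
  have h3 := tw e (mem_Cx'.1 (Cx_comm.1 (U_le_Cx ca cw hu))) (h.dp.v4.1.1 u hu) hj
  rw [mem_Cx'.1 (U_le_Cx xa xw h2)] at h3
  simpa using h3

/-- two elements of order 3 on the four-group -/
theorem uniq1 {ρ σ u : N} (c : Q3 ρ w a) (c' : Q3 σ w a) {n : ℕ} (hn : Odd n)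
    (cK : (σ⁻¹ * ρ) ^ n ∈ K) (xa : x ∈ Cx a) (xw : x ∈ Cx w) (hu : u ∈ closure {a, w})
    (e : ρ ∈ Cx x) (e' : σ ∈ Cx (x * u)) : u = 1 := by
  have h1 : u * (σ⁻¹ * u⁻¹ * σ) = 1 := by
    refine h.uniq0 (c := σ⁻¹ * ρ) (mem_Cx'.2 ?_) (mem_Cx'.2 ?_) hn cK xa xw
      (mul_mem hu (conj_mem_of_mem_normalizer' (h.q3_nrm c') (inv_mem hu))) ?_
    · calc σ⁻¹ * ρ * a * (σ⁻¹ * ρ)⁻¹ = σ⁻¹ * (ρ * a * ρ⁻¹) * σ := by group
        _ = a := by rw [c.2, ← c'.2]; group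
    · calc σ⁻¹ * ρ * w * (σ⁻¹ * ρ)⁻¹ = σ⁻¹ * (ρ * w * ρ⁻¹) * σ := by group
        _ = σ⁻¹ * (σ * w * σ⁻¹) * σ := by rw [c.1, c'.1]
        _ = w := by group
    · calc σ⁻¹ * ρ * x * (σ⁻¹ * ρ)⁻¹ = σ⁻¹ * (ρ * x * ρ⁻¹) * σ := by group
        _ = σ⁻¹ * (x * u) * u⁻¹ * σ := by rw [mem_Cx'.1 e]; group
        _ = σ⁻¹ * (σ * (x * u) * σ⁻¹) * u⁻¹ * σ := by rw [mem_Cx'.1 e']
        _ = x * (u * (σ⁻¹ * u⁻¹ * σ)) := by group
  refine h.q3_fpf c' hu ?_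
  calc σ * u * σ⁻¹ = σ * (u * (σ⁻¹ * u⁻¹ * σ)) * σ⁻¹ * u := by group
    _ = u := by rw [h1]; group

theorem exists_rho : ∃ ρ ∈ K, Q3 ρ w a ∧ ∀ y ∈ P ⊓ Cx a, ρ * y * ρ⁻¹ ∈ P ⊓ Cx a := by
  have := h.nrm
  obtain ⟨ρ, ρK, c⟩ := h.rho
  have c := c.q3
  have hA : IsPGroup 2 (P ⊓ Cx a : Subgroup N) := h.syl.pgroup.to_le inf_le_left
  have hS : IsSylowIn 2 (P ⊓ Cx a) (Cx a ⊓ Cx w ⊓ (P ⊓ Cx a ⊔ K)) := by
    refine isSylowIn_of_maximal hA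
      (le_inf (le_inf inf_le_right (inf_le_left.trans h.fix)) le_sup_left) fun R hR l1 l2 y hy => ?_
    obtain ⟨s, hs, k, hk, e⟩ := mem_sup_of_normal_right.1 (l2 hy).2
    have e1 : k = s⁻¹ * y := by rw [← e]; group
    have kR : k ∈ R := by rw [e1]; exact mul_mem (inv_mem (l1 hs)) hy
    obtain ⟨i, hi⟩ := isPGroup_iff_mem.1 hR k kR
    have := h.two_elt hk (l2 kR).1.1 (l2 kR).1.2 hi
    rw [← e]
    exact mul_mem hs ⟨(h.U_le this).1, h.U_a this⟩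
  have hle : cj ρ (P ⊓ Cx a) ≤ Cx a ⊓ Cx w ⊓ (P ⊓ Cx a ⊔ K) := by
    refine cj_le_iff.2 fun y hy => ⟨⟨?_, ?_⟩, ?_⟩
    · have := (conj_mem_Cx (g := ρ)).2 (h.fix hy.1)
      rwa [c.1] at this
    · have := (conj_mem_Cx (g := ρ)).2 (U_le_Cx hy.2 (h.fix hy.1) ((h.dp.v4.2 (a * w)).2 (by simp)) |> Cx_comm.1)
      rwa [c.third h.aa h.aw] at this
    · rw [show ρ * y * ρ⁻¹ = y * (y⁻¹ * ρ * y⁻¹⁻¹ * ρ⁻¹) by group]
      exact mul_mem_sup hy (mul_mem (h.nrm.conj_mem _ ρK _) (inv_mem ρK))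
  obtain ⟨g, hg, l⟩ := hS.exists_cj_le (isPGroup_cj ρ hA) hle
  obtain ⟨s, hs, k, hk, e⟩ := mem_sup_of_normal_right.1 hg.2
  have e1 : k = s⁻¹ * g := by rw [← e]; group
  have ka : k ∈ Cx a := by rw [e1]; exact mul_mem (inv_mem hs.2) hg.1.1
  have kw : k ∈ Cx w := by rw [e1]; exact mul_mem (inv_mem (h.fix hs.1)) hg.1.2
  refine ⟨k * ρ, mul_mem hk ρK, ⟨?_, ?_⟩, fun y hy => ?_⟩
  · calc k * ρ * w * (k * ρ)⁻¹ = k * (ρ * w * ρ⁻¹) * k⁻¹ := by group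
      _ = a := by rw [c.1, mem_Cx'.1 ka]
  · calc k * ρ * a * (k * ρ)⁻¹ = k * (ρ * a * ρ⁻¹) * k⁻¹ := by group
      _ = k * a * k⁻¹ * (k * w * k⁻¹) := by rw [c.2]; group
      _ = a * w := by rw [mem_Cx'.1 ka, mem_Cx'.1 kw]
  · rw [show k * ρ * y * (k * ρ)⁻¹ = s⁻¹ * (g * (ρ * y * ρ⁻¹) * g⁻¹) * s by rw [e1]; group]
    exact mul_mem (mul_mem (inv_mem hs) (l (conj_mem_cj.2 (conj_mem_cj.2 hy)))) hs

theorem mem_U (xP : x ∈ P) (xK : x ∈ K) (xa : x ∈ Cx a) : x ∈ closure {a, w} :=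
  h.dp.cent_a ⟨xP, xK⟩ (mem_Cx.1 xa)

/-- the first half of `exists_q` -/
theorem q0 : ∃ q ∈ P, (∃ ρ ∈ K ⊓ Cx q, Cy ρ w a) ∧ q * a = a * q ∧ zpowers q ⊓ K = ⊥ ∧
    q * (a * b) ^ (m / 4) = (a * b) ^ (m / 4) * q ∧
    (∀ x ∈ P, Cp a b x → ∃ i : ℕ, x * (q ^ i)⁻¹ ∈ K) ∧
    ∀ x ∈ P, x * a = a * x → ∃ i : ℕ, x * (q ^ i)⁻¹ ∈ closure {a, w} := by
  have := h.nrm
  obtain ⟨p, pP, pc, hp⟩ := h.cyc
  obtain ⟨k, hk, e⟩ := h.dp.exists_comm pP pc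
  obtain ⟨ρ, ρK, c, hρ⟩ := h.exists_rho
  have A1 : p * k ∈ P ⊓ Cx a := ⟨mul_mem pP hk.1, mem_Cx.2 e⟩
  have hu : (p * k)⁻¹ * (ρ * (p * k) * ρ⁻¹) ∈ closure {a, w} := by
    have h1 := mul_mem (inv_mem A1) (hρ _ A1)
    refine h.mem_U h1.1 ?_ h1.2
    rw [show (p * k)⁻¹ * (ρ * (p * k) * ρ⁻¹) = (p * k)⁻¹ * ρ * (p * k)⁻¹⁻¹ * ρ⁻¹ by group]
    exact mul_mem (h.nrm.conj_mem _ ρK _) (inv_mem ρK)
  obtain ⟨u, hu', e'⟩ : ∃ u ∈ closure {a, w},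
      (p * k)⁻¹ * (ρ * (p * k) * ρ⁻¹) * (ρ * u * ρ⁻¹) = u := by
    rcases (h.dp.v4.2 _).1 hu with e1 | e1 | e1 | e1 <;> rw [e1]
    · exact ⟨1, one_mem _, by simp⟩
    · exact ⟨a * w, (h.dp.v4.2 _).2 (by simp), by rw [c.third h.aa h.aw]⟩
    · exact ⟨a, (h.dp.v4.2 _).2 (by simp), by rw [c.2, ← mul_assoc, ← h.aw, mul_assoc, h.ww, mul_one]⟩
    · exact ⟨w, (h.dp.v4.2 _).2 (by simp), by rw [c.1, h.aw, mul_assoc, h.aa, mul_one]⟩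
  have qP : p * k * u ∈ P := mul_mem A1.1 (h.U_le hu').1
  have qa : p * k * u ∈ Cx a := mul_mem A1.2 (h.U_a hu')
  have qρ : ρ ∈ Cx (p * k * u) := by
    refine mem_Cx'.2 ?_
    calc ρ * (p * k * u) * ρ⁻¹
        = p * k * ((p * k)⁻¹ * (ρ * (p * k) * ρ⁻¹) * (ρ * u * ρ⁻¹)) := by group
      _ = p * k * u := by rw [e']
  have qK : p * k * u * p⁻¹ ∈ K := by
    rw [mul_assoc p k u]
    exact h.nrm.conj_mem _ (mul_mem hk.2 (h.U_le hu').2) _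
  generalize p * k * u = q at qP qa qρ qK
  have g1 : ∀ x ∈ P, Cp a b x → ∃ i : ℕ, x * (q ^ i)⁻¹ ∈ K := fun x hx cx =>
    (hp x hx cx).imp fun i hi => gen qK hi
  obtain ⟨n, cy⟩ := c.cy h.aa h.aw
  refine ⟨q, qP, ⟨ρ ^ n, ⟨pow_mem ρK n, pow_mem qρ n⟩, cy⟩, mem_Cx.1 qa, ?_, ?_, g1,
    fun x hx cx => ?_⟩
  · refine eq_bot_iff.2 fun y hy => mem_bot.2 ?_
    refine h.q3_fpf c (h.mem_U (zpowers_le.2 qP hy.1) hy.2 (zpowers_le.2 qa hy.1)) ?_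
    exact mem_Cx'.1 (Cx_comm.1 (zpowers_le.2 (Cx_comm.1 qρ) hy.1))
  · by_cases hm : 4 ≤ m
    swap
    · rw [show m / 4 = 0 by omega]; simp
    have ta := h.dp.conj_aw hm
    have tH : (a * b) ^ (m / 4) ∈ P ⊓ K := pow_mem h.dih.r_mem _
    generalize (a * b) ^ (m / 4) = t at ta tH
    have tw : t * w * t⁻¹ = w := mem_Cx'.1 (h.fix tH.1)
    have taw : t * (a * w) * t⁻¹ = a := by
      calc t * (a * w) * t⁻¹ = t * a * t⁻¹ * (t * w * t⁻¹) := by group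
        _ = a := by rw [ta, tw, mul_assoc, h.ww, mul_one]
    have qw : q ∈ Cx w := h.fix qP
    have h1 : t * q * t⁻¹ ∈ Cx a := by
      have := (conj_mem_Cx (g := t)).2
        (U_le_Cx qa qw ((h.dp.v4.2 (a * w)).2 (by simp)) |> Cx_comm.1)
      rwa [taw] at this
    have h2 : q⁻¹ * (t * q * t⁻¹) ∈ closure {a, w} := by
      refine h.mem_U (mul_mem (inv_mem qP) (mul_mem (mul_mem tH.1 qP) (inv_mem tH.1))) ?_
        (mul_mem (inv_mem qa) h1)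
      rw [show q⁻¹ * (t * q * t⁻¹) = q⁻¹ * t * q⁻¹⁻¹ * t⁻¹ by group]
      exact mul_mem (h.nrm.conj_mem _ tH.2 _) (inv_mem tH.2)
    have c3 := c.third h.aa h.aw
    have c' : Q3 (t * (ρ * ρ) * t⁻¹) w a := by
      constructor
      · calc t * (ρ * ρ) * t⁻¹ * w * (t * (ρ * ρ) * t⁻¹)⁻¹
            = t * (ρ * ρ) * t⁻¹ * (t * w * t⁻¹) * (t * (ρ * ρ) * t⁻¹)⁻¹ := by rw [tw]
          _ = t * (ρ * (ρ * w * ρ⁻¹) * ρ⁻¹) * t⁻¹ := by group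
          _ = a := by rw [c.1, c.2, taw]
      · calc t * (ρ * ρ) * t⁻¹ * a * (t * (ρ * ρ) * t⁻¹)⁻¹
            = t * (ρ * ρ) * t⁻¹ * (t * (a * w) * t⁻¹) * (t * (ρ * ρ) * t⁻¹)⁻¹ := by rw [taw]
          _ = t * (ρ * (ρ * (a * w) * ρ⁻¹) * ρ⁻¹) * t⁻¹ := by group
          _ = a * w := by rw [c3, c.1, ta]
    have h3 := h.uniq1 c c' odd_one (by
      rw [pow_one]
      exact mul_mem (inv_mem (h.nrm.conj_mem _ (mul_mem ρK ρK) _)) ρK) qa qw h2 qρ (by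
      rw [mul_inv_cancel_left]
      exact conj_mem_Cx.2 (mul_mem qρ qρ))
    calc q * t = q * (q⁻¹ * (t * q * t⁻¹)) * t := by rw [h3, mul_one]
      _ = t * q := by group
  · obtain ⟨i, hi⟩ := g1 x hx (h.dp.cp_of_comm cx)
    exact ⟨i, h.mem_U (mul_mem hx (inv_mem (pow_mem qP i))) hi
      (mul_mem (mem_Cx.2 cx) (inv_mem (pow_mem qa i)))⟩

end DL

end CfsgLib.GHE
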