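import Mathlib
import Cfsg.Agent.Lib.GHE.Defs
import Cfsg.Agent.Lib.GHE.Defs3
import Cfsg.Agent.Lib.GHE.LocD2
import Cfsg.Agent.Lib.GHE.LocD3a

/-! Package LOCD3: outer automorphisms of field type.  See `plans/GHE.md`. -/

set_option autoImplicit false

namespace CfsgLib.GHE

open Subgroup Cfsg CfsgLib.W2 CfsgLib.Tech CfsgLib.Sect CfsgLib.PComp CfsgLib.DihSyl
  CfsgLib.GW.Cor
open CfsgLib.LBal hiding cj
open scoped MatrixGroups commutatorElement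

universe u

variable {G : Type u} [Group G] [Finite G]

variable {N : Type u} [Group N] [Finite N] {K P : Subgroup N} {m : ℕ} {a b w v d x : N}

open L3

/-- an element that centralises `a` and `a b` centralises `P ∩ K` -/
theorem DL.cen_of (h : DL K P m a b w) (xa : x ∈ Cx a) (xr : x ∈ Cx (a * b)) : P ⊓ K ≤ Cx x := by
  intro y hy
  obtain ⟨i, rfl | rfl⟩ := (h.dih.mem y).1 hy
  · exact zpow_mem (Cx_comm.1 xr) i
  · exact mul_mem (zpow_mem (Cx_comm.1 xr) i) (Cx_comm.1 xa)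

theorem DL.two_H (h : DL K P m a b w) (hm : ¬ 4 ≤ m) : w = a * b ∧ P ⊓ K = closure {a, w} := by
  obtain ⟨k, e⟩ := h.dp.pow
  have h2 : m = 2 := by
    rcases k with _ | k
    · simpa using e
    · exact absurd (by rw [e, pow_succ, pow_succ]; have := Nat.one_le_two_pow (n := k); omega) hm
  have hw : w = a * b := by rw [h.hw, h2]; simp
  refine ⟨hw, le_antisymm (fun y hy => h.dp.cent_a hy ?_) h.U_le⟩
  exact mem_Cx.1 (h.cen_of (mem_Cx.2 rfl) (by rw [← hw]; exact mem_Cx.2 h.aw) hy)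

theorem DL.nc0 (h : DL K P m a b w) (c : P ⊓ K ≤ Cx v) {n : N} (nK : n ∈ K)
    (nn : n ∈ normalizer ((P ⊓ K : Subgroup N) : Set N)) (nw : n * w * n⁻¹ = w) :
    n * v * n⁻¹ ≠ v * w := by
  intro e
  obtain ⟨j, hj, k, hk⟩ := odd_pow n
  have h1 : zpowers (n ^ j) ≤ P ⊓ K := h.sylH.le_of_normalizes (isPGroup_zpowers_of_pow hk)
    (zpowers_le.2 (pow_mem nK j)) (zpowers_le.2 (pow_mem nn j))
  have h2 := tw e nw h.ww hj
  rw [mem_Cx'.1 (c (h1 (mem_zpowers _)))] at h2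
  exact h.w_ne (by simpa using h2)

theorem PH.not_conj (p : PH K P a w v) (h : DL K P m a b w) :
    ¬ ∃ k ∈ K, k * v * k⁻¹ = v * w := by
  rintro ⟨k, hk, e⟩
  have c : P ⊓ K ≤ Cx (v * w) := fun y hy =>
    Cx_comm.1 (mul_mem (Cx_comm.1 (p.cen hy)) (Cx_comm.1 (h.fix hy.1)))
  obtain ⟨n, nK, nn, e'⟩ := exists_normalizer_conj h.sylH hk p.cen (by rwa [e])
  rw [e] at e'
  have wH : w ∈ P ⊓ K := ⟨h.wP, h.wK⟩
  have n1 : n⁻¹ * w * n ≠ 1 := fun e1 => h.w_ne (by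
    calc w = n * (n⁻¹ * w * n) * n⁻¹ := by group
      _ = 1 := by rw [e1]; group)
  have nH := conj_mem_of_mem_normalizer' nn wH
  have fin : ∀ g ∈ K ⊓ Cx v, g ∈ normalizer ((P ⊓ K : Subgroup N) : Set N) →
      n⁻¹ * w * n ≠ g * w * g⁻¹ := fun g hg gn e1 => by
    refine h.nc0 p.cen (mul_mem nK hg.1) (mul_mem nn gn) ?_ ?_
    · calc n * g * w * (n * g)⁻¹ = n * (g * w * g⁻¹) * n⁻¹ := by group
        _ = w := by rw [← e1]; group
    · calc n * g * v * (n * g)⁻¹ = n * (g * v * g⁻¹) * n⁻¹ := by group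
        _ = v * w := by rw [mem_Cx'.1 hg.2, e']
  by_cases hm : 4 ≤ m
  · refine fin 1 (one_mem _) (one_mem _) ?_
    rw [(h.dp.center hm nH fun y hy => ?_).resolve_left n1]
    · simp
    · have := mem_Cx.1 (h.fix (conj_mem_of_mem_normalizer nn hy).1)
      calc n⁻¹ * w * n * y = n⁻¹ * (w * (n * y * n⁻¹)) * n := by group
        _ = y * (n⁻¹ * w * n) := by rw [← this]; group
  · obtain ⟨ρ, hρ, cy⟩ := p.rho
    have e2 := (h.two_H hm).2
    have ρn : ρ ∈ normalizer ((P ⊓ K : Subgroup N) : Set N) := by rw [e2]; exact h.q3_nrm cy.q3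
    rw [e2] at nH
    rcases (h.dp.v4.2 _).1 nH with e1 | e1 | e1 | e1
    · exact n1 e1
    · exact fin ρ hρ ρn (by rw [e1, cy.ew])
    · exact fin 1 (one_mem _) (one_mem _) (by rw [e1]; simp)
    · refine fin (ρ * ρ) (mul_mem hρ hρ) (mul_mem ρn ρn) ?_
      calc n⁻¹ * w * n = ρ * (ρ * w * ρ⁻¹) * ρ⁻¹ := by rw [e1, cy.ew, cy.ea]
        _ = _ := by group

theorem DL.odd_bot (h : DL K P m a b w) {O : Subgroup N} (o : Odd (Nat.card O))
    (n : K ≤ normalizer (O : Set N)) : O = ⊥ := by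
  have := h.simple
  have h1 : (O.subgroupOf K).Normal := ⟨fun y hy g => by
    rw [mem_subgroupOf] at hy ⊢
    exact conj_mem_of_mem_normalizer (n g.2) hy⟩
  have h2 : ∀ y ∈ O, y ∈ K → y = 1 := by
    rcases h1.eq_bot_or_eq_top with e | e
    · intro y hy yK
      have : (⟨y, yK⟩ : K) ∈ O.subgroupOf K := hy
      rw [e] at this
      exact congrArg Subtype.val (mem_bot.1 this)
    · have aO : a ∈ O := by
        have : (⟨a, h.aK⟩ : K) ∈ O.subgroupOf K := by rw [e]; trivial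
        exact this
      have := orderOf_dvd_natCard (⟨a, aO⟩ : O)
      rw [← orderOf_coe, h.dp.basic.2.2.2.1] at this
      exact absurd (even_iff_two_dvd.2 this) (Nat.not_even_iff_odd.2 o)
  rw [eq_bot_iff, ← h.cent]
  intro y hy
  refine mem_centralizer_iff.2 fun k hk => ?_
  have h3 := h2 (k * y * k⁻¹ * y⁻¹) (mul_mem (conj_mem_of_mem_normalizer (n hk) hy) (inv_mem hy))
    (by
      rw [show k * y * k⁻¹ * y⁻¹ = k * (y * k⁻¹ * y⁻¹) by group]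
      exact mul_mem hk (h.nrm.conj_mem _ (inv_mem hk) _))
  calc k * y = k * y * k⁻¹ * y⁻¹ * (y * k) := by group
    _ = y * k := by rw [h3, one_mul]

/-- an involution is not of field type for both four-groups -/
theorem PH.not_both (p : PH K P a w v) (h : DL K P m a b w) : ¬ PH K P b w v := by
  intro p'
  have := h.nrm
  have mem : ∀ y ∈ K ⊔ zpowers v, y ∈ K ∨ y * v ∈ K := by
    intro y hy
    obtain ⟨k, hk, s, ⟨i, rfl⟩, rfl⟩ := mem_sup_of_normal_left.1 hy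
    have v2 : v ^ (2 : ℤ) = 1 := by rw [zpow_two, p.vv]
    rcases Int.even_or_odd' i with ⟨j, rfl | rfl⟩
    · left; simpa [zpow_mul, v2] using hk
    · right; simpa [zpow_add, zpow_mul, v2, mul_assoc, p.vv] using hk
  have nrm : (K ⊔ zpowers v).Normal := ⟨fun y hy g => by
    rw [show g * y * g⁻¹ = ⁅g, y⁆ * y by rw [commutatorElement_def]; group]
    exact mul_mem (mem_sup_left (h.comm g y)) hy⟩
  have hS := h.syl.inf_of_le_normalizer (N := K ⊔ zpowers v) le_normalizer_of_normal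
  rw [top_inf_eq] at hS
  have vK : v ∈ K ⊔ zpowers v := mem_sup_right (mem_zpowers v)
  have key : ∀ {c : N}, PH K P c w v → ∀ k ∈ K, k * v * k⁻¹ ≠ v * c := fun {c} pc k hk e => by
    obtain ⟨ρ, hρ, cy⟩ := pc.rho
    refine p.not_conj h ⟨ρ⁻¹ * k, mul_mem (inv_mem hρ.1) hk, ?_⟩
    calc ρ⁻¹ * k * v * (ρ⁻¹ * k)⁻¹ = ρ⁻¹ * (k * v * k⁻¹) * ρ := by group
      _ = ρ⁻¹ * (ρ * v * ρ⁻¹ * (ρ * w * ρ⁻¹)) * ρ := by rw [e, mem_Cx'.1 hρ.2, cy.ew]
      _ = v * w := by group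
  have iso : ∀ k ∈ K, k * v * k⁻¹ ∈ P → k * v * k⁻¹ = v := by
    intro k hk hP
    have yH : v⁻¹ * (k * v * k⁻¹) ∈ P ⊓ K := ⟨P.mul_mem (P.inv_mem p.mem) hP, by
      rw [show v⁻¹ * (k * v * k⁻¹) = v⁻¹ * k * v⁻¹⁻¹ * k⁻¹ by group]
      exact K.mul_mem (h.nrm.conj_mem _ hk _) (K.inv_mem hk)⟩
    obtain ⟨y, e⟩ : ∃ y, y = v⁻¹ * (k * v * k⁻¹) := ⟨_, rfl⟩
    rw [← e] at yH
    have e' : k * v * k⁻¹ = v * y := by rw [e]; group
    have yy : y * y = 1 := by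
      calc y * y = v * (v * y) * y := by rw [← mul_assoc v v, p.vv, one_mul]
        _ = v * (y * v) * y := by rw [mem_Cx.1 (p.cen yH)]
        _ = v * y * (v * y) := by simp only [mul_assoc]
        _ = k * (v * v) * k⁻¹ := by rw [← e']; group
        _ = 1 := by rw [p.vv]; group
    have cj' : ∀ {c : N}, PH K P c w v → ∀ g ∈ P ⊓ K, g * y * g⁻¹ ≠ c := fun {c} pc g hg e1 => by
      refine key pc (g * k) (mul_mem hg.2 hk) ?_
      calc g * k * v * (g * k)⁻¹ = g * (k * v * k⁻¹) * g⁻¹ := by group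
        _ = g * v * g⁻¹ * (g * y * g⁻¹) := by rw [e']; group
        _ = v * c := by rw [mem_Cx'.1 (p.cen hg), e1]
    rcases h.dp.inv_H yH yy with e1 | e1 | ⟨g, hg, e1⟩ | ⟨g, hg, e1⟩
    · rw [e', e1, mul_one]
    · exact absurd ⟨k, hk, by rw [e', e1]⟩ (p.not_conj h)
    · exact absurd e1 (cj' p g hg)
    · exact absurd e1 (cj' p' g hg)
  have hle := le_of_weaklyClosed (M := Cx v) hS ⟨p.mem, vK⟩ (fun k hk hP => by
    rcases mem k hk with h1 | h1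
    · exact iso k h1 hP.1
    · have e : k * v * v * (k * v)⁻¹ = k * v * k⁻¹ := by group
      rw [← e]
      exact iso _ h1 (by rw [e]; exact hP.1))
    (by rw [h.odd_bot (odd_card_opOf _) (le_sup_left.trans (le_normalizer_opOf _))]; exact bot_le)
    inf_le_right
  have : v ∈ centralizer (K : Set N) :=
    mem_centralizer_iff.2 fun k hk => mem_Cx.1 (hle (mem_sup_left hk))
  rw [h.cent, mem_bot] at this
  exact p.out (this ▸ K.one_mem)

theorem PH.four (p : PH K P a w v) (h : DL K P m a b w) : 4 ≤ m := by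
  by_contra hm
  have e : b = a * w := by rw [(h.two_H hm).1, ← mul_assoc, h.aa, one_mul]
  obtain ⟨ρ, hρ, cy⟩ := p.rho
  have c : Q3 (ρ * ρ) w b := by
    constructor
    · calc ρ * ρ * w * (ρ * ρ)⁻¹ = ρ * (ρ * w * ρ⁻¹) * ρ⁻¹ := by group
        _ = b := by rw [cy.ew, cy.ea, e]
    · calc ρ * ρ * b * (ρ * ρ)⁻¹ = ρ * (ρ * (a * w) * ρ⁻¹) * ρ⁻¹ := by rw [e]; group
        _ = b * w := by rw [cy.q3.third h.aa h.aw, cy.ew, e, mul_assoc, h.ww, mul_one]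
  obtain ⟨n, cy'⟩ := c.cy h.bb h.symm.aw
  exact p.not_both h ⟨p.mem, p.out, p.vv, p.cen, _, pow_mem (mul_mem hρ hρ) n, cy'⟩

omit [Finite N] in
theorem L3.step {r g s : N} (n : ∀ y ∈ zpowers r, g * y * g⁻¹ ∈ zpowers r)
    (z : ∀ y ∈ zpowers r, y * y = 1 → y ∈ Cx g) (j : ℕ) (hs : s ∈ zpowers r)
    (c : s ^ 2 ^ j ∈ Cx g) : s ∈ Cx (g ^ 2 ^ j) := by
  induction j generalizing s with
  | zero => simpa using c
  | succ j ih =>
    have h1 := ih (pow_mem hs 2) (by rwa [← pow_mul, ← pow_succ'])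
    have h2 : ∀ i : ℕ, g ^ i * s * (g ^ i)⁻¹ ∈ zpowers r := fun i => by
      induction i with
      | zero => simpa using hs
      | succ i ih =>
        rw [show g ^ (i + 1) * s * (g ^ (i + 1))⁻¹ = g * (g ^ i * s * (g ^ i)⁻¹) * g⁻¹ by group]
        exact n _ ih
    rw [pow_succ, pow_mul]
    have h3 := h2 (2 ^ j)
    have h4 : ∀ y ∈ zpowers r, y * y = 1 → y ∈ Cx (g ^ 2 ^ j) := fun y hy yy =>
      Cx_comm.1 (pow_mem (Cx_comm.1 (z y hy yy)) _)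
    generalize g ^ 2 ^ j = f at h1 h3 h4
    have h5 : s⁻¹ * (f * s * f⁻¹) ∈ zpowers r := mul_mem (inv_mem hs) h3
    have cm : s⁻¹ * (f * s * f⁻¹) = f * s * f⁻¹ * s⁻¹ := by
      obtain ⟨i, rfl⟩ := hs
      obtain ⟨k, hk⟩ := h3
      rw [← hk]; group
    have h6 := h4 _ h5 (by
      calc s⁻¹ * (f * s * f⁻¹) * (s⁻¹ * (f * s * f⁻¹))
          = s⁻¹ * (f * s * f⁻¹) * (f * s * f⁻¹ * s⁻¹) := by rw [← cm]
        _ = s⁻¹ * (f * s ^ 2 * f⁻¹) * s⁻¹ := by simp [pow_two, mul_assoc]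
        _ = 1 := by rw [mem_Cx'.1 (Cx_comm.1 h1)]; group)
    have h7 := pow_conj_eq (g := f) (t := s) (c := s⁻¹ * (f * s * f⁻¹)) (by group)
      (mem_Cx'.1 (Cx_comm.1 h6)) 2
    refine Cx_comm.1 (mem_Cx'.2 ?_)
    rw [h7, pow_two]
    calc s * (s⁻¹ * (f * s * f⁻¹) * (s⁻¹ * (f * s * f⁻¹)))
        = s * (s⁻¹ * (f * s * f⁻¹) * (f * s * f⁻¹ * s⁻¹)) := by rw [← cm]
      _ = s * (s⁻¹ * (f * s ^ 2 * f⁻¹) * s⁻¹) := by simp [pow_two, mul_assoc]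
      _ = s := by rw [mem_Cx'.1 (Cx_comm.1 h1)]; group

omit [Finite N] in
theorem L3.exists_inv {k : ℕ} (hk : x ^ 2 ^ k = 1) (ne : x ≠ 1) :
    ∃ v ∈ zpowers x, orderOf v = 2 := by
  induction k generalizing x with
  | zero => exact absurd (by simpa using hk) ne
  | succ k ih =>
    by_cases xx : x * x = 1
    · exact ⟨x, mem_zpowers x, ord_two xx ne⟩
    · obtain ⟨v, hv, o⟩ := ih (x := x ^ 2) (by rwa [← pow_mul, ← pow_succ']) (by rwa [pow_two])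
      exact ⟨v, zpowers_le.2 (pow_mem (mem_zpowers x) 2) hv, o⟩

theorem DL.sq_cases (h : DL K P m a b w) (hx : x ∈ zpowers (a * b)) (xx : x * x = 1) :
    x = 1 ∨ x = w := by
  by_cases e : x = 1
  · exact Or.inl e
  · exact Or.inr (h.dih.eq_of_sq hx (by rw [h.hw]; exact pow_mem (mem_zpowers _) _) xx h.ww e h.w_ne)

/-- an involution that centralises `a` and the element of order 4 centralises `P ∩ K` -/
theorem DL.inv_cen (h : DL K P m a b w) (vP : v ∈ P) (va : v ∈ Cx a)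
    (vt : v ∈ Cx ((a * b) ^ (m / 4))) (vv : v * v = 1) : P ⊓ K ≤ Cx v := by
  have := h.nrm
  refine h.cen_of va ?_
  by_cases hm : 4 ≤ m
  swap
  · rw [← (h.two_H hm).1]; exact h.fix vP
  obtain ⟨q, qP, -, qb, qK, qt, g1, -⟩ := h.symm.q0
  obtain ⟨i, hi⟩ := g1 v vP ((h.dp.cp_symm vP).2 (h.dp.cp_of_comm (mem_Cx.1 va)))
  have ba : b * a = (a * b)⁻¹ := by
    rw [mul_inv_rev, inv_eq_of_mul_eq_one_right h.aa, inv_eq_of_mul_eq_one_right h.bb]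
  have qt' : q ∈ Cx ((a * b) ^ (m / 4)) := by
    rw [ba, inv_pow] at qt
    exact Cx_comm.1 (inv_mem_iff.1 (Cx_comm.1 (mem_Cx.2 qt)))
  have tt : (a * b) ^ (m / 4) * (a * b) ^ (m / 4) = w := by
    obtain ⟨k, e⟩ := h.dp.pow
    rw [← pow_add, h.hw]
    congr 1
    rcases k with _ | k
    · omega
    · rw [e, pow_succ, pow_succ]; omega
  have tr : (a * b) ^ (m / 4) ∈ zpowers (a * b) := pow_mem (mem_zpowers _) _
  generalize (a * b) ^ (m / 4) = t at vt qt' tt tr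
  have ti : ∀ g ∈ Cx t, g * t * g⁻¹ ≠ t⁻¹ := fun g hg e => h.w_ne (by
    rw [mem_Cx'.1 hg] at e
    rw [← tt]
    exact mul_eq_one_iff_eq_inv.2 e)
  have ss : q ^ i * q ^ i = 1 := by
    rw [← mem_bot, ← qK]
    refine ⟨mul_mem (pow_mem (mem_zpowers q) i) (pow_mem (mem_zpowers q) i), ?_⟩
    refine (QuotientGroup.eq_one_iff _).1 ?_
    rw [QuotientGroup.mk_mul, ← mk_iff.1 hi, ← QuotientGroup.mk_mul, vv, QuotientGroup.mk_one]
  have sb : q ^ i ∈ Cx b := pow_mem (mem_Cx.2 qb) i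
  have st : q ^ i ∈ Cx t := pow_mem qt' i
  have sP : q ^ i ∈ P := pow_mem qP i
  generalize q ^ i = s at hi ss sb st sP
  have yH : v * s⁻¹ ∈ P ⊓ K := ⟨P.mul_mem vP (P.inv_mem sP), hi⟩
  have yt : v * s⁻¹ ∈ Cx t := mul_mem vt (inv_mem st)
  have yr : v * s⁻¹ ∈ zpowers (a * b) := by
    obtain ⟨j, e | e⟩ := (h.dih.mem _).1 yH
    · exact ⟨j, e.symm⟩
    · obtain ⟨l, rfl⟩ := tr
      exact absurd (by rw [e, h.dih.rpows_conj_rpow, zpow_neg]) (ti _ yt)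
  have yv : v * (v * s⁻¹) * v⁻¹ = (v * s⁻¹)⁻¹ := by
    rw [← mul_assoc, vv, one_mul, mul_inv_rev, inv_inv, inv_eq_of_mul_eq_one_right ss]
  have yy : v * s⁻¹ * (v * s⁻¹) = 1 := by
    by_contra ne
    have ot : orderOf t = 2 ^ (1 + 1) := orderOf_eq_prime_pow
      (by rw [pow_one, pow_two, tt]; exact h.w_ne)
      (by rw [show 2 ^ (1 + 1) = 2 * 2 from rfl, pow_mul, pow_two, pow_two, tt, h.ww])
    obtain ⟨k, hk⟩ := isPGroup_zpowers_iff.1 (isPGroup_zpowers_of_mem h.syl.pgroup yH.1)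
    have k2 : 1 + 1 ≤ k := by
      by_contra lt
      refine ne ?_
      rw [← pow_two]
      exact orderOf_dvd_iff_pow_eq_one.1 (hk ▸ (pow_dvd_pow 2 (by omega : k ≤ 1)))
    obtain ⟨l, e⟩ := mem_zpowers_of_orderOf_dvd (isOfFinOrder_of_finite _) tr yr
      (by rw [ot, hk]; exact pow_dvd_pow 2 k2)
    refine ti v vt ?_
    have e' : (v * s⁻¹) ^ l = t := e
    rw [← e', ← conj_zpow, yv, inv_zpow]
  have yb : v * s⁻¹ ∈ Cx b := mem_Cx.2 (h.dih.commute_of_sq yr yy h.dp.basic.2.1).symm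
  have vb : v ∈ Cx b := by simpa using mul_mem yb sb
  exact Cx_comm.1 (mul_mem (Cx_comm.1 va) (Cx_comm.1 vb))

theorem DL.q1 (h : DL K P m a b w) :
    ∃ q ∈ P, (∃ ρ ∈ K ⊓ Cx q, Cy ρ w a) ∧ q * a = a * q ∧ zpowers q ⊓ K = ⊥ ∧
      q * (a * b) ^ (m / 4) = (a * b) ^ (m / 4) * q ∧
      (∀ x ∈ P, Cp a b x → ∃ i : ℕ, x * (q ^ i)⁻¹ ∈ K) ∧
      (∀ x ∈ P, x * a = a * x → ∃ i : ℕ, x * (q ^ i)⁻¹ ∈ closure {a, w}) ∧
      ∀ v ∈ zpowers q, orderOf v = 2 → PH K P a w v := by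
  obtain ⟨q, qP, ⟨ρ, hρ, cy⟩, qa, qK, qt, g1, g2⟩ := h.q0
  refine ⟨q, qP, ⟨ρ, hρ, cy⟩, qa, qK, qt, g1, g2, fun v hv o => ?_⟩
  have vP : v ∈ P := zpowers_le.2 qP hv
  refine ⟨vP, fun vK => ne_one_of_ord o ?_, sq_of_ord o, h.inv_cen vP (zpowers_le.2 (mem_Cx.2 qa) hv)
    (zpowers_le.2 (mem_Cx.2 qt) hv) (sq_of_ord o), ρ,
    ⟨hρ.1, Cx_comm.1 (zpowers_le.2 (Cx_comm.1 hρ.2) hv)⟩, cy⟩
  rw [← mem_bot, ← qK]
  exact ⟨hv, vK⟩

theorem DL.sq_eq (h : DL K P m a b w) {s : N} (sP : s ∈ P) (sa : s ∈ Cx a)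
    (hx : x * s⁻¹ ∈ closure {a, w}) : x * x = s * s := by
  have h1 := mem_Cx.1 (DL.U_le_Cx sa (h.fix sP) hx)
  calc x * x = x * s⁻¹ * (s * (x * s⁻¹)) * s := by group
    _ = x * s⁻¹ * (x * s⁻¹) * (s * s) := by rw [← h1]; simp only [mul_assoc]
    _ = s * s := by rw [h.dp.v4.1.1 _ hx, one_mul]

/-- an element of `P` that centralises `P ∩ K` is an involution -/
theorem DL.cen_sq (h : DL K P m a b w) (hx : x ∈ P) (c : P ⊓ K ≤ Cx x) : x * x = 1 := by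
  obtain ⟨q, qP, -, qa, -, -, -, g, ph⟩ := h.q1
  obtain ⟨q', qP', -, qa', -, -, -, g', ph'⟩ := h.symm.q1
  obtain ⟨i, hi⟩ := g x hx (mem_Cx.1 (c h.dp.basic.1)).symm
  obtain ⟨j, hj⟩ := g' x hx (mem_Cx.1 (c h.dp.basic.2.1)).symm
  have e := h.sq_eq (pow_mem qP i) (pow_mem (mem_Cx.2 qa) i) hi
  have e' := h.symm.sq_eq (pow_mem qP' j) (pow_mem (mem_Cx.2 qa') j) hj
  by_contra ne
  obtain ⟨k, hk⟩ := isPGroup_iff_mem.1 h.syl.pgroup _ (mul_mem hx hx)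
  obtain ⟨v, hv, o⟩ := exists_inv hk ne
  refine (ph v (zpowers_le.2 ?_ hv) o).not_both h (ph' v (zpowers_le.2 ?_ hv) o)
  · rw [e]; exact mul_mem (pow_mem (mem_zpowers _) _) (pow_mem (mem_zpowers _) _)
  · rw [e']; exact mul_mem (pow_mem (mem_zpowers _) _) (pow_mem (mem_zpowers _) _)

/-- `C_P(a) = ⟨a, w⟩ × ⟨q⟩`, and `(P ∩ K) ⟨q⟩` is the class-preserving part of `P` -/
theorem DL.exists_q (h : DL K P m a b w) :
    ∃ q ∈ P, (∃ ρ ∈ K ⊓ Cx q, Cy ρ w a) ∧ q * a = a * q ∧ zpowers q ⊓ K = ⊥ ∧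
      q * (a * b) ^ (m / 4) = (a * b) ^ (m / 4) * q ∧ 2 * orderOf q ≤ m ∧
      (∀ x ∈ P, Cp a b x → ∃ i : ℕ, x * (q ^ i)⁻¹ ∈ K) ∧
      (∀ x ∈ P, x * a = a * x → ∃ i : ℕ, x * (q ^ i)⁻¹ ∈ closure {a, w}) ∧
      ∀ v ∈ zpowers q, orderOf v = 2 → PH K P a w v := by
  obtain ⟨q, qP, hρ, qa, qK, qt, g1, g2, ph⟩ := h.q1
  refine ⟨q, qP, hρ, qa, qK, qt, ?_, g1, g2, ph⟩
  by_cases hm : 4 ≤ m
  swap
  · have e : q = 1 := by
      by_contra ne
      obtain ⟨k, hk⟩ := isPGroup_iff_mem.1 h.syl.pgroup _ qP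
      obtain ⟨v, hv, o⟩ := exists_inv hk ne
      exact hm ((ph v hv o).four h)
    rw [e, orderOf_one]
    exact h.two
  obtain ⟨j, e⟩ : ∃ j, m = 2 ^ (j + 2) := by
    obtain ⟨k, e⟩ := h.dp.pow
    rcases k with _ | k
    · omega
    · exact ⟨k, e⟩
  have z : ∀ y ∈ zpowers (a * b), y * y = 1 → y ∈ Cx q := fun y hy yy => by
    rcases h.sq_cases hy yy with rfl | rfl
    · exact one_mem _
    · exact Cx_comm.1 (h.fix qP)
  have h1 := step (g := q) (s := a * b) (fun y hy => h.dih.conj_mem_zpowers le_rfl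
    (fun _ => conj_mem_of_mem_normalizer (h.dp.nrm qP))
    (Or.inr fun y hy yy => mem_Cx'.1 (Cx_comm.1 (z y hy yy))) (h.dih.zpowers_le hy) hy) z j
    (mem_zpowers _) (by
      rw [show 2 ^ j = m / 4 by rw [e, pow_add]; omega]
      exact mem_Cx.2 qt.symm)
  have h2 := h.cen_sq (pow_mem qP _) (h.cen_of (pow_mem (mem_Cx.2 qa) _) (Cx_comm.1 h1))
  have h3 : orderOf q ≤ 2 ^ j + 2 ^ j :=
    orderOf_le_of_pow_eq_one (by positivity) (by rw [pow_add, h2])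
  rw [e, pow_add]
  omega

theorem DL.cent_le (h : DL K P m a b w) (hx : x ∈ P) (c : P ⊓ K ≤ Cx x) :
    x ∈ K ∨ PH K P a w x ∨ PH K P a w (x * w) := by
  obtain ⟨q, qP, -, qa, -, -, -, g, ph⟩ := h.q1
  obtain ⟨i, hi⟩ := g x hx (mem_Cx.1 (c h.dp.basic.1)).symm
  have e := h.sq_eq (pow_mem qP i) (pow_mem (mem_Cx.2 qa) i) hi
  rw [h.cen_sq hx c] at e
  by_cases e1 : q ^ i = 1
  · left; simpa [e1] using (h.U_le hi).2
  right
  have p := ph _ (pow_mem (mem_zpowers q) i) (ord_two e.symm e1)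
  rcases h.dp.center (p.four h) (h.U_le hi) (fun k hk => (mem_Cx.1 (Cx_comm.1
    (mul_mem (Cx_comm.1 (c hk)) (inv_mem (Cx_comm.1 (p.cen hk)))))).symm) with e2 | e2
  · left; rwa [mul_inv_eq_one.1 e2]
  · right
    have : x * w = q ^ i := by
      rw [mul_inv_eq_iff_eq_mul.1 e2, ← mem_Cx.1 (h.fix p.mem), mul_assoc, h.ww, mul_one]
    rwa [this]

theorem DL.inv_cases (h : DL K P m a b w) (hx : x ∈ P) (out : x ∉ K) (xx : x * x ∈ K) :
    Sp a b x ∨ ∃ v, PH K P a w v ∧ x * v ∈ K := by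
  have := h.nrm
  refine (h.dp.cp_or_sp hx).symm.imp_right fun c => ?_
  obtain ⟨q, qP, -, -, qK, -, g, -, ph⟩ := h.q1
  obtain ⟨i, hi⟩ := g x hx c
  have ss : q ^ i * q ^ i = 1 := by
    rw [← mem_bot, ← qK]
    refine ⟨mul_mem (pow_mem (mem_zpowers q) i) (pow_mem (mem_zpowers q) i), ?_⟩
    refine (QuotientGroup.eq_one_iff _).1 ?_
    rw [QuotientGroup.mk_mul, ← mk_iff.1 hi, ← QuotientGroup.mk_mul]
    exact (QuotientGroup.eq_one_iff _).2 xx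
  refine ⟨q ^ i, ph _ (pow_mem (mem_zpowers q) i) (ord_two ss fun e => out ?_), ?_⟩
  · simpa [e] using hi
  · rwa [inv_eq_of_mul_eq_one_right ss] at hi

theorem PH.cxa (p : PH K P a w v) (h : DL K P m a b w) : v ∈ Cx a := Cx_comm.1 (p.cen h.dp.basic.1)

theorem PH.symm (p : PH K P a w v) (h : DL K P m a b w) : PH K P b w (v * w) := by
  rcases h.symm.cent_le p.mem p.cen with e | e | e
  · exact absurd e p.out
  · exact absurd e (p.not_both h)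
  · exact e

theorem PH.uniq (p : PH K P a w v) (h : DL K P m a b w) (p' : PH K P a w x) : x = v := by
  have := h.nrm
  obtain ⟨q, qP, -, qa, -, -, -, g, -⟩ := h.q1
  have key : ∀ {y : N}, PH K P a w y → ∃ s ∈ zpowers q, s * s = 1 ∧ s ≠ 1 ∧ y * s⁻¹ ∈ K := by
    intro y py
    obtain ⟨i, hi⟩ := g y py.mem (mem_Cx.1 (py.cxa h))
    have e := h.sq_eq (pow_mem qP i) (pow_mem (mem_Cx.2 qa) i) hi
    exact ⟨q ^ i, pow_mem (mem_zpowers q) i, by rw [← e, py.vv],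
      fun e1 => py.out (by simpa [e1] using (h.U_le hi).2), (h.U_le hi).2⟩
  obtain ⟨s, hs, ss, s1, vs⟩ := key p
  obtain ⟨s', hs', ss', s1', vs'⟩ := key p'
  have e : s = s' := by
    obtain ⟨i, e⟩ := mem_zpowers_of_orderOf_dvd (isOfFinOrder_of_finite _) hs hs'
      (by rw [ord_two ss s1, ord_two ss' s1'])
    have e' : s' ^ i = s := e
    have v2 : s' ^ (2 : ℤ) = 1 := by rw [zpow_two, ss']
    rcases Int.even_or_odd' i with ⟨j, rfl | rfl⟩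
    · exact absurd (by rw [← e', zpow_mul, v2, one_zpow]) s1
    · rw [← e', zpow_add, zpow_mul, v2, one_zpow, one_mul, zpow_one]
  have hu : v⁻¹ * x ∈ closure {a, w} := by
    refine h.mem_U (mul_mem (inv_mem p.mem) p'.mem) ?_ (mul_mem (inv_mem (p.cxa h)) (p'.cxa h))
    exact QuotientGroup.eq.1 (by rw [mk_iff.1 vs, mk_iff.1 vs', e])
  obtain ⟨ρ, hρ, cy⟩ := p.rho
  obtain ⟨σ, hσ, cy'⟩ := p'.rho
  have := h.uniq1 cy.q3 cy'.q3 odd_one (by simpa using K.mul_mem (K.inv_mem hσ.1) hρ.1) (p.cxa h)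
    (h.fix p.mem) hu hρ.2 (by simpa using hσ.2)
  exact (inv_mul_eq_one.1 this).symm

theorem PH.not_vw (p : PH K P a w v) (h : DL K P m a b w) : ¬ ∃ ρ ∈ Cx (v * w), Cy ρ w a := by
  have := h.nrm
  rintro ⟨σ, hσ, cy'⟩
  obtain ⟨ρ, hρ, cy⟩ := p.rho
  refine h.w_ne (h.uniq1 cy.q3 cy'.q3 cy'.odd ?_ (p.cxa h) (h.fix p.mem)
    ((h.dp.v4.2 w).2 (by simp)) hρ.2 hσ)
  refine (QuotientGroup.eq_one_iff _).1 ?_
  rw [QuotientGroup.mk_pow, QuotientGroup.mk_mul, (QuotientGroup.eq_one_iff ρ).2 hρ.1, mul_one,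
    ← QuotientGroup.mk_pow, inv_pow, pow_orderOf_eq_one, inv_one, QuotientGroup.mk_one]

theorem PH.conj (p : PH K P a w v) (h : DL K P m a b w) (hx : x ∈ P) :
    PH K P (x * a * x⁻¹) w (x * v * x⁻¹) := by
  obtain ⟨ρ, hρ, cy⟩ := p.rho
  have xw := mem_Cx'.1 (h.fix hx)
  refine ⟨mul_mem (mul_mem hx p.mem) (inv_mem hx), fun e => p.out ?_, ?_, fun y hy => ?_,
    x * ρ * x⁻¹, ⟨h.nrm.conj_mem _ hρ.1 _, conj_mem_Cx.2 hρ.2⟩, by rw [ord_conj]; exact cy.odd,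
    ?_, ?_⟩
  · simpa [mul_assoc] using h.nrm.conj_mem _ e x⁻¹
  · calc x * v * x⁻¹ * (x * v * x⁻¹) = x * (v * v) * x⁻¹ := by group
      _ = 1 := by rw [p.vv]; group
  · have := (conj_mem_Cx (g := x)).2 (p.cen (conj_mem_of_mem_normalizer' (h.dp.nrm hx) hy))
    simpa [mul_assoc] using this
  · calc x * ρ * x⁻¹ * w * (x * ρ * x⁻¹)⁻¹
        = x * ρ * x⁻¹ * (x * w * x⁻¹) * (x * ρ * x⁻¹)⁻¹ := by rw [xw]
      _ = x * (ρ * w * ρ⁻¹) * x⁻¹ := by group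
      _ = _ := by rw [cy.ew]
  · calc x * ρ * x⁻¹ * (x * a * x⁻¹) * (x * ρ * x⁻¹)⁻¹ = x * (ρ * a * ρ⁻¹) * x⁻¹ := by group
      _ = x * a * x⁻¹ * (x * w * x⁻¹) := by rw [cy.ea]; group
      _ = _ := by rw [xw]

theorem PH.cp (p : PH K P a w v) (h : DL K P m a b w) (hx : x ∈ P) (c : Cp a b x) :
    x * v * x⁻¹ = v := by
  obtain ⟨k, hk, e⟩ := h.dp.exists_comm hx c
  have p' := p.conj h (mul_mem hx hk.1)
  rw [mem_Cx'.1 (mem_Cx.2 e)] at p'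
  calc x * v * x⁻¹ = x * (k * v * k⁻¹) * x⁻¹ := by rw [mem_Cx'.1 (p.cen hk)]
    _ = x * k * v * (x * k)⁻¹ := by group
    _ = v := p.uniq h p'

theorem PH.sp (p : PH K P a w v) (h : DL K P m a b w) (hx : x ∈ P) (c : Sp a b x) :
    x * v * x⁻¹ = v * w := by
  obtain ⟨k, hk, e⟩ := h.dp.exists_swap hx c
  have p' := p.conj h (mul_mem hx hk.1)
  rw [e] at p'
  calc x * v * x⁻¹ = x * (k * v * k⁻¹) * x⁻¹ := by rw [mem_Cx'.1 (p.cen hk)]
    _ = x * k * v * (x * k)⁻¹ := by group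
    _ = v * w := (p.symm h).uniq h.symm p'

end CfsgLib.GHE
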