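import Mathlib
import Cfsg.Agent.Lib.GHE.Defs
import Cfsg.Agent.Lib.GHE.Defs3
import Cfsg.Agent.Lib.GHE.LocD1
import Cfsg.Agent.Lib.GHE.LocD3
import Cfsg.Agent.Lib.GW.Cor1
import Cfsg.Agent.Lib.GW.Main

/-! Package LOCD4: outer automorphisms of diagonal type.  See `plans/GHE.md`. -/

set_option autoImplicit false

namespace CfsgLib.GHE

open Subgroup Cfsg CfsgLib.W2 CfsgLib.Tech CfsgLib.Sect CfsgLib.PComp CfsgLib.DihSyl
  CfsgLib.GW.Cor
open CfsgLib.LBal hiding cj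
open scoped MatrixGroups commutatorElement

universe u

variable {G : Type u} [Group G] [Finite G]

variable {N : Type u} [Group N] [Finite N] {K P : Subgroup N} {m : ℕ} {a b w v d x : N}

theorem DP.not_cp {H : Subgroup N} (h : DP H P m a b w) (s : Sp a b d) : ¬ Cp a b d :=
  fun c => h.not_both ⟨c, s⟩

theorem DP.cp_sp_sp {H : Subgroup N} (h : DP H P m a b w) (hx : x ∈ P) (hd : d ∈ P) (s' : Sp a b x)
    (s : Sp a b d) : Cp a b (x * d) :=
  (h.cp_mul hx hd).2 (iff_of_false (h.not_cp s') (h.not_cp s))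

theorem DP.cp_pow {H : Subgroup N} (h : DP H P m a b w) (hx : x ∈ P) (c : Cp a b x) :
    ∀ n : ℕ, Cp a b (x ^ n)
  | 0 => h.cp_of_comm (by simp)
  | n + 1 => by
    rw [pow_succ]
    exact (h.cp_mul (pow_mem hx n) hx).2 (iff_of_true (h.cp_pow hx c n) c)

/-- some power of an outer class-preserving element is `k v` with `v` of field type -/
theorem DL.exists_kv (h : DL K P m a b w) (hx : x ∈ P) (c : Cp a b x) (out : x ∉ K) :
    ∃ (n : ℕ) (k v : N), PH K P a w v ∧ k ∈ P ⊓ K ∧ x ^ n = k * v := by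
  classical
  obtain ⟨j, e⟩ := h.syl.pgroup ⟨x, hx⟩
  have ex : ∃ j : ℕ, x ^ 2 ^ j ∈ K := ⟨j, (show x ^ 2 ^ j = 1 from congrArg Subtype.val e) ▸ one_mem _⟩
  have h1 := Nat.find_spec ex
  obtain e0 | ⟨i, ei⟩ := (Nat.find ex).eq_zero_or_eq_succ_pred.imp_right fun k => (⟨_, k⟩ : ∃ i, Nat.find ex = i + 1)
  · rw [e0, pow_zero, pow_one] at h1
    exact (out h1).elim
  have h2 := Nat.find_min ex (m := i) (by omega)
  rw [ei, pow_succ, pow_mul, sq] at h1
  rcases h.inv_cases (pow_mem hx _) h2 h1 with s | ⟨v, p, k⟩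
  · exact (h.dp.not_cp s (h.dp.cp_pow hx c _)).elim
  · exact ⟨_, _, v, p, mem_inf.2 ⟨mul_mem (pow_mem hx _) p.mem, k⟩, by rw [mul_assoc, p.vv, mul_one]⟩

omit [Finite N] in
theorem PH.comm (p : PH K P a w v) (hx : x ∈ P ⊓ K) : x * v = v * x := mem_Cx.1 (p.cen hx)

omit [Finite N] in
/-- an element of `H` that centralises `a b` is a rotation -/
theorem DP.mem_zp {H : Subgroup N} (h : DP H P m a b w) (hm : 4 ≤ m) (hx : x ∈ H)
    (c : x * (a * b) = a * b * x) : x ∈ zpowers (a * b) := by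
  obtain ⟨i, e | rfl⟩ := (h.dih.mem x).1 hx
  · exact ⟨i, e.symm⟩
  · refine (h.r_mem hm ?_).elim
    rw [← mul_assoc (a * b), ← zpow_one_add, add_comm, zpow_add_one, mul_assoc, mul_assoc _ (a * b), mul_right_inj] at c
    exact c.symm

theorem DL.d_conj (h : DL K P m a b w) (hd : d ∈ P) (s : Sp a b d) (dd : d * d = 1) (hx : x ∈ P)
    (s' : Sp a b x) (xx : x * x = 1) : ∃ k ∈ P ⊓ K, k * d * k⁻¹ = x := by
  have D := h.dp
  have di : d⁻¹ = d := inv_eq_of_mul_eq_one_right dd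
  have xi : x⁻¹ = x := inv_eq_of_mul_eq_one_right xx
  refine D.sp_conj hd s dd (mem_inf.2 ⟨mul_mem hx hd, by_contra fun out => ?_⟩) xx
  rcases h.inv_cases (mul_mem hx hd) out (by
    simpa only [commutatorElement_def, di, xi, mul_assoc] using h.comm x d) with c | ⟨v, p, k⟩
  · exact D.not_cp c (D.cp_sp_sp hx hd s' s)
  have hk : x * d * v ∈ P ⊓ K := mem_inf.2 ⟨mul_mem (mul_mem hx hd) p.mem, k⟩
  have e1 := D.sp_inv hd s (by simp [dd])
  have e2 := D.sp_inv hx s' (by simp [xx])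
  have e3 := p.comm D.dih.r_mem
  have e6 : x * d * (a * b) * (x * d)⁻¹ = a * b := by
    rw [show x * d * (a * b) * (x * d)⁻¹ = (x * (d * (a * b) * d⁻¹)⁻¹ * x⁻¹)⁻¹ by group, e1, inv_inv, e2, inv_inv]
  obtain ⟨j, e⟩ := D.mem_zp (p.four h) hk (by
    rw [mul_assoc _ v, ← e3, ← mul_assoc, mul_inv_eq_iff_eq_mul.1 e6, mul_assoc])
  obtain ⟨i, -, e4, -⟩ := D.sp_act hd s (by simp [dd])
  have e5 : x = (a * b) ^ j * v * d := by
    rw [show (a * b) ^ j = _ from e, mul_assoc (x * d), p.vv, mul_one, mul_assoc, dd, mul_one]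
  refine D.ww.2 ?_
  calc w = (a * b) ^ j * ((a * b) ^ (-j) * v) * (v * w) := by
        rw [zpow_neg, mul_inv_cancel_left, ← mul_assoc, p.vv, one_mul]
    _ = (a * b) ^ j * v * d * ((a * b) ^ j * v * (d * d) * d⁻¹) := by
        rw [p.comm (D.dih.rpow_mem _), ← e4, ← p.sp h hd s, dd]; group
    _ = 1 := by rw [← xx, e5]; group

/-- `C_P(d) = ⟨d⟩ × ⟨q⟩` and `P = (P ∩ K) C_P(d)` -/
theorem DL.d_cent (h : DL K P m a b w) (hd : d ∈ P) (s : Sp a b d) (dd : d * d = 1) :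
    ∃ q ∈ P, Cp a b q ∧ q * d = d * q ∧ w ∈ zpowers q ∧ zpowers q ⊓ K = zpowers w ∧
      (∀ x ∈ P, x * d = d * x → x ∈ zpowers q ∨ x * d ∈ zpowers q) ∧
      ∀ x ∈ P, ∃ k ∈ P ⊓ K, x * k * d = d * (x * k) := by
  have D := h.dp
  have di : d⁻¹ = d := inv_eq_of_mul_eq_one_right dd
  have ce : ∀ {y}, y ∈ P ⊓ K → y * d = d * y → y = 1 ∨ y = w := D.sp_cent hd s (by simp [dd])
  have wd := (D.w_comm hd).symm
  have hw := D.basic.2.2.1
  have last : ∀ x ∈ P, ∃ k ∈ P ⊓ K, x * k * d = d * (x * k) := fun x hx => by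
    obtain ⟨k, hk, e⟩ := D.sp_conj (x := x⁻¹ * d * x) hd s dd (mem_inf.2 ⟨mul_mem (mul_mem (mul_mem (inv_mem hx) hd) hx) hd,
      by simpa only [commutatorElement_def, di, inv_inv] using h.comm x⁻¹ d⟩) (by
        rw [show x⁻¹ * d * x * (x⁻¹ * d * x) = x⁻¹ * (d * d) * x by group, dd]; simp)
    exact ⟨k, hk, by rw [mul_assoc, mul_inv_eq_iff_eq_mul.1 e]; group⟩
  obtain ⟨q, hq, c, qd, wq, gen⟩ : ∃ q ∈ P, Cp a b q ∧ q * d = d * q ∧ w ∈ zpowers q ∧
      ∀ x ∈ P, Cp a b x → ∃ i : ℕ, x * (q ^ i)⁻¹ ∈ K := by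
    obtain ⟨q, hq, c, gen⟩ := h.cyc
    obtain ⟨k, hk, e⟩ := last q hq
    have hp := mul_mem hq hk.1
    have c1 := (D.cp_mul hq hk.1).2 (iff_of_true c (D.cp_of_mem hk))
    have := h.nrm
    have g1 : ∀ x ∈ P, Cp a b x → ∃ i : ℕ, x * ((q * k) ^ i)⁻¹ ∈ K := fun x hx cx => by
      obtain ⟨i, hi⟩ := gen x hx cx
      refine ⟨i, ?_⟩
      rw [← QuotientGroup.eq_one_iff] at hi ⊢
      simpa [(QuotientGroup.eq_one_iff k).2 hk.2] using hi
    by_cases out : q * k ∈ K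
    · refine ⟨w, hw.1, D.cp_of_mem hw, wd, mem_zpowers w, fun x hx cx => ⟨0, ?_⟩⟩
      obtain ⟨i, hi⟩ := g1 x hx cx
      simpa using (mul_mem_cancel_right (inv_mem (pow_mem out i))).1 hi
    refine ⟨_, hp, c1, e, ?_, g1⟩
    obtain ⟨n, l, v, p, hl, en⟩ := h.exists_kv hp c1 out
    have cn : l * v * d = d * (l * v) := en ▸ (Commute.pow_left e n).eq
    have ll : (q * k) ^ n * (q * k) ^ n = l * l := by
      rw [en, mul_assoc, ← mul_assoc v, ← p.comm hl, mul_assoc l, p.vv, mul_one]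
    rcases ce (mul_mem hl hl) (ll ▸ ((Commute.pow_left e n).mul_left (Commute.pow_left e n)).eq) with e1 | e1
    swap
    · rw [← e1, ← ll]
      exact mul_mem (npow_mem_zpowers _ _) (npow_mem_zpowers _ _)
    have e2 : d * l * d⁻¹ * w = l := by
      have := p.sp h hd s
      rw [← mul_left_inj v, mul_assoc _ w, p.comm hw, ← this, ← mul_inv_cancel_right (l * v) d, cn]
      group
    obtain ⟨i, hi, e3, e4⟩ := D.sp_act hd s (by simp [dd])
    obtain ⟨j, rfl | rfl⟩ := (D.dih.mem l).1 hl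
    · rw [e3, zpow_neg, inv_eq_of_mul_eq_one_right e1, mul_eq_left] at e2
      exact (D.ww.2 e2).elim
    · rw [e4, mul_assoc, D.w_comm (D.le D.dih.s_mem), ← mul_assoc, mul_left_inj, D.w_eq, ← zpow_add] at e2
      refine (D.ne_of_odd (i := i + (m / 2 : ℕ)) (j := j) (hi.add_even ?_) (by rw [← e2]; congr 1; ring)).elim
      obtain ⟨t, rfl⟩ := D.pow
      have := p.four h
      rcases t with _ | t
      · omega
      · exact ⟨2 ^ t, by rw [pow_succ, Nat.mul_div_cancel _ two_pos]; push_cast; ring⟩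
  have key : ∀ x ∈ P, Cp a b x → x * d = d * x → x ∈ zpowers q := fun x hx cx e => by
    obtain ⟨i, hi⟩ := gen x hx cx
    refine (mul_mem_cancel_right (inv_mem (npow_mem_zpowers q i))).1 ?_
    rcases ce (mem_inf.2 ⟨mul_mem hx (inv_mem (pow_mem hq i)), hi⟩)
      (Commute.mul_left e (Commute.pow_left qd i).inv_left).eq with k | k <;> rw [k]
    exacts [one_mem _, wq]
  refine ⟨q, hq, c, qd, wq, le_antisymm (fun y hy => ?_) (zpowers_le.2 ⟨wq, hw.2⟩), fun x hx e => ?_, last⟩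
  · obtain ⟨i, rfl⟩ := mem_zpowers_iff.1 hy.1
    rcases ce (mem_inf.2 ⟨zpow_mem hq i, hy.2⟩) (Commute.zpow_left qd i).eq with k | k <;> rw [k]
    exacts [one_mem _, mem_zpowers w]
  · exact (D.cp_or_sp hx).imp (fun k => key x hx k e) fun k =>
      key _ (mul_mem hx hd) (D.cp_sp_sp hx hd k s) (by rw [← mul_assoc, e])

theorem DL.d_torus (h : DL K P m a b w) (hd : d ∈ P) (s : Sp a b d) (dd : d * d = 1) (hx : x ∈ P)
    (c : x * (a * d) = a * d * x) : x ∈ zpowers (a * d) := by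
  have D := h.dp
  have E := D.sp_dih hd s dd
  have ha := D.dih.s_mem
  have hs := mul_mem ha.1 hd
  have ss : Sp a b (a * d) := (D.sp_iff_not hs).2 fun k => D.not_cp s (((D.cp_mul ha.1 hd).1 k).1 (D.cp_of_mem ha))
  have key : ∀ x ∈ P, Cp a b x → x * (a * d) = a * d * x → x ∈ zpowers (a * d) := fun x hx cx c => by
    by_cases out : x ∈ K
    · obtain ⟨i, e | rfl⟩ := (E.mem x).1 (mem_sup_left (mem_inf.2 ⟨hx, out⟩))
      · exact ⟨i, e.symm⟩
      have := E.rpow_conj_rpows 1 i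
      rw [zpow_one, ← c, mul_inv_cancel_right, mul_left_inj, E.eq_iff, show i - (i + 2 * 1) = -2 by ring, Int.dvd_neg] at this
      have := Int.le_of_dvd two_pos this
      have := h.two
      omega
    obtain ⟨n, l, v, p, hl, en⟩ := h.exists_kv hx cx out
    have cn : l * v * (a * d) = a * d * (l * v) := en ▸ (Commute.pow_left c n).eq
    have e2 : a * d * l * (a * d)⁻¹ * w = l := by
      have := p.sp h hs ss
      rw [← mul_left_inj v, mul_assoc _ w, p.comm D.basic.2.2.1, ← this, ← mul_inv_cancel_right (l * v) (a * d), cn]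
      group
    obtain ⟨i, rfl | rfl⟩ := (E.mem l).1 (mem_sup_left hl)
    · rw [((Commute.refl _).zpow_right i).eq, mul_inv_cancel_right, mul_eq_left] at e2
      exact (D.ww.2 e2).elim
    have := E.rpow_conj_rpows 1 i
    rw [zpow_one] at this
    rw [this, zpow_add, mul_assoc, mul_assoc, mul_right_inj, D.w_comm ha.1, ← mul_assoc, mul_eq_right,
      mul_eq_one_iff_eq_inv] at e2
    have e3 : (a * d) ^ (2 * 1 + 2 * 1 : ℤ) = 1 := by rw [zpow_add, e2, ← mul_inv_rev, D.ww.1, inv_one]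
    have := Int.le_of_dvd (by norm_num) (E.eq_one_iff.1 e3)
    have := p.four h
    omega
  rcases D.cp_or_sp hx with k | k
  · exact key x hx k c
  · exact (mul_mem_cancel_right (mem_zpowers _)).1
      (key _ (mul_mem hx hs) (D.cp_sp_sp hx hs k ss) (by rw [← mul_assoc (a * d), c]))

theorem DL.d_center (h : DL K P m a b w) (hd : d ∈ P) (s : Sp a b d) (hx : x ∈ P)
    (c : ∀ y ∈ P, x * y = y * x) : x = 1 ∨ x = w := by
  have D := h.dp
  have e := c d hd
  have wd := D.w_comm hd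
  rcases h.cent_le hx (fun y hy => mem_Cx.2 (c y hy.1).symm) with k | p | p
  · rcases (D.v4.2 x).1 (D.cent_a (mem_inf.2 ⟨hx, k⟩) (c a D.dih.s_mem.1)) with k | rfl | k | rfl
    · exact .inl k
    · exact (D.not_cp s (D.cp_of_comm e.symm)).elim
    · exact .inr k
    · rw [mul_assoc, ← wd, ← mul_assoc, ← mul_assoc, mul_left_inj] at e
      exact (D.not_cp s (D.cp_of_comm e.symm)).elim
  · have := p.sp h hd s
    rw [← e, mul_inv_cancel_right, left_eq_mul] at this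
    exact (D.ww.2 this).elim
  · have := p.sp h hd s
    rw [← mul_assoc, ← e, mul_assoc x, wd, ← mul_assoc, mul_inv_cancel_right, left_eq_mul] at this
    exact (D.ww.2 this).elim

theorem DL.d_not_v4 (h : DL K P m a b w) (hd : d ∈ P) (s : Sp a b d) (dd : d * d = 1)
    {V : Subgroup N} (hV : V4 V) : ¬ V ≤ K ⊓ Cx d := fun le => by
  have := Fact.mk Nat.prime_two
  have D := h.dp
  have pV : IsPGroup 2 V := .of_card (n := 2) hV.2
  have pd : IsPGroup 2 (zpowers d) := h.syl.pgroup.to_le (zpowers_le.2 hd)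
  obtain ⟨g, -, e⟩ := h.syl.exists_cj_le (pV.to_sup_of_normal_left' pd (zpowers_le.2
    (mem_normalizer_fintype fun y hy => by rwa [← mem_Cx.1 (le hy).2, mul_inv_cancel_right]))) le_top
  have k1 : g * d * g⁻¹ ∈ P := cj_le_iff.1 e d (mem_sup_right (mem_zpowers d))
  have k2 : g * d * g⁻¹ * (g * d * g⁻¹) = 1 := by rw [conj_mul, dd]; simp
  have k3 : Sp a b (g * d * g⁻¹) := (D.sp_iff_not k1).2 fun c => D.not_cp s (((D.cp_mul k1 hd).1 (D.cp_of_mem
    (mem_inf.2 ⟨mul_mem k1 hd, by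
      simpa only [commutatorElement_def, inv_eq_of_mul_eq_one_right dd] using h.comm g d⟩))).1 c)
  have k4 : cj g V ≤ zpowers w := cj_le_iff.2 fun y hy => by
    rcases D.sp_cent k1 k3 (by simp [k2]) (mem_inf.2 ⟨cj_le_iff.1 e y (mem_sup_left hy), h.nrm.conj_mem y (le hy).1 g⟩)
      (by rw [conj_mul, conj_mul, mem_Cx.1 (le hy).2]) with k | k <;> rw [k]
    exacts [one_mem _, mem_zpowers w]
  have := card_le_of_le k4
  rw [card_cj, hV.2, Nat.card_zpowers, D.basic.2.2.2.2.2.1] at this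
  omega

/-- a solvable group without core whose Sylow 2-subgroups are dihedral of order at least 16 is a 2-group -/
theorem eq_one_of_dih {Q : Type u} [Group Q] [Finite Q] [Group.IsSolvable Q] (hO : pPrimeCore 2 Q = ⊥)
    {S : Subgroup Q} (hS : IsSylowIn 2 S ⊤) {r s ρ : Q} (d : IsDih S m r s) (hm : 8 ≤ m)
    (o : Odd (orderOf ρ)) : ρ = 1 := by
  have := Fact.mk Nat.prime_two
  have := Core.pCore_characteristic 2 Q
  have hR := Core.isPGroup_pCore 2 Q
  have c := Core.centralizer_pCore_le_of_isSolvable Nat.prime_two hO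
  have n : ∀ g, g ∈ normalizer (pCore 2 Q : Set Q) := fun g => by rw [normalizer_eq_top]; trivial
  have le := hS.le_of_le_normalizer hR le_top fun g _ => n g
  have k := c ((GW.gd_of_le_isDih d le).mem_centralizer hR o (n ρ) fun hK => ?_)
  · obtain ⟨j, e⟩ := hR ⟨ρ, k⟩
    exact eq_one_of_odd_of_two_pow o (pow_orderOf_eq_one ρ) (congrArg Subtype.val e)
  obtain ⟨z, hz, zz, z1, i, e⟩ := d.exists_of_isKleinFour le hK
  have k1 := c (sq_mem_centralizer_of_fix hK ((e z).2 (.inr (.inl rfl))) z1 (n r)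
    (by rw [d.commute_of_sq hz zz d.r_mem, mul_inv_cancel_right]))
  have k2 : r ^ 2 * r ^ 2 = 1 := congrArg Subtype.val (IsKleinFour.mul_self (⟨_, k1⟩ : pCore 2 Q))
  have := Nat.le_of_dvd (by norm_num) (d.ord ▸ orderOf_dvd_of_pow_eq_one ((pow_add r 2 2).trans k2))
  omega

theorem dih_comp {Y : Type u} [Group Y] [Finite Y] {S : Subgroup Y} (hS : IsSylowIn 2 S ⊤) {r a w ρ t : Y}
    (d : IsDih S m r a) (hm : 8 ≤ m) (ew : t * a * t⁻¹ = a * w) (hw : w ∈ S) (aw : a ≠ w) (c : Cy ρ w a) :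
    ∃ J : Subgroup Y, IsPComponent 2 J ∧ a ∈ J ∧ w ∈ J := by
  have := Fact.mk Nat.prime_two
  have hO := Core.pPrimeCore_quotient_pPrimeCore 2 Y
  have inj : ∀ x ∈ S, piO 2 Y x = 1 → x = 1 := fun x hx e => eq_one_of_odd (GW.Lf.odd_ker_piO Y) hS.pgroup e hx
  have hS' := syl_map' hS (piO 2 Y)
  rw [← MonoidHom.range_eq_map, MonoidHom.range_eq_top.2 piO_surjective] at hS'
  have d' := GW.isDih_map_of_injOn d _ inj
  obtain ⟨L, hL⟩ := exists_socle (GW.ih_all ft) ⟨hS'.toSylowTop, m, _, _, by omega, d'⟩ hO fun _ => aw (by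
    have k := eq_one_of_dih hO hS' d' hm (c.odd.of_dvd_nat (orderOf_map_dvd (piO 2 Y) ρ))
    refine mul_inv_eq_one.1 (inj _ (mul_mem d.s_mem (inv_mem hw)) ?_)
    rw [← c.ew]
    simp only [map_mul, map_inv, k, one_mul, inv_one, mul_one, mul_inv_cancel])
  have := hL.simple
  have := hL.normal
  have k1 : piO 2 Y w ∈ L := by
    rw [show w = ⁅a⁻¹, t⁆ by rw [commutatorElement_def, inv_inv, mul_assoc, mul_assoc, ← mul_assoc t, ew, inv_mul_cancel_left],
      map_commutatorElement]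
    exact hL.commutator_le (commutator_mem_commutator (mem_top _) (mem_top _))
  have k : ∀ x ∈ S, piO 2 Y x ∈ L → x ∈ pElementClosure 2 (L.comap (piO 2 Y)) := fun x hx e =>
    subset_closure ⟨e, by simpa using (IsPGroup.iff_orderOf.1 hS.pgroup) ⟨x, hx⟩⟩
  refine ⟨_, pc_pec_comap ⟨hL.normal.isSubnormal, Comp.qs_of_isSimpleGroup hL.ncomm⟩, k a d.s_mem ?_, k w hw k1⟩
  rw [← c.ew, map_mul, map_mul, map_inv]
  exact hL.normal.conj_mem _ k1 _

theorem PH.comp (p : PH K P a w v) (h : DL K P m a b w) (hm : 8 ≤ m) :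
    ∃ J : Subgroup N, PC 2 J (Cx v) ∧ J ≤ K ∧ a ∈ J ∧ w ∈ J := by
  have := Fact.mk Nat.prime_two
  have := h.nrm
  have D := h.dp
  obtain ⟨ρ, hρ, c⟩ := p.rho
  have le : P ⊓ K ≤ K ⊓ Cx v := le_inf inf_le_right p.cen
  have s1 := h.syl.inf_of_le_normalizer (N := K) (by rw [normalizer_eq_top])
  rw [top_inf_eq] at s1
  have ha := le D.dih.s_mem
  have hw := D.basic.2.2.1
  obtain ⟨J, pc, k1, k2⟩ := dih_comp (.of_sylow_top (s1.of_le le inf_le_left).toSylow) (r := ⟨_, le D.dih.r_mem⟩)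
    (a := ⟨a, ha⟩) (w := ⟨w, le hw⟩) (ρ := ⟨ρ, hρ⟩) (t := ⟨_, le (pow_mem D.dih.r_mem (m / 4))⟩)
    (GW.isDih_subgroupOf le D.dih) hm (Subtype.ext (D.conj_aw (by omega))) hw
    (fun e => D.basic.2.2.2.2.2.2.1 (congrArg Subtype.val e))
    ⟨by rw [← orderOf_coe]; exact c.odd, Subtype.ext c.ew, Subtype.ext c.ea⟩
  exact ⟨_, (pc_map_subtype.2 pc).trans (subnIn_of_le_normalizer inf_le_right
    (le_normalizer_inf (le_normalizer_of_normal _) le_normalizer)), (map_subtype_le J).trans inf_le_left,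
    ⟨_, k1, rfl⟩, ⟨_, k2, rfl⟩⟩

end CfsgLib.GHE
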