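import Mathlib
import Cfsg.Agent.Lib.GHE.Defs2
import Cfsg.Agent.Lib.Sect.Tools

/-! Block DC1: elements that normalise a dihedral 2-group of order at least 8. -/

set_option autoImplicit false
set_option linter.unusedSectionVars false

namespace CfsgLib.GHE

open Subgroup Cfsg CfsgLib.W2 CfsgLib.Tech CfsgLib.Sect CfsgLib.PComp CfsgLib.DihSyl
  CfsgLib.GW.Cor
open CfsgLib.LBal hiding cj
open scoped MatrixGroups commutatorElement

universe u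

variable {G : Type u} [Group G] [Finite G]

namespace DC1

/-- a dihedral 2-group of order `8 k` with central involution `w` -/
structure DH (H : Subgroup G) (k : ℕ) (r a w : G) : Prop where
  d : IsDih H (4 * k) r a
  k0 : 0 < k
  pg : IsPGroup 2 H
  hw : w = r ^ (2 * k : ℤ)

/-- `x` normalises `H` -/
def Nm (H : Subgroup G) (x : G) : Prop := ∀ h ∈ H, x * h * x⁻¹ ∈ H

/-- `x` preserves the classes of involutions -/
def Pv (H : Subgroup G) (x : G) : Prop := ∀ b ∈ H, b * b = 1 → ∃ h ∈ H, x * b * x⁻¹ = h * b * h⁻¹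

variable {H : Subgroup G} {k : ℕ} {r a w x y h c : G}

omit [Finite G] in
theorem Nm.mul (hx : Nm H x) (hy : Nm H y) : Nm H (x * y) := fun h hh => by
  simpa only [mul_assoc, mul_inv_rev] using hx _ (hy h hh)

omit [Finite G] in
theorem pv_of_mem (hx : x ∈ H) : Pv H x := fun _ _ _ => ⟨x, hx, rfl⟩

omit [Finite G] in
theorem pv_of_cent (hx : ∀ h ∈ H, x * h = h * x) : Pv H x := fun b hb _ =>
  ⟨1, one_mem _, by rw [hx b hb]; group⟩

omit [Finite G] in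
theorem Pv.swap {H' : Subgroup G} (hy : Pv H y) (h1 : ∀ h ∈ H, x * h * x⁻¹ ∈ H')
    (h2 : ∀ h ∈ H', x⁻¹ * h * x ∈ H) : Pv H' (x * y * x⁻¹) := fun b hb bb => by
  obtain ⟨h, hh, e⟩ := hy _ (h2 b hb) (by
    rw [show x⁻¹ * b * x * (x⁻¹ * b * x) = x⁻¹ * (b * b) * x by group, bb]; group)
  exact ⟨_, h1 h hh, by
    rw [show x * y * x⁻¹ * b * (x * y * x⁻¹)⁻¹ = x * (y * (x⁻¹ * b * x) * y⁻¹) * x⁻¹ by group, e]; group⟩

omit [Finite G] in
theorem cz (x y : G) (i : ℤ) : x * y ^ i * x⁻¹ = (x * y * x⁻¹) ^ i := conj_zpow.symm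

namespace DH

variable (D : DH H k r a w)
include D

theorem dvd {i j : ℤ} : r ^ i = r ^ j ↔ (4 * k : ℤ) ∣ i - j := by simpa using D.d.eq_iff (i := i) (j := j)

theorem dvd' {i j : ℤ} (e : r ^ i * a = r ^ j * a) : (4 * k : ℤ) ∣ i - j := D.dvd.1 (mul_right_cancel e)

theorem ww : w * w = 1 := by
  rw [D.hw, ← zpow_add, ← zpow_zero r, D.dvd]; exact ⟨1, by ring⟩

theorem w1 : w ≠ 1 := by
  rw [D.hw, ← zpow_zero r, Ne, D.dvd]
  have := D.k0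
  exact fun e => by have := Int.le_of_dvd (by omega) e; omega

theorem w_zp : w ∈ zpowers r := ⟨_, D.hw.symm⟩

theorem wH : w ∈ H := D.d.zpowers_le D.w_zp

theorem wc (hh : h ∈ H) : h * w = w * h := D.d.commute_of_sq D.w_zp D.ww hh

theorem rr : r * r ≠ 1 := by
  rw [← zpow_two, ← zpow_zero r, Ne, D.dvd]
  have := D.k0
  exact fun e => by have := Int.le_of_dvd (by omega) e; omega

theorem cases (hh : h ∈ H) : h ∈ zpowers r ∨ ∃ i : ℤ, h = r ^ i * a := by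
  obtain ⟨i, e | e⟩ := (D.d.mem h).1 hh
  exacts [.inl ⟨i, e.symm⟩, .inr ⟨i, e⟩]

theorem nc (hh : h ∈ H) (h1 : h ∉ zpowers r) : ∃ i : ℤ, h = r ^ i * a := (D.cases hh).resolve_left h1

theorem nc_sq (hh : h ∈ H) (h1 : h ∉ zpowers r) : h * h = 1 := by
  obtain ⟨i, rfl⟩ := D.nc hh h1; exact D.d.rpows_sq i

theorem sq_zp (hh : h ∈ zpowers r) (h2 : h * h = 1) : h = 1 ∨ h = w :=
  or_iff_not_imp_left.2 fun h1 => D.d.eq_of_sq hh D.w_zp h2 D.ww h1 D.w1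

theorem odd_kill (hh : h ∈ H) {n : ℤ} (hn : Odd n) (e : h ^ n = 1) : h = 1 := by
  obtain ⟨j, hj⟩ := isPGroup_iff_mem.1 D.pg h hh
  refine eq_one_of_odd_of_two_pow (Int.natAbs_odd.2 hn) ?_ hj
  rcases Int.natAbs_eq n with e' | e'
  · rw [← zpow_natCast, ← e', e]
  · rw [← zpow_natCast, ← inv_eq_one, ← zpow_neg, ← e', e]

theorem cent_r (hh : h ∈ H) (e : h * r = r * h) : h ∈ zpowers r := by
  refine (D.cases hh).resolve_right ?_
  rintro ⟨i, rfl⟩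
  have := D.d.rpows_conj_rpow i 1
  rw [zpow_one, e, mul_inv_cancel_right, zpow_neg_one] at this
  exact D.rr (by nth_rw 1 [this]; rw [inv_mul_cancel])

theorem inv_zp (hx : x * r * x⁻¹ = r⁻¹) (hh : h ∈ zpowers r) : x * h * x⁻¹ = h⁻¹ := by
  obtain ⟨i, rfl⟩ := hh
  simp only [cz, hx, inv_zpow]

theorem inv_cent (hx : x * r * x⁻¹ = r⁻¹) (hh : h ∈ zpowers r) (e : x * h * x⁻¹ = h) : h = 1 ∨ h = w :=
  D.sq_zp hh (by nth_rw 1 [← e]; rw [D.inv_zp hx hh, inv_mul_cancel])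

theorem cent (hh : h ∈ H) (e : ∀ c ∈ H, h * c = c * h) : h = 1 ∨ h = w :=
  D.inv_cent D.d.conj (D.cent_r hh (e r D.d.r_mem)) (by rw [← e a D.d.s_mem, mul_inv_cancel_right])

theorem act (hx : Nm H x) : ∃ j l : ℤ, Odd l ∧ x * r * x⁻¹ = r ^ l ∧ x * a * x⁻¹ = r ^ j * a := by
  obtain ⟨l, hl⟩ := D.d.mem_zpowers_of_sq_ne_one (hx r D.d.r_mem) (by
    rw [conj_mul, Ne, conj_eq_one_iff]; exact D.rr)
  have hl : r ^ l = x * r * x⁻¹ := hl
  obtain ⟨i, hi⟩ | ⟨j, hj⟩ := D.cases (hx a D.d.s_mem)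
  · have hi : r ^ i = x * a * x⁻¹ := hi
    have e : x * (a * r) * x⁻¹ = x * (r * a) * x⁻¹ := by
      rw [← conj_mul, ← conj_mul, ← hi, ← hl, ← zpow_add, ← zpow_add, add_comm]
    exact (D.d.notMem (D.cent_r D.d.s_mem (by simpa using e))).elim
  refine ⟨j, l, Int.not_even_iff_odd.1 ?_, hl.symm, hj⟩
  rintro ⟨n, rfl⟩
  refine D.w1 (conj_eq_one_iff.1 (show x * w * x⁻¹ = 1 from ?_))
  rw [D.hw, cz, ← hl, ← zpow_mul, ← zpow_zero r, D.dvd]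
  exact ⟨n, by ring⟩

theorem act_zp (hx : Nm H x) (hh : h ∈ zpowers r) : x * h * x⁻¹ ∈ zpowers r := by
  obtain ⟨j, l, -, e, -⟩ := D.act hx
  obtain ⟨i, rfl⟩ := hh
  exact ⟨l * i, by simp only [cz, e, zpow_mul]⟩

theorem act_w (hx : Nm H x) : x * w * x⁻¹ = w :=
  (D.sq_zp (D.act_zp hx D.w_zp) (by rw [conj_mul, D.ww]; group)).resolve_left fun e => D.w1 (conj_eq_one_iff.1 e)

theorem act_nc {j l : ℤ} (e1 : x * r * x⁻¹ = r ^ l) (e2 : x * a * x⁻¹ = r ^ j * a) (i : ℤ) :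
    x * (r ^ i * a) * x⁻¹ = r ^ (l * i + j) * a := by
  rw [← conj_mul, cz, e1, e2, zpow_add, zpow_mul, mul_assoc]

theorem conj_even {i j : ℤ} (e : Even (j - i)) : ∃ h ∈ H, r ^ j * a = h * (r ^ i * a) * h⁻¹ := by
  obtain ⟨n, hn⟩ := e
  exact ⟨_, D.d.rpow_mem n, by rw [D.d.rpow_conj_rpows, show i + 2 * n = j by omega]⟩

theorem even_of {i j : ℤ} (hh : h ∈ H) (e : r ^ j * a = h * (r ^ i * a) * h⁻¹) : Even (j - i) := by
  obtain ⟨n, hn⟩ := D.d.conj_rpows hh i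
  obtain ⟨p, hp⟩ := D.dvd' (e.trans hn)
  exact ⟨n + 2 * k * p, by linear_combination hp⟩

theorem pv_iff (hx : Nm H x) {j : ℤ} (e2 : x * a * x⁻¹ = r ^ j * a) : Pv H x ↔ Even j := by
  refine ⟨fun p => ?_, fun p b hb bb => ?_⟩
  · obtain ⟨h, hh, e⟩ := p a D.d.s_mem D.d.ss
    simpa using D.even_of (i := 0) hh (by simpa using e2.symm.trans e)
  obtain ⟨_, l, hl, e1, -⟩ := D.act hx
  obtain hb | ⟨i, rfl⟩ := D.cases hb
  · obtain rfl | rfl := D.sq_zp hb bb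
    · exact ⟨1, one_mem _, by group⟩
    · exact ⟨1, one_mem _, by rw [D.act_w hx]; group⟩
  · rw [D.act_nc e1 e2]
    obtain ⟨n, rfl⟩ := hl
    obtain ⟨p, rfl⟩ := p
    exact D.conj_even ⟨n * i + p, by ring⟩

theorem pv_mul (hx : Nm H x) (hy : Nm H y) : Pv H (x * y) ↔ (Pv H x ↔ Pv H y) := by
  obtain ⟨j, l, hl, e1, e2⟩ := D.act hx
  obtain ⟨j', -, -, -, e2'⟩ := D.act hy
  rw [D.pv_iff hx e2, D.pv_iff hy e2', D.pv_iff (hx.mul hy) (j := l * j' + j) (by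
    rw [← D.act_nc e1 e2, ← e2']; group)]
  simp [Int.even_add, Int.even_mul, Int.not_even_iff_odd.2 hl, iff_comm]

theorem pv_of_fix (hx : Nm H x) (hh : h ∈ H) (h1 : h ∉ zpowers r) (e : x * h * x⁻¹ = h) : Pv H x := by
  obtain ⟨j, l, ⟨n, rfl⟩, e1, e2⟩ := D.act hx
  obtain ⟨i, rfl⟩ := D.nc hh h1
  rw [D.act_nc e1 e2] at e
  obtain ⟨p, hp⟩ := D.dvd' e
  exact (D.pv_iff hx e2).2 ⟨2 * k * p - n * i, by linear_combination hp⟩

theorem act_not (hx : Nm H x) (hh : h ∈ H) (h1 : h ∉ zpowers r) : x * h * x⁻¹ ∉ zpowers r := by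
  obtain ⟨j, l, -, e1, e2⟩ := D.act hx
  obtain ⟨i, rfl⟩ := D.nc hh h1
  rw [D.act_nc e1 e2]
  exact D.d.rpows_notMem _

/-- the two classes are interchanged -/
theorem cls (hx : Nm H x) (p : ¬ Pv H x) (hh : h ∈ H) (h1 : h ∉ zpowers r) (hc : c ∈ H) (c1 : c ∉ zpowers r) :
    (∃ e ∈ H, c = e * h * e⁻¹) ∨ ∃ e ∈ H, c = e * (x * h * x⁻¹) * e⁻¹ := by
  obtain ⟨j, l, ⟨n, rfl⟩, e1, e2⟩ := D.act hx
  obtain ⟨i, rfl⟩ := D.nc hh h1
  obtain ⟨i', rfl⟩ := D.nc hc c1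
  obtain ⟨q, rfl⟩ := Int.not_even_iff_odd.1 (mt (D.pv_iff hx e2).2 p)
  rw [D.act_nc e1 e2]
  obtain ⟨s, hs⟩ | ⟨s, hs⟩ := Int.even_or_odd (i' - i)
  · exact .inl (D.conj_even ⟨s, hs⟩)
  · exact .inr (D.conj_even ⟨s - q - n * i, by linear_combination hs⟩)

theorem three {b : G} (hh : h ∈ H) (h1 : h ∉ zpowers r) (hc : c ∈ H) (c1 : c ∉ zpowers r) (hb : b ∈ H)
    (b1 : b ∉ zpowers r) : (∃ e ∈ H, c = e * h * e⁻¹) ∨ (∃ e ∈ H, b = e * h * e⁻¹) ∨ ∃ e ∈ H, b = e * c * e⁻¹ := by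
  obtain ⟨i, rfl⟩ := D.nc hh h1
  obtain ⟨j, rfl⟩ := D.nc hc c1
  obtain ⟨l, rfl⟩ := D.nc hb b1
  obtain hs | ⟨s, hs⟩ := Int.even_or_odd (j - i)
  · exact .inl (D.conj_even hs)
  obtain hp | ⟨p, hp⟩ := Int.even_or_odd (l - i)
  · exact .inr (.inl (D.conj_even hp))
  · exact .inr (.inr (D.conj_even ⟨p - s, by omega⟩))

theorem comm_zp (hx : Nm H x) (hh : h ∈ H) : h * (x * h * x⁻¹)⁻¹ ∈ zpowers r := by
  obtain h1 | ⟨i, rfl⟩ := D.cases hh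
  · exact mul_mem h1 (inv_mem (D.act_zp hx h1))
  · obtain ⟨j, l, -, e1, e2⟩ := D.act hx
    rw [D.act_nc e1 e2, D.d.rpows_inv, D.d.rpows_mul_rpows]
    exact ⟨_, rfl⟩

/-- an involution that does not centralise `H` is conjugate to its product with `w` -/
theorem cw (hx : Nm H x) (xx : x * x = 1) (hn : ¬ ∀ h ∈ H, x * h = h * x) : IsConj x (x * w) := by
  simp only [not_forall] at hn
  obtain ⟨h, hh, hn⟩ := hn
  have xi := inv_eq_of_mul_eq_one_right xx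
  have h1 := D.comm_zp hx hh
  set q := h * (x * h * x⁻¹)⁻¹ with hq
  have e : h * x * h⁻¹ = q * x := by rw [hq]; group
  have q1 : q ≠ 1 := fun e' => hn (by rw [e', one_mul, mul_inv_eq_iff_eq_mul] at e; exact e.symm)
  have iq : x * q = q⁻¹ * x := by rw [hq, xi]; simp only [mul_inv_rev, inv_inv, xi, mul_assoc, xx, mul_one]
  have iq' : ∀ n : ℤ, q ^ n * x = x * q ^ (-n) := fun n => by
    have : x * q * x⁻¹ = q⁻¹ := by rw [iq, mul_inv_cancel_right]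
    rw [← mul_inv_eq_iff_eq_mul.1 (show x * q ^ (-n) * x⁻¹ = q ^ n by rw [cz, this, inv_zpow', neg_neg])]
  obtain ⟨n, hn⟩ : w ∈ zpowers q := mem_zpowers_of_orderOf_dvd (isOfFinOrder_of_finite r) D.w_zp h1 (by
    rw [orderOf_two_of_mul_self D.ww D.w1]
    obtain ⟨j, hj⟩ := isPGroup_zpowers_iff.1 (isPGroup_zpowers_of_mem D.pg (D.d.zpowers_le h1))
    rw [hj]
    exact dvd_pow_self 2 fun j0 => q1 (orderOf_eq_one_iff.1 (by rw [hj, j0, pow_zero])))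
  have hn : q ^ n = w := hn
  rw [mul_inv_eq_iff_eq_mul.1 (D.act_w hx), ← hn]
  obtain ⟨i, rfl | rfl⟩ := Int.even_or_odd' n
  · exact isConj_iff.2 ⟨q ^ i, by rw [← zpow_neg, mul_assoc, ← iq', ← mul_assoc, ← zpow_add, two_mul]⟩
  · exact isConj_iff.2 ⟨q ^ i * h, by
      rw [show q ^ i * h * x * (q ^ i * h)⁻¹ = q ^ i * (h * x * h⁻¹) * (q ^ i)⁻¹ by group, e, ← zpow_neg,
        mul_assoc, mul_assoc, ← iq']; group⟩

theorem sq_act (hc : ∀ h ∈ H, c * h = h * c) (e : x * x = h * c) {b : G} (hb : b ∈ H) :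
    x * (x * b * x⁻¹) * x⁻¹ = h * b * h⁻¹ := by
  rw [show x * (x * b * x⁻¹) * x⁻¹ = x * x * b * (x * x)⁻¹ by group, e,
    show h * c * b * (h * c)⁻¹ = h * (c * b * c⁻¹) * h⁻¹ by group, hc b hb, mul_inv_cancel_right]

/-- the component of a square -/
theorem sq_mem (hx : Nm H x) (hh : h ∈ H) (hc : ∀ h ∈ H, c * h = h * c) (e : x * x = h * c) :
    h ∈ zpowers r ∧ (Pv H x → h ∈ zpowers (r ^ 2)) := by
  obtain ⟨j, l, ⟨n, rfl⟩, e1, e2⟩ := D.act hx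
  obtain ⟨i, rfl⟩ | ⟨i, rfl⟩ := D.cases hh
  · refine ⟨⟨i, rfl⟩, fun p => ?_⟩
    obtain ⟨s, rfl⟩ := (D.pv_iff hx e2).1 p
    have := D.sq_act hc e D.d.s_mem
    have e3 := D.d.rpow_conj_rpows i 0
    rw [zpow_zero, one_mul] at e3
    simp only [e2, D.act_nc e1 e2, e3] at this
    obtain ⟨p, hp⟩ := D.dvd' this
    refine ⟨2 * (n + 1) * s / 2 - k * p, ?_⟩
    have : i = 2 * ((n + 1) * s - k * p) := by nlinarith
    simp only [← zpow_natCast, ← zpow_mul, this, mul_assoc, Int.mul_ediv_cancel_left _ (two_ne_zero' ℤ)]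
    rfl
  · have := D.sq_act hc e D.d.r_mem
    have e3 := D.d.rpows_conj_rpow i 1
    rw [zpow_one] at e3
    rw [e1, cz, e1, ← zpow_mul, e3, D.dvd] at this
    obtain ⟨p, hp⟩ := this
    have : 2 * (n * n + n - k * p) = -1 := by nlinarith
    omega

theorem inv_of (hx : Nm H x) (p : ¬ Pv H x) (hc : ∀ h ∈ H, x * x * h = h * (x * x)) : x * r * x⁻¹ = r⁻¹ := by
  obtain ⟨j, l, -, e1, e2⟩ := D.act hx
  have := D.sq_act (h := 1) hc (one_mul _).symm D.d.s_mem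
  rw [e2, D.act_nc e1 e2, one_mul, inv_one, mul_one, mul_eq_right, show l * j + j = (l + 1) * j by ring,
    zpow_mul] at this
  have := D.odd_kill (D.d.rpow_mem _) (Int.not_even_iff_odd.1 (mt (D.pv_iff hx e2).2 p)) this
  rwa [zpow_add_one, mul_eq_one_iff_eq_inv, ← e1] at this

theorem pm (hx : Nm H x) (p : ¬ Pv H x) (hh : h ∈ H) (hc : ∀ h ∈ H, c * h = h * c) (e : x * x = h * c)
    (f : x * h * x⁻¹ = h) : x * r * x⁻¹ = r⁻¹ ∨ x * r * x⁻¹ = r := by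
  obtain ⟨i, rfl⟩ := (D.sq_mem hx hh hc e).1
  obtain ⟨j, l, ⟨n, rfl⟩, e1, e2⟩ := D.act hx
  have hj := Int.not_even_iff_odd.1 (mt (D.pv_iff hx e2).2 p)
  have := D.sq_act hc e D.d.s_mem
  have e3 := D.d.rpow_conj_rpows i 0
  rw [zpow_zero, one_mul] at e3
  simp only [e2, D.act_nc e1 e2, e3] at this
  obtain ⟨p, hp⟩ := D.dvd' this
  simp only [cz, e1, ← zpow_mul, D.dvd] at f
  obtain ⟨q, hq⟩ := f
  have key : (4 * k : ℤ) ∣ 2 * n * (n + 1) * j - 0 := ⟨q + n * p, by linear_combination n * hp + hq⟩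
  rw [← D.dvd, zpow_zero] at key
  obtain hn | hn := Int.even_or_odd n
  · right
    have := D.odd_kill (D.d.rpow_mem (2 * n)) (hn.add_one.mul hj) (by rw [← zpow_mul, ← mul_assoc, key])
    rw [e1, zpow_add_one, this, one_mul]
  · left
    have := D.odd_kill (D.d.rpow_mem (2 * n + 1 + 1)) (hn.mul hj) (by rw [← zpow_mul, ← key]; congr 1; ring)
    rwa [zpow_add_one, mul_eq_one_iff_eq_inv, ← e1] at this

theorem comm2 (hh : h ∈ H) (h1 : h ∉ zpowers r) (hc : c ∈ H) (c1 : c ∉ zpowers r) : h * c ∈ zpowers r := by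
  obtain ⟨i, rfl⟩ := D.nc hh h1
  obtain ⟨j, rfl⟩ := D.nc hc c1
  exact ⟨_, (D.d.rpows_mul_rpows i j).symm⟩

theorem triv (hx : Nm H x) (p : Pv H x) (hh : h ∈ H) : h * (x * h * x⁻¹) ∈ zpowers (r ^ 2) := by
  obtain ⟨j, l, ⟨n, rfl⟩, e1, e2⟩ := D.act hx
  obtain ⟨s, rfl⟩ := (D.pv_iff hx e2).1 p
  obtain ⟨i, rfl⟩ | ⟨i, rfl⟩ := D.cases hh
  · exact ⟨(n + 1) * i, by simp only [cz, e1, ← zpow_natCast, ← zpow_mul, ← zpow_add]; congr 1; push_cast; ring⟩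
  · exact ⟨-(n * i + s), by
      simp only [D.act_nc e1 e2, D.d.rpows_mul_rpows, ← zpow_natCast, ← zpow_mul]; congr 1; push_cast; ring⟩

theorem card2 : Nat.card (zpowers (r ^ 2)) = 2 * k := by
  rw [Nat.card_zpowers, orderOf_pow_of_dvd two_ne_zero (by rw [D.d.ord]; omega), D.d.ord]; omega

/-- a dihedral subgroup of order eight -/
theorem d8 : ∃ b ∈ H, b ∉ zpowers r ∧ a * b * (a * b) = w := by
  refine ⟨_, D.d.rpows_mem (-k), D.d.rpows_notMem _, ?_⟩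
  have := D.d.rpows_mul_rpows 0 (-k)
  rw [zpow_zero, one_mul] at this
  rw [this, D.hw, ← zpow_add]; congr 1; ring

theorem mul_w (h1 : h ∉ zpowers r) : h * w ∉ zpowers r := fun e => h1 ((mul_mem_cancel_right D.w_zp).1 e)

end DH

end DC1

end CfsgLib.GHE
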