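import Mathlib
import Cfsg.Agent.Lib.GHE.DC1a

/-! Block DC1: a 2-group with two commuting normal dihedral subgroups. -/

set_option autoImplicit false
set_option linter.unusedSectionVars false

namespace CfsgLib.GHE

open Subgroup Cfsg CfsgLib.W2 CfsgLib.Tech CfsgLib.Sect CfsgLib.PComp CfsgLib.DihSyl
  CfsgLib.GW.Cor
open CfsgLib.LBal hiding cj
open scoped MatrixGroups commutatorElement

universe u

variable {G : Type u} [Group G] [Finite G]

namespace DC1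

/-- `T` normalises `H` and `H'` -/
structure B0 (T H H' : Subgroup G) (k : ℕ) (r a w r' a' w' : G) : Prop where
  d : DH H k r a w
  d' : DH H' k r' a' w'
  sr : SR 16 (⊤ : Subgroup G)
  pg : IsPGroup 2 T
  le : H ≤ T
  le' : H' ≤ T
  n : ∀ x ∈ T, Nm H x
  n' : ∀ x ∈ T, Nm H' x
  inf : ∀ h ∈ H, h ∈ H' → h = 1

/-- the four-group -/
def InW (w w' x : G) : Prop := x = 1 ∨ x = w ∨ x = w' ∨ x = w * w'

variable {P T H H' : Subgroup G} {k : ℕ} {r a w r' a' w' x y h h' c c' : G}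

theorem sup_dec {A B : Subgroup G} (hn : ∀ b ∈ B, ∀ x ∈ A, b * x * b⁻¹ ∈ A) (hx : x ∈ A ⊔ B) :
    ∃ p ∈ A, ∃ q ∈ B, x = p * q := by
  rw [← SetLike.mem_coe, coe_mul_of_right_le_normalizer_left _ _ fun b hb => mem_normalizer_of_forall (hn b hb)] at hx
  obtain ⟨p, hp, q, hq, e⟩ := hx
  exact ⟨p, hp, q, hq, e.symm⟩

theorem card_sup_le' {A B : Subgroup G} (hn : ∀ b ∈ B, ∀ x ∈ A, b * x * b⁻¹ ∈ A) :
    Nat.card (A ⊔ B : Subgroup G) ≤ Nat.card A * Nat.card B := by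
  rw [← Nat.card_prod]
  refine Nat.card_le_card_of_surjective (fun p : A × B => ⟨p.1 * p.2, mul_mem_sup p.1.2 p.2.2⟩) fun x => ?_
  obtain ⟨p, hp, q, hq, e⟩ := sup_dec hn x.2
  exact ⟨(⟨p, hp⟩, ⟨q, hq⟩), Subtype.ext e.symm⟩

namespace B0

variable (B : B0 T H H' k r a w r' a' w')
include B

theorem symm : B0 T H' H k r' a' w' r a w :=
  ⟨B.d', B.d, B.sr, B.pg, B.le', B.le, B.n', B.n, fun h h1 h2 => B.inf h h2 h1⟩

theorem comm (hh : h ∈ H) (hh' : h' ∈ H') : h * h' = h' * h := by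
  have := B.inf (h * h' * h⁻¹ * h'⁻¹) (by
    simpa only [mul_assoc] using mul_mem hh (B.n h' (B.le' hh') _ (inv_mem hh)))
    (mul_mem (B.n' h (B.le hh) _ hh') (inv_mem hh'))
  rwa [mul_inv_eq_one, mul_inv_eq_iff_eq_mul] at this

theorem memJ (hx : x ∈ H ⊔ H') : ∃ h ∈ H, ∃ h' ∈ H', x = h * h' := sup_dec (fun b hb => B.n b (B.le' hb)) hx

theorem JT : H ⊔ H' ≤ T := sup_le B.le B.le'

theorem uniq (hh : h ∈ H) (hh' : h' ∈ H') (hc : c ∈ H) (hc' : c' ∈ H') (e : h * h' = c * c') : h = c ∧ h' = c' := by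
  have e1 : c⁻¹ * h = c' * h'⁻¹ := by rw [inv_mul_eq_iff_eq_mul, ← mul_assoc, ← e, mul_inv_cancel_right]
  have := B.inf _ (mul_mem (inv_mem hc) hh) (e1 ▸ mul_mem hc' (inv_mem hh'))
  exact ⟨(inv_mul_eq_one.1 this).symm, (mul_inv_eq_one.1 (e1 ▸ this)).symm⟩

theorem fix (hx : x ∈ T) (hh : h ∈ H) (hh' : h' ∈ H') (e : x * (h * h') = h * h' * x) :
    x * h * x⁻¹ = h ∧ x * h' * x⁻¹ = h' :=
  B.uniq (B.n x hx h hh) (B.n' x hx h' hh') hh hh' (by rw [conj_mul, e, mul_inv_cancel_right])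

theorem mul4 (hh' : h' ∈ H') (hc : c ∈ H) (h c' : G) : h * h' * (c * c') = h * c * (h' * c') := by
  rw [mul_assoc, ← mul_assoc h', ← B.comm hc hh']; simp only [mul_assoc]

theorem sq2 (hh : h ∈ H) (hh' : h' ∈ H') (e : h * h' * (h * h') = 1) : h * h = 1 ∧ h' * h' = 1 :=
  B.uniq (mul_mem hh hh) (mul_mem hh' hh') (one_mem _) (one_mem _) (by rw [← B.mul4 hh' hh, e, one_mul])

theorem ww' : w * w' = w' * w := B.comm B.d.wH B.d'.wH

theorem zz : w * w' * (w * w') = 1 := by rw [B.mul4 B.d'.wH B.d.wH, B.d.ww, B.d'.ww, one_mul]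

theorem zH : w * w' ∉ H := fun e => B.d'.w1 (B.inf _ ((mul_mem_cancel_left B.d.wH).1 e) B.d'.wH)

theorem z1 : w * w' ≠ 1 := fun e => B.zH (e ▸ one_mem _)

theorem inW (h1 : h = 1 ∨ h = w) (h2 : h' = 1 ∨ h' = w') : InW w w' (h * h') := by
  rcases h1 with rfl | rfl <;> rcases h2 with rfl | rfl <;> simp [InW]

theorem Tw (hx : x ∈ T) : x * w = w * x := mul_inv_eq_iff_eq_mul.1 (B.d.act_w (B.n x hx))

theorem Tz (hx : x ∈ T) : x * (w * w') = w * w' * x := by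
  rw [← mul_assoc, B.Tw hx, mul_assoc, B.symm.Tw hx, mul_assoc]

theorem pvJ (hx : x ∈ H ⊔ H') : Pv H x := by
  obtain ⟨h, hh, h', hh', rfl⟩ := B.memJ hx
  exact (B.d.pv_mul (B.n _ (B.le hh)) (B.n _ (B.le' hh'))).2
    (iff_of_true (pv_of_mem hh) (pv_of_cent fun c hc => (B.comm hc hh').symm))

theorem pvJ' (hx : x ∈ H ⊔ H') : Pv H' x := B.symm.pvJ (sup_comm H H' ▸ hx)

theorem mul (hx : x ∈ T) (hy : y ∈ T) : Pv H (x * y) ↔ (Pv H x ↔ Pv H y) := B.d.pv_mul (B.n x hx) (B.n y hy)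

theorem mul' (hx : x ∈ T) (hy : y ∈ T) : Pv H' (x * y) ↔ (Pv H' x ↔ Pv H' y) := B.symm.mul hx hy

theorem inv (hx : x ∈ T) : Pv H x⁻¹ ↔ Pv H x := by
  have := (B.mul (inv_mem hx) hx).1 (by rw [inv_mul_cancel]; exact pv_of_mem (one_mem _))
  exact this

theorem nJ (hx : x ∈ T) (hy : y ∈ H ⊔ H') : x * y * x⁻¹ ∈ H ⊔ H' := by
  obtain ⟨h, hh, h', hh', rfl⟩ := B.memJ hy
  rw [← conj_mul]
  exact mul_mem_sup (B.n x hx h hh) (B.n' x hx h' hh')

theorem rank1 (hx : x ∈ T) (p : Pv H x) (p' : Pv H' x) (xx : x * x ∈ H ⊔ H') : x ∈ H ⊔ H' := by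
  by_contra hn
  let K := zpowers (r ^ 2) ⊔ zpowers (r' ^ 2)
  have l1 : zpowers (r ^ 2) ≤ H := zpowers_le.2 (pow_mem B.d.d.r_mem 2)
  have l2 : zpowers (r' ^ 2) ≤ H' := zpowers_le.2 (pow_mem B.d'.d.r_mem 2)
  have k1 : Nat.card K ≤ 2 * k * (2 * k) := by
    refine (card_sup_le' fun b hb x hx => ?_).trans (by rw [B.d.card2, B.d'.card2])
    rwa [← B.comm (l1 hx) (l2 hb), mul_inv_cancel_right]
  have k2 := card_mul_le_of_disj (le_sup_left (b := H')) le_sup_right fun x h1 h2 => B.inf x h2 h1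
  have k3 := two_mul_card_le (le_sup_left (a := H ⊔ H') (b := zpowers x)) fun e => hn (e (mem_sup_right (mem_zpowers x)))
  have tr : ∀ y ∈ T, Pv H y → Pv H' y → ∀ j ∈ H ⊔ H', j * (y * j * y⁻¹) ∈ K := fun y hy q q' j hj => by
    obtain ⟨h, hh, h', hh', rfl⟩ := B.memJ hj
    rw [← conj_mul, B.mul4 hh' (B.n y hy h hh)]
    exact mul_mem_sup (B.d.triv (B.n y hy) q hh) (B.d'.triv (B.n' y hy) q' hh')
  have x2 : x * x ∈ K := by
    obtain ⟨h, hh, h', hh', e⟩ := B.memJ xx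
    rw [e]
    exact mul_mem_sup ((B.d.sq_mem (B.n x hx) hh (fun c hc => (B.comm hc hh').symm) e).2 p)
      ((B.d'.sq_mem (B.n' x hx) hh' (fun c hc => B.comm hh hc) (e.trans (B.comm hh hh'))).2 p')
  have q : ∀ i : ℤ, Pv H (x ^ i) ∧ Pv H' (x ^ i) := fun i => by
    induction i using Int.induction_on with
    | zero => exact ⟨pv_of_mem (by simp), pv_of_mem (by simp)⟩
    | succ n ih =>
      rw [zpow_add_one, B.mul (zpow_mem hx _) hx, B.mul' (zpow_mem hx _) hx]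
      tauto
    | pred n ih =>
      rw [zpow_sub_one, B.mul (zpow_mem hx _) (inv_mem hx), B.mul' (zpow_mem hx _) (inv_mem hx), B.inv hx,
        B.symm.inv hx]
      tauto
  have k4 := B.sr (H ⊔ H' ⊔ zpowers x) le_top K fun y hy => by
    obtain ⟨j, hj, _, ⟨i, rfl⟩, rfl⟩ := sup_dec (fun b hb y => B.nJ (zpowers_le.2 hx hb)) hy
    have := mul_mem (tr _ (zpow_mem hx i) (q i).1 (q i).2 j hj) (zpow_mem x2 i)
    rw [(Commute.refl x).mul_zpow] at this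
    simpa only [mul_assoc, inv_mul_cancel_left] using this
  have k5 := card_eq_relIndex K (H ⊔ H' ⊔ zpowers x)
  have k6 := card_le_of_le (inf_le_left (a := K) (b := H ⊔ H' ⊔ zpowers x))
  have k7 := Nat.mul_le_mul (k6.trans k1) k4
  rw [B.d.d.card, B.d'.d.card] at k2
  have := B.d.k0
  nlinarith

/-- the kernel of the action on the four classes -/
theorem rank (hx : x ∈ T) (p : Pv H x) (p' : Pv H' x) : x ∈ H ⊔ H' := by
  obtain ⟨n, hn⟩ := isPGroup_iff_mem.1 B.pg x hx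
  induction n generalizing x with
  | zero => rw [pow_zero, pow_one] at hn; exact hn ▸ one_mem _
  | succ n ih => exact B.rank1 hx p p' (ih (mul_mem hx hx) ((B.mul hx hx).2 Iff.rfl) ((B.mul' hx hx).2 Iff.rfl)
      (by rw [← pow_two, ← pow_mul, ← pow_succ', hn]))

theorem sqJ (hx : x ∈ T) : x * x ∈ H ⊔ H' :=
  B.rank (mul_mem hx hx) ((B.mul hx hx).2 Iff.rfl) ((B.mul' hx hx).2 Iff.rfl)

theorem cJ (hx : x ∈ T) (e : ∀ h ∈ H, x * h = h * x) (e' : ∀ h ∈ H', x * h = h * x) : InW w w' x := by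
  obtain ⟨h, hh, h', hh', rfl⟩ := B.memJ (B.rank hx (pv_of_cent e) (pv_of_cent e'))
  refine B.inW (B.d.cent hh fun c hc => ?_) (B.d'.cent hh' fun c hc => ?_)
  · have := e c hc
    rwa [mul_assoc, ← B.comm hc hh', ← mul_assoc, ← mul_assoc, mul_left_inj] at this
  · have := e' c hc
    rwa [← mul_assoc, ← B.comm hh hc, mul_assoc, mul_assoc, mul_right_inj] at this

theorem sqA (hx : x ∈ T) : ∃ h ∈ zpowers r, ∃ h' ∈ zpowers r', x * x = h * h' := by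
  obtain ⟨h, hh, h', hh', e⟩ := B.memJ (B.sqJ hx)
  exact ⟨h, (B.d.sq_mem (B.n x hx) hh (fun c hc => (B.comm hc hh').symm) e).1, h',
    (B.d'.sq_mem (B.n' x hx) hh' (fun c hc => B.comm hh hc) (e.trans (B.comm hh hh'))).1, e⟩

theorem sqW (hx : x ∈ T) (e : x * x * (x * x) = 1) : InW w w' (x * x) := by
  obtain ⟨h, hh, h', hh', e'⟩ := B.sqA hx
  rw [e'] at e ⊢
  have := B.sq2 (B.d.d.zpowers_le hh) (B.d'.d.zpowers_le hh') e
  exact B.inW (B.d.sq_zp hh this.1) (B.d'.sq_zp hh' this.2)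

theorem W_T (e : InW w w' x) : x ∈ H ⊔ H' := by
  rcases e with rfl | rfl | rfl | rfl
  exacts [one_mem _, mem_sup_left B.d.wH, mem_sup_right B.d'.wH, mul_mem_sup B.d.wH B.d'.wH]

theorem W_c (e : InW w w' x) (hy : y ∈ T) : x * y = y * x := by
  rcases e with rfl | rfl | rfl | rfl
  exacts [by simp, (B.Tw hy).symm, (B.symm.Tw hy).symm, (B.Tz hy).symm]

theorem W_sq (e : InW w w' x) : x * x = 1 := by
  rcases e with rfl | rfl | rfl | rfl
  exacts [by simp, B.d.ww, B.d'.ww, B.zz]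

theorem W_symm (e : InW w w' x) : InW w' w x := by
  rw [InW, ← B.ww']; rw [InW] at e; tauto

theorem inv_r (hx : x ∈ T) (p : ¬ Pv H x) (e : InW w w' (x * x)) : x * r * x⁻¹ = r⁻¹ :=
  B.d.inv_of (B.n x hx) p fun _ hh => B.W_c e (B.le hh)

/-- the centraliser in `J` of a two-sided element -/
theorem cD (hx : x ∈ T) (p : ¬ Pv H x) (p' : ¬ Pv H' x) (e : InW w w' (x * x)) (hy : y ∈ H ⊔ H')
    (c : x * y = y * x) : InW w w' y := by
  obtain ⟨h, hh, h', hh', rfl⟩ := B.memJ hy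
  obtain ⟨f, f'⟩ := B.fix hx hh hh' c
  exact B.inW (B.d.inv_cent (B.inv_r hx p e) (by_contra fun n => p (B.d.pv_of_fix (B.n x hx) hh n f)) f)
    (B.d'.inv_cent (B.symm.inv_r hx p' (B.W_symm e)) (by_contra fun n => p' (B.d'.pv_of_fix (B.n' x hx) hh' n f')) f')

theorem sq_eq (hx : x ∈ T) (p : ¬ Pv H x) (p' : ¬ Pv H' x) (e : InW w w' (x * x)) (hy : y ∈ T) (q : ¬ Pv H y)
    (q' : ¬ Pv H' y) (f : InW w w' (y * y)) : x * x = y * y := by
  have hi := inv_mem hy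
  obtain ⟨h, hh, h', hh', e1⟩ := B.memJ (B.rank (mul_mem hx hi) (by rw [B.mul hx hi, B.inv hy]; tauto)
    (by rw [B.mul' hx hi, B.symm.inv hy]; tauto))
  have i1 := B.inv_r hy q f
  have i2 := B.symm.inv_r hy q' (B.W_symm f)
  have key : ∀ s : G, x * s * x⁻¹ = s⁻¹ → y * s * y⁻¹ = s⁻¹ → h * h' * s = s * (h * h') := fun s e2 e3 => by
    have e4 : y⁻¹ * s = s⁻¹ * y⁻¹ := by
      rw [inv_mul_eq_iff_eq_mul, ← mul_assoc, ← inv_inj, mul_inv_rev, mul_inv_rev, inv_inv, inv_inv, ← e3]; group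
    have e5 : x * s⁻¹ = s * x := by rw [← mul_inv_eq_iff_eq_mul, ← conj_inv, e2, inv_inv]
    rw [← e1, mul_assoc, e4, ← mul_assoc, e5, mul_assoc]
  have c1 := key r (B.inv_r hx p e) i1
  have c2 := key r' (B.symm.inv_r hx p' (B.W_symm e)) i2
  rw [mul_assoc, ← B.comm B.d.d.r_mem hh', ← mul_assoc, ← mul_assoc, mul_left_inj] at c1
  rw [← mul_assoc, ← B.comm hh B.d'.d.r_mem, mul_assoc, mul_assoc, mul_right_inj] at c2
  have e6 : y * (h * h') * y⁻¹ = (h * h')⁻¹ := by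
    rw [← conj_mul, B.d.inv_zp i1 (B.d.cent_r hh c1), B.d'.inv_zp i2 (B.d'.cent_r hh' c2), B.comm hh hh', mul_inv_rev]
  rw [mul_inv_eq_iff_eq_mul.1 e1, show h * h' * y * (h * h' * y) = h * h' * (y * (h * h') * y⁻¹) * (y * y) by group,
    e6, mul_inv_cancel, one_mul]

theorem cw (hx : x ∈ T) (xx : x * x = 1) (p : ¬ Pv H x) : IsConj x (x * w) :=
  B.d.cw (B.n x hx) xx (mt pv_of_cent p)

/-- an involution of `T` which is conjugate neither to `x w` nor to `x w'` -/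
theorem W_of (hx : x ∈ T) (xx : x * x = 1) (e : ¬ IsConj x (x * w)) (e' : ¬ IsConj x (x * w')) : InW w w' x :=
  B.cJ hx (by_contra fun n => e (B.d.cw (B.n x hx) xx n)) (by_contra fun n => e' (B.d'.cw (B.n' x hx) xx n))

theorem w_mem {F : Subgroup G} (le : F ≤ T) (sq : ∀ x ∈ F, x * x = 1) (c : 16 ≤ Nat.card F) : w ∈ F := by
  by_contra hn
  have k1 := two_mul_card_le (le_sup_left (a := F) (b := zpowers w)) fun e => hn (e (mem_sup_right (mem_zpowers w)))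
  have k2 := B.sr.card_le (A := F ⊔ zpowers w) le_top fun y hy => by
    obtain ⟨f, hf, b, hb, rfl⟩ := sup_dec (fun b hb y hy => by
      obtain e | e := (mem_zpowers_two B.d.ww).1 hb
      · simpa [e] using hy
      · rwa [e, ← B.Tw (le hy), mul_inv_cancel_right]) hy
    obtain e | e := (mem_zpowers_two B.d.ww).1 hb
    · simpa [e] using sq f hf
    · rw [e, mul_assoc, ← mul_assoc w, ← B.Tw (le hf), mul_assoc, B.d.ww, mul_one, sq f hf]
  omega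

end B0

/-- `P` interchanges `H` and `H'` -/
structure B1 (P T H H' : Subgroup G) (k : ℕ) (r a w r' a' w' : G) : Prop extends B0 T H H' k r a w r' a' w' where
  TP : T ≤ P
  sw : ∀ x ∈ P, x ∉ T → ∀ h ∈ H, x * h * x⁻¹ ∈ H'
  sw' : ∀ x ∈ P, x ∉ T → ∀ h ∈ H', x * h * x⁻¹ ∈ H
  two : ∀ x ∈ P, ∀ y ∈ P, x ∉ T → y ∉ T → x * y ∈ T
  ex : ∃ g ∈ P, g ∉ T

namespace B1

variable (B : B1 P T H H' k r a w r' a' w')
include B

theorem symm : B1 P T H' H k r' a' w' r a w := ⟨B.toB0.symm, B.TP, B.sw', B.sw, B.two, B.ex⟩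

theorem ni (hn : x ∉ T) : x⁻¹ ∉ T := fun e => hn (inv_mem_iff.1 e)

theorem nT (hx : x ∈ P) (hy : y ∈ T) : x * y * x⁻¹ ∈ T := by
  by_cases hn : x ∈ T
  · exact mul_mem (mul_mem hn hy) (inv_mem hn)
  · exact B.two _ (mul_mem hx (B.TP hy)) _ (inv_mem hx) (fun e => hn ((mul_mem_cancel_right hy).1 e)) (B.ni hn)

theorem swi (hx : x ∈ P) (hn : x ∉ T) (hh : h ∈ H) : x⁻¹ * h * x ∈ H' := by
  simpa using B.sw _ (inv_mem hx) (B.ni hn) h hh

theorem nJ' (hx : x ∈ P) (hy : y ∈ H ⊔ H') : x * y * x⁻¹ ∈ H ⊔ H' := by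
  by_cases hn : x ∈ T
  · exact B.nJ hn hy
  obtain ⟨h, hh, h', hh', rfl⟩ := B.memJ hy
  rw [← conj_mul]
  exact mul_mem (mem_sup_right (B.sw x hx hn h hh)) (mem_sup_left (B.sw' x hx hn h' hh'))

theorem sw_w (hx : x ∈ P) (hn : x ∉ T) : x * w * x⁻¹ = w' :=
  (B.d'.cent (B.sw x hx hn w B.d.wH) fun c hc => by
    have := B.d.wc (B.symm.swi hx hn hc)
    rw [show x * w * x⁻¹ * c = x * (w * (x⁻¹ * c * x)) * x⁻¹ by group, ← this]; group).resolve_left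
    fun e => B.d.w1 (conj_eq_one_iff.1 e)

theorem Pz (hx : x ∈ P) : x * (w * w') = w * w' * x := by
  by_cases hn : x ∈ T
  · exact B.Tz hn
  · rw [← mul_inv_eq_iff_eq_mul, ← conj_mul, B.sw_w hx hn, B.symm.sw_w hx hn, B.ww']

theorem pv_sw (hx : x ∈ P) (hn : x ∉ T) : Pv H' (x * y * x⁻¹) ↔ Pv H y :=
  ⟨fun p => by
    have := p.swap (x := x⁻¹) (H' := H) (B.sw' _ (inv_mem hx) (B.ni hn)) (by simpa using B.sw x hx hn)
    simpa [mul_assoc] using this, fun p => p.swap (B.sw x hx hn) fun _ => B.symm.swi hx hn⟩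

theorem sw_nc (hx : x ∈ P) (hn : x ∉ T) (hh : h ∈ H) (h1 : h ∉ zpowers r) : x * h * x⁻¹ ∉ zpowers r' := fun e => by
  obtain e | e := B.d'.sq_zp e (by rw [conj_mul, B.d.nc_sq hh h1]; group)
  · exact h1 (conj_eq_one_iff.1 e ▸ one_mem _)
  · rw [← B.sw_w hx hn, mul_left_inj, mul_right_inj] at e
    exact h1 (e ▸ B.d.w_zp)

theorem fix_sw (hx : x ∈ P) (hn : x ∉ T) (c : x * y = y * x) : Pv H y ↔ Pv H' y := by
  rw [← B.pv_sw hx hn, c, mul_inv_cancel_right]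

theorem sq3 (hx : x ∈ P) : x * x ∈ T ∧ (Pv H (x * x) ↔ Pv H' (x * x)) := by
  by_cases hn : x ∈ T
  · exact ⟨mul_mem hn hn, iff_of_true (B.pvJ (B.sqJ hn)) (B.pvJ' (B.sqJ hn))⟩
  · exact ⟨B.two x hx x hx hn hn, B.fix_sw hx hn (mul_assoc x x x).symm⟩

theorem dec_sw (hx : x ∈ P) (hn : x ∉ T) (hh : h ∈ H) (hh' : h' ∈ H') (c : x * (h * h') = h * h' * x) :
    x * h * x⁻¹ = h' ∧ x * h' * x⁻¹ = h :=
  (B.uniq (B.sw' x hx hn _ hh') (B.sw x hx hn _ hh) hh hh' (by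
    rw [B.comm (B.sw' x hx hn _ hh') (B.sw x hx hn _ hh), conj_mul, c, mul_inv_cancel_right])).symm

theorem swinv (hx : x ∈ P) (hn : x ∉ T) (xx : x * x ∈ H ⊔ H') : ∃ h ∈ H, x * h * (x * h) = 1 := by
  obtain ⟨h, hh, h', hh', e⟩ := B.memJ xx
  have := (B.dec_sw hx hn hh hh' (by rw [← e, mul_assoc])).1
  refine ⟨h⁻¹, inv_mem hh, ?_⟩
  rw [show x * h⁻¹ * (x * h⁻¹) = (x * h * x⁻¹)⁻¹ * (x * x) * h⁻¹ by group, this, e, B.comm hh hh']; group

theorem two_sw (hx : x ∈ P) (hn : x ∉ T) (xx : x * x = 1) (hy : y ∈ P) (hm : y ∉ T) (yy : y * y = 1) :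
    Pv H (x * y) ↔ Pv H' (x * y) := by
  rw [← B.pv_sw hx hn, ← B.symm.inv (B.two x hx y hy hn hm), mul_inv_rev, inv_eq_of_mul_eq_one_right xx,
    inv_eq_of_mul_eq_one_right yy, ← mul_assoc, xx, one_mul]

theorem center (hx : x ∈ P) (c : ∀ p ∈ P, x * p = p * x) : x = 1 ∨ x = w * w' := by
  have hT : x ∈ T := by_contra fun hn => B.d.rr (by
    have := B.sw x hx hn r B.d.d.r_mem
    rw [c r (B.TP (B.le B.d.d.r_mem)), mul_inv_cancel_right] at this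
    rw [B.inf r B.d.d.r_mem this, one_mul])
  obtain ⟨g, hg, hn⟩ := B.ex
  have ne : w ≠ w' := fun e => B.d.w1 (B.inf w B.d.wH (e ▸ B.d'.wH))
  rcases B.cJ hT (fun h hh => c h (B.TP (B.le hh))) (fun h hh => c h (B.TP (B.le' hh))) with e | e | e | e
  · exact .inl e
  · exact (ne (by rw [← B.sw_w hg hn, ← e, ← c g hg, mul_inv_cancel_right])).elim
  · exact (ne (by rw [← B.symm.sw_w hg hn, ← e, ← c g hg, mul_inv_cancel_right])).elim
  · exact .inr e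

theorem norm (hx : ∀ p ∈ P, x * p * x⁻¹ ∈ P) : x * w * x⁻¹ = w ∨ x * w * x⁻¹ = w' := by
  have hx' : ∀ p ∈ P, x⁻¹ * p * x ∈ P := fun p hp => conj_inv_mem hx hp
  have wP := B.TP (B.le B.d.wH)
  have zP := mul_mem wP (B.TP (B.le' B.d'.wH))
  have ez : x * (w * w') * x⁻¹ = w * w' := (B.center (hx _ zP) fun p hp => by
    rw [show x * (w * w') * x⁻¹ * p = x * (w * w' * (x⁻¹ * p * x)) * x⁻¹ by group, ← B.Pz (hx' p hp)]; group
    ).resolve_left fun e => B.z1 (conj_eq_one_iff.1 e)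
  have hu := hx w wP
  set u := x * w * x⁻¹ with eu
  have key : ∀ p ∈ P, p * (u⁻¹ * p * u)⁻¹ = 1 ∨ p * (u⁻¹ * p * u)⁻¹ = w * w' := fun p hp => by
    have e : p * (u⁻¹ * p * u)⁻¹ = x * (x⁻¹ * p * x * w⁻¹ * (x⁻¹ * p * x)⁻¹ * w) * x⁻¹ := by
      rw [eu]; group
    rw [e, inv_eq_of_mul_eq_one_right B.d.ww]
    by_cases hn : x⁻¹ * p * x ∈ T
    · left; rw [B.Tw hn, mul_inv_cancel_right, B.d.ww]; group
    · right; rw [B.sw_w (hx' p hp) hn, ← B.ww', ez]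
  have hT : u ∈ T := by_contra fun hn => by
    have m := inv_mem (B.swi hu hn B.d.d.s_mem)
    obtain e | e := key a (B.TP (B.le B.d.d.s_mem))
    · exact B.d.d.notMem ((B.uniq B.d.d.s_mem m (one_mem _) (one_mem _) (e.trans (one_mul 1).symm)).1 ▸ one_mem _)
    · exact B.d.d.notMem ((B.uniq B.d.d.s_mem m B.d.wH B.d'.wH e).1 ▸ B.d.w_zp)
  have cm : ∀ {K : Subgroup G}, K ≤ T → (∀ y ∈ T, Nm K y) → w * w' ∉ K → ∀ h ∈ K, u * h = h * u :=
    fun l n hz h hh => by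
      obtain e | e := key h (B.TP (l hh))
      · rw [mul_inv_eq_one, mul_assoc, eq_inv_mul_iff_mul_eq] at e; exact e
      · exact (hz (e ▸ mul_mem hh (inv_mem (by simpa using n _ (inv_mem hT) h hh)))).elim
  rcases B.cJ hT (cm B.le B.n B.zH) (cm B.le' B.n' (B.ww' ▸ B.symm.zH)) with e | e | e | e
  · exact (B.d.w1 (conj_eq_one_iff.1 e)).elim
  · exact .inl e
  · exact .inr e
  · rw [← ez, eu, mul_left_inj, mul_right_inj, left_eq_mul] at e
    exact (B.d'.w1 e).elim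

end B1

end DC1

end CfsgLib.GHE
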