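import Mathlib
import Cfsg.Agent.Lib.GHE.DC1b

/-! Block DC1: the involutions that interchange the two dihedral groups. -/

set_option autoImplicit false
set_option linter.unusedSectionVars false

namespace CfsgLib.GHE

open Subgroup Cfsg CfsgLib.W2 CfsgLib.Tech CfsgLib.Sect CfsgLib.PComp CfsgLib.DihSyl
  CfsgLib.GW.Cor
open CfsgLib.LBal hiding cj
open scoped MatrixGroups commutatorElement

universe u

variable {G : Type u} [Group G] [Finite G]

namespace DC1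

variable {S T H H' : Subgroup G} {k : ℕ} {r a w r' a' w' x y h h' s u z α β e : G}

theorem ic (g x : G) : IsConj x (g * x * g⁻¹) := isConj_iff.2 ⟨g, rfl⟩

theorem ic' (g x y : G) : IsConj (x * y) (g * x * g⁻¹ * (g * y * g⁻¹)) := conj_mul (b := g) ▸ ic g (x * y)

theorem ext_of {Q : Subgroup G} (hT : IsSylowIn 2 T (Cx z)) (c : IsConj z u) (hQ : IsPGroup 2 Q) (le : Q ≤ Cx u) :
    ∃ γ, γ * u * γ⁻¹ = z ∧ ∀ x ∈ Q, γ * x * γ⁻¹ ∈ T := by
  obtain ⟨g, rfl⟩ := isConj_iff.1 c.symm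
  obtain ⟨l, hl, e⟩ := hT.exists_cj_le (isPGroup_cj g hQ) ((cj_mono g le).trans (cj_centralizer_singleton g u).le)
  rw [← cj_mul] at e
  refine ⟨l * g, ?_, cj_le_iff.1 e⟩
  rw [show l * g * u * (l * g)⁻¹ = l * (g * u * g⁻¹) * l⁻¹ by group, mem_cent.1 hl, mul_inv_cancel_right]

theorem ea_step {A : Subgroup G} (sq : ∀ a ∈ A, a * a = 1) (xx : x * x = 1) (hn : x ∉ A)
    (c : ∀ a ∈ A, x * a = a * x) : (∀ y ∈ A ⊔ zpowers x, y ∈ A ∨ ∃ a ∈ A, y = x * a) ∧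
      (∀ y ∈ A ⊔ zpowers x, y * y = 1) ∧ 2 * Nat.card A ≤ Nat.card (A ⊔ zpowers x : Subgroup G) := by
  have k : ∀ y ∈ A ⊔ zpowers x, y ∈ A ∨ ∃ a ∈ A, y = x * a := fun y hy => by
    obtain ⟨f, hf, b, hb, rfl⟩ := sup_dec (fun b hb y hy => by
      obtain e | e := (mem_zpowers_two xx).1 hb
      · simpa [e] using hy
      · rwa [e, c y hy, mul_inv_cancel_right]) hy
    obtain e | e := (mem_zpowers_two xx).1 hb
    · exact .inl (by simpa [e] using hf)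
    · exact .inr ⟨f, hf, by rw [e, c f hf]⟩
  refine ⟨k, fun y hy => ?_, two_mul_card_le le_sup_left fun e => hn (e (mem_sup_right (mem_zpowers x)))⟩
  obtain hy | ⟨f, hf, rfl⟩ := k y hy
  · exact sq y hy
  · rw [mul_assoc, ← mul_assoc f, ← c f hf, mul_assoc, sq f hf, mul_one, xx]

/-- `⟨u⟩ × ⟨α, β⟩` with a dihedral group of order eight -/
structure Cf (z u α β e : G) : Prop where
  uu : u * u = 1
  aa : α * α = 1
  bb : β * β = 1
  ua : u * α = α * u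
  ub : u * β = β * u
  he : α * β * (α * β) = e
  ee : e * e = 1
  za : IsConj z α
  zb : IsConj z β
  ze : IsConj z e
  ca : IsConj u (u * α)
  cb : IsConj u (u * β)
  ce : IsConj u (u * e)
  cae : IsConj u (u * (α * e))
  cbe : IsConj u (u * (β * e))
  ne : α ≠ e
  ne' : β ≠ e
  ue : u ≠ e

theorem Cf.symm (c : Cf z u α β e) : Cf z u β α e :=
  { c with
    aa := c.bb, bb := c.aa, ua := c.ub, ub := c.ua, za := c.zb, zb := c.za, ca := c.cb, cb := c.ca,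
    cae := c.cbe, cbe := c.cae, ne := c.ne', ne' := c.ne
    he := by
      rw [← inv_eq_of_mul_eq_one_right c.ee, ← c.he]
      simp only [mul_inv_rev, inv_eq_of_mul_eq_one_right c.aa, inv_eq_of_mul_eq_one_right c.bb] }

theorem Cf.conj (c : Cf z u α β e) (g : G) :
    Cf z (g * u * g⁻¹) (g * α * g⁻¹) (g * β * g⁻¹) (g * e * g⁻¹) := by
  have k : ∀ {x : G}, IsConj u (u * x) → IsConj (g * u * g⁻¹) (g * u * g⁻¹ * (g * x * g⁻¹)) := fun h =>
    (ic g u).symm.trans (h.trans (ic' g _ _))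
  have n : ∀ {x y : G}, x ≠ y → g * x * g⁻¹ ≠ g * y * g⁻¹ := fun h e => h (by simpa using e)
  refine ⟨?_, ?_, ?_, ?_, ?_, ?_, ?_, c.za.trans (ic _ _), c.zb.trans (ic _ _), c.ze.trans (ic _ _), k c.ca, k c.cb,
    k c.ce, ?_, ?_, n c.ne, n c.ne', n c.ue⟩
  all_goals simp only [conj_mul, c.uu, c.aa, c.bb, c.ua, c.ub, c.he, c.ee, mul_one, mul_inv_cancel]
  exacts [conj_mul (b := g) ▸ k c.cae, conj_mul (b := g) ▸ k c.cbe]

theorem Cf.eq (c : Cf z u α β e) : α * (β * α * β⁻¹) = e := by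
  rw [← c.he, inv_eq_of_mul_eq_one_right c.bb]; group

/-- the fusion data -/
structure Fu (S T H H' : Subgroup G) (k : ℕ) (r a w r' a' w' : G) : Prop extends B1 S T H H' k r a w r' a' w' where
  ctx : Ctx G
  syl : IsSylowIn 2 S ⊤
  sylT : IsSylowIn 2 T (Cx w')
  ct : ∀ h ∈ H, h * h = 1 → h ≠ 1 → IsConj w' h
  cz : ∀ h ∈ H, h * h = 1 → h ≠ 1 → IsConj (w * w') (h * w')
  nz : ¬ IsConj w' (w * w')
  p1 : ∀ h' ∈ H', h' ∉ zpowers r' → ∃ h ∈ H, h ∉ zpowers r ∧ IsConj (w * w') (h * h')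
  p2 : ∀ h ∈ H, h ∉ zpowers r → ∀ h' ∈ H', h' ∉ zpowers r' → IsConj (w * w') (h * h') ∨ IsConj w' (h * h')

/-- all diagonal involutions are 2-central -/
def Good (H : Subgroup G) (z s : G) : Prop := ∀ h ∈ H, h * h = 1 → h ≠ 1 → IsConj z (h * (s * h * s⁻¹))

/-- all two-sided involutions are 2-central -/
def AZ (H H' : Subgroup G) (z : G) : Prop :=
  ∀ h ∈ H, ∀ h' ∈ H', h * h = 1 → h' * h' = 1 → h ≠ 1 → h' ≠ 1 → IsConj z (h * h')

theorem B0.zc (B : B0 T H H' k r a w r' a' w') (hh : h ∈ H) (hh' : h' ∈ H') {c c' : G} (hc : c ∈ H) (hc' : c' ∈ H') :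
    IsConj (h * h') (c * h * c⁻¹ * (c' * h' * c'⁻¹)) := by
  refine isConj_iff.2 ⟨c * c', ?_⟩
  rw [mul_inv_rev, ← B.comm (inv_mem hc) (inv_mem hc'), B.mul4 hc' hh, B.mul4 (mul_mem hc' hh') (inv_mem hc)]

theorem B0.cW (B : B0 T H H' k r a w r' a' w') (hx : x ∈ T) (xx : x * x = 1) (p : ¬ Pv H x) (h1 : IsConj z x)
    (h2 : IsConj z (x * (w * w'))) (hv : InW w w' y) : IsConj z (x * y) := by
  have zJ := mul_mem_sup B.d.wH B.d'.wH
  rcases hv with rfl | rfl | rfl | rfl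
  · rwa [mul_one]
  · exact h1.trans (B.cw hx xx p)
  · have := h2.trans (B.cw (mul_mem hx (B.JT zJ)) (by
      rw [mul_assoc, ← mul_assoc _ x, ← B.Tz hx, mul_assoc, B.zz, mul_one, xx])
      (by rw [B.mul hx (B.JT zJ)]; have := B.pvJ zJ; tauto))
    rwa [B.ww', mul_assoc, mul_assoc, B.d.ww, mul_one] at this
  · exact h2

theorem B1.cf (B : B1 S T H H' k r a w r' a' w') (hs : s ∈ S) (hn : s ∉ T) (ss : s * s = 1)
    (g : Good H (w * w') s) : ∃ α β, Cf (w * w') s α β (w * w') ∧ α ∈ S ⊓ Cx s ∧ β ∈ S ⊓ Cx s := by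
  obtain ⟨b, hb, b1, e⟩ := B.d.d8
  have si := inv_eq_of_mul_eq_one_right ss
  have m : ∀ {x y : G}, x ∈ H → y ∈ H → x * (s * x * s⁻¹) * (y * (s * y * s⁻¹)) = x * y * (s * (x * y) * s⁻¹) :=
    fun hx hy => by rw [B.mul4 (B.sw s hs hn _ hx) hy, conj_mul]
  have c : ∀ {x : G}, x ∈ H → s * (x * (s * x * s⁻¹)) = x * (s * x * s⁻¹) * s := fun hx => by
    nth_rw 1 [B.comm hx (B.sw s hs hn _ hx)]
    rw [si]
    simp only [← mul_assoc, ss, one_mul]
    rw [mul_assoc _ s s, ss, mul_one]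
  have q : ∀ {x : G}, x ∈ H → x * x = 1 → x * (s * x * s⁻¹) * (x * (s * x * s⁻¹)) = 1 := fun hx xx => by
    rw [m hx hx, xx]; group
  have k : ∀ {x : G}, x ∈ H → x * x = 1 → IsConj s (s * (x * (s * x * s⁻¹))) := fun {x} hx xx =>
    isConj_iff.2 ⟨x, by rw [c hx, inv_eq_of_mul_eq_one_right xx]; group⟩
  have ew : w * (s * w * s⁻¹) = w * w' := by rw [B.sw_w hs hn]
  have n : ∀ {x : G}, x ∈ H → x ∉ zpowers r → x * (s * x * s⁻¹) ≠ w * w' := fun hx x1 e =>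
    x1 ((B.uniq hx (B.sw s hs hn _ hx) B.d.wH B.d'.wH e).1 ▸ B.d.w_zp)
  have kw : ∀ {x : G}, x ∈ H → x ∉ zpowers r → IsConj s (s * (x * (s * x * s⁻¹) * (w * w'))) := fun hx x1 => by
    rw [← ew, m hx B.d.wH]
    exact k (mul_mem hx B.d.wH) (B.d.nc_sq (mul_mem hx B.d.wH) (B.d.mul_w x1))
  have mS : ∀ {x : G}, x ∈ H → x * (s * x * s⁻¹) ∈ S ⊓ Cx s := fun hx =>
    ⟨B.TP (B.JT (mul_mem_sup hx (B.sw s hs hn _ hx))), mem_cent.2 (c hx).symm⟩
  have ha := B.d.d.s_mem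
  have a1 := B.d.d.notMem
  have bb := B.d.nc_sq hb b1
  exact ⟨_, _, ⟨ss, q ha B.d.d.ss, q hb bb, c ha, c hb, by rw [m ha hb, m (mul_mem ha hb) (mul_mem ha hb), e, ew],
    B.zz, g a ha B.d.d.ss fun e => a1 (e ▸ one_mem _), g b hb bb fun e => b1 (e ▸ one_mem _), IsConj.refl _,
    k ha B.d.d.ss, k hb bb, ew ▸ k B.d.wH B.d.ww, kw ha a1, kw hb b1, n ha a1, n hb b1,
    fun e => hn (e ▸ B.JT (mul_mem_sup B.d.wH B.d'.wH))⟩, mS ha, mS hb⟩

namespace Fu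

variable (F : Fu S T H H' k r a w r' a' w')
include F

theorem nb (h1 : IsConj (w * w') x) (h2 : IsConj w' x) : False := F.nz (h2.trans h1.symm)

theorem zne (h1 : IsConj (w * w') x) : x ≠ 1 := fun e => F.z1 (isConj_one_left.1 (e ▸ h1))

theorem tne (h1 : IsConj w' x) : x ≠ 1 := fun e => F.d'.w1 (isConj_one_left.1 (e ▸ h1))

theorem tw : IsConj w' w := F.ct w F.d.wH F.d.ww F.d.w1

theorem ct' (hh : h ∈ H') (h2 : h * h = 1) (h1 : h ≠ 1) : IsConj w' h := by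
  obtain ⟨g, hg, hn⟩ := F.ex
  exact (F.ct _ (F.sw' g hg hn h hh) (by rw [conj_mul, h2]; group) (by simpa using h1)).trans (ic g h).symm

theorem cz' (hh : h ∈ H') (h2 : h * h = 1) (h1 : h ≠ 1) : IsConj (w * w') (w * h) := by
  obtain ⟨g, hg, hn⟩ := F.ex
  refine (F.cz _ (F.sw' g hg hn h hh) (by rw [conj_mul, h2]; group) (by simpa using h1)).trans ?_
  rw [F.comm F.d.wH hh, ← F.sw_w hg hn]
  exact (ic' g h w).symm

theorem two_sided {p : G → Prop} (p0 : ∀ x, IsConj (w * w') x → p x)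
    (p1 : ∀ h ∈ H, h ∉ zpowers r → ∀ h' ∈ H', h' ∉ zpowers r' → p (h * h')) (hh : h ∈ H) (hh' : h' ∈ H')
    (e : h * h = 1) (e' : h' * h' = 1) (n : h ≠ 1) (n' : h' ≠ 1) : p (h * h') := by
  by_cases c : h ∈ zpowers r
  · rw [(F.d.sq_zp c e).resolve_left n]; exact p0 _ (F.cz' hh' e' n')
  by_cases c' : h' ∈ zpowers r'
  · rw [(F.d'.sq_zp c' e').resolve_left n']; exact p0 _ (F.cz h hh e n)
  exact p1 h hh c h' hh' c'

theorem clsJ (hx : x ∈ H ⊔ H') (xx : x * x = 1) (x1 : x ≠ 1) : IsConj (w * w') x ∨ IsConj w' x := by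
  obtain ⟨h, hh, h', hh', rfl⟩ := F.memJ hx
  obtain ⟨e, e'⟩ := F.sq2 hh hh' xx
  by_cases n : h = 1
  · rw [n, one_mul] at x1 ⊢; exact .inr (F.ct' hh' e' x1)
  by_cases n' : h' = 1
  · rw [n', mul_one]; exact .inr (F.ct h hh e n)
  exact F.two_sided (p := fun x => IsConj (w * w') x ∨ IsConj w' x) (fun _ => .inl) F.p2 hh hh' e e' n n'

theorem one_sided (az : AZ H H' (w * w')) (hx : x ∈ H ⊔ H') (c : IsConj w' x) : x ∈ H ∨ x ∈ H' := by
  obtain ⟨h, hh, h', hh', rfl⟩ := F.memJ hx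
  obtain ⟨e, e'⟩ := F.sq2 hh hh' (TL2.sq_of_isConj c F.d'.ww)
  by_cases n : h = 1
  · rw [n, one_mul]; exact .inr hh'
  by_cases n' : h' = 1
  · rw [n', mul_one]; exact .inl hh
  exact (F.nb (az h hh h' hh' e e' n n') c).elim

theorem wz (hx : InW w w' x) (c : IsConj (w * w') x) : x = w * w' := by
  rcases hx with e | e | e | e
  exacts [(F.zne c e).elim, (F.nb c (e ▸ F.tw)).elim, (F.nb c (e ▸ IsConj.refl _)).elim, e]

theorem sylZ : IsSylowIn 2 S (Cx (w * w')) := F.syl.of_le (fun _ hx => mem_cent.2 (F.Pz hx)) le_top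

theorem s2 (c : Cf (w * w') w' α β e) (ha : α ∈ T) (hb : β ∈ T) : False := by
  have e1 : e = w * w' := F.wz (c.he ▸ F.sqW (mul_mem ha hb) (by rw [c.he, c.ee])) c.ze
  refine c.ne (e1 ▸ F.wz (F.W_of ha c.aa (fun k => F.nb (c.za.trans k) ?_) fun k => F.nb (c.za.trans k) ?_) c.za)
  · have := c.cae
    rwa [e1, ← mul_assoc, c.ua, F.ww', mul_assoc, ← mul_assoc w', F.d'.ww, one_mul] at this
  · exact c.ua ▸ c.ca

theorem not_t (hs : s ∈ S) (hn : s ∉ T) (ss : s * s = 1) (g : Good H (w * w') s) : ¬ IsConj w' s := fun k => by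
  obtain ⟨α, β, c, ha, hb⟩ := F.cf hs hn ss g
  obtain ⟨γ, e, m⟩ := ext_of F.sylT k F.syl.pgroup.to_inf_left inf_le_right
  exact F.s2 (e ▸ c.conj γ) (m _ ha) (m _ hb)

theorem s3 (c : Cf (w * w') u α β e) (hu : u ∈ T) (p : ¬ Pv H u) (p' : ¬ Pv H' u) (ha : α ∈ S) (hb : β ∈ S)
    (n1 : ¬ IsConj (w * w') u) (n2 : ¬ IsConj w' u) : False := by
  have uW : InW w w' (u * u) := .inl c.uu
  have c3 : ∀ v ∈ T, (Pv H v ↔ Pv H' v) → u * v = v * u → InW w w' v ∨ InW w w' (u * v) := fun v hv q cv => by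
    by_cases q0 : Pv H v
    · exact .inl (F.cD hu p p' uW (F.rank hv q0 (q.1 q0)) cv)
    · exact .inr (F.cD hu p p' uW (F.rank (mul_mem hu hv) (by rw [F.mul hu hv]; tauto)
        (by rw [F.mul' hu hv]; tauto)) (by rw [mul_assoc, ← cv]))
  have c4 : ∀ v ∈ T, (Pv H v ↔ Pv H' v) → u * v = v * u → IsConj (w * w') v → IsConj u (u * v) → v = w * w' :=
    fun v hv q cv zv uv => by
      obtain k | k := c3 v hv q cv
      · exact F.wz k zv
      · obtain k | k := F.clsJ (F.W_T k) (F.W_sq k) fun e => p (isConj_one_left.1 (e ▸ uv) ▸ pv_of_mem (one_mem _))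
        exacts [(n1 (k.trans uv.symm)).elim, (n2 (k.trans uv.symm)).elim]
  have cc : u * (α * β) = α * β * u := by rw [← mul_assoc, c.ua, mul_assoc, c.ub, mul_assoc]
  have e0 := F.sq3 (mul_mem ha hb)
  rw [c.he] at e0
  have e1 : e = w * w' := c4 e e0.1 e0.2 (by rw [← c.he, ← mul_assoc, cc, mul_assoc, cc, ← mul_assoc]) c.ze c.ce
  have na : α ∈ T → ¬ (Pv H α ↔ Pv H' α) := fun h q => c.ne (e1 ▸ c4 α h q c.ua c.za c.ca)
  have nb : β ∈ T → ¬ (Pv H β ↔ Pv H' β) := fun h q => c.ne' (e1 ▸ c4 β h q c.ub c.zb c.cb)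
  have nc : α * β ∈ T → ¬ (Pv H (α * β) ↔ Pv H' (α * β)) := fun h q => F.zne c.ze (by
    obtain k | k := c3 _ h q cc
    · rw [← c.he, F.W_sq k]
    · have := F.W_sq k
      rwa [mul_assoc, ← mul_assoc (α * β), ← cc, mul_assoc u, ← mul_assoc u, c.uu, one_mul, c.he] at this)
  have mix : ∀ {α β : G}, Cf (w * w') u α β e → β ∈ S → α ∈ T → β ∉ T → (Pv H α ↔ Pv H' α) := fun c hb h h' => by
    have := F.pvJ (mul_mem_sup F.d.wH F.d'.wH)
    rwa [← e1, ← c.eq, F.mul h (F.nT hb h), F.symm.pv_sw hb h'] at this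
  by_cases h : α ∈ T <;> by_cases h' : β ∈ T
  · have := na h
    have := nb h'
    exact nc (mul_mem h h') (by rw [F.mul h h', F.mul' h h']; tauto)
  · exact na h (mix c hb h h')
  · exact nb h' (mix c.symm ha h' h)
  · exact nc (F.two _ ha _ hb h h') (F.two_sw ha h c.aa hb h' c.bb)

end Fu

end DC1

end CfsgLib.GHE
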