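import Mathlib
import Cfsg.Agent.Lib.GHE.Defs2
import Cfsg.Agent.Lib.Transfer.Cocycle

/-! Block DC1: an extremal transfer lemma for elements of order dividing four.
Proof: adapt QT4.transfer_extremal (Lib/QT4/EX.lean).  A = Abelianization S modulo the image of N, ϕ : S →* A, σ = ϕ u.
On the points not fixed by u use IsCocycle.prod_eq_one with K = zpowers u (a power of u fixing such a point is 1 or u * u);
on the fixed points the values a have a * a = 1, the number of points with value a ≠ σ is even, the number of fixed points is odd. -/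

set_option autoImplicit false

namespace CfsgLib.GHE

open Subgroup Cfsg CfsgLib.W2 CfsgLib.Tech CfsgLib.Sect CfsgLib.PComp CfsgLib.DihSyl
  CfsgLib.GW.Cor
open CfsgLib.LBal hiding cj
open scoped MatrixGroups commutatorElement

universe u

variable {G : Type u} [Group G] [Finite G]

open Transfer in
theorem Ctx.trf (h : Ctx G) {S N R : Subgroup G} (hS : IsSylowIn 2 S ⊤)
    (hc : ∀ x ∈ S, ∀ y ∈ S, x * y * x⁻¹ * y⁻¹ ∈ N) {u : G} (uS : u ∈ S) (uN : u ∉ N)
    (u4 : u * u * (u * u) = 1) (hsq : ∀ γ, γ * (u * u) * γ⁻¹ ∈ S → γ * (u * u) * γ⁻¹ ∈ N)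
    (hR : IsPGroup 2 R) (hRu : R ≤ Cx u) :
    ∃ γ, γ * u * γ⁻¹ ∈ S ∧ γ * u * γ⁻¹ * u⁻¹ ∉ N ∧ ∀ x ∈ R, γ * x * γ⁻¹ ∈ S := by
  classical
  have := h.simple
  have hG : commutator G = ⊤ := (IsSimpleGroup.eq_bot_or_eq_top_of_normal _ inferInstance).resolve_left
    fun e => h.ncomm ⟨⟨fun a b => commutatorElement_eq_one_iff_mul_comm.1
      (mem_bot.1 (e.le (commutator_mem_commutator (mem_top a) (mem_top b))))⟩⟩
  obtain ⟨A, _, ϕ, hϕ⟩ : ∃ (A : Type u) (_ : CommGroup A) (ϕ : S →* A), ∀ x, ϕ x = 1 ↔ (x : G) ∈ N := by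
    have : (N.subgroupOf S).Normal := ⟨fun n hn g => by
      simpa [mem_subgroupOf] using mul_mem (hc g g.2 n n.2) hn⟩
    refine ⟨S ⧸ N.subgroupOf S, { (inferInstance : Group (S ⧸ N.subgroupOf S)) with mul_comm := fun a b => ?_ },
      QuotientGroup.mk' _, fun x => QuotientGroup.eq_one_iff x⟩
    obtain ⟨a, rfl⟩ := QuotientGroup.mk_surjective a
    obtain ⟨b, rfl⟩ := QuotientGroup.mk_surjective b
    exact commutatorElement_eq_one_iff_mul_comm.1 ((QuotientGroup.eq_one_iff (⁅a, b⁆ : S)).2 (hc a a.2 b b.2))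
  have := Fintype.ofFinite (G ⧸ S)
  have hco := isCocycle_cosetCocycle ϕ
  have htr : tr ϕ u = 1 := Abelianization.commutator_subset_ker (tr ϕ) (hG ▸ mem_top u)
  have s0 : ϕ (⟨u, uS⟩ * ⟨u, uS⟩) = 1 := (hϕ _).2 (by simpa using hsq 1 (by simpa using mul_mem uS uS))
  have s2 := (map_mul ϕ _ _).symm.trans s0
  have sq : ∀ q : G ⧸ S, (u * u) • q = q → cosetCocycle ϕ (u * u) q = 1 := fun q hq => by
    induction q using QuotientGroup.induction_on with | H t => ?_
    have k := smul_mk_eq_iff.1 hq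
    rw [cosetCocycle_mk ϕ k, hϕ]
    simpa using hsq t⁻¹ (by simpa using k)
  by_contra hno
  let Z : A → SubMulAction R (G ⧸ S) := fun a =>
    { carrier := {q | u • q = q ∧ cosetCocycle ϕ u q = a}
      smul_mem' := fun r q hq => by
        refine ⟨?_, ?_⟩
        · change u • (r : G) • q = (r : G) • q
          rw [← mul_smul, ← mem_Cx.1 (hRu r.2), mul_smul, hq.1]
        · change cosetCocycle ϕ u ((r : G) • q) = a
          rw [← hq.2, ← hco.conj r hq.1, mem_Cx'.1 (hRu r.2)] }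
  have ev : ∀ a, a ≠ ϕ ⟨u, uS⟩ → 2 ∣ Nat.card (Z a) := fun a ha => by
    by_contra hodd
    obtain ⟨⟨q, hq1, hq2⟩, hq⟩ := hR.nonempty_fixed_point_of_prime_not_dvd_card (Z a) hodd
    induction q using QuotientGroup.induction_on with | H t => ?_
    have h5 := smul_mk_eq_iff.1 hq1
    refine hno ⟨t⁻¹, by rwa [inv_inv], fun k => ha ?_, fun r hr => ?_⟩
    · rw [← hq2, cosetCocycle_mk ϕ h5, ← mul_inv_eq_one, ← map_inv, ← map_mul, hϕ]
      rwa [inv_inv] at k
    · rw [inv_inv]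
      exact smul_mk_eq_iff.1 (congrArg Subtype.val (hq ⟨r, hr⟩))
  have e1 : ∏ q ∈ Finset.univ.filter (fun q : G ⧸ S => ¬ u • q = q), cosetCocycle ϕ u q * ϕ ⟨u, uS⟩ = 1 := by
    have c' : IsCocycle fun (k : S) (q : G ⧸ S) => cosetCocycle ϕ k q * ϕ k := fun g k x => by
      simp only [coe_mul, hco g k, map_mul]
      exact mul_mul_mul_comm _ _ _ _
    refine c'.prod_eq_one (k := ⟨u, uS⟩) (zpowers ⟨u, uS⟩) _ ?_ ?_ (mem_zpowers _)
    · rintro _ ⟨n, rfl⟩ q hq
      refine Finset.mem_filter.2 ⟨Finset.mem_univ _, fun k => (Finset.mem_filter.1 hq).2 ?_⟩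
      change (⟨u, uS⟩ : S) • (⟨u, uS⟩ : S) ^ n • q = (⟨u, uS⟩ : S) ^ n • q at k
      rw [← mul_smul, ← zpow_one_add, add_comm, zpow_add_one, mul_smul] at k
      exact MulAction.injective _ k
    · rintro _ ⟨n, rfl⟩ q hq k
      have q1 := (Finset.mem_filter.1 hq).2
      have m := fun j : ℤ => (mem_zpowers_two (z := (⟨u, uS⟩ * ⟨u, uS⟩ : S)) (Subtype.ext u4)).1
        (zpow_mem_zpowers _ j)
      obtain ⟨j, rfl | rfl⟩ := Int.even_or_odd' n
      · simp only [zpow_mul, zpow_two] at k ⊢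
        rcases m j with a | a <;> rw [a] at k ⊢
        · rw [map_one, mul_one]; exact hco.one q
        · rw [s0, mul_one]; exact sq q k
      · simp only [zpow_add_one, zpow_mul, zpow_two] at k
        rcases m j with a | a <;> rw [a] at k
        · exact (q1 (by rwa [one_mul] at k)).elim
        · refine (q1 ?_).elim
          change (u * u * u) • q = q at k
          conv_lhs => rw [← k]
          rw [← mul_smul, ← mul_assoc, ← mul_assoc, mul_assoc (u * u), u4, one_smul]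
  have e2 : ∏ q ∈ Finset.univ.filter (fun q : G ⧸ S => u • q = q), cosetCocycle ϕ u q * ϕ ⟨u, uS⟩ = 1 := by
    rw [Finset.prod_comp (fun a => a * ϕ ⟨u, uS⟩) (cosetCocycle ϕ u)]
    refine Finset.prod_eq_one fun a ha => ?_
    obtain ⟨q, hq, rfl⟩ := Finset.mem_image.1 ha
    have q1 := (Finset.mem_filter.1 hq).2
    by_cases q2 : cosetCocycle ϕ u q = ϕ ⟨u, uS⟩
    · rw [q2, s2, one_pow]
    obtain ⟨m, hm⟩ := ev _ q2
    have : ((Finset.univ.filter fun q : G ⧸ S => u • q = q).filter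
        fun x => cosetCocycle ϕ u x = cosetCocycle ϕ u q).card = Nat.card (Z (cosetCocycle ϕ u q)) := by
      rw [Finset.filter_filter, ← Fintype.card_subtype, ← Nat.card_eq_fintype_card]
      rfl
    have k := sq q (by rw [mul_smul, q1, q1])
    rw [hco, q1] at k
    rw [this, hm, pow_mul, pow_two, mul_mul_mul_comm, k, s2, one_mul, one_pow]
  have e3 := Finset.prod_filter_mul_prod_filter_not Finset.univ (fun q : G ⧸ S => u • q = q)
    (fun q => cosetCocycle ϕ u q * ϕ ⟨u, uS⟩)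
  rw [e1, e2, Finset.prod_mul_distrib, ← tr_apply, htr, Finset.prod_const, Finset.card_univ,
    ← Nat.card_eq_fintype_card, ← index, one_mul, one_mul] at e3
  obtain ⟨m, hm⟩ := Nat.odd_iff.2 (Nat.two_dvd_ne_zero.1 (relIndex_top_right S ▸ hS.not_dvd))
  rw [hm, pow_succ, pow_mul, pow_two, s2, one_pow, one_mul] at e3
  exact uN ((hϕ _).1 e3.symm)

end CfsgLib.GHE
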