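import Mathlib
import Cfsg.Agent.Lib.GHE.DC1c
import Cfsg.Agent.Lib.GHE.DC1t

/-! Block DC1: the transfer arguments when there is an interchanging involution. -/

set_option autoImplicit false
set_option linter.unusedSectionVars false

namespace CfsgLib.GHE

open Subgroup Cfsg CfsgLib.W2 CfsgLib.Tech CfsgLib.Sect CfsgLib.PComp CfsgLib.DihSyl
  CfsgLib.GW.Cor
open CfsgLib.LBal hiding cj
open scoped MatrixGroups commutatorElement

universe u

variable {G : Type u} [Group G] [Finite G]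

namespace DC1

variable {S T H H' : Subgroup G} {k : ℕ} {r a w r' a' w' x y h h' s u z α α' β e : G}

theorem iff_aux {a b c d : Prop} : (((a ↔ b) ↔ (c ↔ d)) ↔ ((a ↔ c) ↔ (b ↔ d))) := by tauto

theorem B0.exW (B : B0 T H H' k r a w r' a' w') :
    ∃ W : Subgroup G, (∀ y, y ∈ W ↔ InW w w' y) ∧ 4 ≤ Nat.card W := by
  have l : zpowers w ≤ H := zpowers_le.2 B.d.wH
  obtain ⟨k1, -, k3⟩ := ea_step (A := zpowers w) (x := w') (fun a ha => by
    obtain e | e := (mem_zpowers_two B.d.ww).1 ha <;> simp [e, B.d.ww]) B.d'.ww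
    (fun e => B.d'.w1 (B.inf _ (l e) B.d'.wH)) fun a ha => (B.comm (l ha) B.d'.wH).symm
  rw [card_zpowers_two B.d.ww B.d.w1] at k3
  refine ⟨_, fun y => ⟨fun hy => ?_, ?_⟩, k3⟩
  · obtain hy | ⟨b, hb, rfl⟩ := k1 y hy
    · simpa using B.inW ((mem_zpowers_two B.d.ww).1 hy) (.inl rfl)
    · rw [← B.comm (l hb) B.d'.wH]
      exact B.inW ((mem_zpowers_two B.d.ww).1 hb) (.inr rfl)
  · rintro (rfl | rfl | rfl | rfl)
    exacts [one_mem _, mem_sup_left (mem_zpowers _), mem_sup_right (mem_zpowers _),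
      mul_mem_sup (mem_zpowers _) (mem_zpowers _)]

namespace Fu

variable (F : Fu S T H H' k r a w r' a' w')
include F

theorem az_of (p : ∀ h ∈ H, h ∉ zpowers r → ∀ h' ∈ H', h' ∉ zpowers r' → IsConj (w * w') (h * h')) :
    AZ H H' (w * w') := fun _ hh _ hh' =>
  F.two_sided (p := fun x => IsConj (w * w') x) (fun _ h => h) p hh hh'

theorem zl {c : G} (hh : h ∈ H) (hh' : h' ∈ H') (hc : c ∈ H) : IsConj (h * h') (c * h * c⁻¹ * h') := by
  simpa using F.zc hh hh' hc (one_mem _)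

theorem zr {c : G} (hh : h ∈ H) (hh' : h' ∈ H') (hc : c ∈ H') : IsConj (h * h') (h * (c * h' * c⁻¹)) := by
  simpa using F.zc hh hh' (one_mem _) hc

theorem az_y (hx : x ∈ T) (p : ¬ Pv H x) (p' : Pv H' x) : AZ H H' (w * w') := F.az_of fun h hh h1 h' hh' h1' => by
  obtain ⟨c, hc, c1, e⟩ := F.p1 h' hh' h1'
  obtain ⟨f, hf, rfl⟩ | ⟨f, hf, rfl⟩ := F.d.cls (F.n x hx) p hc c1 hh h1
  · exact e.trans (F.zl hc hh' hf)
  · obtain ⟨f', hf', e'⟩ := p' h' hh' (F.d'.nc_sq hh' h1')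
    exact (e.trans (ic' x c h')).trans ((e' ▸ (F.zr (F.n x hx c hc) hh' hf').symm).trans (F.zl (F.n x hx c hc) hh' hf))

theorem good_az (az : AZ H H' (w * w')) (hs : s ∈ S) (hn : s ∉ T) : Good H (w * w') s := fun h hh h2 h1 =>
  az h hh _ (F.sw s hs hn h hh) h2 (by rw [conj_mul, h2]; group) h1 (by simpa using h1)

theorem k3 (ha : α ∈ T) (ha' : α' ∈ T) (aa : α * α = 1) (aa' : α' * α' = 1) (c : α' * α = α * α')
    (p : ¬ Pv H α) (q : Pv H' α) (p' : Pv H α') (q' : ¬ Pv H' α') (z1 : IsConj (w * w') α)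
    (z2 : IsConj (w * w') (α * (w * w'))) (z3 : IsConj (w * w') α') (z4 : IsConj (w * w') (α' * (w * w')))
    (z5 : IsConj (w * w') (α' * α)) (z6 : IsConj (w * w') (α' * α * (w * w'))) : False := by
  have az := F.az_y ha p q
  obtain ⟨W, mW, cW⟩ := F.exW
  have WT : W ≤ T := fun y hy => F.JT (F.W_T ((mW y).1 hy))
  obtain ⟨k1, k2, k3⟩ := ea_step (fun y hy => F.W_sq ((mW y).1 hy)) aa (fun e => p (F.pvJ (F.W_T ((mW _).1 e))))
    fun y hy => (F.W_c ((mW y).1 hy) ha).symm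
  obtain ⟨l1, l2, l3⟩ := ea_step k2 aa' (fun e => by
      obtain e | ⟨v, hv, e⟩ := k1 _ e
      · exact q' (F.pvJ' (F.W_T ((mW _).1 e)))
      · exact q' (e ▸ (F.mul' ha (WT hv)).2 (iff_of_true q (F.pvJ' (F.W_T ((mW _).1 hv))))))
    fun y hy => by
      obtain e | ⟨v, hv, rfl⟩ := k1 _ hy
      · exact (F.W_c ((mW y).1 e) ha').symm
      · rw [← mul_assoc, c, mul_assoc, ← F.W_c ((mW v).1 hv) ha', mul_assoc]
  set E := W ⊔ zpowers α ⊔ zpowers α'
  have ET : E ≤ T := sup_le (sup_le WT (zpowers_le.2 ha)) (zpowers_le.2 ha')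
  have cl : ∀ y ∈ E, IsConj w' y → y ∈ W := fun y hy t => by
    obtain e | ⟨v, hv, rfl⟩ := l1 _ hy
    · obtain e | ⟨v, hv, rfl⟩ := k1 _ e
      · exact e
      · exact (F.nb (F.cW ha aa p z1 z2 ((mW v).1 hv)) t).elim
    · obtain e | ⟨v', hv', rfl⟩ := k1 _ hv
      · exact (F.nb (F.toB0.symm.cW ha' aa' q' z3 (F.ww' ▸ z4) (F.W_symm ((mW v).1 e))) t).elim
      · refine (F.nb (F.cW (mul_mem ha' ha) ?_ ?_ z5 z6 ((mW v').1 hv')) (mul_assoc α' α v' ▸ t)).elim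
        · rw [mul_assoc, ← mul_assoc α, ← c, mul_assoc, aa, mul_one, aa']
        · rw [F.mul ha' ha]; tauto
  have mα : α ∈ E := mem_sup_left (mem_sup_right (mem_zpowers _))
  have mw : w ∈ E := mem_sup_left (mem_sup_left ((mW _).2 (.inr (.inl rfl))))
  have mw' : w' ∈ E := mem_sup_left (mem_sup_left ((mW _).2 (.inr (.inr (.inl rfl)))))
  obtain ⟨γ, e, m⟩ := ext_of F.sylZ z1 (F.pg.to_le ET) fun y hy => mem_cent.2 (comm_of_sq l2 hy mα)
  have sq : ∀ y ∈ E, γ * y * γ⁻¹ * (γ * y * γ⁻¹) = 1 := fun y hy => by rw [conj_mul, l2 y hy]; group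
  have cm : ∀ x ∈ E, ∀ y ∈ E, γ * x * γ⁻¹ * (γ * y * γ⁻¹) = γ * y * γ⁻¹ * (γ * x * γ⁻¹) := fun x hx y hy => by
    rw [conj_mul, conj_mul, comm_of_sq l2 hx hy]
  have tT : ∀ y ∈ E, IsConj w' y → γ * y * γ⁻¹ ∈ T := fun y hy t => by_contra fun hn =>
    F.not_t (m y hy) hn (sq y hy) (F.good_az az (m y hy) hn) (t.trans (ic γ y))
  have aJ : α ≠ w * w' := fun e => p (e ▸ F.pvJ (mul_mem_sup F.d.wH F.d'.wH))
  have FT : cj γ E ≤ T := cj_le_iff.2 fun y hy => by_contra fun hn => by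
    have key : ∀ x ∈ E, IsConj w' x → ¬ Pv H (γ * x * γ⁻¹) ∧ ¬ Pv H' (γ * x * γ⁻¹) := fun x hx t => by
      have i := F.fix_sw (m y hy) hn (cm y hy x hx)
      have : ¬ Pv H (γ * x * γ⁻¹) := fun q => F.tne (t.trans (ic γ x)) (by
        obtain k | k := F.one_sided az (F.rank (tT x hx t) q (i.1 q)) (t.trans (ic γ x))
        · exact F.inf _ k (by simpa only [cm y hy x hx, mul_inv_cancel_right] using F.sw _ (m y hy) hn _ k)
        · exact F.inf _ (by simpa only [cm y hy x hx, mul_inv_cancel_right] using F.sw' _ (m y hy) hn _ k) k)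
      exact ⟨this, mt i.2 this⟩
    have t1 := key w mw F.tw
    have t2 := key w' mw' (IsConj.refl _)
    have h1 := tT w mw F.tw
    have h2 := tT w' mw' (IsConj.refl _)
    have := F.wz (F.cD h1 t1.1 t1.2 (.inl (sq w mw)) (F.rank (mul_mem h1 h2) ((F.mul h1 h2).2 (iff_of_false t1.1 t2.1))
      ((F.mul' h1 h2).2 (iff_of_false t1.2 t2.2))) 
        (by rw [mul_assoc (γ * w * γ⁻¹) (γ * w' * γ⁻¹), cm w mw w' mw'])) (ic' γ w w')
    replace := this.trans e.symm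
    rw [conj_mul, mul_left_inj, mul_right_inj] at this
    exact aJ this.symm
  have sF : ∀ y ∈ cj γ E, y * y = 1 := fun y hy => by simpa [mul_assoc] using sq _ (mem_cj.1 hy)
  have cF : 16 ≤ Nat.card (cj γ E) := by rw [card_cj]; omega
  have m1 := cl _ (mem_cj.1 (F.w_mem FT sF cF)) (F.tw.trans (by simpa using ic γ⁻¹ w))
  have m2 := cl _ (mem_cj.1 (F.toB0.symm.w_mem FT sF cF)) (by simpa using ic γ⁻¹ w')
  have := mul_mem m1 m2
  rw [show γ⁻¹ * w * γ * (γ⁻¹ * w' * γ) = γ⁻¹ * (w * w') * γ by group, ← e,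
    show γ⁻¹ * (γ * α * γ⁻¹) * γ = α by group] at this
  exact p (F.pvJ (F.W_T ((mW _).1 this)))

theorem k1 (c : Cf (w * w') (w * w') α β e) (ha : α ∈ T) (hb : β ∈ S) (hn : β ∉ T) : False := by
  have ha' := F.nT hb ha
  have aa' : β * α * β⁻¹ * (β * α * β⁻¹) = 1 := by rw [conj_mul, c.aa]; group
  have cm : β * α * β⁻¹ * α = α * (β * α * β⁻¹) := by
    have := inv_eq_of_mul_eq_one_right c.ee
    rwa [← c.eq, mul_inv_rev, inv_eq_of_mul_eq_one_right c.aa, inv_eq_of_mul_eq_one_right aa'] at this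
  have eW : ¬ InW w w' e := fun k => c.ue (F.wz k c.ze).symm
  have i1 : Pv H' (β * α * β⁻¹) ↔ Pv H α := F.pv_sw hb hn
  have i2 : Pv H (β * α * β⁻¹) ↔ Pv H' α := F.symm.pv_sw hb hn
  have z2 : IsConj (w * w') (α * (w * w')) := c.ua ▸ c.ca
  have z3 := c.za.trans (ic β α)
  have z4 : IsConj (w * w') (β * α * β⁻¹ * (w * w')) := by
    have := z2.trans (ic' β _ _)
    rwa [F.Pz hb, mul_inv_cancel_right] at this
  have z6 : IsConj (w * w') (e * (w * w')) := by rw [F.Tz (c.eq ▸ mul_mem ha ha')]; exact c.ce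
  by_cases p : Pv H α <;> by_cases q : Pv H' α
  · obtain ⟨h, hh, h', hh', rfl⟩ := F.memJ (F.rank ha p q)
    obtain ⟨e1, e2⟩ := F.sq2 hh hh' c.aa
    rw [F.mul4 hh' F.d.wH] at z2
    have s2 := F.sq2 (mul_mem hh F.d.wH) (mul_mem hh' F.d'.wH) (TL2.sq_of_isConj z2 F.zz)
    have n : h ∉ zpowers r := fun k => by
      obtain k | k := F.d.sq_zp k e1
      · have := c.za
        rw [k, one_mul] at this
        exact F.nb this (F.ct' hh' e2 (F.zne this))
      · rw [k, F.d.ww, one_mul] at z2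
        exact F.nb z2 (F.ct' (mul_mem hh' F.d'.wH) s2.2 (F.zne z2))
    have n' : h' ∉ zpowers r' := fun k => by
      obtain k | k := F.d'.sq_zp k e2
      · have := c.za
        rw [k, mul_one] at this
        exact F.nb this (F.ct _ hh e1 (F.zne this))
      · rw [k, F.d'.ww, mul_one] at z2
        exact F.nb z2 (F.ct _ (mul_mem hh F.d.wH) s2.1 (F.zne z2))
    have m := F.sw β hb hn h hh
    have m' := F.sw' β hb hn h' hh'
    have ee := c.ee
    rw [← c.eq, ← conj_mul, ← F.comm m' m, F.mul4 hh' m'] at eW ee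
    obtain ⟨f, f'⟩ := F.sq2 (mul_mem hh m') (mul_mem hh' m) ee
    exact eW (F.inW (F.d.sq_zp (F.d.comm2 hh n m' (F.symm.sw_nc hb hn hh' n')) f)
      (F.d'.sq_zp (F.d'.comm2 hh' n' m (F.sw_nc hb hn hh n)) f'))
  · exact F.k3 ha' ha aa' c.aa cm.symm (mt i2.1 q) (i1.2 p) p q z3 z4 c.za z2 (c.eq ▸ c.ze) (c.eq ▸ z6)
  · exact F.k3 ha ha' c.aa aa' cm p q (i2.2 q) (mt i1.1 p) c.za z2 z3 z4 (cm ▸ c.eq ▸ c.ze) (cm ▸ c.eq ▸ z6)
  · refine eW (F.cD ha p q (.inl c.aa) (c.eq ▸ F.rank (mul_mem ha ha') ((F.mul ha ha').2 (iff_of_false p (mt i2.1 q)))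
      ((F.mul' ha ha').2 (iff_of_false q (mt i1.1 p)))) ?_)
    rw [← c.eq, mul_assoc α _ α, cm]

theorem s1 (c : Cf (w * w') (w * w') α β e) (ha : α ∈ S) (hb : β ∈ S) : False := by
  have hn : α * β ∉ T := fun k =>
    c.ue (F.wz (c.he ▸ F.sqW k (by rw [c.he, c.ee])) c.ze).symm
  by_cases h : α ∈ T
  · exact F.k1 c h hb fun h' => hn (mul_mem h h')
  · exact F.k1 c.symm (by_contra fun h' => hn (F.two _ ha _ hb h h')) ha h

theorem not_z (hs : s ∈ S) (hn : s ∉ T) (ss : s * s = 1) (g : Good H (w * w') s) : ¬ IsConj (w * w') s := fun k => by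
  obtain ⟨α, β, c, ha, hb⟩ := F.cf hs hn ss g
  obtain ⟨γ, e, m⟩ := ext_of F.sylZ k F.syl.pgroup.to_inf_left inf_le_right
  have := c.conj γ
  rw [e] at this
  exact F.s1 this (m _ ha) (m _ hb)

theorem swap_false (hs : s ∈ S) (hn : s ∉ T) (ss : s * s = 1) (g : Good H (w * w') s) : False := by
  classical
  let t3 : G → Prop := fun x => Pv H x ↔ Pv H' x
  have tm : ∀ x ∈ T, ∀ y ∈ T, t3 (x * y) ↔ (t3 x ↔ t3 y) := fun x hx y hy => by
    simp only [t3, F.mul hx hy, F.mul' hx hy]; exact iff_aux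
  have tc : ∀ x, t3 (s * x * s⁻¹) ↔ t3 x := fun x => by
    simp only [t3, F.pv_sw hs hn, F.symm.pv_sw hs hn]; exact iff_comm
  have t1 : t3 1 := iff_of_true (pv_of_mem (one_mem _)) (pv_of_mem (one_mem _))
  let ch : G → Prop := fun x => if x ∈ T then t3 x else ¬ t3 (s * x)
  have cm : ∀ x ∈ S, ∀ y ∈ S, ch (x * y) ↔ (ch x ↔ ch y) := fun x hx y hy => by
    by_cases p : x ∈ T <;> by_cases q : y ∈ T
    · simp only [ch, if_pos p, if_pos q, if_pos (mul_mem p q), tm x p y q]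
    · have : x * y ∉ T := fun e => q ((mul_mem_cancel_left p).1 e)
      simp only [ch, if_pos p, if_neg q, if_neg this]
      rw [show s * (x * y) = s * x * s⁻¹ * (s * y) by group, tm _ (F.nT hs p) _ (F.two _ hs _ hy hn q), tc]
      exact not_iff.trans (not_iff_comm.trans iff_comm |>.trans Iff.rfl) |>.trans (by tauto)
    · have : x * y ∉ T := fun e => p ((mul_mem_cancel_right q).1 e)
      simp only [ch, if_neg p, if_pos q, if_neg this]
      rw [← mul_assoc, tm _ (F.two _ hs _ hx hn p) _ q]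
      exact not_iff
    · simp only [ch, if_neg p, if_neg q, if_pos (F.two _ hx _ hy p q)]
      rw [show x * y = s * (s * x) * s⁻¹ * (s * y) by rw [← mul_assoc s s, ss]; group,
        tm _ (F.nT hs (F.two _ hs _ hx hn p)) _ (F.two _ hs _ hy hn q), tc]
      exact not_iff_not.symm
  have c1 : ch 1 := by simpa only [ch, if_pos (one_mem T)] using t1
  have ci : ∀ x ∈ S, ch x⁻¹ ↔ ch x := fun x hx => (cm _ (inv_mem hx) _ hx).1 (by rwa [inv_mul_cancel])
  let N : Subgroup G :=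
    { carrier := {x | x ∈ S ∧ ch x}
      one_mem' := ⟨one_mem _, c1⟩
      mul_mem' := fun {x y} hx hy => ⟨mul_mem hx.1 hy.1, (cm x hx.1 y hy.1).2 (iff_of_true hx.2 hy.2)⟩
      inv_mem' := fun {x} hx => ⟨inv_mem hx.1, (ci x hx.1).2 hx.2⟩ }
  have cs : ¬ ch s := by simpa only [ch, if_neg hn, ss, not_not] using t1
  obtain ⟨γ, hu, e, m⟩ := F.ctx.trf (N := N) (R := S ⊓ Cx s) F.syl (fun x hx y hy =>
      comm_mem (H := S) (K := N) (fun x hx => ⟨mul_mem hx hx, (cm x hx x hx).2 Iff.rfl⟩) hx hy) hs (fun e => cs e.2)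
    (by rw [ss, one_mul]) (fun γ _ => by rw [ss, mul_one, mul_inv_cancel]; exact one_mem _)
    F.syl.pgroup.to_inf_left inf_le_right
  have cu : ch (γ * s * γ⁻¹) := by_contra fun k =>
    e ⟨mul_mem hu (inv_mem hs), (cm _ hu _ (inv_mem hs)).2 (iff_of_false k (mt (ci s hs).1 cs))⟩
  obtain ⟨α, β, c, ha, hb⟩ := F.cf hs hn ss g
  have c' := c.conj γ
  have n1 : ¬ IsConj (w * w') (γ * s * γ⁻¹) := fun k => F.not_z hs hn ss g (k.trans (ic γ s).symm)
  have n2 : ¬ IsConj w' (γ * s * γ⁻¹) := fun k => F.not_t hs hn ss g (k.trans (ic γ s).symm)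
  by_cases hT : γ * s * γ⁻¹ ∈ T
  · simp only [ch, if_pos hT] at cu
    by_cases p : Pv H (γ * s * γ⁻¹)
    · exact (F.clsJ (F.rank hT p (cu.1 p)) c'.uu fun e => hn (conj_eq_one_iff.1 e ▸ one_mem _)).elim n1 n2
    · exact F.s3 c' hT p (mt cu.2 p) (m _ ha) (m _ hb) n1 n2
  · simp only [ch, if_neg hT] at cu
    exact cu (F.two_sw hs hn ss hu hT c'.uu)

end Fu

end DC1

end CfsgLib.GHE
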