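import Mathlib
import Cfsg.Agent.Lib.GHE.DC1d

/-! Block DC1: `T = H × H'`. -/

set_option autoImplicit false
set_option linter.unusedSectionVars false

namespace CfsgLib.GHE

open Subgroup Cfsg CfsgLib.W2 CfsgLib.Tech CfsgLib.Sect CfsgLib.PComp CfsgLib.DihSyl
  CfsgLib.GW.Cor
open CfsgLib.LBal hiding cj
open scoped MatrixGroups commutatorElement

universe u

variable {G : Type u} [Group G] [Finite G]

namespace DC1

variable {S T H H' : Subgroup G} {k : ℕ} {r a w r' a' w' x y h h' s u g d : G}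

theorem DH.nc_inv (D : DH H k r a w) (hh : h ∈ H) (h1 : h ∉ zpowers r) : h * r * h⁻¹ = r⁻¹ := by
  obtain ⟨i, rfl⟩ := D.nc hh h1
  simpa using D.d.rpows_conj_rpow i 1

theorem B0.W_of_inv (B : B0 T H H' k r a w r' a' w') (hx : x ∈ T) (e : x * r * x⁻¹ = r⁻¹) (e' : x * r' * x⁻¹ = r'⁻¹) :
    InW w w' (x * x) := by
  obtain ⟨h, hh, h', hh', f⟩ := B.sqA hx
  obtain ⟨f1, f2⟩ := B.fix hx (B.d.d.zpowers_le hh) (B.d'.d.zpowers_le hh') (by rw [← f, mul_assoc])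
  exact f ▸ B.inW (B.d.inv_cent e hh f1) (B.d'.inv_cent e' hh' f2)

theorem B0.pm (B : B0 T H H' k r a w r' a' w') (hx : x ∈ T) (p : ¬ Pv H x) : x * r * x⁻¹ = r⁻¹ ∨ x * r * x⁻¹ = r := by
  obtain ⟨h, hh, h', hh', f⟩ := B.memJ (B.sqJ hx)
  exact B.d.pm (B.n x hx) p hh (fun c hc => (B.comm hc hh').symm) f (B.fix hx hh hh' (by rw [← f, mul_assoc])).1

theorem B1.mixed (B : B1 S T H H' k r a w r' a' w') (hg : g ∈ S) (hn : g ∉ T) (c : x * g = g * x)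
    (e : x * r * x⁻¹ = r⁻¹) (e' : x * r' * x⁻¹ = r') : False := by
  have n : g * r * g⁻¹ * (g * r * g⁻¹) ≠ 1 := by rw [conj_mul, Ne, conj_eq_one_iff]; exact B.d.rr
  obtain ⟨i, hi⟩ := B.d'.d.mem_zpowers_of_sq_ne_one (B.sw g hg hn r B.d.d.r_mem) n
  have hi : r' ^ i = g * r * g⁻¹ := hi
  have e1 : x * (g * r * g⁻¹) * x⁻¹ = g * r * g⁻¹ := by rw [← hi, cz, e']
  rw [show x * (g * r * g⁻¹) * x⁻¹ = x * g * r * (x * g)⁻¹ by group, c,
    show g * x * r * (g * x)⁻¹ = g * (x * r * x⁻¹) * g⁻¹ by group, e, mul_left_inj, mul_right_inj] at e1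
  exact B.d.rr (by nth_rw 1 [← e1]; rw [inv_mul_cancel])

theorem B1.exists_g (B : B1 S T H H' k r a w r' a' w') (hs : ∀ g ∈ S, g ∉ T → g * g ∉ H ⊔ H') :
    ∃ g ∈ S, g ∉ T ∧ InW w w' (g * g * (g * g)) := by
  obtain ⟨g, hg, hn⟩ := B.ex
  obtain ⟨hx, i⟩ := B.sq3 hg
  have p : ¬ Pv H (g * g) := fun p => hs g hg hn (B.rank hx p (i.1 p))
  have c : g * g * g = g * (g * g) := mul_assoc _ _ _
  obtain e | e := B.pm hx p <;> obtain e' | e' := B.toB0.symm.pm hx (mt i.2 p)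
  · exact ⟨g, hg, hn, B.W_of_inv hx e e'⟩
  · exact (B.mixed hg hn c e e').elim
  · exact (B.symm.mixed hg hn c e' e).elim
  have ha := B.d.d.s_mem
  have ha' := B.sw g hg hn a ha
  have h1 := mul_mem hg (B.TP (B.le ha))
  have f : g * a * (g * a) = g * a * g⁻¹ * (g * g) * a := by group
  have k : ∀ y : G, g * a * (g * a) * y * (g * a * (g * a))⁻¹ =
      g * a * g⁻¹ * (g * g * (a * y * a⁻¹) * (g * g)⁻¹) * (g * a * g⁻¹)⁻¹ := fun y => by group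
  refine ⟨g * a, h1, fun e => hn ((mul_mem_cancel_right (B.le ha)).1 e), B.W_of_inv (B.sq3 h1).1 ?_ ?_⟩
  · rw [k, B.d.d.conj, ← conj_inv, e, ← B.comm (inv_mem B.d.d.r_mem) ha', mul_inv_cancel_right]
  · rw [k, B.comm ha B.d'.d.r_mem, mul_inv_cancel_right, e', B.d'.nc_inv ha' (B.sw_nc hg hn ha B.d.d.notMem)]

namespace Fu

variable (F : Fu S T H H' k r a w r' a' w')
include F

theorem good_of (hd : d ∈ T) (p : ¬ Pv H d) (p' : ¬ Pv H' d) (hs : s ∈ S) (hn : s ∉ T)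
    (e : IsConj (w * w') (a * (s * a * s⁻¹))) : Good H (w * w') s := fun h hh h2 h1 => by
  by_cases c : h ∈ zpowers r
  · rw [(F.d.sq_zp c h2).resolve_left h1, F.sw_w hs hn]
  have ha := F.d.d.s_mem
  have key : ∀ b ∈ H, ∀ f ∈ H, IsConj (b * (s * b * s⁻¹)) (f * b * f⁻¹ * (s * (f * b * f⁻¹) * s⁻¹)) :=
    fun b hb f hf => by
      have := F.zc hb (F.sw s hs hn b hb) hf (F.sw s hs hn f hf)
      rwa [show s * f * s⁻¹ * (s * b * s⁻¹) * (s * f * s⁻¹)⁻¹ = s * (f * b * f⁻¹) * s⁻¹ by group] at this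
  obtain ⟨f, hf, rfl⟩ | ⟨f, hf, rfl⟩ := F.d.cls (F.n d hd) p ha F.d.d.notMem hh c
  · exact e.trans (key a ha f hf)
  refine IsConj.trans ?_ (key _ (F.n d hd a ha) f hf)
  have m := F.n' d hd _ (F.sw s hs hn a ha)
  have q : Pv H' (s * d * s⁻¹ * d⁻¹) := (F.mul' (F.nT hs hd) (inv_mem hd)).2
    (iff_of_false (mt (F.pv_sw hs hn).1 p) (mt (F.toB0.symm.inv hd).1 p'))
  obtain ⟨f', hf', e'⟩ := q _ m (by rw [conj_mul, conj_mul, F.d.d.ss]; group)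
  have := (e.trans (ic' d _ _)).trans (F.zr (F.n d hd a ha) m hf')
  rwa [← e', show s * d * s⁻¹ * d⁻¹ * (d * (s * a * s⁻¹) * d⁻¹) * (s * d * s⁻¹ * d⁻¹)⁻¹ =
    s * (d * a * d⁻¹) * s⁻¹ by group] at this

theorem case_a (hd : d ∈ T) (p : ¬ Pv H d) (p' : ¬ Pv H' d) (hg : g ∈ S) (hn : g ∉ T) (gg : g * g ∈ H ⊔ H') :
    False := by
  have ha := F.d.d.s_mem
  have key : ∀ g ∈ S, g ∉ T → g * g ∈ H ⊔ H' → ¬ IsConj (w * w') (a * (g * a * g⁻¹)) := fun g hg hn gg e => by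
    obtain ⟨h, hh, ss⟩ := F.swinv hg hn gg
    have hs := mul_mem hg (F.TP (F.le hh))
    have hn' : g * h ∉ T := fun e => hn ((mul_mem_cancel_right (F.le hh)).1 e)
    refine F.swap_false hs hn' ss (F.good_of hd p p' hs hn' ?_)
    have := e.trans (F.zr ha (F.sw g hg hn a ha) (F.sw g hg hn h hh))
    rwa [show g * h * g⁻¹ * (g * a * g⁻¹) * (g * h * g⁻¹)⁻¹ = g * h * a * (g * h)⁻¹ by group] at this
  have ha' := F.sw g hg hn a ha
  obtain ⟨c, hc, c1, e⟩ := F.p1 _ ha' (F.sw_nc hg hn ha F.d.d.notMem)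
  obtain ⟨f, hf, rfl⟩ | ⟨f, hf, rfl⟩ := F.d.cls (F.n d hd) p ha F.d.d.notMem hc c1
  · exact key g hg hn gg (e.trans (F.zl ha ha' hf).symm)
  have hi := inv_mem hd
  refine key (d⁻¹ * g) (mul_mem (F.TP hi) hg) (fun e => hn ((mul_mem_cancel_left hi).1 e)) ?_ ?_
  · rw [show d⁻¹ * g * (d⁻¹ * g) = d⁻¹ * (g * d⁻¹ * g⁻¹) * (g * g) by group]
    have q := mt (F.inv hd).1 p
    have q' := mt (F.toB0.symm.inv hd).1 p'
    exact mul_mem (F.rank (mul_mem hi (F.nT hg hi))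
      ((F.mul hi (F.nT hg hi)).2 (iff_of_false q (mt (F.symm.pv_sw hg hn).1 q')))
      ((F.mul' hi (F.nT hg hi)).2 (iff_of_false q' (mt (F.pv_sw hg hn).1 q)))) gg
  · have := (e.trans (F.zl (F.n d hd a ha) ha' hf).symm).trans (ic d⁻¹ _)
    rwa [show d⁻¹ * (d * a * d⁻¹ * (g * a * g⁻¹)) * d⁻¹⁻¹ = a * (d⁻¹ * g * a * (d⁻¹ * g)⁻¹) by group] at this

theorem case_b (hs : ∀ g ∈ S, g ∉ T → g * g ∉ H ⊔ H') : False := by
  obtain ⟨g, hg, hn, xW⟩ := F.exists_g hs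
  have dl : ∀ g ∈ S, g ∉ T → ¬ Pv H (g * g) ∧ ¬ Pv H' (g * g) := fun g hg hn => by
    obtain ⟨hx, i⟩ := F.sq3 hg
    have p : ¬ Pv H (g * g) := fun p => hs g hg hn (F.rank hx p (i.1 p))
    exact ⟨p, mt i.2 p⟩
  obtain ⟨p, p'⟩ := dl g hg hn
  have hx := (F.sq3 hg).1
  have t3 : ∀ y ∈ T, Pv H y ↔ Pv H' y := fun y hy => by
    have := (dl (g * y) (mul_mem hg (F.TP hy)) fun e => hn ((mul_mem_cancel_right hy).1 e)).1
    rw [show g * y * (g * y) = g * y * g⁻¹ * (g * g * y) by group, F.mul (F.nT hg hy) (mul_mem hx hy),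
      F.symm.pv_sw hg hn, F.mul hx hy] at this
    clear dl hs
    tauto
  have jJ : ∀ y ∈ T, y ∈ H ⊔ H' ↔ Pv H y := fun y hy => ⟨F.pvJ, fun q => F.rank hy q ((t3 y hy).1 q)⟩
  have inT : ∀ y ∈ S, y * y ∈ H ⊔ H' → y ∈ T := fun y hy e => by_contra fun n => hs y hy n e
  have az : AZ H H' (w * w') := F.az_of fun h hh h1 h' hh' h1' => by
    have m := F.symm.swi hg hn hh'
    have m1 : g⁻¹ * h' * g ∉ zpowers r := by simpa using F.symm.sw_nc (inv_mem hg) (F.ni hn) hh' h1'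
    have key : ∀ c ∈ H, c ∉ zpowers r → IsConj (g⁻¹ * h' * g * h') (c * h') := fun c hc c1 => by
      obtain ⟨f, hf, rfl⟩ | ⟨f, hf, rfl⟩ := F.d.cls (F.n _ hx) p m m1 hc c1
      · exact F.zl m hh' hf
      · refine IsConj.trans ?_ (F.zl (F.n _ hx _ m) hh' hf)
        rw [F.comm (F.n _ hx _ m) hh']
        exact isConj_iff.2 ⟨g, by group⟩
    obtain ⟨c, hc, c1, e⟩ := F.p1 h' hh' h1'
    exact e.trans ((key c hc c1).symm.trans (key h hh h1))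
  have c1 : ∀ x ∈ T, ∀ y ∈ S, x * y * x⁻¹ * y⁻¹ ∈ H ⊔ H' := fun x hx y hy => by
    have m := F.nT hy (inv_mem hx)
    rw [show x * y * x⁻¹ * y⁻¹ = x * (y * x⁻¹ * y⁻¹) by group, jJ _ (mul_mem hx m), F.mul hx m, ← jJ _ m, ← jJ _ hx]
    exact ⟨fun e => F.nJ' hy (inv_mem e), fun e => by simpa [mul_assoc] using F.nJ' (inv_mem hy) (inv_mem e)⟩
  have cJ : ∀ x ∈ S, ∀ y ∈ S, x * y * x⁻¹ * y⁻¹ ∈ H ⊔ H' := fun x hx y hy => by
    by_cases q : x ∈ T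
    · exact c1 x q y hy
    by_cases q' : y ∈ T
    · simpa [mul_assoc] using inv_mem (c1 y q' x hx)
    · have := F.nJ' hx (inv_mem (c1 _ (F.two _ (inv_mem hx) _ hy (F.ni q) q') x hx))
      simpa [mul_assoc] using this
  have inv : ∀ y ∈ S, y * y = 1 → y ∉ H ⊔ H' → g * g * (g * g) = 1 := fun y hy yy n => by
    have yT := inT y hy (yy ▸ one_mem _)
    have q := mt (jJ y yT).2 n
    rw [F.sq_eq hx p p' xW yT q (mt (t3 y yT).2 q) (.inl yy), yy]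
  have hsq : ∀ γ, γ * (g * g * (g * g)) * γ⁻¹ ∈ S → γ * (g * g * (g * g)) * γ⁻¹ ∈ H ⊔ H' := fun γ m =>
    by_contra fun n => n (by
      rw [inv _ m (by rw [conj_mul, F.W_sq xW]; group) n, mul_one, mul_inv_cancel]; exact one_mem _)
  obtain ⟨γ, hu, e, m⟩ := F.ctx.trf (R := S ⊓ Cx (g * g)) F.syl cJ (F.TP hx) (mt F.pvJ p) (F.W_sq xW) hsq
    F.syl.pgroup.to_inf_left inf_le_right
  have uT := inT _ hu (by rw [conj_mul]; exact hsq γ (conj_mul (b := γ) ▸ mul_mem hu hu))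
  have uJ : γ * (g * g) * γ⁻¹ ∈ H ⊔ H' := (jJ _ uT).2 (by_contra fun n => e ((jJ _ (mul_mem uT (inv_mem hx))).2
    ((F.mul uT (inv_mem hx)).2 (iff_of_false n (mt (F.inv hx).1 p)))))
  have hc := m g ⟨hg, mem_cent.2 (mul_assoc g g g).symm⟩
  have he := m w ⟨F.TP (F.le F.d.wH), mem_cent.2 (F.Tw hx).symm⟩
  have wi := inv_eq_of_mul_eq_one_right F.d.ww
  have e1 : γ * g * γ⁻¹ * (γ * w * γ⁻¹) * (γ * g * γ⁻¹)⁻¹ * (γ * w * γ⁻¹)⁻¹ = γ * (w * w') * γ⁻¹ := by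
    rw [F.ww', ← F.sw_w hg hn]; nth_rw 4 [← wi]; group
  have e2 : γ * g * γ⁻¹ * (γ * w * γ⁻¹) * (γ * g * γ⁻¹ * (γ * w * γ⁻¹)) = γ * (g * g) * γ⁻¹ * (γ * (w * w') * γ⁻¹) := by
    rw [conj_mul, conj_mul, conj_mul, ← mul_assoc (g * g), F.Tw hx, mul_assoc w, F.toB0.symm.Tw hx, ← mul_assoc w, F.ww',
      mul_assoc w', ← F.Tw hx, ← F.sw_w hg hn]; group
  have zJ := e1 ▸ cJ _ hc _ he
  have cT := inT _ hc (by rwa [conj_mul])
  have ceT := inT _ (mul_mem hc he) (e2 ▸ mul_mem uJ zJ)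
  have eT := (mul_mem_cancel_left cT).1 ceT
  have ee : γ * w * γ⁻¹ * (γ * w * γ⁻¹) = 1 := by rw [conj_mul, F.d.ww]; group
  have zz : γ * (w * w') * γ⁻¹ * (γ * (w * w') * γ⁻¹) = 1 := by rw [conj_mul, F.zz]; group
  by_cases eJ : γ * w * γ⁻¹ ∈ H ⊔ H'
  · refine F.nb (ic γ _) ?_
    obtain q | q := F.one_sided az eJ (F.tw.trans (ic γ w))
    · exact F.ct _ (e1 ▸ mul_mem (F.n _ cT _ q) (inv_mem q)) zz (F.zne (ic γ _))
    · exact F.ct' (e1 ▸ mul_mem (F.n' _ cT _ q) (inv_mem q)) zz (F.zne (ic γ _))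
  have x1 := inv _ he ee eJ
  have q := mt (jJ _ eT).2 eJ
  have key : ∀ v ∈ T, ¬ Pv H v → v * v * (v * v) = 1 → v * v = 1 := fun v hv n vv =>
    (F.sq_eq hv n (mt (t3 v hv).2 n) (F.sqW hv vv) eT q (mt (t3 _ eT).2 q) (.inl ee)).trans ee
  by_cases n : Pv H (γ * g * γ⁻¹)
  · have := key _ ceT (mt (F.mul cT eT).1 fun i => q (i.1 n)) (by
      rw [e2, conj_mul, conj_mul, mul_assoc (g * g), ← mul_assoc (w * w'), ← F.Tz hx, mul_assoc (g * g), F.zz, mul_one, x1]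
      group)
    rw [e2, conj_mul, conj_eq_one_iff, mul_eq_one_iff_eq_inv] at this
    exact p (F.pvJ (this ▸ inv_mem (mul_mem_sup F.d.wH F.d'.wH)))
  · have := key _ cT n (by rw [conj_mul, conj_mul, x1]; group)
    rw [conj_mul, conj_eq_one_iff] at this
    exact p (this ▸ pv_of_mem (one_mem _))

theorem eq : T ≤ H ⊔ H' := fun y hy => by_contra fun n => by
  refine F.case_b fun g hg hn gg => ?_
  have m := F.nT hg hy
  by_cases i : Pv H y ↔ Pv H' y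
  · have p : ¬ Pv H y := fun p => n (F.rank hy p (i.1 p))
    exact F.case_a hy p (mt i.2 p) hg hn gg
  · exact F.case_a (mul_mem hy m) (by rwa [F.mul hy m, F.symm.pv_sw hg hn])
      (by rwa [F.mul' hy m, F.pv_sw hg hn, iff_comm]) hg hn gg

end Fu

end DC1

end CfsgLib.GHE
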