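import Mathlib
import Cfsg.Agent.Lib.GHE.Base1
import Cfsg.Agent.Lib.DihSyl.Fusion
import Cfsg.Agent.Lib.ZStar.Main

/-! Block DC1: fusion in the component and the Z*-theorem in L⟨u⟩.
fusL: L is perfect, isConj_of_no_index_two in the group L.  fusM: l (a r) l⁻¹ = b r o with o in the core of L, two involutions with a product of
odd order (Tech.exists_pow_conj_of_odd).  zl: H ⊔ ⟨u⟩ is Sylow in X = L ⊔ ⟨u⟩; a conjugate of u under X lies in u L; if u is isolated then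
[u, L] lies in O(X) ⊓ L ≤ O(L), so u ∈ cmod. -/

set_option autoImplicit false

namespace CfsgLib.GHE

open Subgroup Cfsg CfsgLib.W2 CfsgLib.Tech CfsgLib.Sect CfsgLib.PComp CfsgLib.DihSyl
  CfsgLib.GW.Cor
open CfsgLib.LBal hiding cj
open scoped MatrixGroups commutatorElement

universe u

variable {G : Type u} [Group G] [Finite G] {y a b r u : G}

theorem Sim.fusL (h : Sim G) (hy : orderOf y = 2) (ne : LL y ≠ ⊥) {m : ℕ} (d : DS (LL y) m) (ha : a ∈ LL y)
    (hb : b ∈ LL y) (oa : orderOf a = 2) (ob : orderOf b = 2) : ∃ l ∈ LL y, l * a * l⁻¹ = b := by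
  have := Fact.mk Nat.prime_two
  obtain ⟨H, hH⟩ := exists_isSylowIn 2 (LL y)
  obtain ⟨r, s, e⟩ := d.2 H hH
  have hr := hH.le ((e.mem r).2 ⟨1, .inl (zpow_one r).symm⟩)
  have hs := hH.le ((e.mem s).2 ⟨0, .inr (by simp)⟩)
  have e' : IsDih (hH.toSylow : Subgroup (LL y)) m ⟨r, hr⟩ ⟨s, hs⟩ :=
    ⟨(orderOf_mk _ _).trans e.ord, Subtype.ext e.ss, Subtype.ext e.conj,
      fun ⟨i, k⟩ => e.notMem ⟨i, congrArg Subtype.val k⟩, fun g => hH.mem_toSylow.trans ((e.mem g).trans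
        (exists_congr fun i => or_congr (Subtype.ext_iff (a2 := (⟨r, hr⟩ : LL y) ^ i)).symm
          (Subtype.ext_iff (a2 := (⟨r, hr⟩ : LL y) ^ i * ⟨s, hs⟩)).symm))⟩
  have hp : commutator (LL y) = ⊤ := by
    apply map_injective (LL y).subtype_injective
    rw [commutator_def, map_commutator, ← MonoidHom.range_eq_map, range_subtype, (h.pc y hy ne).pqs.perfect]
  obtain ⟨g, hg⟩ := isConj_iff.1 (e'.isConj_of_no_index_two (fun M hM => by
    have := M.normal_of_index_eq_two hM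
    have h3 : commutator (LL y) ≤ M := Normal.quotient_commutative_iff_commutator_le.1
      (isCyclic_of_prime_card (p := 2) hM).isMulCommutative
    rw [top_le_iff.1 (hp.ge.trans h3), index_top] at hM
    omega) (a := ⟨a, ha⟩) (b := ⟨b, hb⟩) (by rwa [orderOf_mk]) (by rwa [orderOf_mk]))
  exact ⟨g, g.2, congrArg Subtype.val hg⟩

theorem Sim.fusM (h : Sim G) (hy : orderOf y = 2) (ne : LL y ≠ ⊥) {m : ℕ} (d : DS (LL y) m) (ha : a ∈ LL y)
    (hb : b ∈ LL y) (oa : orderOf a = 2) (ob : orderOf b = 2) (hr : r ∈ MM y) (rr : r * r = 1)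
    (ca : a * r = r * a) (cb : b * r = r * b) : ∃ l ∈ LL y, l * (a * r) * l⁻¹ = b * r := by
  obtain ⟨l, hl, rfl⟩ := h.fusL hy ne d ha hb oa ob
  have sq : ∀ {c}, orderOf c = 2 → c * r = r * c → c * r * (c * r) = 1 := fun o k => by
    rw [mul_assoc, ← mul_assoc r, ← k, mul_assoc, rr, mul_one, sq_of_ord o]
  have e : l * a * l⁻¹ * r * (l * (a * r) * l⁻¹) = ⁅r, l⁆ := by
    rw [cb, commutatorElement_def, inv_eq_of_mul_eq_one_right rr, mul_assoc r, conj_mul, ← mul_assoc a,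
      sq_of_ord oa, one_mul, ← mul_assoc, ← mul_assoc]
  have m := hr.2.2 l hl
  obtain ⟨k, hk⟩ := Tech.exists_pow_conj_of_odd (sq ob cb) (y := l * (a * r) * l⁻¹)
    (by rw [conj_mul, sq oa ca, mul_one, mul_inv_cancel])
    (e ▸ (odd_card_opOf (LL y)).of_dvd_nat (orderOf_dvd_natCard _ m))
  rw [e] at hk
  exact ⟨_, mul_mem (pow_mem (opOf_le _ m) k) hl, by rw [← hk]; group⟩

theorem zl {H : Subgroup G} (hH : IsSylowIn 2 H (LL y)) (hu : u ∈ Cx y) (uu : u * u = 1) (uL : u ∉ LL y)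
    (uM : u ∉ MM y) (c : H ≤ Cx u) : ∃ x ∈ H, x ≠ 1 ∧ x * x = 1 ∧ ∃ l ∈ LL y, l * u * l⁻¹ = u * x := by
  have := Fact.mk Nat.prime_two
  by_contra hno
  have n := LL_nrm y hu
  have o : orderOf u = 2 := ord_two uu fun k => uL (k ▸ one_mem _)
  obtain ⟨T, hT, le⟩ := exists_isSylowIn_ge (H := LL y ⊔ zpowers u) (Q := H ⊔ zpowers u)
    (hH.pgroup.to_sup_of_normal_right' (isPGroup_zpowers_of_pow (k := 1) (by rwa [pow_one, pow_two]))
      fun x hx => mem_normalizer_of_forall (by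
        rintro _ ⟨i, rfl⟩
        rw [((show Commute x u from mem_Cx.1 (c hx)).zpow_right i).eq, mul_inv_cancel_right]
        exact ⟨i, rfl⟩)) (sup_le_sup_right hH.le _)
  have eq := hH.eq_of_le (hT.pgroup.to_inf_left (K := LL y)) (le_inf (le_sup_left.trans le) hH.le) inf_le_right
  have uT := le (mem_sup_right (mem_zpowers u))
  have iso := ZStar.isIsolatedInvolution_of_sylow hT.toSylow (u := ⟨u, hT.le uT⟩) ((orderOf_mk _ _).trans o)
    (hT.mem_toSylow.2 uT) fun g hg => Subtype.ext (by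
      obtain ⟨l, hl, _, ⟨i, rfl⟩, e⟩ := (Core.mem_sup_of_le_normalizer_left (zpowers_le.2 n)).1 g.2
      have k : (g : G) * u * (g : G)⁻¹ = l * u * l⁻¹ := by rw [← e]; group
      have m : u⁻¹ * (l * u * l⁻¹) ∈ H := eq.le (mem_inf.2 ⟨mul_mem (inv_mem uT) (k ▸ hT.mem_toSylow.1 hg), by
        simpa [mul_assoc] using mul_mem (conj_mem_of_mem_normalizer' n hl) (inv_mem hl)⟩)
      refine k.trans (inv_mul_eq_one.1 (by_contra fun k1 => hno ⟨_, m, k1, ?_, l, hl, by group⟩)).symm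
      have k2 := mem_Cx.1 (c m)
      rw [mul_inv_cancel_left, mul_assoc, inv_mul_eq_iff_eq_mul] at k2
      rw [inv_eq_of_mul_eq_one_right uu, mul_assoc, ← mul_assoc _ u, k2, mul_assoc u, conj_mul, uu, mul_one,
        mul_inv_cancel, mul_one, uu])
  refine uM ⟨hu, n, fun k hk => inf_opOf_le (K := LL y ⊔ zpowers u) le_sup_left ⟨?_,
    ⟨_, ZStar.zstar iso ⟨k, mem_sup_left hk⟩, rfl⟩⟩⟩
  exact (LL y).mul_mem (conj_mem_of_mem_normalizer n hk) ((LL y).inv_mem hk)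

end CfsgLib.GHE
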