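import Mathlib
import Cfsg.Agent.Lib.GHE.Tool1
import Cfsg.Agent.Lib.GHE.LocD1

/-! DC2 package B3 (also used by DN2 with `k = 2`): `D` dihedral of order `4 k`, `T = C_S(t)` fixes the two
classes of reflections of `D`, `g` swaps them.

PROOF.  `2 k` is a power of 2, so `k` is even, `w = ρ^k ∈ ⟨ρ²⟩` is the central involution of `D`, fixed by `N(D)`.
Every `x ∈ N(D)` has `x ρ x⁻¹ = ρ^κ` (κ odd; `IsDih.conj_mem_zpowers`/`mem_zpowers_of_sq_ne_one`), `x s x⁻¹ = ρ^i s`,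
so `x (ρ^j s) x⁻¹ = ρ^(κ j + i) s`; `i` is even for `x ∈ T`, odd for `x = g`.
(0) `x ∈ T`, `x ρ x⁻¹ = ρ^(±1)` => `x ∈ D ∨ t x ∈ D` (multiply by `s`, then by a power of `ρ`: the result centralises `D`; `cD`).
(0') `x ∈ T` commuting with `ρ²` and `ρ s` => `x² = 1 ∨ x² = t w` (conjugate `cH` by `δ g`, `δ ∈ ⟨ρ⟩`, `(δ g) s (δ g)⁻¹ = ρ s`).
(A) `y ∈ T`, `y² ∈ D` => `y ∈ D ∨ t y ∈ D`.  `κ² ≡ ±1 (2k)`, so `κ ≡ ±1` (use (0)) or `κ ≡ ±1 + k` with `4 ∣ k`.  In the second case some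
  `y₀ ∈ y D` has `y₀ ρ y₀⁻¹ = ρ w`, `y₀ s = s y₀`; `y₀² ∈ D`, `cH` gives `y₀² = 1`.  With `f = ρ^(k/2)` the element `y₀ f` commutes with `ρ²`, `ρ s`
  and `(y₀ f)² = w`, against (0').
(1) `S = T ∪ T g`.  Let `T₁ = T ⊔ ⟨g⟩ ≤ N(D)`; if `T₁ < S` take `x ∈ N_S(T₁) - T₁`.  `x w x⁻¹` is a central involution of `T₁`, so in `T`, so (`cD`, `e`) it is `w`.
  `y = x t x⁻¹ ∈ T₁` has `σ y σ⁻¹ ∈ {y, y w}` for `σ ∈ T₁`.  With `σ = s`: `y s y⁻¹ ∈ {s, s w}`, so `y ∈ T`; by (A) and `nc`, `y = t δ`, `δ ∈ D`, `δ² = 1`.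
  `δ = ρ^j s` is impossible (`σ = g` changes the parity of `j`), so `y ∈ {t, t w}` and `x` or `g⁻¹ x` centralises `t`: `x ∈ T₁`.
(B) `⁅S, S⁆ ≤ D`.  Commutators lie in `T` and centralise `ρ`, so by (0) they lie in `D ∪ t D`, and `t` is central mod `D`.  `S₀ = {x ∈ S | x ρ x⁻¹ = ρ^(±1)}` is normal, `S/S₀` is abelian with at most
  one involution, so cyclic (`Frob.cyclic_or_quaternion_of_unique`, or: units `≡ 1 (4)` of `ZMod 2^e` are powers of 5): `S = S₀ ⟨p⟩`.  `S₀ ∩ T = D ⟨t⟩`.  If `S₀ ≤ T`, `S/D = ⟨t, p⟩` is abelian.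
  Else take `x ∈ S₀ - T` centralising `ρ`; `S/D = ⟨t, x, p⟩`; suppose `p x p⁻¹ ∈ x t D`.  `x² = ρ^j` with `j` odd (it is in `⟨ρ, t⟩`, commutes with `x`, moves `s` by `ρ^(2 i)`, `i` odd);
  `(s x)² ∈ {1, w}` and `(s x t)² = (s x)² w`, so one of the cosets `x D`, `x t D` contains an involution, hence both do, against (C).
(C) `x ∈ S - T`, `x² = 1`, `δ ∈ D` => `(x t δ)² ≠ 1`: it equals `w (x δ x⁻¹) δ`; `x` inverts `s (x s x⁻¹)`, a generator of `⟨ρ⟩`, and changes the parity of reflections.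
(D) `TL2.mem_of_transfer` with `H = S`: if `S - T` has an involution `x₀` put `Q = D ⊔ ⟨x₀ t⟩ = D ∪ x₀ t D`, else `Q = D`.  A conjugate `y ∈ S` of `t` is in `t D` ((A), `nc`) or
  `y ∉ T`, `y x₀ ∈ T`, `(y x₀)² ∈ D` (B), so `y x₀ ∈ D` by (A), (C).  So `y t ∈ Q`, but `t ∉ Q`. -/

set_option autoImplicit false
set_option linter.unusedSectionVars false

namespace CfsgLib.GHE

open Subgroup Cfsg CfsgLib.W2 CfsgLib.Tech CfsgLib.Sect CfsgLib.PComp CfsgLib.DihSyl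
  CfsgLib.GW.Cor
open CfsgLib.LBal hiding cj
open scoped MatrixGroups commutatorElement

universe u

variable {G : Type u} [Group G] [Finite G]

theorem b3_sup {P : Subgroup G} {a x : G} (hn : a ∈ normalizer (P : Set G)) (h2 : a * a ∈ P) :
    x ∈ P ⊔ zpowers a ↔ x ∈ P ∨ a * x ∈ P := by
  let K : Subgroup G :=
    { carrier := {x | x ∈ P ∨ a * x ∈ P}
      one_mem' := .inl (one_mem _)
      mul_mem' := by
        rintro x y (hx | hx) (hy | hy)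
        · exact .inl (mul_mem hx hy)
        · refine .inr ?_
          convert mul_mem (conj_mem_of_mem_normalizer hn hx) hy using 1; group
        · exact .inr (mul_assoc a x y ▸ mul_mem hx hy)
        · refine .inl ?_
          convert mul_mem (mul_mem (conj_mem_of_mem_normalizer' hn hx) (inv_mem h2)) hy using 1; group
      inv_mem' := by
        rintro x (hx | hx)
        · exact .inl (inv_mem hx)
        · refine .inr ?_
          convert mul_mem (conj_mem_of_mem_normalizer hn (inv_mem hx)) h2 using 1; group }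
  refine ⟨fun hx => (sup_le (fun y hy => .inl hy) (zpowers_le.2 (.inr h2)) : _ ≤ K) hx, ?_⟩
  rintro (hx | hx)
  · exact mem_sup_left hx
  · exact (mul_mem_cancel_left (mem_sup_right (mem_zpowers a))).1 (mem_sup_left hx)

/-- an abelian section of a 2-group with at most one involution is cyclic -/
theorem b3_cyc {S N : Subgroup G} (hS : IsPGroup 2 S) (c : ∀ a ∈ S, ∀ b ∈ S, a * b * a⁻¹ * b⁻¹ ∈ N)
    (u : ∀ x ∈ S, ∀ y ∈ S, x * x ∈ N → y * y ∈ N → x ∉ N → y ∉ N → x * y ∈ N) :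
    ∃ p ∈ S, ∀ x ∈ S, ∃ i : ℤ, (p ^ i)⁻¹ * x ∈ N := by
  have : (N.subgroupOf S).Normal := ⟨fun n hn a => mem_subgroupOf.2 (by
    have := mul_mem (c a a.2 n n.2) (mem_subgroupOf.1 hn)
    rwa [inv_mul_cancel_right] at this)⟩
  have hQ := hS.to_quotient (N.subgroupOf S)
  have hc : IsCyclic (S ⧸ N.subgroupOf S) := by
    refine Frob.isCyclic_of_comm_of_forall_mem_zpowers ⟨⟨fun a b => ?_⟩⟩ fun p hp a b ha hb => ?_
    · obtain ⟨a, rfl⟩ := QuotientGroup.mk_surjective a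
      obtain ⟨b, rfl⟩ := QuotientGroup.mk_surjective b
      rw [← QuotientGroup.mk_mul, ← QuotientGroup.mk_mul, QuotientGroup.eq, mem_subgroupOf]
      simpa [mul_assoc] using c _ (inv_mem b.2) _ (inv_mem a.2)
    · obtain ⟨n, hn⟩ := hQ a
      obtain rfl : p = 2 := (Nat.prime_dvd_prime_iff_eq hp Nat.prime_two).1
        (hp.dvd_of_dvd_pow (ha ▸ orderOf_dvd_of_pow_eq_one hn))
      obtain ⟨a, rfl⟩ := QuotientGroup.mk_surjective a
      obtain ⟨b, rfl⟩ := QuotientGroup.mk_surjective b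
      have key : ∀ x : S, orderOf (x : S ⧸ N.subgroupOf S) = 2 → (x : G) * x ∈ N ∧ (x : G) ∉ N := fun x hx => by
        refine ⟨?_, fun e => ?_⟩
        · have := pow_orderOf_eq_one (x : S ⧸ N.subgroupOf S)
          rwa [hx, pow_two, ← QuotientGroup.mk_mul, QuotientGroup.eq_one_iff] at this
        · rw [(QuotientGroup.eq_one_iff x).2 (mem_subgroupOf.2 e), orderOf_one] at hx
          exact absurd hx (by norm_num)
      have h1 : ((a * b : S) : S ⧸ N.subgroupOf S) = 1 := (QuotientGroup.eq_one_iff _).2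
        (mem_subgroupOf.2 (u a a.2 b b.2 (key a ha).1 (key b hb).1 (key a ha).2 (key b hb).2))
      rw [QuotientGroup.mk_mul, mul_eq_one_iff_inv_eq] at h1
      exact h1 ▸ inv_mem (mem_zpowers _)
  obtain ⟨p, hp⟩ := hc.exists_generator
  obtain ⟨p, rfl⟩ := QuotientGroup.mk_surjective p
  refine ⟨p, p.2, fun x hx => ?_⟩
  obtain ⟨i, hi⟩ := hp ((⟨x, hx⟩ : S) : S ⧸ N.subgroupOf S)
  refine ⟨i, ?_⟩
  have h1 : ((p ^ i : S) : S ⧸ N.subgroupOf S) = ((⟨x, hx⟩ : S) : S ⧸ N.subgroupOf S) := by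
    rw [QuotientGroup.mk_zpow]; exact hi
  simpa using mem_subgroupOf.1 (QuotientGroup.eq.1 h1)

/-- the hypotheses of `Ctx.b3` -/
structure B3 (S T D : Subgroup G) (t g ρ s w : G) (k : ℕ) : Prop where
  hS : IsSylowIn 2 S ⊤
  ot : orderOf t = 2
  hT : ∀ x, x ∈ T ↔ x ∈ S ∧ x * t = t * x
  tS : t ∈ S
  gS : g ∈ S
  gg : g * g ∈ T
  gn : g ∈ normalizer (T : Set G)
  hd : IsDih D (2 * k) ρ s
  hk : 2 ≤ k
  hw : w = ρ ^ k
  DT : D ≤ T
  nD : T ≤ normalizer (D : Set G)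
  gD : g ∈ normalizer (D : Set G)
  e : g * t * g⁻¹ = t * w
  nc : ∀ x ∈ D, ¬ IsConj t x
  cp : ∀ x ∈ T, s * (x * s * x⁻¹) ∈ zpowers (ρ ^ 2)
  sp : s * (g * s * g⁻¹) ∉ zpowers (ρ ^ 2)
  cD : ∀ x ∈ T, D ≤ Cx x → x = 1 ∨ x = w ∨ x = t ∨ x = t * w
  cH : ∀ x ∈ T, x * ρ ^ 2 = ρ ^ 2 * x → x * s = s * x → x * x = 1 ∨ x * x = t

namespace B3

variable {S T D : Subgroup G} {t g ρ s w x y : G} {k : ℕ} (h : B3 S T D t g ρ s w k)
include h

theorem TS : T ≤ S := fun x hx => ((h.hT x).1 hx).1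
theorem tc (hx : x ∈ T) : x * t = t * x := ((h.hT x).1 hx).2
theorem tT : t ∈ T := (h.hT t).2 ⟨h.tS, rfl⟩
theorem tt : t * t = 1 := by rw [← pow_two, ← h.ot, pow_orderOf_eq_one]
theorem tD : t ∉ D := fun e => h.nc t e (IsConj.refl t)
theorem w_eq : w = ρ ^ (k : ℤ) := by rw [zpow_natCast, h.hw]
theorem ww : w * w = 1 ∧ w ≠ 1 := h.w_eq ▸ h.hd.half rfl (by have := h.hk; omega)
theorem wD : w ∈ D := h.w_eq ▸ h.hd.rpow_mem _
theorem eq_iff {i j : ℤ} : ρ ^ i = ρ ^ j ↔ 2 * (k : ℤ) ∣ i - j := by rw [h.hd.eq_iff]; push_cast; rfl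
theorem eq_iff' {i j : ℤ} : ρ ^ i * s = ρ ^ j * s ↔ 2 * (k : ℤ) ∣ i - j := by rw [mul_left_inj, h.eq_iff]

theorem pw : ∃ m : ℕ, (k : ℤ) = 2 ^ (m + 1) := by
  obtain ⟨m, e⟩ := h.hd.exists_pow_of_isPGroup (h.hS.pgroup.to_le (h.DT.trans h.TS))
  have := h.hk
  rcases m with _ | _ | m
  · omega
  · omega
  · refine ⟨m, ?_⟩
    have : k = 2 ^ (m + 1) := by rw [pow_succ] at e; omega
    exact_mod_cast this

theorem ke : ∃ l : ℤ, (k : ℤ) = 2 * l := by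
  obtain ⟨m, e⟩ := h.pw
  exact ⟨2 ^ m, by rw [e]; ring⟩

theorem dvd_odd {i j : ℤ} (hi : Odd i) (e : 2 * (k : ℤ) ∣ j * i) : 2 * (k : ℤ) ∣ j := by
  obtain ⟨m, hm⟩ := h.pw
  rw [hm, ← pow_succ'] at e ⊢
  exact IsCoprime.dvd_of_dvd_mul_right (IsCoprime.pow_left (Int.isCoprime_two_left.2 hi)) e

theorem ρρ : ρ * ρ ≠ 1 := fun e => by
  have := orderOf_dvd_of_pow_eq_one (by rw [pow_two, e] : ρ ^ 2 = 1)
  rw [h.hd.ord] at this
  have := Nat.le_of_dvd two_pos this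
  have := h.hk
  omega

theorem inv_zp (i : ℤ) (xx : ρ ^ i * ρ ^ i = 1) : ρ ^ i = 1 ∨ ρ ^ i = w :=
  or_iff_not_imp_left.2 fun n => h.hd.eq_of_sq ⟨i, rfl⟩ ⟨_, h.w_eq.symm⟩ xx h.ww.1 n h.ww.2

theorem zp (hx : x ∈ normalizer (D : Set G)) : ∃ κ : ℤ, ∀ j : ℤ, x * ρ ^ j * x⁻¹ = ρ ^ (κ * j) := by
  obtain ⟨κ, e⟩ := h.hd.mem_zpowers_of_sq_ne_one (conj_mem_of_mem_normalizer hx h.hd.r_mem)
    (by rw [conj_mul, Ne, conj_eq_one_iff]; exact h.ρρ)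
  exact ⟨κ, fun j => by rw [← conj_zpow, ← e, zpow_mul]⟩

theorem act (hx : x ∈ normalizer (D : Set G)) : ∃ κ i : ℤ, Odd κ ∧ (∀ j : ℤ, x * ρ ^ j * x⁻¹ = ρ ^ (κ * j)) ∧
    ∀ j : ℤ, x * (ρ ^ j * s) * x⁻¹ = ρ ^ (κ * j + i) * s := by
  obtain ⟨κ, e1⟩ := h.zp hx
  obtain ⟨i, e2 | e2⟩ := (h.hd.mem _).1 (conj_mem_of_mem_normalizer hx h.hd.s_mem)
  · obtain ⟨κ', e3⟩ := h.zp (inv_mem hx)
    refine (h.hd.notMem ⟨κ' * i, ?_⟩).elim
    simp only
    rw [← e3, ← e2]; group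
  refine ⟨κ, i, Int.not_even_iff_odd.1 fun ⟨c, ec⟩ => h.ww.2 ?_, e1, fun j => by
    rw [← conj_mul, e1, e2, zpow_add, mul_assoc]⟩
  have := e1 k
  rw [← h.w_eq, ← zpow_zero ρ] at *
  rw [h.eq_iff.2 (⟨c, by rw [ec]; ring⟩ : 2 * (k : ℤ) ∣ κ * k - 0), zpow_zero, conj_eq_one_iff] at this
  rw [this, zpow_zero]

theorem wc (hx : x ∈ normalizer (D : Set G)) : x * w = w * x := by
  obtain ⟨κ, i, ⟨c, hc⟩, e, -⟩ := h.act hx
  rw [← mul_inv_eq_iff_eq_mul, h.w_eq, e, h.eq_iff, hc]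
  exact ⟨c, by ring⟩

theorem mem_sq {i : ℤ} (e : x * s * x⁻¹ = ρ ^ i * s) : s * (x * s * x⁻¹) ∈ zpowers (ρ ^ 2) ↔ Even i := by
  have e1 : s * (ρ ^ i * s) = ρ ^ (-i) := by simpa using h.hd.rpows_mul_rpows 0 i
  rw [e, e1]
  refine ⟨fun ⟨j, e⟩ => ?_, fun ⟨j, e⟩ => ⟨-j, by
    simp only
    rw [e, ← zpow_ofNat, ← zpow_mul]; congr 1; ring⟩⟩
  replace e : ρ ^ (2 * j) = ρ ^ (-i) := by rw [zpow_mul, zpow_ofNat]; exact e
  obtain ⟨c, e⟩ := h.eq_iff.1 e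
  exact ⟨k * c - j, by linarith⟩

theorem at0 {κ i : ℤ} (e : ∀ j : ℤ, x * (ρ ^ j * s) * x⁻¹ = ρ ^ (κ * j + i) * s) : x * s * x⁻¹ = ρ ^ i * s := by
  simpa using e 0

theorem ev (hx : x ∈ T) {i : ℤ} (e : x * s * x⁻¹ = ρ ^ i * s) : Even i := (h.mem_sq e).1 (h.cp x hx)

theorem od (hx : g * x ∈ T) : x ∈ normalizer (D : Set G) ∧ x * t * x⁻¹ = t * w ∧
    ∀ i : ℤ, x * s * x⁻¹ = ρ ^ i * s → Odd i := by
  refine ⟨(mul_mem_cancel_left h.gD).1 (h.nD hx), ?_, fun i e => ?_⟩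
  · have e1 := h.tc hx
    have e2 := h.wc h.gD
    calc x * t * x⁻¹ = g⁻¹ * (g * x * t) * x⁻¹ := by group
      _ = g⁻¹ * (t * w * w) * g := by rw [e1, mul_assoc t w w, h.ww.1]; group
      _ = t * (g⁻¹ * (w * g)) := by rw [← h.e]; group
      _ = t * w := by rw [← e2]; group
  · obtain ⟨κ, i', hκ, -, e1⟩ := h.act h.gD
    have e2 := mt (h.mem_sq (h.at0 e1)).2 h.sp
    have e3 := h.ev hx (i := κ * i + i') (by rw [← e1, ← e]; group)
    rw [Int.even_add, Int.even_mul, ← Int.not_odd_iff_even (n := κ)] at e3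
    rw [← Int.not_even_iff_odd]
    tauto

theorem gT : g ∉ T := fun e => h.ww.2 (by
  have := h.e
  rwa [h.tc e, mul_inv_cancel_right, left_eq_mul] at this)

theorem fix_s (hx : x ∈ T) : ∃ j : ℤ, ρ ^ j * x * s = s * (ρ ^ j * x) := by
  obtain ⟨κ, i, -, -, e⟩ := h.act (h.nD hx)
  obtain ⟨j, rfl⟩ := h.ev hx (h.at0 e)
  refine ⟨-j, mul_inv_eq_iff_eq_mul.1 ?_⟩
  have := h.hd.rpow_conj_rpows (-j) (j + j)
  rw [show j + j + 2 * -j = 0 by ring, zpow_zero, one_mul, ← h.at0 e] at this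
  exact Eq.trans (by group) this

theorem z1 (hx : x ∈ T) (c : x * ρ = ρ * x) : x ∈ D ∨ t * x ∈ D := by
  obtain ⟨j, e⟩ := h.fix_s hx
  have jD := h.hd.rpow_mem j
  have c1 : Commute (ρ ^ j * x) ρ := ((Commute.refl ρ).zpow_left j).mul_left c
  have := h.cD _ (mul_mem (h.DT jD) hx) fun d hd => mem_Cx.2 (by
    obtain ⟨i, rfl | rfl⟩ := (h.hd.mem d).1 hd
    · exact (c1.zpow_right i).eq.symm
    · exact ((c1.zpow_right i).mul_right e).eq.symm)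
  have k1 : t * (ρ ^ j * x) = ρ ^ j * (t * x) := by rw [← mul_assoc, ← h.tc (h.DT jD), mul_assoc]
  rcases this with e | e | e | e
  · exact .inl ((mul_mem_cancel_left jD).1 (e ▸ one_mem D))
  · exact .inl ((mul_mem_cancel_left jD).1 (e ▸ h.wD))
  · exact .inr ((mul_mem_cancel_left jD).1 (by rw [← k1, e, h.tt]; exact one_mem D))
  · exact .inr ((mul_mem_cancel_left jD).1 (by rw [← k1, e, ← mul_assoc, h.tt, one_mul]; exact h.wD))

theorem s_mul_comm (c : x * ρ * x⁻¹ = ρ⁻¹) : s * x * ρ = ρ * (s * x) := by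
  calc s * x * ρ = s * (x * ρ * x⁻¹) * s⁻¹ * (s * x) := by group
    _ = ρ * (s * x) := by rw [c, ← conj_inv, h.hd.conj, inv_inv]

theorem z0 (hx : x ∈ T) (c : x * ρ * x⁻¹ = ρ ∨ x * ρ * x⁻¹ = ρ⁻¹) : x ∈ D ∨ t * x ∈ D := by
  rcases c with c | c
  · exact h.z1 hx (mul_inv_eq_iff_eq_mul.1 c)
  · refine (h.z1 (mul_mem (h.DT h.hd.s_mem) hx) (h.s_mul_comm c)).imp (mul_mem_cancel_left h.hd.s_mem).1 fun e => ?_
    rw [← mul_assoc, ← h.tc (h.DT h.hd.s_mem), mul_assoc] at e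
    exact (mul_mem_cancel_left h.hd.s_mem).1 e

theorem z0' (hx : x ∈ T) (c1 : x * ρ ^ 2 = ρ ^ 2 * x) (c2 : x * (ρ * s) = ρ * s * x) : x * x = 1 ∨ x * x = t * w := by
  obtain ⟨κ, i, -, e1, e2⟩ := h.act h.gD
  obtain ⟨j, rfl⟩ := Int.not_even_iff_odd.1 (mt (h.mem_sq (h.at0 e2)).2 h.sp)
  have jT := h.DT (h.hd.rpow_mem (-j))
  have e3 : ρ ^ (-j) * g * s * (ρ ^ (-j) * g)⁻¹ = ρ * s := by
    have := h.hd.rpow_conj_rpows (-j) (2 * j + 1)
    rw [show 2 * j + 1 + 2 * -j = 1 by ring, zpow_one, ← h.at0 e2] at this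
    exact Eq.trans (by group) this
  have e4 : ρ ^ (-j) * g * ρ ^ 2 * (ρ ^ (-j) * g)⁻¹ = (ρ ^ 2) ^ κ := by
    calc ρ ^ (-j) * g * ρ ^ 2 * (ρ ^ (-j) * g)⁻¹ = ρ ^ (-j) * (g * ρ ^ (2 : ℤ) * g⁻¹) * (ρ ^ (-j))⁻¹ := by
          rw [zpow_ofNat]; simp only [mul_assoc, mul_inv_rev]
      _ = _ := by rw [e1]; group
  have e5 : ρ ^ (-j) * g * t * (ρ ^ (-j) * g)⁻¹ = t * w := by
    calc ρ ^ (-j) * g * t * (ρ ^ (-j) * g)⁻¹ = ρ ^ (-j) * (g * t * g⁻¹) * (ρ ^ (-j))⁻¹ := by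
          simp only [mul_assoc, mul_inv_rev]
      _ = _ := by rw [h.e, ← mul_assoc, h.tc jT, mul_assoc t, h.wc (h.nD jT)]; group
  have gn : ρ ^ (-j) * g ∈ normalizer (T : Set G) := mul_mem (le_normalizer jT) h.gn
  generalize ρ ^ (-j) * g = c at e3 e4 e5 gn
  have c3 := ((show Commute x (ρ ^ 2) from c1).zpow_right κ).eq
  rw [← e4] at c3
  rw [← e3] at c2
  have key : ∀ u, x * (c * u * c⁻¹) = c * u * c⁻¹ * x → c⁻¹ * x * c * u = u * (c⁻¹ * x * c) := fun u e => by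
    calc c⁻¹ * x * c * u = c⁻¹ * (x * (c * u * c⁻¹)) * c := by group
      _ = _ := by rw [e]; group
  refine (h.cH _ (conj_mem_of_mem_normalizer' gn hx) (key _ c3) (key _ c2)).imp (fun e => ?_) fun e => ?_
  · calc x * x = c * (c⁻¹ * x * c * (c⁻¹ * x * c)) * c⁻¹ := by group
      _ = 1 := by rw [e]; group
  · calc x * x = c * (c⁻¹ * x * c * (c⁻¹ * x * c)) * c⁻¹ := by group
      _ = _ := by rw [e, e5]

theorem kap (hx : x ∈ normalizer (D : Set G)) (c : x * x * ρ * (x * x)⁻¹ = ρ ∨ x * x * ρ * (x * x)⁻¹ = ρ⁻¹) :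
    (x * ρ * x⁻¹ = ρ ∨ x * ρ * x⁻¹ = ρ⁻¹) ∨ x * ρ * x⁻¹ = ρ * w ∨ x * ρ * x⁻¹ = ρ⁻¹ * w := by
  obtain ⟨κ, i, ⟨a, rfl⟩, e, -⟩ := h.act hx
  obtain ⟨l, hl⟩ := h.ke
  have e1 := e 1
  rw [zpow_one, mul_one] at e1
  have e2 : x * x * ρ * (x * x)⁻¹ = ρ ^ ((2 * a + 1) * (2 * a + 1)) := by rw [← e, ← e1]; group
  have f : ∀ b c : ℤ, 2 * (k : ℤ) ∣ 4 * c → ρ ^ (2 * c + b) = ρ ^ b ∨ ρ ^ (2 * c + b) = ρ ^ b * w := by
    rintro b c ⟨d, hd⟩
    rw [h.w_eq, ← zpow_add, h.eq_iff, h.eq_iff]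
    obtain ⟨d, rfl | rfl⟩ := Int.even_or_odd' d
    · exact .inl ⟨d, by linarith⟩
    · exact .inr ⟨d, by linarith⟩
  rw [e2] at c
  rw [e1]
  rcases c with c | c
  · replace c := h.eq_iff.1 (c.trans (zpow_one ρ).symm)
    rcases Int.even_or_odd a with ha | ha
    · have := f 1 a (h.dvd_odd ha.add_one (by convert c using 1; ring))
      rw [zpow_one] at this
      tauto
    · have := f (-1) (a + 1) (h.dvd_odd ha (by convert c using 1; ring))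
      rw [zpow_neg_one, show 2 * (a + 1) + -1 = 2 * a + 1 by ring] at this
      tauto
  · rw [← zpow_neg_one, h.eq_iff, hl] at c
    obtain ⟨d, c⟩ := c
    have : 2 * (a * a + a) + 1 = 2 * (l * d) := by linarith
    omega

theorem A1 (hy : y ∈ T) (yy : y * y ∈ D) (c : y * ρ * y⁻¹ = ρ * w) : y ∈ D ∨ t * y ∈ D := by
  obtain ⟨l, hl⟩ := h.ke
  obtain ⟨l, rfl | rfl⟩ := Int.even_or_odd' l
  swap
  · refine h.z0 hy (.inr ?_)
    obtain ⟨m, hm⟩ := h.pw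
    rw [c, h.w_eq, ← zpow_one_add, ← zpow_neg_one, h.eq_iff]
    rcases m with _ | m
    · exact ⟨1, by rw [hm]; norm_num⟩
    · rw [hm, pow_succ, pow_succ] at hl
      omega
  exfalso
  obtain ⟨j, e⟩ := h.fix_s hy
  have jD := h.hd.rpow_mem j
  have wρ := h.wc (h.nD (h.DT h.hd.r_mem))
  have c0 : ρ ^ j * y * ρ * (ρ ^ j * y)⁻¹ = ρ * w := by
    calc ρ ^ j * y * ρ * (ρ ^ j * y)⁻¹ = ρ ^ j * (y * ρ * y⁻¹) * (ρ ^ j)⁻¹ := by simp only [mul_assoc, mul_inv_rev]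
      _ = _ := by rw [c, h.w_eq]; group
  have y0T := mul_mem (h.DT jD) hy
  have y0D : ρ ^ j * y * (ρ ^ j * y) ∈ D := by
    convert mul_mem (mul_mem jD (conj_mem_of_mem_normalizer (h.nD hy) jD)) yy using 1
    simp only [mul_assoc, inv_mul_cancel_left]
  generalize ρ ^ j * y = u at e c0 y0T y0D
  have c2 : Commute u (ρ ^ 2) := by
    refine mul_inv_eq_iff_eq_mul.1 ?_
    rw [← conj_pow, c0, pow_two, pow_two, mul_assoc, ← mul_assoc w, ← wρ, mul_assoc, h.ww.1, mul_one]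
  have uu := (h.cH u y0T c2.eq e).resolve_right fun e => h.tD (e ▸ y0D)
  have c3 : Commute u (ρ ^ (2 * l)) := by rw [zpow_mul, zpow_ofNat]; exact c2.zpow_right l
  have sq : u * ρ ^ (2 * l) * (u * ρ ^ (2 * l)) = w := by
    rw [mul_assoc, ← mul_assoc (ρ ^ (2 * l)), ← c3.eq, mul_assoc, ← mul_assoc, uu, one_mul, ← zpow_add, h.w_eq, hl]
    congr 1; ring
  have := h.z0' (x := u * ρ ^ (2 * l)) (mul_mem y0T (h.DT (h.hd.rpow_mem _)))
    (c2.mul_left (((Commute.refl ρ).zpow_left _).pow_right 2)).eq (mul_inv_eq_iff_eq_mul.1 (by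
      have e1 := h.hd.rpow_conj_rpows (2 * l) 1
      rw [← hl, zpow_one, zpow_one_add, ← h.w_eq] at e1
      calc u * ρ ^ (2 * l) * (ρ * s) * (u * ρ ^ (2 * l))⁻¹ = u * (ρ ^ (2 * l) * (ρ * s) * (ρ ^ (2 * l))⁻¹) * u⁻¹ := by
            simp only [mul_assoc, mul_inv_rev]
        _ = u * ρ * u⁻¹ * (u * w) * u⁻¹ * (u * s) * u⁻¹ := by rw [e1]; group
        _ = ρ * (w * w) * s := by rw [c0, h.wc (h.nD y0T), e]; group
        _ = ρ * s := by rw [h.ww.1, mul_one]))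
  rw [sq] at this
  rcases this with e | e
  · exact h.ww.2 e
  · exact h.tD (by rw [right_eq_mul.1 e]; exact one_mem D)

theorem A (hy : y ∈ T) (yy : y * y ∈ D) : y ∈ D ∨ t * y ∈ D := by
  have c : y * y * ρ * (y * y)⁻¹ = ρ ∨ y * y * ρ * (y * y)⁻¹ = ρ⁻¹ := by
    obtain ⟨i, e | e⟩ := (h.hd.mem _).1 yy
    · exact .inl (by rw [e]; group)
    · exact .inr (by simpa [e] using h.hd.rpows_conj_rpow i 1)
  rcases h.kap (h.nD hy) c with c | c | c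
  · exact h.z0 hy c
  · exact h.A1 hy yy c
  have sD := h.hd.s_mem
  refine (h.A1 (mul_mem (h.DT sD) hy) ?_ ?_).imp (mul_mem_cancel_left sD).1 fun e => ?_
  · convert mul_mem (mul_mem sD (conj_mem_of_mem_normalizer (h.nD hy) sD)) yy using 1
    group
  · calc s * y * ρ * (s * y)⁻¹ = s * (y * ρ * y⁻¹) * s⁻¹ := by group
      _ = (s * ρ * s⁻¹)⁻¹ * (s * w) * s⁻¹ := by rw [c]; group
      _ = ρ * w := by rw [h.hd.conj, h.wc (h.nD (h.DT sD))]; group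
  · rw [← mul_assoc, ← h.tc (h.DT sD), mul_assoc] at e
    exact (mul_mem_cancel_left sD).1 e

theorem S_eq (hx : x ∈ S) : x ∈ T ∨ g * x ∈ T := by
  have := Fact.mk Nat.prime_two
  have m : ∀ {x}, x ∈ T ⊔ zpowers g ↔ x ∈ T ∨ g * x ∈ T := b3_sup h.gn h.gg
  have le : T ⊔ zpowers g ≤ S := sup_le h.TS (zpowers_le.2 h.gS)
  have lN : T ⊔ zpowers g ≤ normalizer (D : Set G) := sup_le h.nD (zpowers_le.2 h.gD)
  by_contra n
  obtain ⟨x, xS, nx, xN⟩ := exists_mem_normalizer_of_lt h.hS.pgroup (lt_of_le_of_ne le fun e => n (m.1 (e ▸ hx)))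
  have cw : ∀ σ ∈ T ⊔ zpowers g, σ * (x * w * x⁻¹) = x * w * x⁻¹ * σ := fun σ hσ => by
    calc σ * (x * w * x⁻¹) = x * (x⁻¹ * σ * x * w) * x⁻¹ := by group
      _ = _ := by rw [h.wc (lN (conj_mem_of_mem_normalizer' xN hσ))]; group
  have xw : x * w * x⁻¹ = w := by
    have k1 : IsConj (x * w * x⁻¹) w := (isConj_iff.2 ⟨x, rfl⟩).symm
    rcases h.cD (x * w * x⁻¹) ((h.hT _).2 ⟨mul_mem (mul_mem xS (h.TS (h.DT h.wD))) (inv_mem xS),
      (cw t (mem_sup_left h.tT)).symm⟩) (fun d hd => mem_Cx.2 (cw d (mem_sup_left (h.DT hd)))) with e | e | e | e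
    · exact absurd (conj_eq_one_iff.1 e) h.ww.2
    · exact e
    · exact absurd (e ▸ k1) (h.nc w h.wD)
    · exact absurd ((isConj_iff.2 ⟨g, h.e.trans e.symm⟩).trans k1) (h.nc w h.wD)
  have cy : ∀ σ ∈ T ⊔ zpowers g, σ * (x * t * x⁻¹) * σ⁻¹ = x * t * x⁻¹ ∨ σ * (x * t * x⁻¹) * σ⁻¹ = x * t * x⁻¹ * w := by
    intro σ hσ
    have e : σ * (x * t * x⁻¹) * σ⁻¹ = x * (x⁻¹ * σ * x * t * (x⁻¹ * σ * x)⁻¹) * x⁻¹ := by group
    rcases m.1 (conj_mem_of_mem_normalizer' xN hσ) with e1 | e1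
    · exact .inl (by rw [e, h.tc e1]; group)
    · exact .inr (by rw [e, (h.od e1).2.1, ← conj_mul, xw])
  have yy : x * t * x⁻¹ * (x * t * x⁻¹) = 1 := by rw [conj_mul, h.tt]; group
  have y1 := conj_mem_of_mem_normalizer xN (mem_sup_left h.tT : t ∈ T ⊔ zpowers g)
  have yc : IsConj t (x * t * x⁻¹) := isConj_iff.2 ⟨x, rfl⟩
  have fin : x * t * x⁻¹ = t ∨ x * t * x⁻¹ = t * w := by
    generalize x * t * x⁻¹ = y at cy yy y1 yc
    obtain ⟨l, hl⟩ := h.ke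
    have yi : y⁻¹ = y := inv_eq_of_mul_eq_one_right yy
    have yT : y ∈ T := (m.1 y1).resolve_right fun e => by
      rcases cy s (mem_sup_left (h.DT h.hd.s_mem)) with e1 | e1
      · refine absurd ((h.od e).2.2 0 ?_) (by decide)
        calc y * s * y⁻¹ = y * (s * y * s⁻¹) * s := by rw [yi]; group
          _ = _ := by rw [e1, yy, zpow_zero]
      · refine absurd ((h.od e).2.2 k ?_) (by rw [hl]; simp)
        calc y * s * y⁻¹ = y * (s * y * s⁻¹) * s := by rw [yi]; group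
          _ = _ := by rw [e1, ← mul_assoc, yy, one_mul, h.w_eq]
    have ey : y = t * (t * y) := by rw [← mul_assoc, h.tt, one_mul]
    obtain ⟨j, e | e⟩ := (h.hd.mem _).1 ((h.A yT (yy ▸ one_mem D)).resolve_left fun e => h.nc y e yc)
    · rcases h.inv_zp j (by rw [← e, mul_assoc, ← mul_assoc y, h.tc yT, mul_assoc, yy, mul_one, h.tt]) with e1 | e1
      · exact .inl (by rw [ey, e, e1, mul_one])
      · exact .inr (by rw [ey, e, e1])
    · exfalso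
      obtain ⟨κ, i, ⟨a, rfl⟩, -, e2⟩ := h.act h.gD
      obtain ⟨b, rfl⟩ := Int.not_even_iff_odd.1 (mt (h.mem_sq (h.at0 e2)).2 h.sp)
      have e3 := cy g (mem_sup_right (mem_zpowers g))
      have e4 : ρ ^ j * s * w = ρ ^ (j - k) * s := by rw [h.w_eq, h.hd.rpows_mul_rpow]
      rw [ey, e, ← conj_mul, h.e, e2, mul_assoc t w, mul_assoc t _ w, mul_right_inj, mul_right_inj, e4, h.w_eq,
        ← mul_assoc, ← zpow_add, h.eq_iff', h.eq_iff', hl] at e3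
      rcases e3 with ⟨c, e3⟩ | ⟨c, e3⟩
      · have : 2 * (l + a * j + b) + 1 = 2 * (2 * l * c) := by linarith
        omega
      · have : 2 * (2 * l + a * j + b) + 1 = 2 * (2 * l * c) := by linarith
        omega
  rcases fin with e | e
  · exact nx (mem_sup_left ((h.hT x).2 ⟨xS, mul_inv_eq_iff_eq_mul.1 e⟩))
  · refine nx ((mul_mem_cancel_left (inv_mem (mem_sup_right (mem_zpowers g)))).1
      (mem_sup_left ((h.hT _).2 ⟨mul_mem (inv_mem h.gS) xS, ?_⟩)))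
    calc g⁻¹ * x * t = g⁻¹ * (x * t * x⁻¹) * x := by group
      _ = _ := by rw [e, ← h.e]; group

theorem SN (hx : x ∈ S) : x ∈ normalizer (D : Set G) := (h.S_eq hx).elim (fun e => h.nD e) fun e => (h.od e).1

theorem out (hx : x ∈ S) (n : x ∉ T) : x * t * x⁻¹ = t * w := (h.od ((h.S_eq hx).resolve_left n)).2.1

theorem idx (hx : x ∈ S) (hy : y ∈ S) (nx : x ∉ T) (ny : y ∉ T) : x * y ∈ T := by
  refine (h.hT _).2 ⟨mul_mem hx hy, mul_inv_eq_iff_eq_mul.1 ?_⟩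
  calc x * y * t * (x * y)⁻¹ = x * (y * t * y⁻¹) * x⁻¹ := by group
    _ = x * t * x⁻¹ * (x * w) * x⁻¹ := by rw [h.out hy ny]; group
    _ = t * (w * w) := by rw [h.out hx nx, h.wc (h.SN hx)]; group
    _ = t := by rw [h.ww.1, mul_one]

theorem tcm (hx : x ∈ S) : x * t * x⁻¹ * t⁻¹ ∈ D := by
  by_cases n : x ∈ T
  · rw [h.tc n]; simp
  · rw [h.out hx n, h.wc (h.nD h.tT), mul_inv_cancel_right]; exact h.wD

theorem C (hx : x ∈ S) (n : x ∉ T) (xx : x * x = 1) {δ : G} (hδ : δ ∈ D) : x * t * δ * (x * t * δ) ≠ 1 := by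
  obtain ⟨κ, i, ⟨a, ha⟩, e1, e2⟩ := h.act (h.SN hx)
  have hi := (h.od ((h.S_eq hx).resolve_left n)).2.2 i (h.at0 e2)
  have xi : x⁻¹ = x := inv_eq_of_mul_eq_one_right xx
  have e3 : x * t * δ * (x * t * δ) = w * (x * δ * x⁻¹) * δ := by
    calc x * t * δ * (x * t * δ) = x * t * x⁻¹ * (x * δ * x⁻¹ * (x * x) * t) * δ := by group
      _ = t * w * t * (x * δ * x⁻¹) * δ := by
        rw [xx, mul_one, h.out hx n, h.tc (h.DT (conj_mem_of_mem_normalizer (h.SN hx) hδ))]; group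
      _ = _ := by rw [mul_assoc t w t, h.tc (h.DT h.wD), ← mul_assoc t t, h.tt, one_mul]
  rw [e3]
  obtain ⟨l, hl⟩ := h.ke
  obtain ⟨j, rfl | rfl⟩ := (h.hd.mem δ).1 hδ
  · have e4 : ρ ^ (κ * i + i) * s = ρ ^ (0 : ℤ) * s := by
      rw [← e2, ← h.at0 e2, zpow_zero, one_mul]
      calc x * (x * s * x⁻¹) * x⁻¹ = x * x * s * (x * x)⁻¹ := by group
        _ = s := by rw [xx]; group
    obtain ⟨c, e5⟩ := h.dvd_odd (j := κ + 1) hi (by convert h.eq_iff'.1 e4 using 1; ring)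
    rw [e1, mul_assoc, ← zpow_add, h.eq_iff.2 (⟨c * j, by linear_combination j * e5⟩ : _ ∣ κ * j + j - 0), zpow_zero,
      mul_one]
    exact h.ww.2
  · rw [e2, mul_assoc, h.hd.rpows_mul_rpows, h.w_eq, ← zpow_add, ← zpow_zero ρ, Ne, h.eq_iff, hl, ha]
    obtain ⟨b, rfl⟩ := hi
    rintro ⟨c, e⟩
    have : 2 * (l + a * j + b) + 1 = 2 * (2 * l * c) := by linarith
    omega

theorem cm0 {a b : G} (ha : a ∈ S) (hb : b ∈ S) : a * b * a⁻¹ * b⁻¹ * ρ * (a * b * a⁻¹ * b⁻¹)⁻¹ = ρ := by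
  obtain ⟨κ, e⟩ := h.zp (h.SN ha)
  obtain ⟨κ', e'⟩ := h.zp (h.SN hb)
  obtain ⟨c, e1⟩ := h.zp (h.SN (inv_mem (mul_mem hb ha)))
  have e2 := e1 1
  rw [zpow_one, mul_one] at e2
  calc a * b * a⁻¹ * b⁻¹ * ρ * (a * b * a⁻¹ * b⁻¹)⁻¹ = a * (b * ((b * a)⁻¹ * ρ * (b * a)⁻¹⁻¹) * b⁻¹) * a⁻¹ := by group
    _ = b * (a * ((b * a)⁻¹ * ρ * (b * a)⁻¹⁻¹) * a⁻¹) * b⁻¹ := by rw [e2, e', e, e, e']; congr 1; ring
    _ = ρ := by group

theorem cmT {a b : G} (ha : a ∈ S) (hb : b ∈ S) : a * b * a⁻¹ * b⁻¹ ∈ T := by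
  have cT : ∀ y ∈ T, a * y * a⁻¹ ∈ T := fun y hy => by
    by_cases h1 : a ∈ T
    · exact mul_mem (mul_mem h1 hy) (inv_mem h1)
    · exact h.idx (mul_mem ha (h.TS hy)) (inv_mem ha) (fun e => h1 ((mul_mem_cancel_right hy).1 e))
        fun e => h1 (inv_mem_iff.1 e)
  by_cases h2 : b ∈ T
  · exact mul_mem (cT b h2) (inv_mem h2)
  · refine h.idx (mul_mem (mul_mem ha hb) (inv_mem ha)) (inv_mem hb) (fun e => ?_) fun e => h2 (inv_mem_iff.1 e)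
    by_cases h1 : a ∈ T
    · exact h2 ((mul_mem_cancel_left h1).1 ((mul_mem_cancel_right (inv_mem h1)).1 e))
    · exact h1 (inv_mem_iff.1 ((mul_mem_cancel_left (h.idx ha hb h1 h2)).1 e))

/-- the elements that are central modulo `D` -/
def Zb (_h : B3 S T D t g ρ s w k) : Subgroup G where
  carrier := {z | z ∈ S ∧ ∀ a ∈ S, a * z * a⁻¹ * z⁻¹ ∈ D}
  one_mem' := ⟨one_mem S, fun a _ => by simp⟩
  mul_mem' := by
    rintro x y ⟨hx, cx⟩ ⟨hy, cy⟩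
    refine ⟨mul_mem hx hy, fun a ha => ?_⟩
    convert mul_mem (cx a ha) (conj_mem_of_mem_normalizer (_h.SN hx) (cy a ha)) using 1
    group
  inv_mem' := by
    rintro x ⟨hx, cx⟩
    refine ⟨inv_mem hx, fun a ha => ?_⟩
    convert conj_mem_of_mem_normalizer' (_h.SN hx) (inv_mem (cx a ha)) using 1
    group

theorem D_Z (hx : x ∈ D) : x ∈ h.Zb :=
  ⟨h.TS (h.DT hx), fun _ ha => mul_mem (conj_mem_of_mem_normalizer (h.SN ha) hx) (inv_mem hx)⟩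

theorem t_Z : t ∈ h.Zb := ⟨h.tS, fun _ ha => h.tcm ha⟩

theorem inv_Z (hx : x ∈ S) (n : x ∉ T) (xx : x * x = 1) : x ∈ h.Zb := by
  refine ⟨hx, fun a ha => (h.z0 (h.cmT ha hx) (.inl (h.cm0 ha hx))).resolve_right fun e => ?_⟩
  refine h.C hx n xx (mul_mem h.wD (conj_mem_of_mem_normalizer' (h.SN hx) e)) ?_
  have e1 : x * t * (w * (x⁻¹ * (t * (a * x * a⁻¹ * x⁻¹)) * x)) = a * x * a⁻¹ := by
    calc x * t * (w * (x⁻¹ * (t * (a * x * a⁻¹ * x⁻¹)) * x))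
        = x * t * x⁻¹ * (x * w) * x⁻¹ * t * (a * x * a⁻¹) := by group
      _ = t * (w * w) * t * (a * x * a⁻¹) := by rw [h.out hx n, h.wc (h.SN hx)]; group
      _ = _ := by rw [h.ww.1, mul_one, h.tt, one_mul]
  rw [e1, conj_mul, xx]; group

theorem cen_Z (hx : x ∈ S) (n : x ∉ T) (c : x * ρ = ρ * x) : x ∈ h.Zb := by
  have sD := h.hd.s_mem
  have sT := h.DT sD
  have c' : Commute x ρ := c
  have nr : ∀ δ, δ * ρ = ρ * δ → ∀ j : ℤ, δ ≠ ρ ^ j * s := fun δ e j e1 => h.ρρ (by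
    have := h.hd.rpows_conj_rpow j 1
    rw [← e1, zpow_one, e, mul_inv_cancel_right, zpow_neg_one] at this
    exact mul_eq_one_iff_eq_inv.2 this)
  have xx : x * x ∈ D := (h.z1 (h.idx hx hx n n) (c'.mul_left c').eq).resolve_right fun e => by
    obtain ⟨j, e | e⟩ := (h.hd.mem _).1 e
    · refine h.ww.2 (left_eq_mul.1 ((h.out hx n).symm ▸ (?_ : t = x * t * x⁻¹)))
      calc t = x * ρ ^ j * x⁻¹ * (x * x)⁻¹ := by rw [(c'.zpow_right j).eq, ← e]; group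
        _ = _ := by rw [← e]; group
    · exact nr _ ((show Commute t ρ from (h.tc (h.DT h.hd.r_mem)).symm).mul_left (c'.mul_left c')).eq j e
  have iv : s * x * ρ * (s * x)⁻¹ = ρ⁻¹ := by rw [← h.hd.conj, mul_assoc s, c]; group
  have n1 : s * x ∉ T := fun e => n ((mul_mem_cancel_left sT).1 e)
  have sxS := mul_mem (h.TS sT) hx
  have y2 : s * x * (s * x) ∈ D := by
    convert mul_mem (mul_mem sD (conj_mem_of_mem_normalizer (h.SN hx) sD)) xx using 1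
    group
  rw [← mul_mem_cancel_left (h.D_Z sD)]
  generalize s * x = y at iv n1 sxS y2
  obtain ⟨j, e | e⟩ := (h.hd.mem _).1 y2
  swap
  · refine absurd e (nr _ (mul_inv_eq_iff_eq_mul.1 ?_) j)
    calc y * y * ρ * (y * y)⁻¹ = y * (y * ρ * y⁻¹) * y⁻¹ := by group
      _ = ρ := by rw [iv, ← conj_inv, iv, inv_inv]
  have e1 : ρ ^ j * ρ ^ j = 1 := by
    have : y * ρ ^ j * y⁻¹ = (ρ ^ j)⁻¹ := by rw [← conj_zpow, iv, inv_zpow]
    rw [mul_eq_one_iff_eq_inv, ← this, ← e]; group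
  rcases h.inv_zp j e1 with e2 | e2
  · exact h.inv_Z sxS n1 (e.trans e2)
  · rw [← mul_mem_cancel_right h.t_Z]
    refine h.inv_Z (mul_mem sxS h.tS) (fun e => n1 ((mul_mem_cancel_right h.tT).1 e)) ?_
    calc y * t * (y * t) = y * t * y⁻¹ * (y * y) * t := by group
      _ = t * (w * w) * t := by rw [h.out sxS n1, e, e2]; group
      _ = 1 := by rw [h.ww.1, mul_one, h.tt]

theorem B {a b : G} (ha : a ∈ S) (hb : b ∈ S) : a * b * a⁻¹ * b⁻¹ ∈ D := by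
  let N : Subgroup G :=
    { carrier := {x | x * ρ * x⁻¹ = ρ ∨ x * ρ * x⁻¹ = ρ⁻¹}
      one_mem' := .inl (by simp)
      mul_mem' := by
        intro x y hx hy
        have e : x * y * ρ * (x * y)⁻¹ = x * (y * ρ * y⁻¹) * x⁻¹ := by group
        rcases hy with hy | hy <;> rw [hy] at e
        · exact hx.imp e.trans e.trans
        · rw [← conj_inv] at e
          exact hx.symm.imp (fun k => by rw [e, k, inv_inv]) fun k => by rw [e, k]
      inv_mem' := by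
        rintro x (hx | hx)
        · exact .inl (by nth_rewrite 1 [← hx]; group)
        · exact .inr (by nth_rewrite 1 [← inv_inv ρ, ← hx]; group) }
  have NZ : ∀ x ∈ S, x ∈ N → x ∈ h.Zb := fun x hx hN => by
    by_cases n : x ∈ T
    · exact (h.z0 n hN).elim h.D_Z fun e => (mul_mem_cancel_left h.t_Z).1 (h.D_Z e)
    rcases hN with c | c
    · exact h.cen_Z hx n (mul_inv_eq_iff_eq_mul.1 c)
    · have sT := h.DT h.hd.s_mem
      exact (mul_mem_cancel_left (h.D_Z h.hd.s_mem)).1 (h.cen_Z (mul_mem (h.TS sT) hx)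
        (fun e => n ((mul_mem_cancel_left sT).1 e)) (h.s_mul_comm c))
  obtain ⟨p, pS, hp⟩ := b3_cyc (N := N) h.hS.pgroup (fun a ha b hb => .inl (h.cm0 ha hb)) (by
    intro x hx y hy xx yy nx ny
    have e : x * y * ρ * (x * y)⁻¹ = x * (y * ρ * y⁻¹) * x⁻¹ := by group
    have xw : x * w * x⁻¹ = w := by rw [h.wc (h.SN hx), mul_inv_cancel_right]
    have wi : w⁻¹ = w := inv_eq_of_mul_eq_one_right h.ww.1
    have wρ := h.wc (h.nD (h.DT h.hd.r_mem))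
    rcases (h.kap (h.SN hy) yy).resolve_left ny with c | c <;>
      rcases (h.kap (h.SN hx) xx).resolve_left nx with c' | c' <;> rw [c, ← conj_mul, xw] at e
    · exact .inl (by rw [e, c', mul_assoc, h.ww.1, mul_one])
    · exact .inr (by rw [e, c', mul_assoc, h.ww.1, mul_one])
    · exact .inr (by rw [e, ← conj_inv, c', wρ, mul_inv_rev, wi, mul_assoc, h.ww.1, mul_one])
    · exact .inl (by rw [e, ← conj_inv, c', mul_inv_rev, inv_inv, wi, ← wρ, mul_assoc, h.ww.1, mul_one]))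
  have pZ : p ∈ h.Zb := ⟨pS, fun a ha => by
    obtain ⟨i, hi⟩ := hp a ha
    have k1 := mul_mem (inv_mem (zpow_mem pS i)) ha
    convert conj_mem_of_mem_normalizer (h.SN (zpow_mem pS i)) (inv_mem ((NZ _ k1 hi).2 p pS)) using 1
    group⟩
  obtain ⟨i, hi⟩ := hp b hb
  exact ((mul_mem_cancel_left (inv_mem (zpow_mem pZ i))).1 (NZ _ (mul_mem (inv_mem (zpow_mem pS i)) hb) hi)).2 a ha

theorem fin (hG : _root_.commutator G = ⊤) : False := by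
  have hi : ¬ 2 ∣ S.index := by simpa using h.hS.not_dvd
  have ti : t⁻¹ = t := inv_eq_of_mul_eq_one_right h.tt
  have yy : ∀ c : G, c⁻¹ * t * c * (c⁻¹ * t * c) = 1 := fun c => by
    calc c⁻¹ * t * c * (c⁻¹ * t * c) = c⁻¹ * (t * t) * c := by group
      _ = 1 := by rw [h.tt]; group
  have inT : ∀ c : G, c⁻¹ * t * c ∈ T → c⁻¹ * t * c * t⁻¹ ∈ D := fun c hc => by
    rw [ti, h.tc hc]
    exact (h.A hc (yy c ▸ one_mem D)).resolve_left fun e => h.nc _ e (isConj_iff.2 ⟨c⁻¹, by rw [inv_inv]⟩)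
  by_cases ex : ∃ x ∈ S, x ∉ T ∧ x * x = 1
  swap
  · exact h.tD (TL2.mem_of_transfer hG hi (fun x hx y hy => h.B hx hy) h.tS h.tt fun c hc =>
      inT c (by_contra fun n => ex ⟨_, hc, n, yy c⟩))
  obtain ⟨x, xS, nx, xx⟩ := ex
  have xi : x⁻¹ = x := inv_eq_of_mul_eq_one_right xx
  have m : ∀ {y}, y ∈ D ⊔ zpowers (x * t) ↔ y ∈ D ∨ x * t * y ∈ D := b3_sup (h.SN (mul_mem xS h.tS)) (by
    have := h.tcm xS
    rwa [xi, ti, mul_assoc] at this)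
  have := TL2.mem_of_transfer (Q := D ⊔ zpowers (x * t)) hG hi (fun x hx y hy => mem_sup_left (h.B hx hy)) h.tS h.tt
    fun c hc => by
      by_cases n : c⁻¹ * t * c ∈ T
      · exact mem_sup_left (inT c n)
      have y2 := yy c
      generalize c⁻¹ * t * c = y at hc n y2
      have yi : y⁻¹ = y := inv_eq_of_mul_eq_one_right y2
      rcases h.A (h.idx hc xS n nx) (by have := h.B hc xS; rwa [xi, yi, mul_assoc] at this) with e | e
      · have := mul_mem (mem_sup_left e : _ ∈ D ⊔ zpowers (x * t)) (mem_sup_right (mem_zpowers (x * t)))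
        rw [mul_assoc, ← mul_assoc x, xx, one_mul] at this
        rwa [ti]
      · refine absurd ?_ (h.C hc n y2 e)
        rw [mul_assoc y t, ← mul_assoc t, h.tt, one_mul, ← mul_assoc y y x, y2, one_mul, xx]
  rcases m.1 this with e | e
  · exact h.tD e
  · rw [mul_assoc, h.tt, mul_one] at e
    exact nx (h.DT e)

end B3

theorem Ctx.b3 (h : Ctx G) {S T D : Subgroup G} {t g ρ s w : G} {k : ℕ}
    (hS : IsSylowIn 2 S ⊤) (ot : orderOf t = 2) (hT : ∀ x, x ∈ T ↔ x ∈ S ∧ x * t = t * x)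
    (tS : t ∈ S) (gS : g ∈ S) (gg : g * g ∈ T) (gn : g ∈ normalizer (T : Set G))
    (hd : IsDih D (2 * k) ρ s) (hk : 2 ≤ k) (hw : w = ρ ^ k) (DT : D ≤ T)
    (nD : T ≤ normalizer (D : Set G)) (gD : g ∈ normalizer (D : Set G))
    (e : g * t * g⁻¹ = t * w) (nc : ∀ x ∈ D, ¬ IsConj t x)
    (cp : ∀ x ∈ T, s * (x * s * x⁻¹) ∈ zpowers (ρ ^ 2))
    (sp : s * (g * s * g⁻¹) ∉ zpowers (ρ ^ 2))
    (cD : ∀ x ∈ T, D ≤ Cx x → x = 1 ∨ x = w ∨ x = t ∨ x = t * w)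
    (cH : ∀ x ∈ T, x * ρ ^ 2 = ρ ^ 2 * x → x * s = s * x → x * x = 1 ∨ x * x = t) : False := by
  exact B3.fin ⟨hS, ot, hT, tS, gS, gg, gn, hd, hk, hw, DT, nD, gD, e, nc, cp, sp, cD, cH⟩ h.t1_perf

end CfsgLib.GHE
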