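import Mathlib
import Cfsg.Agent.Lib.GHE.Tool1
import Cfsg.Agent.Lib.GHE.LocD1
import Cfsg.Agent.Lib.GHE.Rk2
import Cfsg.Agent.Lib.TL2.Defs

/-! DC2 package MC: `T / ⟨t⟩` has maximal class.

PROOF (`r = a b`).  `⟨t, w, a⟩` has order 8, so `Ctx.d3` gives `S ≥ T` and a four-group `W ≤ T` normal in `S`.
(1) `W ≤ {1, w, t, t w}`: let `y ∈ W`.  If `y` is `Sp`, `a (y a y⁻¹) ∈ W` is an odd power of `r` of square 1: impossible (`4 ≤ m`).  Else `y = k` or `t k`, `k ∈ H`, `k² = 1`;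
  if `k = r^j a` then `k (d k d⁻¹) = y (d y d⁻¹) ∈ W` is an odd power of `r` (`DP.act`, `sp_iff`).  So `k ∈ {1, w}`.  Hence `W = {1, w, t, t w}`.
(2) For `σ ∈ S`: `σ t σ⁻¹ ∈ {t, t w}`, `σ w σ⁻¹ = w` (`nH`, `t ~ t w`).  `T = S ∩ C(t)`, so `σ ∈ N(T)`; `σ` or `x⁻¹ σ` centralises `t`, so `σ ∈ N(H)` (`nrm`), `σ r σ⁻¹ ∈ ⟨r⟩`.
  So a commutator of two elements of `S` centralises `t` (lies in `T`) and `r`.
(3) An involution `u ∈ T` that centralises `r` and is not conjugate to `t` is `w` (`Sp`: `sp_inv` gives `r = r⁻¹`; `Cp`: `u ∈ H` or `t u ∈ H`).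
(4) `x a x⁻¹ = r^i a`; replace `x` by `d x` if `i` is odd and then by `k x`, `k ∈ ⟨r⟩`: `x` centralises `U = ⟨w, a⟩`, `x t x⁻¹ = t w`; `ρ x ρ⁻¹` maps `t` to `t a`.
  As in `TL2.Dih1.four_le`: `M = Nt t U ⊓ C(U)` has orbit `t U` of length 4, a Sylow `Q ∋ t` of `M` contains `y₁, y₂` with `t ↦ t w`, `t ↦ t a` (`TL2.reach`).
  Conjugate `Q` into `S` by `c`: `c w c⁻¹`, `c a c⁻¹` are commutators in `S`, not conjugate to `t` (`nH`), so both are `w` by (2), (3): contradiction. -/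

set_option autoImplicit false

namespace CfsgLib.GHE

open Subgroup Cfsg CfsgLib.W2 CfsgLib.Tech CfsgLib.Sect CfsgLib.PComp CfsgLib.DihSyl
  CfsgLib.GW.Cor
open CfsgLib.LBal hiding cj
open scoped MatrixGroups commutatorElement

universe u

variable {G : Type u} [Group G] [Finite G]

section

variable {H T : Subgroup G} {m : ℕ} {t a b w x d ρ : G}

theorem DP.mc_odd (dp : DP H T m a b w) (hm : 4 ≤ m) {j : ℤ} (hj : Odd j) :
    (a * b) ^ j * (a * b) ^ j ≠ 1 := fun e => by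
  rw [← zpow_add, dp.dih.eq_one_iff] at e
  obtain ⟨k, rfl⟩ := dp.pow
  obtain ⟨k, rfl⟩ : ∃ l, k = l + 1 := Nat.exists_eq_succ_of_ne_zero (by rintro rfl; omega)
  have := (Dvd.intro (2 ^ k) (by push_cast; ring) : (4 : ℤ) ∣ (2 ^ (k + 1 + 1) : ℕ)).trans e
  rw [Int.odd_iff] at hj
  omega

theorem DP.mc_w (dp : DP H T m a b w) (hm : 4 ≤ m) (xH : x ∈ normalizer (H : Set G)) :
    x * w * x⁻¹ = w := by
  refine (dp.center hm (conj_mem_of_mem_normalizer xH dp.basic.2.2.1) fun k hk => ?_).resolve_left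
    fun e => dp.ww.2 (by simpa using e)
  calc _ = x * (w * (x⁻¹ * k * x)) * x⁻¹ := by group
    _ = _ := by rw [← dp.w_comm (dp.le (conj_mem_of_mem_normalizer' xH hk))]; group

theorem DP.mc_x (dp : DP H T m a b w) (hm : 4 ≤ m) (ct : ∀ y ∈ T, y * t = t * y) (dT : d ∈ T)
    (sp : Sp a b d) (xH : x ∈ normalizer (H : Set G)) (e : x * t * x⁻¹ = t * w) :
    ∃ y, y * a * y⁻¹ = a ∧ y * w * y⁻¹ = w ∧ y * t * y⁻¹ = t * w := by
  have xw := dp.mc_w hm xH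
  have mul : ∀ u ∈ T, ∀ y, y * w * y⁻¹ = w → y * t * y⁻¹ = t * w →
      u * y * w * (u * y)⁻¹ = w ∧ u * y * t * (u * y)⁻¹ = t * w := fun u hu y e1 e2 => by
    have k : ∀ g, u * y * g * (u * y)⁻¹ = u * (y * g * y⁻¹) * u⁻¹ := fun g => by group
    have k1 : u * w * u⁻¹ = w := by rw [dp.w_comm hu, mul_inv_cancel_right]
    rw [k, k, e1, e2, ← conj_mul, k1, ct u hu, mul_inv_cancel_right]
    exact ⟨rfl, rfl⟩
  obtain ⟨y, i, e1, e2, e3⟩ : ∃ (y : G) (i : ℤ), y * a * y⁻¹ = (a * b) ^ (i + i) * a ∧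
      y * w * y⁻¹ = w ∧ y * t * y⁻¹ = t * w := by
    obtain ⟨i, e1 | e1⟩ := (dp.dih.mem _).1 (conj_mem_of_mem_normalizer xH dp.dih.s_mem)
    · rcases dp.inv_zp ⟨i, e1.symm⟩ (by rw [conj_mul, dp.dih.ss]; group) with e2 | e2
      · have : a = 1 := by simpa using e2
        exact absurd (this ▸ one_mem _) dp.dih.notMem
      · rw [← xw] at e2
        exact absurd (mul_left_cancel (mul_right_cancel e2)) dp.basic.2.2.2.2.2.2.1
    rcases Int.even_or_odd i with ⟨j, rfl⟩ | hi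
    · exact ⟨x, j, e1, xw, e⟩
    obtain ⟨k, l, hk, -, e2⟩ := dp.act dT
    obtain ⟨j, hj⟩ := (hk.mul hi).add_odd ((dp.sp_iff (DP.at0 e2)).1 sp)
    exact ⟨d * x, j, by rw [← hj, ← e2, ← e1]; group, mul d dT x xw e⟩
  refine ⟨(a * b) ^ (-i) * y, ?_, mul _ (dp.le (dp.dih.rpow_mem _)) y e2 e3⟩
  have := dp.dih.rpow_conj_rpows (-i) (i + i)
  rw [← e1, show i + i + 2 * -i = 0 by ring, zpow_zero, one_mul] at this
  conv_rhs => rw [← this]
  group

end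

theorem Ctx.mc (h : Ctx G) {H T : Subgroup G} {m : ℕ} {t a b w x d ρ : G} (dp : DP H T m a b w)
    (hm : 4 ≤ m) (ot : orderOf t = 2) (hT : IsSylowIn 2 T (Cx t)) (nH : ∀ y ∈ H, ¬ IsConj t y)
    (cp : ∀ y ∈ T, Cp a b y → y ∈ H ∨ t * y ∈ H) (dT : d ∈ T) (sp : Sp a b d)
    (nrm : ∀ n ∈ normalizer (T : Set G), n * t = t * n → n ∈ normalizer (H : Set G))
    (xT : x ∈ normalizer (T : Set G)) (xH : x ∈ normalizer (H : Set G))
    (e : x * t * x⁻¹ = t * w) (ρt : ρ * t = t * ρ) (ρw : ρ * w * ρ⁻¹ = a)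
    (ρa : ρ * a * ρ⁻¹ = a * w) : False := by
  have tt := mul_self_of_orderOf_two ot
  have t1 := ne_one_of_orderOf_two ot
  have tT : t ∈ T := zpowers_le.1 (hT.le_of_le_normalizer (isPGroup_two_zpowers tt)
    (zpowers_le.2 (mem_Cx.2 rfl)) fun c hc => by rw [mem_normalizer_iff_cj, cj_zpowers, mem_Cx'.1 hc])
  have ct : ∀ y ∈ T, y * t = t * y := fun y hy => mem_Cx.1 (hT.le hy)
  obtain ⟨aH, -, wH, oa, -, -, aw, -⟩ := dp.basic
  have ctw : IsConj t (t * w) := isConj_iff.2 ⟨x, e⟩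
  have sq : ∀ y ∈ T, t * y * (t * y) = y * y := fun y hy => by
    rw [mul_assoc, ← mul_assoc y, ct y hy, ← mul_assoc, ← mul_assoc, tt, one_mul]
  have canc : ∀ y v, t * y = v → y = t * v := fun y v e => by rw [← e, ← mul_assoc, tt, one_mul]
  obtain ⟨⟨U2, U4⟩, mU⟩ := dp.v4
  have UH : closure {a, w} ≤ H := (closure_le _).2 (by rintro _ (rfl | rfl); exacts [aH, wH])
  generalize closure {a, w} = U at U2 U4 mU UH
  obtain ⟨S, W, hS, TS, hW, WT, SW⟩ := h.d3 (fun r => by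
    have c : ∀ u ∈ U, ∀ v ∈ zpowers t, u * v = v * u := fun u hu v hv => by
      rcases (mem_zpowers_two tt).1 hv with rfl | rfl
      exacts [by simp, ct u (dp.le (UH hu))]
    have a1 := rk_iff.1 r (U ⊔ zpowers t) fun g hg => by
      obtain ⟨u, hu, v, hv, rfl⟩ := (mem_sup_of_comm c).1 hg
      rcases (mem_zpowers_two tt).1 hv with rfl | rfl
      · rw [mul_one, U2 u hu]
      · rw [c u hu v hv, sq u (dp.le (UH hu)), U2 u hu]
    have a2 := two_mul_card_le (le_sup_left : U ≤ U ⊔ zpowers t)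
      fun k => nH t (UH (k (mem_sup_right (mem_zpowers t)))) (IsConj.refl t)
    omega) ot hT
  have eT : S ⊓ Cx t = T := hT.eq_of_le (hS.pgroup.to_le inf_le_left) (le_inf TS hT.le) inf_le_right
  have cW : ∀ σ ∈ S, ∀ y ∈ W, σ * y * σ⁻¹ ∈ W := fun σ hσ y hy => conj_mem_of_mem_normalizer (SW hσ) hy
  -- (1)
  have mW : ∀ y ∈ W, y = 1 ∨ y = w ∨ y = t ∨ y = t * w := fun y hy => by
    have yT := WT hy
    have key : ∀ k ∈ H, k * k = 1 → k * (d * k * d⁻¹) ∈ W → k = 1 ∨ k = w := fun k hk kk c => by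
      obtain ⟨j, rfl | rfl⟩ := (dp.dih.mem k).1 hk
      · exact dp.inv_zp ⟨j, rfl⟩ kk
      obtain ⟨κ, l, hκ, -, e2⟩ := dp.act dT
      have hl := (dp.sp_iff (DP.at0 e2)).1 sp
      rw [e2, dp.dih.rpows_mul_rpows] at c
      refine absurd (hW.1 _ c) (dp.mc_odd hm ?_)
      obtain ⟨κ, rfl⟩ := hκ
      obtain ⟨l, rfl⟩ := hl
      exact ⟨-(κ * j) - l - 1, by ring⟩
    have c := mul_mem hy (cW d (TS dT) y hy)
    rcases dp.cp_or_sp yT with s | s
    · rcases cp y yT s with k | k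
      · exact (key y k (hW.1 y hy) c).imp_right .inl
      · refine .inr (.inr ((key _ k (by rw [sq y yT, hW.1 y hy]) ?_).imp
          (fun e => by rw [canc _ _ e, mul_one]) (canc _ _)))
        rwa [← conj_mul, ct d dT, mul_inv_cancel_right, mul_assoc, ← mul_assoc y, ct y yT, mul_assoc t y,
          ← mul_assoc t t, tt, one_mul]
    · obtain ⟨κ, l, -, -, e2⟩ := dp.act yT
      have := mul_mem (cW a (TS (dp.le aH)) y hy) (inv_mem hy)
      rw [dp.dih.s_inv, show a * y * a * y⁻¹ = a * (y * a * y⁻¹) by group, DP.at0 e2, dp.a_mul] at this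
      exact absurd (hW.1 _ this) (dp.mc_odd hm ((dp.sp_iff (DP.at0 e2)).1 s).neg)
  obtain ⟨tW, wW⟩ : t ∈ W ∧ w ∈ W := by
    obtain ⟨p, q, hp, hq, p1, q1, pq, -⟩ := hW.t1_cent hS.pgroup (WT.trans TS) SW
    rcases mW p hp with rfl | rfl | rfl | rfl <;> rcases mW q hq with rfl | rfl | rfl | rfl <;>
      first
        | contradiction
        | exact ⟨hq, hp⟩
        | exact ⟨hp, hq⟩
        | exact ⟨(mul_mem_cancel_right hp).1 hq, hp⟩
        | exact ⟨(mul_mem_cancel_right hq).1 hp, hq⟩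
        | exact ⟨hp, (mul_mem_cancel_left hp).1 hq⟩
        | exact ⟨hq, (mul_mem_cancel_left hq).1 hp⟩
  -- (2)
  have St : ∀ σ ∈ S, σ * t * σ⁻¹ = t ∨ σ * t * σ⁻¹ = t * w := fun σ hσ => by
    rcases mW _ (cW σ hσ t tW) with k | k | k
    · exact absurd (by simpa using k) t1
    · exact absurd (isConj_iff.2 ⟨σ, k⟩) (nH w wH)
    · exact k
  have Sw : ∀ σ ∈ S, σ * w * σ⁻¹ = w := fun σ hσ => by
    rcases mW _ (cW σ hσ w wW) with k | k | k | k
    · exact absurd (by simpa using k) dp.ww.2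
    · exact k
    · exact absurd (isConj_iff.2 ⟨σ, k⟩).symm (nH w wH)
    · exact absurd (ctw.trans (isConj_iff.2 ⟨σ, k⟩).symm) (nH w wH)
  have ST : ∀ σ ∈ S, σ ∈ normalizer (T : Set G) := fun σ hσ => mem_normalizer_of_forall fun y hy =>
    eT.le <| mem_inf.2 ⟨mul_mem (mul_mem hσ (TS hy)) (inv_mem hσ), mem_Cx.2 (by
      have k : y * (σ⁻¹ * t * σ⁻¹⁻¹) = σ⁻¹ * t * σ⁻¹⁻¹ * y := by
        rcases St _ (inv_mem hσ) with k | k <;> rw [k]
        · exact ct y hy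
        · rw [← mul_assoc, ct y hy, mul_assoc, dp.w_comm hy, mul_assoc]
      calc _ = σ * (y * (σ⁻¹ * t * σ⁻¹⁻¹)) * σ⁻¹ := by group
        _ = _ := by rw [k]; group)⟩
  have dS : DP H S m a b w := ⟨hS.pgroup, dp.le.trans TS, fun σ hσ => by
      rcases St σ hσ with k | k
      · exact nrm σ (ST σ hσ) (mul_inv_eq_iff_eq_mul.1 k)
      · refine (mul_mem_cancel_left (inv_mem xH)).1 (nrm _ (mul_mem (inv_mem xT) (ST σ hσ)) ?_)
        calc _ = x⁻¹ * (σ * t * σ⁻¹) * σ := by group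
          _ = _ := by rw [k, ← e]; group,
    dp.two, dp.bb, dp.dih, dp.hw, fun σ hσ => mem_Cx'.2 (Sw σ hσ)⟩
  have cm : ∀ σ ∈ S, ∀ τ ∈ S, ∀ v ∈ U, v ≠ 1 → ∀ c, σ * τ * σ⁻¹ * τ⁻¹ = c * v * c⁻¹ →
      c * v * c⁻¹ = w := fun σ hσ τ hτ v hv v1 c ec => by
    have uT : c * v * c⁻¹ ∈ T := ec ▸ comm_mem (H := S) (fun y hy => eT.le ⟨mul_mem hy hy, mem_Cx'.2 (by
      rw [show y * y * t * (y * y)⁻¹ = y * (y * t * y⁻¹) * y⁻¹ by group]
      rcases St y hy with k | k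
      · rw [k, k]
      · rw [k, ← conj_mul, k, Sw y hy, mul_assoc, dp.ww.1, mul_one])⟩) hσ hτ
    have ur : c * v * c⁻¹ * (a * b) * (c * v * c⁻¹)⁻¹ = a * b := by
      obtain ⟨k, -, -, e1, -⟩ := dS.act hσ
      obtain ⟨l, -, -, e2, -⟩ := dS.act hτ
      obtain ⟨j, e3⟩ := dS.conj_zp (inv_mem (mul_mem hτ hσ)) (mem_zpowers (a * b))
      have e4 : τ * (σ * (a * b) ^ j * σ⁻¹) * τ⁻¹ = a * b := by
        rw [show (a * b) ^ j = _ from e3]; group
      have e5 : σ * (τ * (a * b) ^ j * τ⁻¹) * σ⁻¹ = a * b := by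
        rw [e1, e2] at e4
        rw [e2, e1, mul_left_comm, e4]
      rw [← ec]
      conv_rhs => rw [← e5, show (a * b) ^ j = _ from e3]
      group
    have uu : c * v * c⁻¹ * (c * v * c⁻¹) = 1 := by rw [conj_mul, U2 v hv]; group
    have u1 : c * v * c⁻¹ ≠ 1 := fun k => v1 (by simpa using k)
    have nc : ¬ IsConj t (c * v * c⁻¹) := fun k => nH v (UH hv) (k.trans (isConj_iff.2 ⟨c, rfl⟩).symm)
    generalize c * v * c⁻¹ = u at uT ur uu u1 nc
    have ni : a * b ≠ (a * b)⁻¹ := fun k =>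
      dp.mc_odd hm odd_one (by rw [zpow_one]; exact mul_eq_one_iff_eq_inv.2 k)
    have key : ∀ k ∈ H, k * k = 1 → k * (a * b) * k⁻¹ = a * b → k = 1 ∨ k = w := fun k hk kk c => by
      obtain ⟨j, rfl | rfl⟩ := (dp.dih.mem k).1 hk
      · exact dp.inv_zp ⟨j, rfl⟩ kk
      · have := dp.dih.rpows_conj_rpow j 1
        rw [zpow_one, c, zpow_neg_one] at this
        exact absurd this ni
    rcases dp.cp_or_sp uT with s | s
    · rcases cp u uT s with k | k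
      · exact (key u k uu ur).resolve_left u1
      · rcases key _ k (by rw [sq u uT, uu]) (by
          rw [show t * u * (a * b) * (t * u)⁻¹ = t * (u * (a * b) * u⁻¹) * t⁻¹ by group, ur,
            ← ct _ (dp.le dp.dih.r_mem), mul_inv_cancel_right]) with k | k
        · exact absurd (by rw [canc _ _ k, mul_one]) nc
        · exact absurd (by rwa [canc _ _ k]) nc
    · exact absurd (ur.symm.trans (dp.sp_inv uT s fun k _ => by rw [uu, one_mul, mul_one])) ni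
  -- (4)
  obtain ⟨y, ya, yw, yt⟩ := dp.mc_x hm ct dT sp xH e
  have cen : ∀ {g}, Commute g a → Commute g w → g ∈ centralizer (U : Set G) := fun c1 c2 u hu => by
    rcases (mU u).1 hu with rfl | rfl | rfl | rfl
    exacts [by simp, c1.symm.eq, c2.symm.eq, (c1.mul_right c2).symm.eq]
  have mM : ∀ {g v}, g ∈ centralizer (U : Set G) → g * t * g⁻¹ = t * v → v ∈ U →
      g ∈ TL2.Nt t U ⊓ centralizer (U : Set G) := fun c e hv =>
    ⟨⟨centralizer_le_normalizer _ c, by rwa [e, inv_mul_cancel_left]⟩, c⟩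
  have aU : a ∈ U := (mU _).2 (by simp)
  have wU : w ∈ U := (mU _).2 (by simp)
  have my := mM (cen (mul_inv_eq_iff_eq_mul.1 ya) (mul_inv_eq_iff_eq_mul.1 yw)) yt wU
  have cj' : ∀ g, ρ * y * ρ⁻¹ * (ρ * g * ρ⁻¹) * (ρ * y * ρ⁻¹)⁻¹ = ρ * (y * g * y⁻¹) * ρ⁻¹ :=
    fun g => by group
  have ρt' : ρ * t * ρ⁻¹ = t := by rw [ρt, mul_inv_cancel_right]
  have za := cj' w
  have zw := cj' a
  have zt := cj' t
  rw [yw, ρw] at za
  rw [ya, ρa, ← conj_mul, za, mul_right_inj] at zw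
  rw [yt, ← conj_mul (a := t), ρt', ρw] at zt
  generalize ρ * y * ρ⁻¹ = z at za zw zt
  have mz := mM (cen (mul_inv_eq_iff_eq_mul.1 za) (mul_inv_eq_iff_eq_mul.1 zw)) zt aU
  have mt := mM (v := 1) (fun u hu => ct u (dp.le (UH hu))) (by simp) (one_mem U)
  obtain ⟨Q, hQ, tQ⟩ := exists_isSylowIn_ge (isPGroup_two_zpowers tt) (zpowers_le.2 mt)
  have orb : {g | ∃ x ∈ TL2.Nt t U ⊓ centralizer (U : Set G), x * t * x⁻¹ = g}.ncard = 2 ^ 2 := by
    refine Eq.trans ?_ ((Set.ncard_image_of_injective (U : Set G) (mul_right_injective t)).trans U4)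
    congr 1
    ext g
    refine ⟨fun ⟨x, hx, e⟩ => ⟨_, hx.1.2, by simp [e]⟩, ?_⟩
    rintro ⟨v, hv, rfl⟩
    rcases (mU v).1 hv with rfl | k | k | k
    · exact ⟨1, one_mem _, by simp⟩
    · exact ⟨z, mz, k ▸ zt⟩
    · exact ⟨y, my, k ▸ yt⟩
    · refine ⟨z * y, mul_mem mz my, ?_⟩
      calc _ = z * (y * t * y⁻¹) * z⁻¹ := by group
        _ = _ := by rw [yt, ← conj_mul, zt, zw, k, mul_assoc]
  obtain ⟨y', hy', ey⟩ := TL2.reach hQ orb my
  obtain ⟨z', hz', ez⟩ := TL2.reach hQ orb mz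
  obtain ⟨c, -, hc⟩ := hS.exists_cj_le hQ.pgroup le_top
  have fin : ∀ g ∈ Q, ∀ v ∈ U, v ≠ 1 → g * t * g⁻¹ = t * v → c * v * c⁻¹ = w := fun g hg v hv v1 k =>
    cm _ (cj_le_iff.1 hc _ (inv_mem (tQ (mem_zpowers t)))) _ (cj_le_iff.1 hc g hg) v hv v1 c (by
      calc _ = c * (t⁻¹ * (g * t * g⁻¹)) * c⁻¹ := by group
        _ = _ := by rw [k]; group)
  exact aw (mul_left_cancel (mul_right_cancel ((fin z' hz' a aU (ne_one_of_orderOf_two oa)
    (ez.trans zt)).trans (fin y' hy' w wU dp.ww.2 (ey.trans yt)).symm)))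

end CfsgLib.GHE
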