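import Mathlib
import Cfsg.Agent.Lib.GHE.Defs3
import Cfsg.Agent.Lib.TL2.Defs

/-! A model of `D₈ × V₄` and the configuration `Q4` (blocks DC2 and SD).  See `plans/GHE.md`. -/

set_option autoImplicit false

namespace CfsgLib.GHE

open Subgroup Cfsg CfsgLib.W2 CfsgLib.Tech CfsgLib.Sect CfsgLib.PComp CfsgLib.DihSyl
  CfsgLib.GW.Cor
open CfsgLib.LBal hiding cj
open scoped MatrixGroups commutatorElement

universe u

/-- `t^t v^v a^a b^b w^w` in `⟨t, v⟩ × ⟨a, b⟩`, `w = (a b)²` -/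
structure D32 where
  t : Bool
  v : Bool
  a : Bool
  b : Bool
  w : Bool
  deriving DecidableEq, Fintype

namespace D32

instance (p : D32 → Prop) [DecidablePred p] : Decidable (∀ x, p x) :=
  decidable_of_iff (∀ a b c d e, p ⟨a, b, c, d, e⟩) ⟨fun h _ => h _ _ _ _ _, fun h _ _ _ _ _ => h _⟩

instance (p : D32 → Prop) [DecidablePred p] : Decidable (∃ x, p x) :=
  decidable_of_iff (∃ a b c d e, p ⟨a, b, c, d, e⟩)
    ⟨fun ⟨_, _, _, _, _, h⟩ => ⟨_, h⟩, fun ⟨_, h⟩ => ⟨_, _, _, _, _, h⟩⟩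

instance : Mul D32 := ⟨fun x y => ⟨x.t ^^ y.t, x.v ^^ y.v, x.a ^^ y.a, x.b ^^ y.b,
  (x.w ^^ y.w) ^^ (x.b && y.a)⟩⟩
instance : One D32 := ⟨⟨false, false, false, false, false⟩⟩
instance : Inv D32 := ⟨fun x => ⟨x.t, x.v, x.a, x.b, x.w ^^ (x.b && x.a)⟩⟩

theorem mul_def (x y : D32) : x * y = ⟨x.t ^^ y.t, x.v ^^ y.v, x.a ^^ y.a, x.b ^^ y.b,
  (x.w ^^ y.w) ^^ (x.b && y.a)⟩ := rfl

theorem one_def : (1 : D32) = ⟨false, false, false, false, false⟩ := rfl

instance : Group D32 := Group.ofLeftAxioms (by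
  rintro ⟨a, b, c, d, e⟩ ⟨a', b', c', d', e'⟩ ⟨a'', b'', c'', d'', e''⟩
  simp only [mul_def, D32.mk.injEq, Bool.xor_assoc, true_and]
  revert d e c' d' e' c'' e''
  decide +kernel) (by decide +kernel) (by decide +kernel)

/-- generators -/
def eT : D32 := ⟨true, false, false, false, false⟩
/-- generators -/
def eV : D32 := ⟨false, true, false, false, false⟩
/-- generators -/
def eA : D32 := ⟨false, false, true, false, false⟩
/-- generators -/
def eB : D32 := ⟨false, false, false, true, false⟩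
/-- generators -/
def eW : D32 := ⟨false, false, false, false, true⟩

theorem card : Nat.card D32 = 32 := by rw [Nat.card_eq_fintype_card]; rfl

theorem dec : ∀ x : D32,
    x = cond x.t eT 1 * (cond x.v eV 1 * (cond x.a eA 1 * (cond x.b eB 1 * cond x.w eW 1))) := by
  decide +kernel

/-- the subgroup of the elements on which a Boolean condition holds -/
def sub (p : D32 → Bool) (h : p 1 = true ∧ ∀ x y, p x = true → p y = true → p (x * y⁻¹) = true) :
    Subgroup D32 :=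
  Subgroup.ofDiv {x | p x = true} ⟨1, h.1⟩ fun _ hx _ hy => h.2 _ _ hx hy

theorem mem_sub {p : D32 → Bool} {h} {x : D32} : x ∈ sub p h ↔ p x = true := Iff.rfl

instance (p : D32 → Bool) (h) : DecidablePred (· ∈ sub p h) := fun x =>
  inferInstanceAs (Decidable (p x = true))

theorem card_sub (p : D32 → Bool) (h) :
    Nat.card (sub p h) = (Finset.univ.filter fun x => p x = true).card := by
  rw [Nat.card_eq_fintype_card]
  exact Fintype.card_subtype _

/-- `⟨t, v, a, w⟩` -/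
abbrev EA : Subgroup D32 := sub (fun x => !x.b) (by decide +kernel)
/-- `⟨t, v, b, w⟩` -/
abbrev EB : Subgroup D32 := sub (fun x => !x.a) (by decide +kernel)
/-- `⟨a, w⟩` -/
abbrev UA : Subgroup D32 := sub (fun x => !x.t && !x.v && !x.b) (by decide +kernel)
/-- `⟨b, w⟩` -/
abbrev UB : Subgroup D32 := sub (fun x => !x.t && !x.v && !x.a) (by decide +kernel)
/-- the centre `⟨t, v, w⟩` -/
abbrev ZZ : Subgroup D32 := sub (fun x => !x.a && !x.b) (by decide +kernel)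
/-- `⟨v, w⟩` -/
abbrev VW : Subgroup D32 := sub (fun x => !x.t && !x.a && !x.b) (by decide +kernel)
/-- `⟨w⟩` -/
abbrev WW : Subgroup D32 := sub (fun x => !x.t && !x.v && !x.a && !x.b) (by decide +kernel)
/-- `⟨a, b, v⟩` -/
abbrev BB : Subgroup D32 := sub (fun x => !x.t) (by decide +kernel)

/-- `a ↔ b`, `v ↦ v w` -/
def sw : MulAut D32 where
  toFun x := ⟨x.t, x.v, x.b, x.a, (x.w ^^ x.v) ^^ (x.a && x.b)⟩
  invFun x := ⟨x.t, x.v, x.b, x.a, (x.w ^^ x.v) ^^ (x.a && x.b)⟩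
  left_inv := by intro x; revert x; decide +kernel
  right_inv := by intro x; revert x; decide +kernel
  map_mul' := by decide +kernel

/-- `v ↦ t v` -/
def tv : MulAut D32 where
  toFun x := ⟨x.t ^^ x.v, x.v, x.a, x.b, x.w⟩
  invFun x := ⟨x.t ^^ x.v, x.v, x.a, x.b, x.w⟩
  left_inv := by intro x; revert x; decide +kernel
  right_inv := by intro x; revert x; decide +kernel
  map_mul' := by decide +kernel

variable {G : Type u} [Group G]

/-- the element with given coordinates -/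
def el (t v a b w : G) (x : D32) : G :=
  cond x.t t 1 * (cond x.v v 1 * (cond x.a a 1 * (cond x.b b 1 * (cond x.w w 1 * 1))))

theorem exists_hom {t v a b w : G} (tt : t * t = 1) (vv : v * v = 1) (aa : a * a = 1)
    (bb : b * b = 1) (ww : w * w = 1) (ba : b * a = a * (b * w)) (vt : v * t = t * v)
    (ta : a * t = t * a) (tb : b * t = t * b) (tw : w * t = t * w) (va : a * v = v * a)
    (vb : b * v = v * b) (vw : w * v = v * w) (wa : w * a = a * w) (wb : w * b = b * w)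
    (w1 : w ≠ 1) (t1 : t ≠ 1) (t2 : t ≠ w) (v1 : v ≠ 1) (v2 : v ≠ w) (v3 : v ≠ t)
    (v4 : v ≠ t * w) :
    ∃ φ : D32 →* G, Function.Injective φ ∧ φ eT = t ∧ φ eV = v ∧ φ eA = a ∧ φ eB = b ∧ φ eW = w := by
  have q : ∀ {p q r : G}, p * q = r → ∀ z, p * (q * z) = r * z := fun e z => by rw [← e, mul_assoc]
  have k : ∀ y, el t v a b w (eT * y) = t * el t v a b w y ∧ el t v a b w (eV * y) = v * el t v a b w y ∧
      el t v a b w (eA * y) = a * el t v a b w y ∧ el t v a b w (eB * y) = b * el t v a b w y ∧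
      el t v a b w (eW * y) = w * el t v a b w y := by
    rintro ⟨_ | _, _ | _, _ | _, _ | _, _ | _⟩ <;>
      simp [-mul_one, el, mul_def, eT, eV, eA, eB, eW, mul_assoc, q tt, q vv, q aa, q bb, q ww, q ba,
        q vt, q ta, q tb, q tw, q va, q vb, q vw, q wa, q wb]
  have k' : ∀ {g : D32} {z : G}, (∀ y, el t v a b w (g * y) = z * el t v a b w y) → ∀ (p : Bool) y,
      el t v a b w (cond p g 1 * y) = cond p z 1 * el t v a b w y := fun e p y => by
    cases p <;> simp [e]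
  have mul : ∀ x y, el t v a b w (x * y) = el t v a b w x * el t v a b w y := fun x y => by
    conv_lhs => rw [dec x]
    simp only [mul_assoc]
    rw [k' fun y => (k y).1, k' fun y => (k y).2.1, k' fun y => (k y).2.2.1,
      k' fun y => (k y).2.2.2.1, k' fun y => (k y).2.2.2.2]
    simp only [el, mul_assoc, mul_one]
  obtain ⟨φ, hφ⟩ : ∃ φ : D32 →* G, ∀ x, φ x = el t v a b w x := ⟨MonoidHom.mk' _ mul, fun _ => rfl⟩
  have e1 : φ eT = t := by simp [hφ, el, eT]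
  have e2 : φ eV = v := by simp [hφ, el, eV]
  have e3 : φ eA = a := by simp [hφ, el, eA]
  have e4 : φ eB = b := by simp [hφ, el, eB]
  have e5 : φ eW = w := by simp [hφ, el, eW]
  refine ⟨φ, (injective_iff_map_eq_one _).2 fun x hx => ?_, e1, e2, e3, e4, e5⟩
  have n : ∀ {x y : D32}, φ (x * y⁻¹) = 1 → φ x = φ y := fun e => by
    rwa [map_mul, map_inv, mul_inv_eq_one] at e
  rcases (by decide +kernel : ∀ x : D32, x = 1 ∨ x = eW ∨ x = eT ∨ x = eT * eW⁻¹ ∨ x = eV ∨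
    x = eV * eW⁻¹ ∨ x = eV * eT⁻¹ ∨ x = eV * (eT * eW)⁻¹ ∨ ∃ y, x * y * x⁻¹ * y⁻¹ = eW) x with
    e | rfl | rfl | rfl | rfl | rfl | rfl | rfl | ⟨y, e⟩
  · exact e
  · exact absurd (e5.symm.trans hx) w1
  · exact absurd (e1.symm.trans hx) t1
  · exact absurd (by rw [← e1, ← e5, n hx]) t2
  · exact absurd (e2.symm.trans hx) v1
  · exact absurd (by rw [← e2, ← e5, n hx]) v2
  · exact absurd (by rw [← e2, ← e1, n hx]) v3
  · exact absurd (by rw [← e2, ← e1, ← e5, ← map_mul, n hx]) v4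
  · exact absurd (by rw [← e5, ← e]; simp [hx]) w1

end D32

open D32

variable {G : Type u} [Group G] [Finite G]

/-- `D = φ.range = ⟨t, v⟩ × ⟨a, b⟩` is a Sylow 2-subgroup of `C(t) ∩ N(Eᵢ)`; 3-elements centralise
`t, v` and permute `w, a, a w`, resp. centralise `t, v w` and permute `w, b, b w` -/
structure Q4 (φ : D32 →* G) : Prop where
  inj : Function.Injective φ
  rho₁ : ∃ ρ, ρ * φ eT * ρ⁻¹ = φ eT ∧ ρ * φ eV * ρ⁻¹ = φ eV ∧ ρ * φ eW * ρ⁻¹ = φ eA ∧
    ρ * φ eA * ρ⁻¹ = φ (eA * eW)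
  rho₂ : ∃ ρ, ρ * φ eT * ρ⁻¹ = φ eT ∧ ρ * φ (eV * eW) * ρ⁻¹ = φ (eV * eW) ∧ ρ * φ eW * ρ⁻¹ = φ eB ∧
    ρ * φ eB * ρ⁻¹ = φ (eB * eW)
  nw : ¬ IsConj (φ eT) (φ eW)
  bd₁ : ∀ Q : Subgroup G, IsPGroup 2 Q → Q ≤ normalizer (EA.map φ : Set G) ⊓ Cx (φ eT) →
    Nat.card Q ≤ 32
  bd₂ : ∀ Q : Subgroup G, IsPGroup 2 Q → Q ≤ normalizer (EB.map φ : Set G) ⊓ Cx (φ eT) →
    Nat.card Q ≤ 32
  nU₁ : normalizer (EA.map φ : Set G) ⊓ Cx (φ eT) ≤ normalizer (UA.map φ : Set G)
  nU₂ : normalizer (EB.map φ : Set G) ⊓ Cx (φ eT) ≤ normalizer (UB.map φ : Set G)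

omit [Finite G] in
theorem map_comp_aut (φ : D32 →* G) (α : MulAut D32) {A B : Subgroup D32}
    (e : ∀ x, α x ∈ B ↔ x ∈ A) : A.map (φ.comp α.toMonoidHom) = B.map φ := by
  ext g
  refine ⟨fun ⟨x, hx, e'⟩ => ⟨α x, (e x).2 hx, e'⟩, fun ⟨x, hx, e'⟩ => ⟨α.symm x, (e _).1 ?_, ?_⟩⟩
  · rwa [MulEquiv.apply_symm_apply]
  · simpa using e'

omit [Finite G] in
theorem range_comp_aut (φ : D32 →* G) (α : MulAut D32) :
    (φ.comp α.toMonoidHom).range = φ.range := by
  ext g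
  exact ⟨fun ⟨x, e⟩ => ⟨α x, e⟩, fun ⟨x, e⟩ => ⟨α.symm x, by simpa using e⟩⟩

namespace Q4

variable {φ : D32 →* G} (h : Q4 φ)
include h

omit [Finite G] in
/-- exchange `a` and `b`, `v` and `v w` -/
theorem symm : Q4 (φ.comp sw.toMonoidHom) := by
  have e1 := map_comp_aut φ sw (A := EA) (B := EB) (by decide +kernel)
  have e2 := map_comp_aut φ sw (A := EB) (B := EA) (by decide +kernel)
  have e3 := map_comp_aut φ sw (A := UA) (B := UB) (by decide +kernel)
  have e4 := map_comp_aut φ sw (A := UB) (B := UA) (by decide +kernel)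
  refine ⟨h.inj.comp sw.injective, h.rho₂, h.rho₁, h.nw, ?_, ?_, ?_, ?_⟩
  · rw [e1]; exact h.bd₂
  · rw [e2]; exact h.bd₁
  · rw [e1, e3]; exact h.nU₂
  · rw [e2, e4]; exact h.nU₁

omit [Finite G] in
/-- replace `v` by `t v` -/
theorem twist : Q4 (φ.comp tv.toMonoidHom) := by
  have e1 := map_comp_aut φ tv (A := EA) (B := EA) (by decide +kernel)
  have e2 := map_comp_aut φ tv (A := EB) (B := EB) (by decide +kernel)
  have e3 := map_comp_aut φ tv (A := UA) (B := UA) (by decide +kernel)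
  have e4 := map_comp_aut φ tv (A := UB) (B := UB) (by decide +kernel)
  obtain ⟨ρ, a1, a2, a3, a4⟩ := h.rho₁
  obtain ⟨σ, b1, b2, b3, b4⟩ := h.rho₂
  refine ⟨h.inj.comp tv.injective, ⟨ρ, a1, ?_, a3, a4⟩, ⟨σ, b1, ?_, b3, b4⟩, h.nw, ?_, ?_, ?_, ?_⟩
  · change ρ * φ (eT * eV) * ρ⁻¹ = φ (eT * eV)
    rw [map_mul, ← conj_mul, a1, a2]
  · change σ * φ (eT * (eV * eW)) * σ⁻¹ = φ (eT * (eV * eW))
    rw [map_mul, ← conj_mul, b1, b2]
  · rw [e1]; exact h.bd₁
  · rw [e2]; exact h.bd₂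
  · rw [e1, e3]; exact h.nU₁
  · rw [e2, e4]; exact h.nU₂

omit [Finite G] in
theorem card_map (A : Subgroup D32) : Nat.card (A.map φ) = Nat.card A :=
  card_map_of_injective h.inj

omit [Finite G] in
theorem card : Nat.card φ.range = 32 := by
  rw [MonoidHom.range_eq_map, h.card_map, card_top, D32.card]

omit [Finite G] in
theorem pg : IsPGroup 2 φ.range := IsPGroup.of_card (n := 5) h.card

omit [Finite G] in
theorem mem_map {A : Subgroup D32} {x : D32} : φ x ∈ A.map φ ↔ x ∈ A :=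
  mem_map_iff_mem h.inj

omit [Finite G] in
/-- the map induced by an element that normalises the image of `A` -/
theorem ind {A : Subgroup D32} {n : G} (hn : n ∈ normalizer (A.map φ : Set G)) :
    ∃ f : D32 → D32, (∀ x ∈ A, f x ∈ A ∧ φ (f x) = n * φ x * n⁻¹) ∧
      (∀ x ∈ A, ∀ y ∈ A, f (x * y) = f x * f y) ∧ ∀ x ∈ A, ∀ y ∈ A, f x = f y → x = y := by
  have k : ∀ x, ∃ y, x ∈ A → y ∈ A ∧ φ y = n * φ x * n⁻¹ := fun x => by
    by_cases hx : x ∈ A
    · obtain ⟨y, hy, e⟩ := conj_mem_of_mem_normalizer hn (mem_map_of_mem φ hx)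
      exact ⟨y, fun _ => ⟨hy, e⟩⟩
    · exact ⟨1, fun e => absurd e hx⟩
  choose f hf using k
  refine ⟨f, hf, fun x hx y hy => h.inj ?_, fun x hx y hy e => h.inj ?_⟩
  · rw [map_mul, (hf _ (mul_mem hx hy)).2, (hf x hx).2, (hf y hy).2, map_mul, conj_mul]
  · have := congrArg φ e
    rw [(hf x hx).2, (hf y hy).2] at this
    simpa using this

omit h in
/-- membership in the normaliser from a map on the model -/
theorem mem_norm {A : Subgroup D32} {n : G} (k : ∀ x ∈ A, ∃ y ∈ A, n * φ x * n⁻¹ = φ y) :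
    n ∈ normalizer (A.map φ : Set G) := by
  exact Subgroup.mem_normalizer_fintype fun _ ⟨x, hx, e⟩ => by
    obtain ⟨y, hy, e'⟩ := k x hx
    exact ⟨y, hy, e ▸ e'.symm⟩

end Q4

end CfsgLib.GHE
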