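import Mathlib
import Cfsg.Agent.Lib.GHE.DC2q
import Cfsg.Agent.Lib.Hom.Defs

/-! Conjugation on the model `D32`: common tools for the packages `Q4.qa4` and `Q4.qa8`. -/

set_option autoImplicit false

namespace CfsgLib.GHE

open Subgroup Cfsg CfsgLib.W2 CfsgLib.Tech CfsgLib.Sect CfsgLib.PComp CfsgLib.DihSyl
  CfsgLib.GW.Cor
open CfsgLib.LBal hiding cj
open scoped MatrixGroups commutatorElement

universe u

open D32

theorem D32.mem_of {B : Subgroup D32} (x : D32) (h1 : x.t = true → eT ∈ B) (h2 : x.v = true → eV ∈ B)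
    (h3 : x.a = true → eA ∈ B) (h4 : x.b = true → eB ∈ B) (h5 : x.w = true → eW ∈ B) : x ∈ B := by
  have k : ∀ (p : Bool) (g : D32), (p = true → g ∈ B) → cond p g 1 ∈ B := fun p g h => by
    cases p
    exacts [one_mem _, h rfl]
  rw [dec x]
  exact mul_mem (k _ _ h1) (mul_mem (k _ _ h2) (mul_mem (k _ _ h3) (mul_mem (k _ _ h4) (k _ _ h5))))

variable {G : Type u} [Group G]

/-- `n` conjugates the image of `x` to the image of `y` -/
def QJ (φ : D32 →* G) (n : G) (x y : D32) : Prop := n * φ x * n⁻¹ = φ y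

namespace QJ

variable {φ : D32 →* G} {n m : G} {x y z x' y' : D32}

theorem mul (h : QJ φ n x y) (h' : QJ φ n x' y') : QJ φ n (x * x') (y * y') := by
  rw [QJ, map_mul, map_mul, ← conj_mul, h, h']

theorem comp (h : QJ φ n x y) (h' : QJ φ m y z) : QJ φ (m * n) x z := by
  rw [QJ, ← h', ← h]; group

theorem inv (h : QJ φ n x y) : QJ φ n⁻¹ y x := by
  rw [QJ, ← h]; group

theorem self (d x : D32) : QJ φ (φ d) x (d * x * d⁻¹) := by
  rw [QJ, map_mul, map_mul, map_inv]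

theorem cast (h : QJ φ n x y) (e : x = x' := by decide +kernel) (e' : y = y' := by decide +kernel) :
    QJ φ n x' y' := e ▸ e' ▸ h

theorem one : QJ φ n 1 1 := by simp [QJ]

theorem refl : QJ φ 1 x x := by simp [QJ]

theorem uniq (i : Function.Injective φ) (h : QJ φ n x y) (h' : QJ φ n x y') : y = y' :=
  i (h.symm.trans h')

theorem uniq' (i : Function.Injective φ) (h : QJ φ n x y) (h' : QJ φ n x' y) : x = x' :=
  h.inv.uniq i h'.inv

theorem isConj (h : QJ φ n x y) : IsConj (φ x) (φ y) := isConj_iff.2 ⟨n, h⟩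

theorem of_norm {A : Subgroup D32} (hn : n ∈ normalizer (A.map φ : Set G)) (hx : x ∈ A) :
    ∃ y ∈ A, QJ φ n x y := by
  obtain ⟨y, hy, e⟩ := conj_mem_of_mem_normalizer hn (mem_map_of_mem φ hx)
  exact ⟨y, hy, e.symm⟩

theorem of_normD (hn : n ∈ normalizer (φ.range : Set G)) (x : D32) : ∃ y, QJ φ n x y := by
  obtain ⟨y, e⟩ := conj_mem_of_mem_normalizer hn ⟨x, rfl⟩
  exact ⟨y, e.symm⟩

theorem iff_Cx : QJ φ n x x ↔ n ∈ Cx (φ x) := mem_Cx'.symm

/-- the elements fixed by `n` -/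
theorem fix (x : D32) (h1 : x.t = true → QJ φ n eT eT) (h2 : x.v = true → QJ φ n eV eV)
    (h3 : x.a = true → QJ φ n eA eA) (h4 : x.b = true → QJ φ n eB eB)
    (h5 : x.w = true → QJ φ n eW eW) : QJ φ n x x := by
  have k : ∀ {x}, x ∈ (Cx n).comap φ ↔ QJ φ n x x := Cx_comm.trans iff_Cx.symm
  exact k.1 (D32.mem_of x (k.2 <| h1 ·) (k.2 <| h2 ·) (k.2 <| h3 ·) (k.2 <| h4 ·) (k.2 <| h5 ·))

theorem comm (i : Function.Injective φ) (h : QJ φ n x y) (h' : QJ φ n x' y') :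
    x * x' = x' * x ↔ y * y' = y' * y :=
  ⟨fun e => (h.mul h').uniq i (e ▸ h'.mul h), fun e => (h.mul h').uniq' i (e ▸ h'.mul h)⟩

theorem normE [Finite G] {t v a w : D32} (h1 : QJ φ n eT t) (h2 : QJ φ n eV v) (h3 : QJ φ n eA a)
    (h4 : QJ φ n eW w) (e : t ∈ EA ∧ v ∈ EA ∧ a ∈ EA ∧ w ∈ EA := by decide +kernel) :
    n ∈ normalizer (EA.map φ : Set G) := by
  have k : ∀ {x y}, QJ φ n x y → y ∈ EA →
      x ∈ (EA.map φ).comap ((MulAut.conj n).toMonoidHom.comp φ) := fun h hy => ⟨_, hy, h.symm⟩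
  refine mem_normalizer_of_forall ?_
  rintro _ ⟨x, hx, rfl⟩
  exact D32.mem_of (B := (EA.map φ).comap ((MulAut.conj n).toMonoidHom.comp φ)) x
    (fun _ => k h1 e.1) (fun _ => k h2 e.2.1) (fun _ => k h3 e.2.2.1)
    (fun e' => by simp [mem_sub, e'] at hx) fun _ => k h4 e.2.2.2

end QJ

variable [Finite G]

theorem qj_card {n : ℕ} (sr : SR n (⊤ : Subgroup G)) {X K : Subgroup G} (h : ∀ x ∈ X, x * x ∈ K) :
    Nat.card X ≤ Nat.card K * n := by
  rw [card_eq_relIndex K X]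
  exact Nat.mul_le_mul (card_le_of_le inf_le_left) (sr X le_top K h)

namespace Q4

variable {φ : D32 →* G} (h : Q4 φ)
include h

omit h in
theorem qj_le : φ.range ≤ normalizer (EA.map φ : Set G) ⊓ Cx (φ eT) := by
  rintro _ ⟨d, rfl⟩
  exact ⟨Q4.mem_norm fun x hx => ⟨_, (by revert d x; decide +kernel), QJ.self d x⟩,
    QJ.iff_Cx.1 ((QJ.self d eT).cast rfl (by revert d; decide +kernel))⟩

theorem qj_syl : IsSylowIn 2 φ.range (normalizer (EA.map φ : Set G) ⊓ Cx (φ eT)) :=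
  isSylowIn_of_maximal h.pg qj_le fun R hR h1 h2 =>
    (eq_of_le_of_card_ge h1 (h.card ▸ h.bd₁ R hR h2)).ge

theorem qj_mem {Q : Subgroup G} (hQ : IsPGroup 2 Q) (h1 : φ.range ≤ Q)
    (h2 : Q ≤ normalizer (EA.map φ : Set G)) {g : G} (hg : g ∈ Q) (e : QJ φ g eT eT) :
    g ∈ φ.range :=
  (h.qj_syl.eq_of_le (hQ.to_le (inf_le_left : Q ⊓ Cx (φ eT) ≤ Q))
    (le_inf h1 (qj_le.trans inf_le_right)) (inf_le_inf_right _ h2)).le ⟨hg, QJ.iff_Cx.1 e⟩

theorem qj_X {x : G} (xD : x ∈ normalizer (φ.range : Set G)) (xx : x * x ∈ φ.range)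
    (out : x ∉ φ.range) : Nat.card (φ.range ⊔ zpowers x : Subgroup G) = 64 ∧
      IsPGroup 2 (φ.range ⊔ zpowers x : Subgroup G) ∧
      ∀ g, g ∈ φ.range ⊔ zpowers x ↔ g ∈ φ.range ∨ x⁻¹ * g ∈ φ.range := by
  have hn := fun w (hw : w ∈ φ.range) => conj_mem_of_mem_normalizer xD hw
  have c := (Hom.hy_sup_zpowers hn xx out).card
  rw [h.card] at c
  exact ⟨c, IsPGroup.of_card (n := 6) c, fun _ => Hom.mem_sup_zpowers hn xx⟩

theorem qj_out {x : G} {z : D32} (e : QJ φ x eT z) (ne : eT ≠ z) : x ∉ φ.range := fun hx =>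
  ne ((QJ.iff_Cx.2 (qj_le hx).2).uniq h.inj e)

omit [Finite G] in
theorem qj_ncard (p : D32 → Bool) :
    (φ '' {x | p x = true}).ncard = (Finset.univ.filter fun x => p x = true).card := by
  rw [Set.ncard_image_of_injective _ h.inj, ← Set.ncard_coe_finset]
  congr 1; ext x; simp

end Q4

end CfsgLib.GHE
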