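import Mathlib
import Cfsg.Agent.Lib.GHE.DC2q
import Cfsg.Agent.Lib.GHE.DC2qj

/-! DC2 package Q4.qa4: an element that moves `t` to `t w` and centralises `D / ⟨w⟩`. -/

set_option autoImplicit false

namespace CfsgLib.GHE

open Subgroup Cfsg CfsgLib.W2 CfsgLib.Tech CfsgLib.Sect CfsgLib.PComp CfsgLib.DihSyl
  CfsgLib.GW.Cor
open CfsgLib.LBal hiding cj
open scoped MatrixGroups commutatorElement

universe u

variable {G : Type u} [Group G] [Finite G]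

open D32

variable {φ : D32 →* G}

theorem Q4.qa4 (h : Q4 φ) (sr : SR 16 (⊤ : Subgroup G)) {x : G}
    (e : x * φ eT * x⁻¹ = φ (eT * eW)) (xx : x * x ∈ φ.range)
    (c : ∀ y, x * φ y * x⁻¹ = φ y ∨ x * φ y * x⁻¹ = φ (y * eW)) : False := by
  have c' : ∀ y, ∃ z, (z = y ∨ z = y * eW) ∧ QJ φ x y z := fun y =>
    (c y).elim (fun e => ⟨_, .inl rfl, e⟩) fun e => ⟨_, .inr rfl, e⟩
  have nrm : ∀ A : Subgroup D32, eW ∈ A → x ∈ normalizer (A.map φ : Set G) := fun A hA =>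
    Q4.mem_norm fun y hy => by
      obtain ⟨z, rfl | rfl, e⟩ := c' y
      exacts [⟨_, hy, e⟩, ⟨_, mul_mem hy hA, e⟩]
  have xD : x ∈ normalizer (φ.range : Set G) := by
    rw [MonoidHom.range_eq_map]; exact nrm ⊤ trivial
  obtain ⟨c64, pg, mX⟩ := h.qj_X xD xx (h.qj_out e (by decide +kernel))
  have mN : ∀ {g z}, g ∈ normalizer (UA.map φ : Set G) → QJ φ g eT z → eT⁻¹ * z ∈ UA →
      g ∈ TL2.Nt (φ eT) (UA.map φ) := fun hg e hz =>
    ⟨hg, by rw [e, ← map_inv, ← map_mul]; exact mem_map_of_mem φ hz⟩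
  have mN' : ∀ {g}, g ∈ TL2.Nt (φ eT) (UA.map φ) → ∃ u ∈ UA, QJ φ g eT (eT * u) := fun hg => by
    obtain ⟨u, hu, e⟩ := hg.2
    exact ⟨u, hu, by rw [QJ, map_mul, e, mul_inv_cancel_left]⟩
  have le0 : normalizer (EA.map φ : Set G) ⊓ Cx (φ eT) ≤
      TL2.Nt (φ eT) (UA.map φ) ⊓ normalizer (EA.map φ : Set G) := fun g hg =>
    ⟨mN (h.nU₁ hg) (QJ.iff_Cx.2 hg.2) (by decide +kernel), hg.1⟩
  have xM : x ∈ TL2.Nt (φ eT) (UA.map φ) ⊓ normalizer (EA.map φ : Set G) :=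
    ⟨mN (nrm _ (by decide +kernel)) e (by decide +kernel), nrm _ (by decide +kernel)⟩
  obtain ⟨Q, hQ, le⟩ := exists_isSylowIn_ge pg (sup_le (Q4.qj_le.trans le0) (zpowers_le.2 xM))
  obtain ⟨ρ, r1, r2, r3, r4⟩ := h.rho₁
  have ρM := le0 (mem_inf.2 ⟨QJ.normE r1 r2 r4 r3, QJ.iff_Cx.1 r1⟩)
  have e1 : QJ φ (ρ * x) eT (eT * eA) := QJ.comp e (QJ.mul r1 r3)
  have orb : {w | ∃ z ∈ TL2.Nt (φ eT) (UA.map φ) ⊓ normalizer (EA.map φ : Set G),
      z * φ eT * z⁻¹ = w} = φ '' {y | (y.t && !y.v && !y.b) = true} := by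
    ext w
    refine ⟨fun ⟨g, hg, e⟩ => ?_, fun ⟨y, hy, e'⟩ => e' ▸ ?_⟩
    · obtain ⟨u, hu, e'⟩ := mN' hg.1
      exact ⟨eT * u, (by clear e'; revert u; decide +kernel), e'.symm.trans e⟩
    · rcases (by decide +kernel : ∀ y : D32, (y.t && !y.v && !y.b) = true →
        y = eT ∨ y = eT * eW ∨ y = eT * eA ∨ y = eT * (eA * eW)) y hy with rfl | rfl | rfl | rfl
      exacts [⟨1, one_mem _, QJ.refl⟩, ⟨x, xM, e⟩, ⟨_, mul_mem ρM xM, e1⟩,
        ⟨_, mul_mem ρM (mul_mem ρM xM), e1.comp (QJ.mul r1 r4)⟩]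
  obtain ⟨q₀, hq₀, e0⟩ := TL2.reach (k := 2) hQ (by rw [orb, h.qj_ncard]; rfl) (mul_mem ρM xM)
  have memD : ∀ g ∈ Q, QJ φ g eT eT → g ∈ φ.range := fun g hg =>
    h.qj_mem hQ.pgroup (le_sup_left.trans le) (hQ.le.trans inf_le_right) hg
  have xX : x ∈ φ.range ⊔ zpowers x := mem_sup_right (mem_zpowers x)
  obtain ⟨q, hq, nq, qn⟩ := exists_mem_normalizer_of_lt hQ.pgroup (lt_of_le_of_ne le fun e' => by
    have e2 : QJ φ q₀ eT (eT * eA) := e0.trans e1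
    rcases (mX q₀).1 (e' ▸ hq₀) with h1 | h1
    · exact h.qj_out e2 (by decide +kernel) h1
    · have := (QJ.iff_Cx.2 (Q4.qj_le h1).2).comp e
      rw [mul_inv_cancel_left] at this
      exact absurd (this.uniq h.inj e2) (by decide +kernel))
  obtain ⟨u, hu, e2⟩ := mN' (hQ.le hq).1
  have hb : eT * u * eB ≠ eB * (eT * u) := by
    rcases (by decide +kernel : ∀ u ∈ UA, u = 1 ∨ u = eW ∨ eT * u * eB ≠ eB * (eT * u)) u hu
      with rfl | rfl | e3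
    · exact absurd (mem_sup_left (memD q hq e2.cast)) nq
    · exact absurd ((mX q).2 (.inr (memD _ (mul_mem (inv_mem (le xX)) hq) (e2.comp (QJ.inv e))))) nq
    · exact e3
  have b2 : φ eB * φ eB = 1 := by rw [← map_mul]; exact map_one φ
  have x2 : q⁻¹ * φ eB * q * (q⁻¹ * φ eB * q) = 1 := by
    calc q⁻¹ * φ eB * q * (q⁻¹ * φ eB * q) = q⁻¹ * (φ eB * φ eB) * q := by group
      _ = 1 := by rw [b2]; group
  rcases (mX _).1 (conj_mem_of_mem_normalizer' qn (mem_sup_left ⟨eB, rfl⟩)) with ⟨d, h1⟩ | ⟨d, h1⟩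
  · have e3 : QJ φ q d eB := by rw [QJ, h1]; group
    exact hb ((QJ.comm h.inj e2 e3).1 (by clear h1 e3; revert d; decide +kernel))
  generalize q⁻¹ * φ eB * q = x₁ at x2 h1
  have := qj_card sr (X := φ.range ⊔ zpowers x) (K := WW.map φ) fun g hg => by
    rcases (mX g).1 hg with ⟨s, rfl⟩ | ⟨s, h2⟩
    · rw [← map_mul]; exact mem_map_of_mem φ (by clear hg; revert s; decide +kernel)
    · obtain ⟨z, hz, e3⟩ := c' (d * (d⁻¹ * s) * d⁻¹)
      have e4 := (QJ.self d (d⁻¹ * s)).comp e3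
      rw [h1, mul_inv_cancel_left, QJ, inv_eq_of_mul_eq_one_right x2] at e4
      have e5 : g = x₁ * φ (d⁻¹ * s) := by rw [map_mul, map_inv, h1, h2]; group
      rw [e5, ← mul_assoc, e4, ← map_mul]
      refine mem_map_of_mem φ ?_
      generalize d⁻¹ * s = s at hz
      rcases hz with rfl | rfl <;> (clear e3 e4 e5 h1; revert d s; decide +kernel)
  rw [c64, h.card_map, card_sub] at this
  revert this; decide +kernel

end CfsgLib.GHE
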