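import Mathlib
import Cfsg.Agent.Lib.GHE.DC2q
import Cfsg.Agent.Lib.GHE.DC2qj

/-! DC2 package Q4.qa8: the orbit of `t` under `N(E)` does not have length 8. -/

set_option autoImplicit false

namespace CfsgLib.GHE

open Subgroup Cfsg CfsgLib.W2 CfsgLib.Tech CfsgLib.Sect CfsgLib.PComp CfsgLib.DihSyl
  CfsgLib.GW.Cor
open CfsgLib.LBal hiding cj
open scoped MatrixGroups commutatorElement

universe u

variable {G : Type u} [Group G] [Finite G]

open D32

variable {φ : D32 →* G}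

theorem Q4.fixv (h : Q4 φ) {n : G} (hn : n ∈ normalizer (EA.map φ : Set G))
    (e : n * φ eT * n⁻¹ = φ eT) : n * φ eV * n⁻¹ = φ eV := by
  have s1 : ∀ c ∈ normalizer (EA.map φ : Set G), QJ φ c eT eT → QJ φ c eA eA → QJ φ c eW eW →
      QJ φ c eV eV := fun c hc c1 c2 c3 => by
    have fx : ∀ y ∈ EA, y.v = false → QJ φ c y y := fun y hy hv => QJ.fix y (fun _ => c1)
      (fun e => by simp [hv] at e) (fun _ => c2) (fun e => by simp [mem_sub, e] at hy) fun _ => c3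
    obtain ⟨y, hy, e⟩ := QJ.of_norm hc (x := eV) (by decide +kernel)
    have hv : y.v = true := by
      by_contra hv
      exact hv (e.uniq' h.inj (fx y hy (by simpa using hv)) ▸ rfl)
    obtain ⟨k1, k2, k3, k4⟩ := (by decide +kernel : ∀ y ∈ EA, y.v = true → eV * y ∈ EA ∧
      (eV * y).v = false ∧ eV * (eV * y) = y ∧ y * (eV * y) = eV) y hy hv
    have e2 := QJ.iff_Cx.1 (e.comp ((e.mul (fx _ k1 k2)).cast k3 k4))
    obtain ⟨k, j, hk, e3⟩ := Hom.exists_ppart 2 c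
    have syl := h.qj_syl.inf_of_le_normalizer (N := centralizer (UA.map φ : Set G)) fun g hg =>
      mem_normalizer_iff_cj.2 (by rw [cj_centralizer, mem_normalizer_iff_cj.1 (h.nU₁ hg)])
    have eq : φ.range ⊓ centralizer (UA.map φ : Set G) = EA.map φ := by
      refine le_antisymm ?_ ?_
      · rintro _ ⟨⟨y, rfl⟩, hc⟩
        have := hc _ (mem_map_of_mem φ (by decide +kernel : eA ∈ UA))
        rw [← map_mul, ← map_mul] at this
        exact mem_map_of_mem φ ((by decide +kernel : ∀ y, eA * y = y * eA → y ∈ EA) y (h.inj this))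
      · rintro _ ⟨y, hy, rfl⟩
        refine ⟨⟨y, rfl⟩, ?_⟩
        rintro _ ⟨u, hu, rfl⟩
        rw [← map_mul, ← map_mul,
          (by decide +kernel : ∀ y ∈ EA, ∀ u ∈ UA, u * y = y * u) y hy u hu]
    have cC : c ∈ normalizer (EA.map φ : Set G) ⊓ Cx (φ eT) ⊓ centralizer (UA.map φ : Set G) := by
      refine ⟨⟨hc, QJ.iff_Cx.1 c1⟩, ?_⟩
      rintro _ ⟨u, hu, rfl⟩
      obtain ⟨k1, k2⟩ := (by decide +kernel : ∀ u ∈ UA, u ∈ EA ∧ u.v = false) u hu
      exact (mem_Cx.1 (QJ.iff_Cx.1 (fx u k1 k2))).symm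
    obtain ⟨d, hd, e4⟩ := (eq ▸ syl).le_of_normalizes (isPGroup_zpowers_of_pow e3)
      (zpowers_le.2 (pow_mem cC k)) (zpowers_le.2 (pow_mem hc k)) (mem_zpowers _)
    have e5 : c ^ k ∈ Cx (φ eV) := e4 ▸ QJ.iff_Cx.1 ((QJ.self d eV).cast rfl
      ((by decide +kernel : ∀ d : D32, d * eV * d⁻¹ = eV) d))
    obtain ⟨i, rfl⟩ : ∃ i, k = 2 * i + 1 := ⟨k / 2, by omega⟩
    have := mul_mem (inv_mem (pow_mem e2 i)) e5
    rw [pow_succ, pow_mul, pow_two, inv_mul_cancel_left] at this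
    exact QJ.iff_Cx.2 this
  have up : ∀ {k g : G}, QJ φ k eV eV → QJ φ (k * g) eV eV → QJ φ g eV eV := fun h1 h2 => by
    simpa using h2.comp h1.inv
  have s2 : ∀ c ∈ normalizer (EA.map φ : Set G), QJ φ c eT eT → QJ φ c eW eW → QJ φ c eV eV :=
    fun c hc c1 c3 => by
      obtain ⟨y, hy, e⟩ := QJ.of_norm (h.nU₁ ⟨hc, QJ.iff_Cx.1 c1⟩) (x := eA) (by decide +kernel)
      rcases (by decide +kernel : ∀ y ∈ UA, y = 1 ∨ y = eW ∨ y = eA ∨ y = eA * eW) y hy
        with rfl | rfl | rfl | rfl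
      · exact absurd (e.uniq' h.inj QJ.one) (by decide +kernel)
      · exact absurd (e.uniq' h.inj c3) (by decide +kernel)
      · exact s1 c hc c1 e c3
      · exact up (QJ.self eB eV).cast (s1 _ (mul_mem (Q4.qj_le ⟨eB, rfl⟩).1 hc)
          (c1.comp (QJ.self eB eT).cast) (e.comp (QJ.self eB (eA * eW)).cast) (c3.comp (QJ.self eB eW).cast))
  obtain ⟨ρ, r1, r2, r3, r4⟩ := h.rho₁
  have ρE := QJ.normE r1 r2 r4 r3
  obtain ⟨y, hy, e'⟩ := QJ.of_norm (h.nU₁ ⟨hn, QJ.iff_Cx.1 e⟩) (x := eW) (by decide +kernel)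
  rcases (by decide +kernel : ∀ y ∈ UA, y = 1 ∨ y = eW ∨ y = eA ∨ y = eA * eW) y hy
    with rfl | rfl | rfl | rfl
  · exact absurd (e'.uniq' h.inj QJ.one) (by decide +kernel)
  · exact s2 n hn e e'
  · exact up (QJ.inv r2) (s2 _ (mul_mem (inv_mem ρE) hn) (QJ.comp e (QJ.inv r1))
      (e'.comp (QJ.inv r3)))
  · exact up r2 (s2 _ (mul_mem ρE hn) (QJ.comp e r1) (e'.comp (QJ.mul r4 r3).cast))

theorem Q4.cnt (h : Q4 φ) {x n : G} (xE : x ∈ normalizer (EA.map φ : Set G))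
    (xD : x ∈ normalizer (φ.range : Set G)) (xx : x * x ∈ φ.range) (out : x ∉ φ.range)
    (hn : n ∈ normalizer (EA.map φ : Set G)) {z : D32} (hz : z ∈ ZZ) (e : n * φ eT * n⁻¹ = φ z)
    (c : x * φ z * x⁻¹ = φ z) : False := by
  obtain ⟨c64, pg, -⟩ := h.qj_X xD xx out
  have l1 : φ.range ⊔ zpowers x ≤ normalizer (EA.map φ : Set G) ⊓ Cx (φ z) :=
    sup_le (le_inf (Q4.qj_le.trans inf_le_left) (by
      rintro _ ⟨d, rfl⟩
      exact QJ.iff_Cx.1 ((QJ.self d z).cast rfl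
        ((by decide +kernel : ∀ d : D32, ∀ z ∈ ZZ, d * z * d⁻¹ = z) d z hz))))
      (zpowers_le.2 (mem_inf.2 ⟨xE, QJ.iff_Cx.1 c⟩))
  have := h.bd₁ _ (isPGroup_cj n⁻¹ pg) (cj_le_iff.2 fun g hg => mem_inf.2
    ⟨mul_mem (mul_mem (inv_mem hn) (l1 hg).1) (inv_mem (inv_mem hn)), QJ.iff_Cx.1 (by
      simpa [mul_assoc] using (QJ.comp e (QJ.iff_Cx.2 (l1 hg).2)).comp (QJ.inv e))⟩)
  rw [card_cj] at this
  omega

theorem Q4.qa8 (h : Q4 φ) (sr : SR 16 (⊤ : Subgroup G)) {x n : G}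
    (xE : x ∈ normalizer (EA.map φ : Set G)) (xD : x ∈ normalizer (φ.range : Set G))
    (e : x * φ eT * x⁻¹ = φ (eT * eW)) (xx : x * x ∈ φ.range) (xv : x * φ eV * x⁻¹ = φ eV)
    (hn : n ∈ normalizer (EA.map φ : Set G)) (en : n * φ eT * n⁻¹ = φ (eT * eV)) : False := by
  have out := h.qj_out e (by decide +kernel)
  have fw : ∀ g ∈ normalizer (φ.range : Set G), QJ φ g eW eW := fun g hg => by
    obtain ⟨y, e⟩ := QJ.of_normD hg (eA * eB)
    rcases (by decide +kernel : ∀ y : D32, y * y = 1 ∨ y * y = eW) y with e' | e'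
    · exact absurd (((e.mul e).cast rfl e').uniq' h.inj QJ.one) (by decide +kernel)
    · exact (e.mul e).cast (by decide +kernel) e'
  have fVW : ∀ {g}, QJ φ g eV eV → QJ φ g eW eW → ∀ s ∈ VW, QJ φ g s s := fun h1 h2 s hs =>
    QJ.fix s (fun e => by simp [mem_sub, e] at hs) (fun _ => h1)
      (fun e => by simp [mem_sub, e] at hs) (fun e => by simp [mem_sub, e] at hs) fun _ => h2
  obtain ⟨ρ, r1, r2, r3, r4⟩ := h.rho₁
  have ρE := QJ.normE r1 r2 r4 r3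
  have act : ∀ y ∈ EA, QJ φ ρ y ⟨y.t, y.v, y.a ^^ y.w, false, y.a⟩ := fun y hy => by
    have k : ∀ {x y} (p : Bool), QJ φ ρ x y → QJ φ ρ (cond p x 1) (cond p y 1) := fun p h => by
      cases p
      exacts [QJ.one, h]
    refine ((k y.t r1).mul ((k y.v r2).mul ((k y.a r4).mul (k y.w r3)))).cast ?_ ?_ <;>
      (clear k; revert y; decide +kernel)
  have orb : ∀ g ∈ normalizer (EA.map φ : Set G), ∀ z ∈ EA, QJ φ g eT z → z.t = true :=
    fun g hg z hz e' => by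
      by_contra hc
      have k : ∀ {g s}, g ∈ normalizer (EA.map φ : Set G) → QJ φ g eT s → s ∉ VW := fun hg e hs =>
        h.cnt xE xD xx out hg ((by decide +kernel : ∀ s ∈ VW, s ∈ ZZ) _ hs) e
          (fVW xv (fw x xD) _ hs)
      have e1 := e'.comp (act z hz)
      have e2 := e1.comp (act _ (by simp [mem_sub]))
      have := And.intro (k hg e') (And.intro (k (mul_mem ρE hg) e1)
        (k (mul_mem ρE (mul_mem ρE hg)) e2))
      clear e1 e2 k e'
      revert z; decide +kernel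
  have nv : QJ φ n eV eV := by
    have e1 := h.fixv (mul_mem (inv_mem hn) (mul_mem ρE hn))
      ((QJ.comp en (QJ.mul r1 r2)).comp (QJ.inv en))
    obtain ⟨y, hy, e2⟩ := QJ.of_norm hn (x := eV) (by decide +kernel)
    have e3 : QJ φ ρ y y := by simpa [mul_assoc] using (e2.inv.comp e1).comp e2
    rcases (by decide +kernel : ∀ y ∈ EA, y = ⟨y.t, y.v, y.a ^^ y.w, false, y.a⟩ →
      y = 1 ∨ y = eT ∨ y = eV ∨ y = eT * eV) y hy (e3.uniq h.inj (act y hy))
      with rfl | rfl | rfl | rfl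
    · exact absurd (e2.uniq' h.inj QJ.one) (by decide +kernel)
    · exact absurd (orb _ (inv_mem hn) _ (by decide +kernel) e2.inv) (by decide +kernel)
    · exact e2
    · exact absurd (e2.uniq' h.inj en) (by decide +kernel)
  have tr0 : ∀ u ∈ UA, ∃ k ∈ normalizer (EA.map φ : Set G), QJ φ k eV eV ∧ QJ φ k eT (eT * u) :=
    fun u hu => by
      have e1 := QJ.comp e (QJ.mul r1 r3)
      rcases (by decide +kernel : ∀ y ∈ UA, y = 1 ∨ y = eW ∨ y = eA ∨ y = eA * eW) u hu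
        with rfl | rfl | rfl | rfl
      exacts [⟨1, one_mem _, QJ.refl, QJ.refl.cast rfl (mul_one _).symm⟩, ⟨x, xE, xv, e⟩,
        ⟨_, mul_mem ρE xE, QJ.comp xv r2, e1⟩,
        ⟨_, mul_mem ρE (mul_mem ρE xE), (QJ.comp xv r2).comp r2, e1.comp (QJ.mul r1 r4)⟩]
  have tr : ∀ z ∈ EA, z.t = true →
      ∃ k ∈ normalizer (EA.map φ : Set G), QJ φ k eV eV ∧ QJ φ k eT z := fun z hz ht => by
    obtain ⟨u, hu, rfl | rfl⟩ := (by decide +kernel : ∀ z ∈ EA, z.t = true →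
      ∃ u ∈ UA, z = eT * u ∨ z = eT * u * eV) z hz ht
    · exact tr0 u hu
    · obtain ⟨k, hk, k1, k2⟩ := tr0 u hu
      exact ⟨_, mul_mem hk hn, nv.comp k1, QJ.comp en (k2.mul k1)⟩
  have fv : ∀ g ∈ normalizer (EA.map φ : Set G), QJ φ g eV eV := fun g hg => by
    obtain ⟨z, hz, e1⟩ := QJ.of_norm hg (x := eT) (by decide +kernel)
    obtain ⟨k, hk, k1, k2⟩ := tr z hz (orb g hg z hz e1)
    simpa using QJ.comp (h.fixv (mul_mem (inv_mem hk) hg) (e1.comp k2.inv)) k1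
  obtain ⟨c64, pg, mX⟩ := h.qj_X xD xx out
  obtain ⟨Q, hQ, le⟩ := exists_isSylowIn_ge pg
    (sup_le (Q4.qj_le.trans inf_le_left) (zpowers_le.2 xE))
  have memD : ∀ g ∈ Q, QJ φ g eT eT → g ∈ φ.range := fun g hg =>
    h.qj_mem hQ.pgroup (le_sup_left.trans le) hQ.le hg
  have eo : {w | ∃ z ∈ normalizer (EA.map φ : Set G), z * φ eT * z⁻¹ = w} =
      φ '' {y | (y.t && !y.b) = true} := by
    ext w
    refine ⟨fun ⟨g, hg, e⟩ => ?_, fun ⟨y, hy, e'⟩ => e' ▸ ?_⟩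
    · obtain ⟨z, hz, e1⟩ := QJ.of_norm hg (x := eT) (by decide +kernel)
      exact ⟨z, Bool.and_eq_true_iff.2 ⟨orb g hg z hz e1, hz⟩, e1.symm.trans e⟩
    · obtain ⟨k, hk, -, k2⟩ := tr y (Bool.and_eq_true_iff.1 hy).2 (Bool.and_eq_true_iff.1 hy).1
      exact ⟨k, hk, k2⟩
  obtain ⟨q, hq, e0⟩ := TL2.reach (k := 3) hQ (by rw [eo, h.qj_ncard]; rfl) hn
  have e1 : QJ φ q eT (eT * eV) := e0.trans en
  have qD : q ∈ normalizer (φ.range : Set G) := inv_mem_iff.1 (mem_normalizer_of_forall (by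
    rintro _ ⟨d, rfl⟩
    refine memD _ (mul_mem (mul_mem (inv_mem hq) (le (mem_sup_left ⟨d, rfl⟩)))
      (inv_mem (inv_mem hq))) ?_
    simpa [mul_assoc] using (e1.comp ((QJ.self d _).cast rfl
      ((by decide +kernel : ∀ d : D32, d * (eT * eV) * d⁻¹ = eT * eV) d))).comp e1.inv))
  have lY : φ.range ⊔ zpowers x ≤ Q ⊓ normalizer (φ.range : Set G) :=
    le_inf le (sup_le le_normalizer (zpowers_le.2 xD))
  have cY : 128 ≤ Nat.card (Q ⊓ normalizer (φ.range : Set G) : Subgroup G) := by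
    obtain ⟨c, hc⟩ := card_dvd_of_le lY
    have h1 : ¬ Nat.card (Q ⊓ normalizer (φ.range : Set G) : Subgroup G) ≤ 64 := fun h1 => by
      rcases (mX q).1 ((eq_of_le_of_card_ge lY (c64 ▸ h1)).ge ⟨hq, qD⟩) with h2 | h2
      · exact h.qj_out e1 (by decide +kernel) h2
      · have := (QJ.iff_Cx.2 (Q4.qj_le h2).2).comp e
        rw [mul_inv_cancel_left] at this
        exact absurd (this.uniq h.inj e1) (by decide +kernel)
    rw [c64] at hc
    omega
  obtain ⟨σ, s1, s2, s3, s4⟩ := h.rho₂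
  have := qj_card sr (X := Q ⊓ normalizer (φ.range : Set G)) (K := VW.map φ) fun y hy => by
    have yE := hQ.le hy.1
    have fy := fVW (fv y yE) (fw y hy.2)
    have sq : ∀ {p z}, QJ φ y p z → p⁻¹ * z ∈ VW → QJ φ (y * y) p p := fun {p z} e hs =>
      e.comp ((e.mul (fy _ hs)).cast (mul_inv_cancel_left _ _)
        ((by decide +kernel : ∀ p z : D32, p⁻¹ * z ∈ VW → z * (p⁻¹ * z) = p) p z hs))
    have cZ : ∀ g ∈ normalizer (φ.range : Set G), ∀ {p z}, QJ φ g p z → z ∈ ZZ → p ∈ ZZ :=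
      fun g hg p z e hz => by
        have k : ∀ d, p * d = d * p := fun d => by
          obtain ⟨d', e'⟩ := QJ.of_normD hg d
          exact (e.comm h.inj e').2 ((by decide +kernel : ∀ z ∈ ZZ, ∀ d, z * d = d * z) z hz d')
        exact (by decide +kernel : ∀ p, p * eA = eA * p → p * eB = eB * p → p ∈ ZZ) p (k _) (k _)
    obtain ⟨z1, hz1, t1⟩ := QJ.of_norm yE (x := eT) (by decide +kernel)
    have q1 := sq t1 ((by decide +kernel : ∀ z ∈ ZZ, z.t = true → eT⁻¹ * z ∈ VW) z1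
      (cZ _ (inv_mem hy.2) t1.inv (by decide +kernel)) (orb y yE z1 hz1 t1))
    obtain ⟨z2, hz2, t2⟩ := QJ.of_norm yE (x := eA) (by decide +kernel)
    have q2 := sq t2 ((by decide +kernel : ∀ z ∈ EA, z ∉ ZZ → ¬ z.t = true → eA⁻¹ * z ∈ VW) z2 hz2
      (fun hz => absurd (cZ y hy.2 t2 hz) (by decide +kernel)) fun ht => by
        obtain ⟨k, -, -, k2⟩ := tr z2 hz2 ht
        exact h.nw ((k2.comp t2.inv).comp (QJ.inv r3)).isConj)
    obtain ⟨z3, t3⟩ := QJ.of_normD hy.2 eB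
    have q3 : QJ φ (y * y) eB eB := by
      have k : ∀ {g}, ¬ QJ φ g eT z3 := fun k2 => h.nw ((k2.comp t3.inv).comp (QJ.inv s3)).isConj
      have a1 := QJ.comp e (QJ.mul s1 s3)
      have a2 := QJ.comp en (((QJ.mul s1 s2).mul s3).cast (by decide +kernel) rfl)
      rcases (by decide +kernel : ∀ z : D32, z * z = 1 → z ∈ EA ∨ eB⁻¹ * z ∈ VW ∨ z = eT * eB ∨
        z = eT * (eB * eW) ∨ z = eT * (eV * eW) * eB ∨ z = eT * (eV * eW) * (eB * eW)) z3
        ((t3.mul t3).uniq h.inj (QJ.one.cast (by decide +kernel) rfl)) with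
        h1 | h1 | rfl | rfl | rfl | rfl
      · obtain ⟨p, hp, e2⟩ := QJ.of_norm (inv_mem yE) h1
        exact absurd (t3.inv.uniq h.inj e2 ▸ hp) (by decide +kernel)
      · exact sq t3 h1
      exacts [absurd a1 k, absurd (a1.comp (QJ.mul s1 s4)) k, absurd a2 k,
        absurd (a2.comp ((QJ.mul s1 s2).mul s4)) k]
    obtain ⟨d, hd⟩ := memD _ (mul_mem hy.1 hy.1) q1
    rw [← hd] at q2 q3 ⊢
    rcases (by decide +kernel : ∀ d : D32, d * eA * d⁻¹ = eA → d * eB * d⁻¹ = eB →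
      d ∈ VW ∨ d⁻¹ * eT ∈ VW) d ((QJ.self d _).uniq h.inj q2) ((QJ.self d _).uniq h.inj q3)
      with h1 | h1
    · exact mem_map_of_mem φ h1
    · have e2 : QJ φ y d d := by rw [QJ, hd]; group
      obtain ⟨d', hd'⟩ := memD y hy.1 (by simpa using e2.mul (fy _ h1))
      rw [← hd', ← map_mul] at hd
      rw [h.inj hd]
      exact mem_map_of_mem φ ((by decide +kernel : ∀ d : D32, d * d ∈ VW) d')
  rw [h.card_map, card_sub] at this
  exact absurd (cY.trans this) (by decide +kernel)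

end CfsgLib.GHE
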