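import Mathlib
import Cfsg.Agent.Lib.GHE.DC2q4
import Cfsg.Agent.Lib.GHE.DC2q8
import Cfsg.Agent.Lib.GHE.Tool1

/-! DC2 packages Q4.qa (= QA) and Q4.not_conj.  Notation as in `DC2q8`.

`qa`: `x` induces an automorphism `L` of the model (`Q4.ind ⊤`) with `L eT = eT eW`, `L EA = EA`, `L²` inner; so `L eW = eW`, `L EB = EB`, `L eV ∈ {eV, eV eW}` (`L²` fixes `eV`).  After `Q4.twist`, `L eV = eV`.
  `L eA ∈ eA ⟨eW⟩ {1, eT, eV, eT eV}`: `eT`: `a ~ w` is not conjugate to `t a ~ t w ~ t`.  `eT eV`: `x` maps `t a ∈ O` to `a v w^i ~ v w` (by `ρ₁`), against `cnt` (z = `eV eW`).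
  `eV`: `x` maps `t a` to `t a v w^i ~ t v w ~ t v` inside `N(E)`: `qa8`.  The same for `eB` with `Q4.symm` (there `v w` plays the role of `v`).  Otherwise `qa4`.
`not_conj`: `D` is Sylow in `C(t w)` (`mx`), so `n t n⁻¹ = t w` for some `n ∈ N(D)` (`exists_extremal`, orders); `n²` centralises `t`, so an odd power of `n²` is in `D`: replace `n` by an odd power, `n² ∈ D`.
  If `n` normalises `E`: `qa`.  Else `n` swaps `E` and `F`; as above (twist) `n` fixes `v`, `w`.  `σ = n ρ₁ n⁻¹ ∈ N(F)` fixes `t w`, `v` and permutes `w, b c, b c w` (`b c = n a n⁻¹`), `c ∈ {1, t, v, t v} ⟨w⟩`.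
  `c = t`: `b t ~ t`.  `c = t v`: `σ^±` maps `t = (t w) w` to `b v w ~ v` (by `ρ₂`), but `D ⊔ ⟨n⟩` (order 64) centralises `v`: against `mx`.
  `c = 1`: `t ↦ t b w^i ~ t w` by `ρ₂`.  `c = v`: `t ↦ t v b w^i ~ t v` by `ρ₂`, and `t w ~ t b = (t w) v (b v w) ~ (t w) v w = t v` by `ρ₂`, `σ`.  So `k t k⁻¹ = t w` with `k ∈ N(F)`;
  `D` is Sylow in `N(F) ⊓ C(t w)`, so we may take `k ∈ N(F) ⊓ N(D)`, again `k² ∈ D`; then `k ∈ N(E)`: `qa`. -/

set_option autoImplicit false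

namespace CfsgLib.GHE

open Subgroup Cfsg CfsgLib.W2 CfsgLib.Tech CfsgLib.Sect CfsgLib.PComp CfsgLib.DihSyl
  CfsgLib.GW.Cor
open CfsgLib.LBal hiding cj
open scoped MatrixGroups commutatorElement

universe u

variable {G : Type u} [Group G] [Finite G]

open D32

variable {φ : D32 →* G}

namespace QA

/-- conjugacy by an element of `N` -/
def R (φ : D32 →* G) (N : Subgroup G) (y z : D32) : Prop := ∃ n ∈ N, n * φ y * n⁻¹ = φ z

omit [Finite G] in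
theorem R.symm {N : Subgroup G} {y z : D32} (h : R φ N y z) : R φ N z y := by
  obtain ⟨n, hn, e⟩ := h
  exact ⟨n⁻¹, inv_mem hn, by rw [← e]; group⟩

omit [Finite G] in
theorem R.trans {N : Subgroup G} {x y z : D32} (h : R φ N x y) (h' : R φ N y z) : R φ N x z := by
  obtain ⟨n, hn, e⟩ := h
  obtain ⟨m, hm, e'⟩ := h'
  exact ⟨m * n, mul_mem hm hn, by rw [← e', ← e]; group⟩

omit [Finite G] in
theorem R.conj {N : Subgroup G} {y z : D32} (h : R φ N y z) : IsConj (φ y) (φ z) := by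
  obtain ⟨n, -, e⟩ := h
  exact isConj_iff.2 ⟨n, e⟩

/-- a product of some of four elements -/
def c4 (g₁ g₂ g₃ g₄ : D32) (p₁ p₂ p₃ p₄ : Bool) : D32 :=
  cond p₁ g₁ 1 * (cond p₂ g₂ 1 * (cond p₃ g₃ 1 * cond p₄ g₄ 1))

omit [Finite G] in
theorem one {n : G} {g k : D32} (e : n * φ g * n⁻¹ = φ k) (p : Bool) :
    n * φ (cond p g 1) * n⁻¹ = φ (cond p k 1) := by
  cases p <;> simp [e]

omit [Finite G] in
theorem mul {n : G} {g k g' k' : D32} (e : n * φ g * n⁻¹ = φ k) (e' : n * φ g' * n⁻¹ = φ k') :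
    n * φ (g * g') * n⁻¹ = φ (k * k') := by
  rw [map_mul, map_mul, ← e, ← e', conj_mul]

omit [Finite G] in
theorem four {n : G} {g₁ g₂ g₃ g₄ k₁ k₂ k₃ k₄ : D32} (e₁ : n * φ g₁ * n⁻¹ = φ k₁) (e₂ : n * φ g₂ * n⁻¹ = φ k₂)
    (e₃ : n * φ g₃ * n⁻¹ = φ k₃) (e₄ : n * φ g₄ * n⁻¹ = φ k₄) (p₁ p₂ p₃ p₄ : Bool) :
    n * φ (c4 g₁ g₂ g₃ g₄ p₁ p₂ p₃ p₄) * n⁻¹ = φ (c4 k₁ k₂ k₃ k₄ p₁ p₂ p₃ p₄) :=
  mul (one e₁ _) (mul (one e₂ _) (mul (one e₃ _) (one e₄ _)))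

/-- the action of `ρ₁` -/
def r1 (x : D32) : D32 := c4 eT eV (eA * eW) eA x.t x.v x.a x.w

/-- the action of `ρ₂` -/
def r2 (x : D32) : D32 := c4 eT (eV * eW) (eB * eW) eB x.t x.v x.b (x.w ^^ x.v)

theorem rho1 (h : Q4 φ) : ∃ ρ ∈ normalizer (EA.map φ : Set G), ∀ x ∈ EA, ρ * φ x * ρ⁻¹ = φ (r1 x) := by
  obtain ⟨ρ, a1, a2, a3, a4⟩ := h.rho₁
  have k : ∀ x ∈ EA, ρ * φ x * ρ⁻¹ = φ (r1 x) := fun x hx => by
    rw [r1, ← four a1 a2 a4 a3,
      ← (by decide +kernel : ∀ x ∈ EA, x = c4 eT eV eA eW x.t x.v x.a x.w) x hx]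
  exact ⟨ρ, Q4.mem_norm fun x hx => ⟨_, (by decide +kernel : ∀ x ∈ EA, r1 x ∈ EA) x hx, k x hx⟩, k⟩

theorem rho2 (h : Q4 φ) : ∃ ρ ∈ normalizer (EB.map φ : Set G), ∀ x ∈ EB, ρ * φ x * ρ⁻¹ = φ (r2 x) := by
  obtain ⟨ρ, a1, a2, a3, a4⟩ := h.rho₂
  have k : ∀ x ∈ EB, ρ * φ x * ρ⁻¹ = φ (r2 x) := fun x hx => by
    rw [r2, ← four a1 a2 a4 a3,
      ← (by decide +kernel : ∀ x ∈ EB, x = c4 eT (eV * eW) eB eW x.t x.v x.b (x.w ^^ x.v)) x hx]
  exact ⟨ρ, Q4.mem_norm fun x hx => ⟨_, (by decide +kernel : ∀ x ∈ EB, r2 x ∈ EB) x hx, k x hx⟩, k⟩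

theorem nf1 (h : Q4 φ) {y : D32} (hy : y ∈ EA) (ha : y.a = true) :
    R φ (normalizer (EA.map φ : Set G)) y ⟨y.t, y.v, false, false, true⟩ := by
  obtain ⟨ρ, hρ, k⟩ := rho1 h
  rcases (by decide +kernel : ∀ y ∈ EA, y.a = true → ⟨y.t, y.v, false, false, true⟩ = r1 y ∨
    (r1 y ∈ EA ∧ ⟨y.t, y.v, false, false, true⟩ = r1 (r1 y))) y hy ha with e | ⟨m, e⟩ <;> rw [e]
  · exact ⟨ρ, hρ, k y hy⟩
  · exact R.trans ⟨ρ, hρ, k y hy⟩ ⟨ρ, hρ, k _ m⟩

theorem nf2 (h : Q4 φ) {y : D32} (hy : y ∈ EB) (hb : y.b = true) :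
    R φ (normalizer (EB.map φ : Set G)) y ⟨y.t, y.v, false, false, !y.v⟩ := by
  obtain ⟨ρ, hρ, k⟩ := rho2 h
  rcases (by decide +kernel : ∀ y ∈ EB, y.b = true → ⟨y.t, y.v, false, false, !y.v⟩ = r2 y ∨
    (r2 y ∈ EB ∧ ⟨y.t, y.v, false, false, !y.v⟩ = r2 (r2 y))) y hy hb with e | ⟨m, e⟩ <;> rw [e]
  · exact ⟨ρ, hρ, k y hy⟩
  · exact R.trans ⟨ρ, hρ, k y hy⟩ ⟨ρ, hρ, k _ m⟩

omit [Finite G] in
theorem img {x : G} (xD : x ∈ normalizer (φ.range : Set G)) (y : D32) : ∃ z, x * φ y * x⁻¹ = φ z := by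
  obtain ⟨z, e⟩ := conj_mem_of_mem_normalizer xD (⟨y, rfl⟩ : φ y ∈ φ.range)
  exact ⟨z, e.symm⟩

omit [Finite G] in
theorem inj (h : Q4 φ) {x : G} {y z y' z' : D32} (e : x * φ y * x⁻¹ = φ z) (e' : x * φ y' * x⁻¹ = φ z') :
    y = y' ↔ z = z' := by
  refine ⟨fun k => h.inj (by rw [← e, ← e', k]), fun k => h.inj ?_⟩
  rw [k, ← e'] at e
  simpa using e

omit [Finite G] in
theorem cone (x : G) : x * φ 1 * x⁻¹ = φ 1 := by simp

omit [Finite G] in
theorem fixw (h : Q4 φ) {x : G} (xD : x ∈ normalizer (φ.range : Set G)) : x * φ eW * x⁻¹ = φ eW := by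
  obtain ⟨z, e⟩ := img xD (eA * eB)
  have e2 : x * φ eW * x⁻¹ = φ (z * z) := mul e e
  rcases (by decide +kernel : ∀ z : D32, z * z = 1 ∨ z * z = eW) z with k | k
  · exact absurd ((inj h e2 (cone x)).2 k) (by decide +kernel)
  · rwa [k] at e2

omit [Finite G] in
theorem cen {z : D32} (hz : z ∈ ZZ) : φ.range ≤ Cx (φ z) := by
  rintro _ ⟨y, rfl⟩
  rw [mem_Cx, ← map_mul, ← map_mul, (by decide +kernel : ∀ z ∈ ZZ, ∀ y, y * z = z * y) z hz y]

omit [Finite G] in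
theorem out (h : Q4 φ) {x : G} (e : x * φ eT * x⁻¹ = φ (eT * eW)) : x ∉ φ.range := fun hx => by
  rw [mem_Cx.1 (cen (by decide +kernel) hx), mul_inv_cancel_right] at e
  exact absurd (h.inj e) (by decide +kernel)

omit [Finite G] in
theorem imgv (h : Q4 φ) {x : G} (xD : x ∈ normalizer (φ.range : Set G)) (e : x * φ eT * x⁻¹ = φ (eT * eW))
    (xx : x * x ∈ φ.range) : x * φ eV * x⁻¹ = φ eV ∨ x * φ eV * x⁻¹ = φ (eV * eW) := by
  obtain ⟨V, eV'⟩ := img xD eV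
  have c : ∀ y, y * V = V * y := fun y => by
    obtain ⟨z, ez⟩ := img (inv_mem xD) y
    have ez' : x * φ z * x⁻¹ = φ y := by rw [← ez]; group
    exact (inj h (mul ez' eV') (mul eV' ez')).1 ((by decide +kernel : ∀ z, z * eV = eV * z) z)
  have k := four e eV' (fixw h xD) (cone x) V.t V.v V.w false
  rw [← (by decide +kernel : ∀ V, eA * V = V * eA → eB * V = V * eB → V = c4 eT eV eW 1 V.t V.v V.w false)
    V (c _) (c _), ← eV', show x * (x * φ eV * x⁻¹) * x⁻¹ = x * x * φ eV * (x * x)⁻¹ by group,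
    mem_Cx.1 (cen (by decide +kernel) xx), mul_inv_cancel_right] at k
  rcases (by decide +kernel : ∀ V, eA * V = V * eA → eB * V = V * eB →
    eV = c4 (eT * eW) V eW 1 V.t V.v V.w false → V = eV ∨ V = eV * eW) V (c _) (c _) (h.inj k) with rfl | rfl
  exacts [Or.inl eV', Or.inr eV']

omit [Finite G] in
/-- the images of `a` and `b` -/
theorem imgab (h : Q4 φ) {x : G} (xD : x ∈ normalizer (φ.range : Set G)) :
    ∃ A B, x * φ eA * x⁻¹ = φ A ∧ x * φ eB * x⁻¹ = φ B ∧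
      ((A ∈ EA ∧ A.a = true ∧ B ∈ EB ∧ B.b = true) ∨ (A ∈ EB ∧ A.b = true ∧ B ∈ EA ∧ B.a = true)) := by
  obtain ⟨A, ea⟩ := img xD eA
  obtain ⟨B, eb⟩ := img xD eB
  refine ⟨A, B, ea, eb, (by decide +kernel : ∀ A, A * A = 1 → ∀ B, B * B = 1 → A * B ≠ B * A →
    (A ∈ EA ∧ A.a = true ∧ B ∈ EB ∧ B.b = true) ∨ (A ∈ EB ∧ A.b = true ∧ B ∈ EA ∧ B.a = true)) A ?_ B ?_ ?_⟩
  · exact (inj h (mul ea ea) (cone x)).1 (by decide +kernel)
  · exact (inj h (mul eb eb) (cone x)).1 (by decide +kernel)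
  · exact (inj h (mul ea eb) (mul eb ea)).not.1 (by decide +kernel)

/-- a 2-group that properly contains `D` -/
theorem big (h : Q4 φ) {x : G} (xD : x ∈ normalizer (φ.range : Set G)) (xx : x * x ∈ φ.range)
    (o : x ∉ φ.range) : IsPGroup 2 (φ.range ⊔ zpowers x : Subgroup G) ∧
      ¬ Nat.card (φ.range ⊔ zpowers x : Subgroup G) ≤ 32 := by
  refine ⟨h.pg.to_sup_of_normal_left' ?_ (zpowers_le.2 xD), fun c => o ?_⟩
  · obtain ⟨k, hk⟩ := h.pg ⟨_, xx⟩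
    exact isPGroup_zpowers_of_pow (k := k + 1) (by
      rw [pow_succ', pow_mul, pow_two]; exact congrArg Subtype.val hk)
  · rw [eq_of_le_of_card_ge le_sup_left (h.card ▸ c : _ ≤ Nat.card φ.range)]
    exact mem_sup_right (mem_zpowers x)

theorem qa_a (h : Q4 φ) (sr : SR 16 (⊤ : Subgroup G)) {x : G}
    (xE : x ∈ normalizer (EA.map φ : Set G)) (xD : x ∈ normalizer (φ.range : Set G))
    (e : x * φ eT * x⁻¹ = φ (eT * eW)) (xx : x * x ∈ φ.range) (xv : x * φ eV * x⁻¹ = φ eV) :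
    x * φ eA * x⁻¹ = φ eA ∨ x * φ eA * x⁻¹ = φ (eA * eW) := by
  obtain ⟨A, B, ea, -, k⟩ := imgab h xD
  have xw := fixw h xD
  have hA : A ∈ EA := h.mem_map.1 (ea ▸ conj_mem_of_mem_normalizer xE (h.mem_map.2 (by decide +kernel)))
  have ha : A.a = true := by
    rcases k with k | k
    · exact k.2.1
    · exact absurd k.2.1 ((by decide +kernel : ∀ A ∈ EA, ¬ A.b = true) A hA)
  have r0 : R φ (normalizer (EA.map φ : Set G)) eT (eT * eW) := ⟨x, xE, e⟩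
  have r1 : R φ (normalizer (EA.map φ : Set G)) eT (eT * eW * A) :=
    (r0.trans (nf1 h (y := eT * eA) (by decide +kernel) rfl).symm).trans ⟨x, xE, mul e ea⟩
  have r2 := r1.trans (nf1 h (mul_mem (by decide +kernel) hA)
    ((by decide +kernel : ∀ A : D32, A.a = true → (eT * eW * A).a = true) A ha))
  have r3 := R.trans ⟨x, xE, ea⟩ (nf1 h hA ha)
  have r4 : R φ (normalizer (EA.map φ : Set G)) eA eW := nf1 h (y := eA) (by decide +kernel) rfl
  obtain ⟨i, j, a, b, l⟩ := A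
  obtain rfl : a = true := ha
  obtain rfl : b = false := by simpa [mem_sub] using hA
  cases i <;> cases j
  · cases l
    exacts [Or.inl ea, Or.inr ea]
  · obtain ⟨n, hn, en⟩ : R φ (normalizer (EA.map φ : Set G)) eT (eT * eV) :=
      r2.trans (R.symm ⟨x, xE, mul e xv⟩)
    exact (h.qa8 sr xE xD e xx xv hn en).elim
  · exact (h.nw ((r0.trans r3.symm).trans r4).conj).elim
  · obtain ⟨n, hn, en⟩ : R φ (normalizer (EA.map φ : Set G)) eT (eV * eW) := r2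
    exact (h.cnt xE xD xx (out h e) hn (by decide +kernel) en (mul xv xw)).elim

theorem map_sw : EA.map (φ.comp sw.toMonoidHom) = EB.map φ := map_comp_aut φ sw (by decide +kernel)

theorem qa_core (h : Q4 φ) (sr : SR 16 (⊤ : Subgroup G)) {x : G}
    (xE : x ∈ normalizer (EA.map φ : Set G)) (xD : x ∈ normalizer (φ.range : Set G))
    (e : x * φ eT * x⁻¹ = φ (eT * eW)) (xx : x * x ∈ φ.range) (xv : x * φ eV * x⁻¹ = φ eV) : False := by
  have xw := fixw h xD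
  have ha := qa_a h sr xE xD e xx xv
  obtain ⟨A, B, ea, eb, k⟩ := imgab h xD
  have hB : B ∈ EB := by
    rcases k with k | k
    · exact k.2.2.1
    · rcases ha with ha | ha <;> rw [ea] at ha <;> rw [h.inj ha] at k <;> exact absurd k.2.1 (by decide +kernel)
  have xF : x ∈ normalizer (EB.map φ : Set G) := Q4.mem_norm fun y hy =>
    ⟨_, (by decide +kernel : ∀ B ∈ EB, ∀ y : D32, c4 (eT * eW) eV B eW y.t y.v y.b y.w ∈ EB) B hB y, by
      rw [← four e xv eb xw, ← (by decide +kernel : ∀ y ∈ EB, y = c4 eT eV eB eW y.t y.v y.b y.w) y hy]⟩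
  have hb : x * φ eB * x⁻¹ = φ eB ∨ x * φ eB * x⁻¹ = φ (eB * eW) :=
    qa_a h.symm sr (by rwa [map_sw]) (by rwa [range_comp_aut]) e (by rwa [range_comp_aut]) (mul xv xw)
  have key : ∀ A B, (A = eA ∨ A = eA * eW) → (B = eB ∨ B = eB * eW) → x * φ eA * x⁻¹ = φ A →
      x * φ eB * x⁻¹ = φ B → False := fun A B hA hB ea eb => h.qa4 sr e xx fun y => by
    have k := mul (four e xv ea eb y.t y.v y.a y.b) (one xw y.w)
    rw [← (by decide +kernel : ∀ y, y = c4 eT eV eA eB y.t y.v y.a y.b * cond y.w eW 1) y] at k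
    rw [k]
    rcases (by decide +kernel : ∀ A, (A = eA ∨ A = eA * eW) → ∀ B, (B = eB ∨ B = eB * eW) → ∀ y : D32,
      c4 (eT * eW) eV A B y.t y.v y.a y.b * cond y.w eW 1 = y ∨
      c4 (eT * eW) eV A B y.t y.v y.a y.b * cond y.w eW 1 = y * eW) A hA B hB y with k' | k' <;> rw [k']
    exacts [Or.inl rfl, Or.inr rfl]
  rcases ha with ha | ha <;> rcases hb with hb | hb
  exacts [key _ _ (.inl rfl) (.inl rfl) ha hb, key _ _ (.inl rfl) (.inr rfl) ha hb,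
    key _ _ (.inr rfl) (.inl rfl) ha hb, key _ _ (.inr rfl) (.inr rfl) ha hb]

end QA

open QA in
theorem Q4.qa (h : Q4 φ) (sr : SR 16 (⊤ : Subgroup G)) {x : G}
    (xE : x ∈ normalizer (EA.map φ : Set G)) (xD : x ∈ normalizer (φ.range : Set G))
    (e : x * φ eT * x⁻¹ = φ (eT * eW)) (xx : x * x ∈ φ.range) : False := by
  rcases imgv h xD e xx with xv | xv
  · exact qa_core h sr xE xD e xx xv
  · exact qa_core h.twist sr (by rwa [map_comp_aut φ tv (B := EA) (by decide +kernel)])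
      (by rwa [range_comp_aut]) e (by rwa [range_comp_aut]) (mul e xv)

namespace QA

theorem odd (h : Q4 φ) (hT : IsSylowIn 2 φ.range (Cx (φ eT))) {N : Subgroup G} {g : G} (gN : g ∈ N)
    (le : cj g φ.range ≤ φ.range) (e : g * φ (eT * eW) * g⁻¹ = φ eT) :
    ∃ n ∈ N, n ∈ normalizer (φ.range : Set G) ∧ n * φ eT * n⁻¹ = φ (eT * eW) ∧ n * n ∈ φ.range := by
  have gD := mem_normalizer_of_cj_le le
  have e1 : g * φ eT * g⁻¹ = φ (eT * eW) := mul e (fixw h gD)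
  have c : g * g ∈ Cx (φ eT) := by
    rw [mem_Cx, ← mul_inv_eq_iff_eq_mul, show g * g * φ eT * (g * g)⁻¹ = g * (g * φ eT * g⁻¹) * g⁻¹ by group, e1, e]
  obtain ⟨a, k, ⟨j, rfl⟩, ek⟩ := Nat.exists_eq_two_pow_mul_odd (orderOf_pos (g * g)).ne'
  refine ⟨g ^ (2 * j + 1), pow_mem gN _, pow_mem gD _, ?_, ?_⟩
  · rw [pow_succ', pow_mul, pow_two, show g * (g * g) ^ j * φ eT * (g * (g * g) ^ j)⁻¹ =
      g * ((g * g) ^ j * φ eT * ((g * g) ^ j)⁻¹) * g⁻¹ by group, mem_Cx.1 (pow_mem c j), mul_inv_cancel_right, e1]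
  · rw [← (Commute.refl g).mul_pow]
    refine hT.le_of_normalizes (Q := zpowers ((g * g) ^ (2 * j + 1))) (isPGroup_zpowers_of_pow (k := a) ?_)
      (zpowers_le.2 (pow_mem c _)) (zpowers_le.2 (pow_mem (mul_mem gD gD) _)) (mem_zpowers _)
    rw [← pow_mul, mul_comm, ← ek, pow_orderOf_eq_one]

theorem inF (h : Q4 φ) (sr : SR 16 (⊤ : Subgroup G)) (hT : IsSylowIn 2 φ.range (Cx (φ eT))) :
    ¬ R φ (normalizer (EB.map φ : Set G)) eT (eT * eW) := fun r => by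
  obtain ⟨k, hk, e⟩ := r.symm
  have DF : φ.range ≤ normalizer (EB.map φ : Set G) := by
    rintro _ ⟨d, rfl⟩
    exact Q4.mem_norm fun y hy => ⟨_, (by decide +kernel : ∀ d, ∀ y ∈ EB, d * y * d⁻¹ ∈ EB) d y hy, by simp⟩
  have hS := hT.of_le (le_inf DF hT.le) inf_le_right
  obtain ⟨c, hc, le⟩ := hS.exists_cj_le (isPGroup_cj k h.pg) (cj_le_iff.2 fun d hd => mem_inf.2
    ⟨mul_mem (mul_mem hk (DF hd)) (inv_mem hk), by
      rw [mem_Cx, ← e, conj_mul, conj_mul, mem_Cx.1 (cen (by decide +kernel) hd)]⟩)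
  obtain ⟨n, hn, nD, en, nn⟩ := odd h hT (mul_mem hc.1 hk) (by rwa [cj_mul]) (by
    rw [show c * k * φ (eT * eW) * (c * k)⁻¹ = c * (k * φ (eT * eW) * k⁻¹) * c⁻¹ by group, e, mem_Cx.1 hc.2,
      mul_inv_cancel_right])
  exact h.symm.qa sr (by rwa [map_sw]) (by rwa [range_comp_aut]) en (by rwa [range_comp_aut])

theorem nc_core (h : Q4 φ) (sr : SR 16 (⊤ : Subgroup G)) (hT : IsSylowIn 2 φ.range (Cx (φ eT)))
    (mx : ∀ y, IsConj (φ eT) y → ∀ Q : Subgroup G, IsPGroup 2 Q → Q ≤ Cx y → Nat.card Q ≤ 32) {x : G}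
    (xD : x ∈ normalizer (φ.range : Set G)) (e : x * φ eT * x⁻¹ = φ (eT * eW)) (xx : x * x ∈ φ.range)
    (xv : x * φ eV * x⁻¹ = φ eV) : False := by
  have xw := fixw h xD
  obtain ⟨A, B, ea, -, k⟩ := imgab h xD
  have act : ∀ y ∈ EA, x * φ y * x⁻¹ = φ (c4 (eT * eW) eV A eW y.t y.v y.a y.w) := fun y hy => by
    rw [← four e xv ea xw, ← (by decide +kernel : ∀ y ∈ EA, y = c4 eT eV eA eW y.t y.v y.a y.w) y hy]
  rcases k with ⟨hA, -⟩ | ⟨hA, hb, -⟩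
  · exact h.qa sr (Q4.mem_norm fun y hy =>
      ⟨_, (by decide +kernel : ∀ A ∈ EA, ∀ y : D32, c4 (eT * eW) eV A eW y.t y.v y.a y.w ∈ EA) A hA y, act y hy⟩)
      xD e xx
  have cjE : cj x (EA.map φ) = EB.map φ := eq_of_le_of_card_ge (cj_le_iff.2 (by
    rintro _ ⟨y, hy, rfl⟩
    rw [act y hy]
    exact h.mem_map.2 ((by decide +kernel : ∀ A ∈ EB, ∀ y : D32, c4 (eT * eW) eV A eW y.t y.v y.a y.w ∈ EB) A hA y)))
    (by rw [card_cj, h.card_map, h.card_map, card_sub, card_sub]; decide +kernel)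
  have tr : ∀ {y z}, y ∈ EA → z ∈ EA → R φ (normalizer (EA.map φ : Set G)) y z →
      R φ (normalizer (EB.map φ : Set G)) (c4 (eT * eW) eV A eW y.t y.v y.a y.w)
        (c4 (eT * eW) eV A eW z.t z.v z.a z.w) := fun hy hz ⟨n, hn, en⟩ =>
    ⟨x * n * x⁻¹, by rw [← cjE, ← cj_normalizer]; exact conj_mem_cj.2 hn, by
      rw [← act _ hy, ← act _ hz, ← en]; group⟩
  have r1 : R φ (normalizer (EB.map φ : Set G)) eT (eT * eW * A) := by
    rw [(by decide +kernel : ∀ A : D32, eT * eW * A = c4 (eT * eW) eV A eW true false true false) A]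
    exact (tr (y := eT * eA) (by decide +kernel) (by decide +kernel) (nf1 h (by decide +kernel) rfl)).symm
  have r2 := r1.trans (nf2 h (mul_mem (by decide +kernel) hA)
    ((by decide +kernel : ∀ A : D32, A.b = true → (eT * eW * A).b = true) A hb))
  have r3 := nf2 h hA hb
  have r4 : R φ (normalizer (EB.map φ : Set G)) (eT * eW * eV * A) (eT * eV) := by
    rw [(by decide +kernel : ∀ A : D32, eT * eW * eV * A = c4 (eT * eW) eV A eW true true true false) A]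
    exact tr (y := eT * eV * eA) (by decide +kernel) (by decide +kernel) (nf1 h (by decide +kernel) rfl)
  have r5 := nf2 h (mul_mem (by decide +kernel : eT * eW * eV ∈ EB) hA)
    ((by decide +kernel : ∀ A : D32, A.b = true → (eT * eW * eV * A).b = true) A hb)
  obtain ⟨i, j, a, b, l⟩ := A
  obtain rfl : b = true := hb
  obtain rfl : a = false := by simpa [mem_sub] using hA
  cases i <;> cases j
  · exact inF h sr hT r2
  · exact inF h sr hT ((r2.trans r4.symm).trans r5)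
  · have c1 : IsConj (φ eT) (φ (eT * eW)) := isConj_iff.2 ⟨x, e⟩
    have c2 : IsConj (φ eA) (φ eW) := (nf1 h (y := eA) (by decide +kernel) rfl).conj
    exact h.nw ((c1.trans r3.conj.symm).trans ((isConj_iff.2 ⟨x, ea⟩).symm.trans c2))
  · obtain ⟨p, q⟩ := big h xD xx (out h e)
    exact q (mx (φ eV) r2.conj _ p (sup_le (cen (by decide +kernel))
      (zpowers_le.2 (mem_Cx.2 (mul_inv_eq_iff_eq_mul.1 xv)))))

end QA

open QA in
theorem Q4.not_conj (h : Q4 φ) (sr : SR 16 (⊤ : Subgroup G))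
    (hT : IsSylowIn 2 φ.range (Cx (φ eT)))
    (mx : ∀ y, IsConj (φ eT) y → ∀ Q : Subgroup G, IsPGroup 2 Q → Q ≤ Cx y → Nat.card Q ≤ 32) :
    ¬ IsConj (φ eT) (φ (eT * eW)) := by
  intro c
  obtain ⟨g, e, le⟩ := exists_extremal hT c.symm h.pg (cen (by decide +kernel))
  obtain ⟨x, -, xD, e, xx⟩ := odd h hT (mem_top g) le e
  rcases imgv h xD e xx with xv | xv
  · exact nc_core h sr hT mx xD e xx xv
  · exact nc_core h.twist sr (by rwa [range_comp_aut]) mx (by rwa [range_comp_aut]) e (by rwa [range_comp_aut])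
      (mul e xv)

end CfsgLib.GHE
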