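import Mathlib
import Cfsg.Agent.Lib.GHE.Defs2
import Cfsg.Agent.Lib.GHM.T7

/-! Block DN2: the local configurations.  See `plans/GHE-DN2.md`. -/

set_option autoImplicit false

namespace CfsgLib.GHE

open Subgroup Cfsg CfsgLib.W2 CfsgLib.Tech CfsgLib.Sect CfsgLib.PComp CfsgLib.DihSyl
  CfsgLib.GW.Cor
open CfsgLib.LBal hiding cj
open scoped MatrixGroups commutatorElement

universe u

variable {G : Type u} [Group G] [Finite G]

/-- the four-group `U = ⟨a, w⟩` and `ρ` of odd order on it -/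
structure UF (U : Subgroup G) (a w ρ : G) : Prop where
  memU : ∀ u, u ∈ U ↔ u = 1 ∨ u = a ∨ u = w ∨ u = a * w
  aa : a * a = 1
  ww : w * w = 1
  aw : a * w = w * a
  a1 : a ≠ 1
  w1 : w ≠ 1
  ne : a ≠ w
  cy : Cy ρ w a

/-- `T` is a Sylow 2-subgroup of `C(t)`, as large as possible for the members of `I` -/
structure Bs (I : Set G) (T : Subgroup G) (t : G) : Prop extends Ctx G where
  conj : ∀ y ∈ I, ∀ k, k * y * k⁻¹ ∈ I
  mem : t ∈ I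
  tt : t * t = 1
  t1 : t ≠ 1
  sylT : IsSylowIn 2 T (Cx t)
  max : ∀ y ∈ I, ∀ Q : Subgroup G, IsPGroup 2 Q → Q ≤ Cx y → Nat.card Q ≤ Nat.card T

/-- `g` normalises `T` -/
structure Up (T : Subgroup G) (g : G) : Prop where
  gT : g ∉ T
  gg : g * g ∈ T
  gn : g ∈ normalizer (T : Set G)

/-- the local form of configuration C -/
structure Dn (I : Set G) (T R U : Subgroup G) (t a w ρ g : G) : Prop
    extends Bs I T t, UF U a w ρ, Up T g where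
  tR : t ∈ R
  RT : R ≤ T
  UT : U ≤ T
  nR : T ≤ normalizer (R : Set G)
  RI : ∀ r ∈ R, r * r = 1 → r ≠ 1 → r ∈ I
  inf : ∀ x ∈ R, x ∈ U → x = 1
  cR : ∀ r ∈ R, ∀ u ∈ U, r * u = u * r
  ρR : ∀ r ∈ R, ρ * r = r * ρ
  fix : ∀ x ∈ T, x * w = w * x
  act : ∀ x ∈ T, (∃ r ∈ R, ∃ u ∈ U, x = r * u) ∨ x * a * x⁻¹ = a * w
  infR : ∀ x ∈ R, g * x * g⁻¹ ∈ R → x = 1

/-- `E = ⟨r, t⟩ × U` -/
structure EF (I : Set G) (T E U : Subgroup G) (r t a w ρ : G) : Prop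
    extends Bs I T t, UF U a w ρ where
  memE : ∀ x, x ∈ E ↔ x ∈ U ∨ t * x ∈ U ∨ r * x ∈ U ∨ r * t * x ∈ U
  E2 : ∀ x ∈ E, x * x = 1
  ET : E ≤ T
  tU : t ∉ U
  rU : r ∉ U
  rtU : r * t ∉ U
  rI : r ∈ I
  rtI : r * t ∈ I
  ρt : ρ * t = t * ρ
  ρr : ρ * r = r * ρ

/-- `T = E ⟨d⟩` of order 32 -/
structure FV (I : Set G) (T E U : Subgroup G) (r t a w ρ d : G) : Prop
    extends EF I T E U r t a w ρ where
  memT : ∀ x, x ∈ T ↔ x ∈ E ∨ d * x ∈ E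
  dd : d * d = 1
  dr : d * r * d⁻¹ = r * t
  da : d * a * d⁻¹ = a * w
  dt : d * t = t * d
  dw : d * w = w * d

/-- `Q = T ⟨p, q⟩` is a Sylow 2-subgroup of `N(E)` -/
structure NQ (T E Q : Subgroup G) (p q : G) : Prop where
  syl : IsSylowIn 2 Q (normalizer (E : Set G))
  memQ : ∀ x, x ∈ Q ↔ x ∈ T ∨ p * x ∈ T ∨ q * x ∈ T ∨ p * q * x ∈ T

/-- `Q` is of type `M₂₂` -/
structure AL (I : Set G) (T E U Q : Subgroup G) (r t a w ρ d p q : G) : Prop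
    extends FV I T E U r t a w ρ d, NQ T E Q p q where
  rel : GHM.T7.Rel w a t r p q d

/-- `B = ⟨x⟩ × ⟨y⟩ ≅ Z₄ × Z₄` is inverted by `t` -/
structure NB (t a w d x y : G) : Prop where
  xx : x * x = a
  yy : y * y = a * w
  xy : x * y = y * x
  tx : t * x * t⁻¹ = x⁻¹
  ty : t * y * t⁻¹ = y⁻¹
  dx : d * x * d⁻¹ = y

/-- `Q = Z₄² : D₈` -/
structure Bet (I : Set G) (T E U Q : Subgroup G) (r t a w ρ d x y : G) : Prop
    extends FV I T E U r t a w ρ d, NQ T E Q x y, NB t a w d x y where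
  hI : ∀ e ∈ E, e ∈ I ↔ e ∉ U
  rx : r * x * r⁻¹ = x * (a * w)

/-- `E = ⟨t⟩ × U`, `T = E ⟨d⟩` of order 16 -/
structure FD (I : Set G) (T E U : Subgroup G) (t a w ρ d : G) : Prop
    extends Bs I T t, UF U a w ρ where
  memE : ∀ x, x ∈ E ↔ x ∈ U ∨ t * x ∈ U
  memT : ∀ x, x ∈ T ↔ x ∈ E ∨ d * x ∈ E
  tU : t ∉ U
  ta : t * a = a * t
  tw : t * w = w * t
  ρt : ρ * t = t * ρ
  dd : d * d = 1 ∨ d * d = t
  da : d * a * d⁻¹ = a * w
  dt : d * t = t * d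
  dw : d * w = w * d

/-- `Q = A ⟨t, d⟩`, `A = U ⟨p, q⟩ ≅ E₁₆` -/
structure C0 (I : Set G) (T E U Q : Subgroup G) (t a w ρ d p q : G) : Prop
    extends FD I T E U t a w ρ d, NQ T E Q p q where
  pp : p * p = 1
  qq : q * q = 1
  pq : p * q = q * p
  cp : ∀ u ∈ U, p * u = u * p
  cq : ∀ u ∈ U, q * u = u * q
  tp : t * p * t⁻¹ = p * w
  tq : t * q * t⁻¹ = q * a
  dq : d * q * d⁻¹ = p * q

/-- `Q = B ⟨t, d⟩`, `B ≅ Z₄ × Z₄` -/
structure C1 (I : Set G) (T E U Q : Subgroup G) (t a w ρ d x y : G) : Prop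
    extends FD I T E U t a w ρ d, NQ T E Q x y, NB t a w d x y where
  nI : ∀ u ∈ U, u ∉ I

end CfsgLib.GHE
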