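import Mathlib
import Cfsg.Agent.Lib.GHE.DnD
import Cfsg.Agent.Lib.SylT.PC
import Cfsg.Agent.Lib.W2.Tab

/-! Block DN2, package Bet: the model of `Z₄² : D₈`.
The number `i + 4 j + 16 (k + 2 l + 4 m)` stands for `x^i y^j t^k r^l d^m`. -/

set_option autoImplicit false
set_option maxRecDepth 20000
set_option Elab.async false

namespace CfsgLib.GHE

open Subgroup CfsgLib.W2

noncomputable section

namespace BeM

/-- the multiplication -/
def mq : ℕ → ℕ → ℕ := sdm 16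
  (fun a b => Nat.add (Nat.land (Nat.add a b) 3) (Nat.land (Nat.add (Nat.land a 12) (Nat.land b 12)) 12))
  (tab2 3 7 8 0x213b3705a97e681fa54c8dec977053b3e21ade54c1fac688)
  (tab2 4 15 16 0x71f9ca4253dbe860d35b4ac2f17968e059d16ae27bf348c0fb73ea62d951c8407c5e1a38f4d692b0d4f63a185c7eb29056749ab8defc1230fedcba9876543210)

theorem ok : TOk 128 mq (tab1 7 127 0xcf877e9d9ab262cb8f6ebdda3360fbcfafbe9ebe72ffc7bf9ede3f70bf6ebd3bd6ab52bb66ad1b962a508b266c18d2a7428f2e7c389226407ad1fb666e98b86af1bbe76c9cb04eb12ae42a91a85e916a652895a03e78e9c3668c982e58a9426488900a1838412285881a3878c0208180) :=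
  (SOk.of_light (gs := [1, 32, 64]) (D := 13) (by decide +kernel)).tok (by decide +kernel)

/-- the model -/
abbrev M : Type := TG ok

def x : M := TG.o 1
def y : M := TG.o 4
def a : M := TG.o 2
def w : M := TG.o 10
def t : M := TG.o 16
def r : M := TG.o 32
def d : M := TG.o 64

/-- some coordinates vanish -/
abbrev Z (k : ℕ) (m : M) : Prop := Nat.land m.v k = 0

/-- the subgroup `B ⟨t, d⟩` -/
def H : Subgroup M := TG.sub (Z 32) (by decide +kernel)

instance (m : M) : Decidable (m ∈ H) := inferInstanceAs (Decidable (Z 32 m))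

/-- the squares -/
def sqW (i : ℕ) : List ℕ := [[], [], [], [5], [5, 6], [], []].getD i []

/-- the conjugates -/
def cjW (i j : ℕ) : List ℕ :=
  ([[[], [1, 2], [2], [4], [3], [5, 6], [6]], [[], [], [2], [3, 5, 6], [4, 6], [5], [6]],
    [[], [], [], [3, 5], [4, 5, 6], [5], [6]], [[], [], [], [], [4], [5], [6]],
    [[], [], [], [], [], [5], [6]], [[], [], [], [], [], [], [6]]].getD i []).getD j []

theorem two : IsPGroup 2 M := IsPGroup.of_card (n := 7) TG.card_eq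

theorem gen {S : Subgroup M} (h1 : x ∈ S) (h2 : r ∈ S) (h3 : d ∈ S) : S = ⊤ :=
  TG.eq_top_of_genB (gs := [x, r, d]) (D := 13) (by decide +kernel) (by simp [h1, h2, h3])

theorem cen : ∀ c : M, x * c = c * x → r * c = c * r → d * c = c * d → c = 1 ∨ c = w := by decide +kernel

theorem zU : ∀ m : M, (m = 1 ∨ m = a ∨ m = w ∨ m = a * w) ↔ Z 117 m := by decide +kernel

theorem zE : ∀ m : M, (Z 117 m ∨ Z 117 (t * m) ∨ Z 117 (r * m) ∨ Z 117 (r * t * m)) ↔ Z 69 m := by decide +kernel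

theorem idx : H.index = 2 := index_eq_two_iff.2 ⟨r, by unfold Xor; decide +kernel⟩

theorem ord4 : ∀ v ∈ H, ∃ z, z * v = v * z ∧ z * z ≠ 1 := by decide +kernel

theorem cent : ∀ v : M, (∀ z, z * v = v * z → z * z = 1) → ∀ z, Z 69 z → z * v = v * z := by decide +kernel

theorem cent' : ∀ v : M, (∀ z, z * v = v * z → z * z = 1) → ∀ z, z * v = v * z → Z 69 z := by decide +kernel

theorem cenE : ∀ e : M, Z 69 e → ¬ Z 117 e → ∀ s, s * e = e * s → Z 69 s ∨ Z 117 (t * e) := by decide +kernel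

theorem triv : ∀ m : M, Z 64 m → ∀ e, Z 69 e → Z 117 (e⁻¹ * (m * e * m⁻¹)) := by decide +kernel

theorem triv' : ∀ m : M, Z 117 (r⁻¹ * (m * r * m⁻¹)) → Z 64 m := by decide +kernel

theorem three : ∀ i : M, Z 64 i ∧ ¬ Z 69 i ∧ i * i = 1 → ∀ j : M, Z 64 j ∧ ¬ Z 69 j ∧ j * j = 1 →
    ∀ k : M, Z 64 k ∧ ¬ Z 69 k ∧ k * k = 1 → Z 69 (i * j * k) → Z 117 (t * (i * j * k)) := by decide +kernel

theorem invs : (Z 64 (x * t) ∧ ¬ Z 69 (x * t) ∧ x * t * (x * t) = 1) ∧ (Z 64 (y * t) ∧ ¬ Z 69 (y * t) ∧ y * t * (y * t) = 1) ∧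
    (Z 64 (x * y * t) ∧ ¬ Z 69 (x * y * t) ∧ x * y * t * (x * y * t) = 1) ∧ x * t * (y * t) * (x * y * t) = t * a := by
  decide +kernel

theorem rel : SylT.PcRel (fun i => [d, r, t, x, y, a, w].getD i 1) 7 sqW cjW := by decide +kernel

end BeM

end

end CfsgLib.GHE
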