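import Mathlib
import Cfsg.Agent.Lib.GHE.DnD
import Cfsg.Agent.Lib.GHM.XVa
import Cfsg.Agent.Lib.Sect.Tools

/-! Block DN2, package C0: the models `E₁₆ : 2²` and `E₁₆ : 4`.
Bits: `w = 1`, `a = 2`, `p = 4`, `q = 8`, `t = 16`, `d = 32`. -/

set_option autoImplicit false
set_option maxRecDepth 20000

namespace CfsgLib.GHE

open Subgroup Cfsg CfsgLib.W2 CfsgLib.Tech CfsgLib.Sect CfsgLib.SylT

noncomputable section

namespace C0m

/-- the multiplication -/
def mq (e : Bool) (x y : ℕ) : ℕ :=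
  Nat.add (Nat.xor (Nat.land x 15) (tab2 4 15 16
      (cond e 0xab98dcef5467231089baefdc45762310cdef98ba67453210fedcba9876543210
        0x89badcef76452310ab98efdc67542310cdef98ba67453210fedcba9876543210)
      (Nat.shiftRight x 4) (Nat.land y 15)))
    (Nat.mul 16 (tab2 2 3 4 (cond e 0x4b1eb1e4 0x1b4eb1e4) (Nat.shiftRight x 4) (Nat.shiftRight y 4)))

/-- the inversion -/
def iq (e : Bool) : ℕ → ℕ := tab1 6 63 (cond e
  0xa29aeabafb6c9259e68a3860ebbe78f7cfbfd74db7cb3c7071d79f6586da5975154d24503ce34c2ca2481c61440c2040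
  0xe39efaf7cfbfdf6d35cb3c70aaba68bafb6c9a79648a386071d79f6586da5975154d24503ce34c2ca2481c61440c2040)

theorem ok (e : Bool) : TOk 64 (mq e) (iq e) :=
  (SOk.of_light (gs := [8, 16, 32]) (D := 12) (by cases e <;> decide +kernel)).tok
    (by cases e <;> decide +kernel)

/-- the model -/
abbrev M (e : Bool) : Type := TG (ok e)

variable {e : Bool}

def w : M e := TG.o 1
def a : M e := TG.o 2
def p : M e := TG.o 4
def q : M e := TG.o 8
def t : M e := TG.o 16
def d : M e := TG.o 32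

/-- the elements with some zero coordinates -/
def sb (k : ℕ) (h : Nat.land (1 : M e).v k = 0 ∧ ∀ x : M e, Nat.land x.v k = 0 → ∀ y : M e,
    Nat.land y.v k = 0 → Nat.land (x * y⁻¹).v k = 0) : Subgroup (M e) :=
  TG.sub (fun x : M e => Nat.land x.v k = 0) h

def A (e : Bool) : Subgroup (M e) := sb 48 (by cases e <;> decide +kernel)
def D : Subgroup (M false) := sb 16 (by decide +kernel)
def Z : Subgroup (M false) := sb 58 (by decide +kernel)

instance (x : M e) : Decidable (x ∈ A e) := inferInstanceAs (Decidable (Nat.land x.v 48 = 0))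
instance (x : M false) : Decidable (x ∈ D) := inferInstanceAs (Decidable (Nat.land x.v 16 = 0))
instance (x : M false) : Decidable (x ∈ Z) := inferInstanceAs (Decidable (Nat.land x.v 58 = 0))

theorem two (e : Bool) : IsPGroup 2 (M e) := IsPGroup.of_card (n := 6) TG.card_eq

theorem cardA (e : Bool) : Nat.card (A e) = 16 := by
  rw [TG.card_subgroup _ _ fun _ => Iff.rfl]; cases e <;> decide +kernel

theorem cardD : Nat.card D = 32 := by
  rw [TG.card_subgroup _ _ fun _ => Iff.rfl]; decide +kernel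

theorem cardZ : Nat.card Z = 4 := by
  rw [TG.card_subgroup _ _ fun _ => Iff.rfl]; decide +kernel

def sqW (e : Bool) (i : ℕ) : List ℕ := [cond e [1] []].getD i []

def cjW (e : Bool) (i j : ℕ) : List ℕ :=
  ([[[], [1], [3, 2], cond e [3, 4] [3], [4, 5], [5]], [[], [], [2, 4], [3, 5], [4], [5]]].getD i
    [[], [], [], [3], [4], [5]]).getD j []

theorem pc (e : Bool) : PcOk 6 (sqW e) (cjW e) ∧
    PcRel (fun i => ([d, t, q, p, a, w] : List (M e)).getD i 1) 6 (sqW e) (cjW e) ∧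
    TG.genB ([d, t, q] : List (M e)) 12 = true := by cases e <;> decide +kernel

theorem gen {H : Subgroup (M e)} (h1 : d ∈ H) (h2 : t ∈ H) (h3 : q ∈ H) : H = ⊤ :=
  TG.eq_top_of_genB (pc e).2.2 (by simp [h1, h2, h3])

theorem cen (e : Bool) : ∀ c : M e, (∀ x, x * c = c * x) → c = 1 ∨ c = w := by
  cases e <;> decide +kernel

theorem abA (e : Bool) : ∀ x ∈ A e, ∀ y ∈ A e, x * y = y * x := by cases e <;> decide +kernel

theorem cmA (e : Bool) : ∀ x y : M e, x * y * x⁻¹ * y⁻¹ ∈ A e := by cases e <;> decide +kernel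

theorem bas (e : Bool) : (t : M e) ∉ A e ∧ (a : M e) * t = t * a ∧ (d : M e) * t = t * d ∧
    (a : M e) * d ≠ d * a ∧ (t : M e) * t = 1 := by cases e <;> decide +kernel

theorem inv1 : ∀ y : M true, y * y = 1 → y ∈ A true ∨ ∃ s, s * t * s⁻¹ = y := by decide +kernel

/-- the projection onto `⟨t, d⟩` -/
def π : M false →* M false := MonoidHom.mk' (fun x => TG.o (Nat.land x.v 48)) (by decide +kernel)

/-- the symmetry `d ↦ t d` -/
def σ : M false →* M false := MonoidHom.mk' (fun x => TG.o (Nat.xor (Nat.xor x.v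
  (Nat.mul 3 (Nat.land (Nat.shiftRight x.v 2) 1))) (Nat.mul 16 (Nat.shiftRight x.v 5)))) (by decide +kernel)

theorem σ_spec : σ t = t ∧ (∀ x, σ (σ x) = x) ∧ ∀ y, π y = d → π (σ y) = t * d := by decide +kernel

theorem π_spec : ∀ x, (π x = 1 ↔ x ∈ A false) ∧ (π x)⁻¹ * x ∈ A false ∧ (x ∈ D ↔ π x = 1 ∨ π x = d) ∧
    (π x = 1 ∨ π x = t ∨ π x = d ∨ π x = t * d) := by decide +kernel

theorem inv0 : ∀ y, y * y = 1 → π y = t → ∃ s, s * t * s⁻¹ = y := by decide +kernel

theorem inv0' : ∀ y, y * y = 1 → π y = t * d → ∀ x, x * x = 1 → π x = t * d → ∃ s, s * y * s⁻¹ = x := by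
  decide +kernel

theorem genA : A false = closure {q, t * q * t⁻¹, d * q * d⁻¹, t * d * q * (t * d)⁻¹} := by
  refine le_antisymm (fun x hx => TG.mem_of_sp (gs := [q, t * q * t⁻¹, d * q * d⁻¹, t * d * q * (t * d)⁻¹])
    (D := 4) (fun g hg => subset_closure (by simpa using hg)) ?_) ((closure_le _).2 ?_)
  · revert x; decide +kernel
  · simp only [Set.insert_subset_iff, Set.singleton_subset_iff, SetLike.mem_coe]; decide +kernel

theorem sqA : ∀ x ∈ A false, x * x = 1 := by decide +kernel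

theorem charA : (a : M false) = t * q * t⁻¹ * q⁻¹ ∧ (p : M false) = d * q * d⁻¹ * q⁻¹ ∧
    ∀ x : M false, x * a = a * x → x * p = p * x → x ∈ A false := by decide +kernel

theorem cenT : ∀ x : M false, x * t = t * x → x * a = a * x → x * d = d * x → ∀ y : M false, y * t = t * y →
    y * a = a * y → y * d = d * y → x ≠ 1 → y ≠ 1 → x ≠ y → x = t ∨ y = t ∨ x * y = t := by decide +kernel

variable (ν : M false →* M false)

theorem nuA (hν : Function.Surjective ν) {x : M false} (hx : x ∈ A false) : ν x ∈ A false := by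
  have k : ∀ y z : M false, ν x * (y * z * y⁻¹ * z⁻¹) = y * z * y⁻¹ * z⁻¹ * ν x := fun y z => by
    obtain ⟨y, rfl⟩ := hν y
    obtain ⟨z, rfl⟩ := hν z
    simp only [← map_inv, ← map_mul]
    rw [abA false x hx _ (cmA false y z)]
  exact charA.2.2 _ (charA.1 ▸ k _ _) (charA.2.1 ▸ k _ _)

theorem πν (hν : Function.Surjective ν) (x : M false) : π (ν x) = π (ν (π x)) := by
  have := (π_spec _).1.2 (nuA ν hν (π_spec x).2.1)
  rw [map_mul, map_mul, map_inv, map_inv, inv_mul_eq_one] at this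
  exact this.symm

variable {ν} {m : M false} (hν : Function.Surjective ν) (h2 : ∀ x, ν (ν x) = m * x * m⁻¹)
  (ht : π (ν t) = t * d)
include hν h2 ht

theorem πd : π (ν d) = d ∧ π (ν (t * d)) = t := by
  have k : π (ν (t * d)) = t := by
    rw [← ht, ← πν ν hν, h2]
    exact (by decide +kernel : ∀ m, π (m * t * m⁻¹) = t) m
  refine ⟨?_, k⟩
  rw [map_mul, map_mul, ht] at k
  exact (by decide +kernel : ∀ y : M false, t * d * y = t → y = d) _ k

theorem πm (hm : ν m = m) : m ∈ A false ∨ ν t * m * t ∈ A false := by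
  have k := πν ν hν m
  rw [hm] at k
  rcases (π_spec m).2.2.2 with e | e | e | e
  · exact .inl ((π_spec m).1.1 e)
  · rw [e, ht] at k; exact absurd k (by decide +kernel)
  · refine .inr ((π_spec _).1.1 ?_)
    rw [map_mul, map_mul, ht, e]
    decide +kernel
  · rw [e, (πd hν h2 ht).2] at k; exact absurd k (by decide +kernel)

theorem πout {x : M false} (hx : x ∉ D) : ν x * x ∉ A false := fun k => by
  have k := (π_spec _).1.2 k
  rw [map_mul, πν ν hν] at k
  rw [(π_spec x).2.2.1, not_or] at hx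
  rcases (π_spec x).2.2.2 with e | e | e | e
  exacts [hx.1 e, absurd (ht ▸ e ▸ k) (by decide +kernel), hx.2 e,
    absurd ((πd hν h2 ht).2 ▸ e ▸ k) (by decide +kernel)]

theorem nuZ (hm : m ∈ A false) : ν w = w ∧ (∀ u ∈ Z, ν u = u) ∧ ∀ x ∈ D, ν x * x⁻¹ ∈ Z := by
  have hi : Function.Injective ν := Finite.injective_iff_surjective.2 hν
  have hw : ν w = w := (cen false _ fun x => by
    obtain ⟨x, rfl⟩ := hν x
    rw [← map_mul, ← map_mul, (by decide +kernel : ∀ x : M false, x * w = w * x) x]).resolve_left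
      fun e => absurd (hi (e.trans (map_one ν).symm)) (by decide +kernel)
  have ha : ν a = p * a ∨ ν a = p * a * w :=
    (by decide +kernel : ∀ x ∈ A false, x ≠ 1 → x ≠ w → ∀ y, π y = t * d → x * y = y * x →
      x = p * a ∨ x = p * a * w) _ (nuA ν hν (by decide +kernel))
      (fun e => absurd (hi (e.trans (map_one ν).symm)) (by decide +kernel))
      (fun e => absurd (hi (e.trans hw.symm)) (by decide +kernel)) _ ht
      (by rw [← map_mul, ← map_mul, (bas false).2.1])
  have hp : ν p = p := by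
    have k : ν (ν a) = a := by rw [h2, abA false m hm a (by decide +kernel), mul_inv_cancel_right]
    rcases ha with e | e
    · rw [e, map_mul, e] at k
      exact (by decide +kernel : ∀ x : M false, x * (p * a) = a → x = p) _ k
    · rw [e, map_mul, map_mul, e, hw] at k
      exact (by decide +kernel : ∀ x : M false, x * (p * a * w) * w = a → x = p) _ k
  have hZ : ∀ u ∈ Z, ν u = u := fun u hu => by
    rcases (by decide +kernel : ∀ u ∈ Z, u = 1 ∨ u = p ∨ u = w ∨ u = p * w) u hu with rfl | rfl | rfl | rfl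
    exacts [map_one _, hp, hw, by rw [map_mul, hp, hw]]
  have hd := (πd hν h2 ht).1
  have hA : ∀ v ∈ A false, ν v * v⁻¹ ∈ Z := fun v hv => by
    have k := hZ _ ((by decide +kernel : ∀ v ∈ A false, d * v * d⁻¹ * v⁻¹ ∈ Z) v hv)
    simp only [map_mul, map_inv] at k
    rw [(by decide +kernel : ∀ y, π y = d → ∀ x ∈ A false, y * x * y⁻¹ = d * x * d⁻¹) _ hd _
      (nuA ν hν hv)] at k
    exact (by decide +kernel : ∀ x ∈ A false, ∀ v ∈ A false, d * x * d⁻¹ * x⁻¹ = d * v * d⁻¹ * v⁻¹ →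
      x * v⁻¹ ∈ Z) _ (nuA ν hν hv) v hv k
  refine ⟨hw, hZ, fun x hx => ?_⟩
  rcases (by decide +kernel : ∀ x ∈ D, x ∈ A false ∨ x * d⁻¹ ∈ A false) x hx with k | k
  · exact hA x k
  · have k1 : ν d * d⁻¹ ∈ Z := (by decide +kernel : ∀ y, π y = d → y * y = 1 → y * d⁻¹ ∈ Z) _ hd
      (by rw [← map_mul, (by decide +kernel : (d : M false) * d = 1), map_one])
    have k2 := hA _ k
    have k3 : ν x = ν (x * d⁻¹) * (x * d⁻¹)⁻¹ * (x * d⁻¹) * (ν d * d⁻¹ * d) := by
      rw [inv_mul_cancel_right, inv_mul_cancel_right, ← map_mul, inv_mul_cancel_right]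
    rw [k3]
    exact (by decide +kernel : ∀ x ∈ D, ∀ u ∈ Z, ∀ v ∈ Z, u * (x * d⁻¹) * (v * d) * x⁻¹ ∈ Z) x hx _ k2 _ k1

end C0m

variable {G : Type*} [Group G] [Finite G] {I : Set G} {T E U Q : Subgroup G} {t a w ρ d p q : G}

theorem C0.hom (h : C0 I T E U Q t a w ρ d p q) (e : Bool) (hd : d * d = cond e t 1) :
    ∃ φ : C0m.M e →* G, Function.Injective φ ∧ φ.range = Q ∧ φ C0m.t = t := by
  have aU : a ∈ U := (h.memU a).2 (.inr (.inl rfl))
  have wU : w ∈ U := (h.memU w).2 (.inr (.inr (.inl rfl)))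
  have dp : d * p = cond e (p * a) p * d := by
    have k : d * p * d⁻¹ = d * d * q * (d * d)⁻¹ * (p * q)⁻¹ := by
      rw [eq_mul_inv_iff_mul_eq, ← h.dq, show d * p * d⁻¹ * (d * q * d⁻¹) = d * (p * q) * d⁻¹ by group, ← h.dq]
      group
    rw [← mul_inv_eq_iff_eq_mul, k, hd, mul_inv_rev, inv_eq_of_mul_eq_one_right h.pp]
    cases e
    · simp
    · rw [cond_true, cond_true, h.tq, h.cq a aU, mul_assoc, mul_inv_cancel_left, h.cp a aU]
  have hx : PcRel (fun i => [d, t, q, p, a, w].getD i 1) 6 (C0m.sqW e) (C0m.cjW e) := fun i hi => by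
    refine ⟨?_, fun j hj hij => ?_⟩
    · interval_cases i
      · cases e <;> simpa [ew, C0m.sqW] using hd
      exacts [h.tt, h.qq, h.pp, h.aa, h.ww]
    · interval_cases j <;> interval_cases i
      on_goal 4 => cases e <;> simpa [ew, C0m.cjW] using dp
      all_goals simp only [ew, C0m.cjW, List.getD_cons_succ, List.getD_cons_zero, List.getD_nil,
          List.map_cons, List.map_nil, List.prod_cons, List.prod_nil, mul_one]
      exacts [h.dt, mul_inv_eq_iff_eq_mul.1 h.dq, mul_inv_eq_iff_eq_mul.1 h.tq, mul_inv_eq_iff_eq_mul.1 h.tp,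
        h.pq.symm, mul_inv_eq_iff_eq_mul.1 h.da, h.ta, h.cq a aU, h.cp a aU, h.dw, h.tw, h.cq w wU, h.cp w wU,
        h.aw]
  obtain ⟨φ, hφ⟩ := exists_hom_pc (C0m.pc e).1 hx (C0m.pc e).2.1 TG.card_eq.ge fun H hH =>
    C0m.gen (hH 0 (by norm_num)) (hH 1 (by norm_num)) (hH 2 (by norm_num))
  have m : ∀ i < 6, [d, t, q, p, a, w].getD i 1 ∈ φ.range := fun i hi => ⟨_, hφ i hi⟩
  have hU : U ≤ φ.range := fun u hu => by
    rcases (h.memU u).1 hu with rfl | rfl | rfl | rfl
    exacts [one_mem _, m 4 (by norm_num), m 5 (by norm_num), mul_mem (m 4 (by norm_num)) (m 5 (by norm_num))]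
  have hE : E ≤ φ.range := fun x hx => ((h.memE x).1 hx).elim (fun k => hU k)
    fun k => (mul_mem_cancel_left (m 1 (by norm_num))).1 (hU k)
  have hT : T ≤ φ.range := fun x hx => ((h.memT x).1 hx).elim (fun k => hE k)
    fun k => (mul_mem_cancel_left (m 0 (by norm_num))).1 (hE k)
  have TQ : T ≤ Q := fun x hx => (h.memQ x).2 (.inl hx)
  refine ⟨φ, GHM.XM.inj_of (C0m.two e) (C0m.cen e) ((hφ 5 (by norm_num)).trans_ne h.w1),
    le_antisymm ?_ fun x hx => ?_, hφ 1 (by norm_num)⟩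
  · rw [φ.range_eq_map, map_le_iff_le_comap, top_le_iff]
    refine C0m.gen ?_ ?_ ?_
    · exact mem_comap.2 ((hφ 0 (by norm_num)).symm ▸ TQ ((h.memT d).2 (by
        rcases h.dd with k | k <;> rw [k]
        exacts [.inr (one_mem _), .inr ((h.memE t).2 (.inr (h.tt ▸ one_mem _)))])))
    · exact mem_comap.2 ((hφ 1 (by norm_num)).symm ▸ TQ ((h.memT t).2 (.inl ((h.memE t).2
        (.inr (h.tt ▸ one_mem _))))))
    · exact mem_comap.2 ((hφ 2 (by norm_num)).symm ▸ (h.memQ q).2 (.inr (.inr (.inl (h.qq ▸ one_mem _)))))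
  · rcases (h.memQ x).1 hx with k | k | k | k
    exacts [hT k, (mul_mem_cancel_left (m 3 (by norm_num))).1 (hT k),
      (mul_mem_cancel_left (m 2 (by norm_num))).1 (hT k),
      (mul_mem_cancel_left (mul_mem (m 3 (by norm_num)) (m 2 (by norm_num)))).1 (hT k)]

end

end CfsgLib.GHE
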