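import Mathlib
import Cfsg.Agent.Lib.QT3.KM12B
import Cfsg.Agent.Lib.Co1L.M12
import Cfsg.Agent.Lib.Pat.QT6
import Cfsg.Agent.Lib.Tech.SylowIn

/-! Block M12: a Sylow 2-subgroup of `M₁₂.2` on the 24 points. -/

set_option autoImplicit false

namespace CfsgLib.GHE.M12x

open Subgroup Cfsg CfsgLib.Tech CfsgLib.Mathieu CfsgLib.Golay CfsgLib.QT3.K12
open scoped Pointwise

/-- an outer involution -/
def c0 : ℕ := 136789966605084841304492997629164069

/-- an involution without fixed points that commutes with `c0` -/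
def e0 : ℕ := 601305442431200926218084222330014721

noncomputable abbrev L0 : List ℕ := pcL syl12

noncomputable abbrev L1 : List ℕ := pcL (c0 :: syl12)

abbrev P1 : Subgroup P24 := gp (c0 :: syl12)

/-- the permutation with a given code -/
noncomputable def el (a : ℕ) : P24 := Function.invFun code a

theorem code_el {H : Subgroup P24} {a : ℕ} (h : Has H a) : code (el a) = a :=
  Function.invFun_eq (h.imp fun _ h => h.2)

theorem el_mem {H : Subgroup P24} {a : ℕ} (h : Has H a) : el a ∈ H := Has.mem (by rwa [code_el h])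

theorem m12_iff {g : P24} : g ∈ Spor.M12 ↔ g ∈ M24 ∧ img (code g) 340831 = 340831 := by
  rw [mem12, smul_ofMask, ofMask_inj (img_code_lt _ _) (by norm_num)]

theorem has_c0 : Has NN c0 := by
  obtain ⟨g, hg, e⟩ := has_M24 (a := c0) (by decide +kernel)
  refine ⟨g, ⟨hg, .inr ?_⟩, e⟩
  rw [smul_ofMask, e, show img c0 340831 = dod1 by decide +kernel]
  exact ofMask_dod1

theorem has1 : ∀ a ∈ c0 :: syl12, Has NN a := List.forall_mem_cons.2 ⟨has_c0, fun a ha => (has_syl12 a ha).mono le_NN⟩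

theorem lst1 : Pat.MT.Lst (c0 :: syl12) L1 :=
  ⟨fun a ha => (has1 a ha).mono le_top, by decide +kernel, rfl, by decide +kernel⟩

theorem hasL1 {a : ℕ} (h : a ∈ L1) : Has P1 a := has_pcL (has_gp has1) a h

theorem hasL0 {a : ℕ} (h : a ∈ L0) : Has Spor.M12 a := has_pcL has_syl12 a h

theorem L0_L1 {a : ℕ} (h : a ∈ L0) : a ∈ L1 := List.mem_append_left _ h

theorem mem_L0 {g : P24} (h : g ∈ P1) : g ∈ Spor.M12 ↔ code g ∈ L0 :=
  ⟨fun k => (by decide +kernel : ∀ a ∈ L1, img a 340831 = 340831 → a ∈ L0) _ (lst1.mem.1 h) (m12_iff.1 k).2,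
    fun k => (hasL0 k).mem⟩

theorem out_mul {a b : P24} (ha : a ∈ NN) (hb : b ∈ NN) (h1 : a ∉ Spor.M12) (h2 : b ∉ Spor.M12) :
    a * b ∈ Spor.M12 := by
  refine mem12.2 ⟨mul_mem ha.1 hb.1, ?_⟩
  rw [mul_smul, hb.2.resolve_left fun e => h2 (mem12.2 ⟨hb.1, e⟩), M24E.smul_compl',
    ha.2.resolve_left fun e => h1 (mem12.2 ⟨ha.1, e⟩), compl_compl]

theorem c0_out : el c0 ∉ Spor.M12 := fun h => by
  have := (m12_iff.1 h).2
  rw [code_el has_c0] at this
  revert this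
  decide +kernel

theorem card1 : Nat.card P1 = 2 ^ 7 := lst1.card.trans (length_pcL _)

theorem pg1 : IsPGroup 2 P1 := IsPGroup.of_card card1

theorem syl1 : IsSylowIn 2 P1 NN := by
  refine ⟨gp_le has1, pg1, fun h => ?_⟩
  have h1 := card_mul_relIndex' (H := P1) (gp_le has1)
  have h2 := card_mul_relIndex' le_NN
  have h3 : Spor.M12.relIndex NN = 2 := relIndex_eq_two_iff.2 ⟨_, el_mem has_c0, fun b hb => by
    by_cases k : b ∈ Spor.M12
    · exact .inr ⟨k, fun e => c0_out (by simpa using mul_mem (inv_mem k) e)⟩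
    · exact .inl ⟨out_mul hb (el_mem has_c0) k c0_out, k⟩⟩
  obtain ⟨k, h⟩ := h
  rw [card1, h, ← h2, card_M12, h3] at h1
  omega

/-- `g` has a fixed point -/
def FX (g : P24) : Prop := ∃ p, g p = p

theorem fx_iff {g : P24} : FX g ↔ ∃ i < 24, app (code g) i = i :=
  ⟨fun ⟨p, h⟩ => ⟨ix p, ix_lt p, by rw [app_code_ix, h]⟩, fun ⟨_, h1, h2⟩ => ⟨_, apply_pt_eq rfl h1 h2⟩⟩

theorem FX.conj {g : P24} (h : FX g) (r : P24) : FX (r * g * r⁻¹) :=
  let ⟨p, e⟩ := h; ⟨r p, by simp [e]⟩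

theorem FX.mem {g : P24} (h : FX g) (hg : g ∈ NN) : g ∈ Spor.M12 := by
  refine mem12.2 ⟨hg.1, hg.2.resolve_right fun e => ?_⟩
  obtain ⟨p, hp⟩ := h
  have h1 : g p ∈ g • ofMask 340831 ↔ p ∈ ofMask 340831 := M24E.smul_mem_smul' g
  rw [e, hp, Finset.mem_compl] at h1
  tauto

theorem not_fx : ¬ FX (M24E.pm t0) := fun ⟨p, h⟩ => by
  revert h
  refine forall_pt (P := fun p => M24E.pm t0 p = p → False) (fun i hi h => ?_) p
  exact (by decide +kernel : ∀ i < 24, M24E.ap t0 i ≠ i) i hi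
    (((M24E.pm_rp (q := t0) (by decide +kernel)).pt_eq_iff hi hi).1 h)

theorem sq_el {a : ℕ} (h : a ∈ L1 ∧ comp a a = idc) : el a * el a = 1 := by
  rw [Pat.MT.sq_iff, code_el (hasL1 h.1), h.2]

theorem conjB {g : P24} (hg : g ∈ Spor.M12) (h2 : g * g = 1) (h1 : g ≠ 1) (h : FX g) :
    ∃ r ∈ Spor.M12, code (r * g * r⁻¹) = sylZ12 := by
  have hz := hasL0 (a := sylZ12) (by decide +kernel)
  have k1 : Co1L.Fp ⟨g, hg⟩ := (inv_in hg h2).resolve_right fun ⟨r, _, e⟩ => not_fx (by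
    simpa [← e, mul_assoc] using h.conj r⁻¹)
  have k2 : Co1L.Fp ⟨_, el_mem hz⟩ := ⟨pt 1, by decide +kernel,
    apply_pt_eq (code_el hz) (by norm_num) (by decide +kernel)⟩
  obtain ⟨r, e⟩ := isConj_iff.1 (k1.isConj k2 (Subtype.ext h2) (fun e => h1 (congrArg Subtype.val e))
    (Subtype.ext (sq_el (by decide +kernel))) fun e => by
      have := code_eq_idc.2 (congrArg Subtype.val e)
      rw [code_el hz] at this
      revert this
      decide +kernel)
  exact ⟨r, r.2, (congrArg (fun x : Spor.M12 => code x) e).trans (code_el hz)⟩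

theorem conj_aux {s g : P24} {a : ℕ} (ha : a ∈ L1) (h1 : ∃ r ∈ Spor.M12, r * s * r⁻¹ = g)
    (h2 : ∃ r ∈ Spor.M12, r * s * r⁻¹ = el a) : ∃ r ∈ Spor.M12, code (r * g * r⁻¹) = a := by
  obtain ⟨r, hr, rfl⟩ := h1
  obtain ⟨u, hu, e⟩ := h2
  exact ⟨u * r⁻¹, mul_mem hu (inv_mem hr), by rw [← code_el (hasL1 ha), ← e]; congr 1; group⟩

theorem conjA {g : P24} (hg : g ∈ Spor.M12) (h2 : g * g = 1) (h : ¬ FX g) :
    ∃ r ∈ Spor.M12, code (r * g * r⁻¹) = e0 := by
  have he := hasL0 (a := e0) (by decide +kernel)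
  refine conj_aux (by decide +kernel) ((inv_in hg h2).resolve_left fun ⟨p, _, e⟩ => h ⟨p, e⟩)
    ((inv_in (el_mem he) (sq_el (by decide +kernel))).resolve_left fun ⟨p, _, e⟩ => ?_)
  have := fx_iff.1 ⟨p, e⟩
  rw [code_el he] at this
  revert this
  decide +kernel

theorem conjC {g : P24} (hg : g ∈ NN) (h : g ∉ Spor.M12) (h2 : g * g = 1) :
    ∃ r ∈ Spor.M12, code (r * g * r⁻¹) = c0 :=
  have k : ∀ {g}, g ∈ NN → g ∉ Spor.M12 → g * g = 1 → ∃ r ∈ Spor.M12, r * M24E.pm d0 * r⁻¹ = g := fun hg h =>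
    inv_out hg.1 (hg.2.resolve_left fun e => h (mem12.2 ⟨hg.1, e⟩))
  conj_aux (by decide +kernel) (k hg h h2) (k (el_mem has_c0) c0_out (sq_el (by decide +kernel)))

end CfsgLib.GHE.M12x
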