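import Mathlib
import Cfsg.Agent.Lib.GHE.M12a
import Cfsg.Agent.Lib.W2.Tools
import Cfsg.Agent.Lib.Tech.Invol

/-! Block M12: the centraliser of `z` acts on the 24 points. -/

set_option autoImplicit false
set_option linter.unusedSectionVars false

namespace CfsgLib.GHE.M12x

open Subgroup Cfsg CfsgLib.W2 CfsgLib.Tech CfsgLib.Mathieu CfsgLib.QT3.K12

variable {G : Type*} [Group G] [Finite G] {z : G} {θ : G → P24} {T : Subgroup G}

/-- `θ` maps `C(z)` into `M₁₂.2`, onto `M₁₂`; the kernel has the Sylow 2-subgroup `⟨z⟩` -/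
structure Md (z : G) (θ : G → P24) : Prop where
  ord : orderOf z = 2
  mul : ∀ a ∈ Cx z, ∀ b ∈ Cx z, θ (a * b) = θ a * θ b
  mem : ∀ a ∈ Cx z, θ a ∈ NN
  one : θ z = 1
  ker : ∀ a ∈ Cx z, IsPGroup 2 (zpowers a) → θ a = 1 → a = 1 ∨ a = z
  sur : ∀ m ∈ Spor.M12, ∃ l ∈ Cx z, θ l = m
  ns : ∃ x ∈ Cx z, IsPGroup 2 (zpowers x) ∧ θ x ∈ Spor.M12 ∧ θ x * θ x = 1 ∧ x * x ≠ 1

namespace Md

variable (m : Md z θ)
include m

/-- the homomorphism -/
def hom : Cx z →* P24 := MonoidHom.mk' (fun a => θ a) fun a b => m.mul a a.2 b b.2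

theorem one' : θ 1 = 1 := m.hom.map_one

theorem inv {a : G} (ha : a ∈ Cx z) : θ a⁻¹ = (θ a)⁻¹ := m.hom.map_inv ⟨a, ha⟩

theorem conj {a b : G} (ha : a ∈ Cx z) (hb : b ∈ Cx z) : θ (a * b * a⁻¹) = θ a * θ b * (θ a)⁻¹ := by
  rw [m.mul _ (mul_mem ha hb) _ (inv_mem ha), m.mul _ ha _ hb, m.inv ha]

theorem zz : z * z = 1 := mul_self_of_orderOf_two m.ord

theorem z1 : z ≠ 1 := ne_one_of_orderOf_two m.ord

/-- the preimage of a subgroup -/
def pre (B : Subgroup P24) : Subgroup G := (B.comap m.hom).map (Cx z).subtype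

theorem mem_pre {B : Subgroup P24} {x : G} : x ∈ m.pre B ↔ x ∈ Cx z ∧ θ x ∈ B :=
  ⟨fun ⟨a, h, e⟩ => e ▸ ⟨a.2, h⟩, fun h => ⟨⟨x, h.1⟩, h.2, rfl⟩⟩

end Md

/-- `T` is a Sylow 2-subgroup of `C(z)` that is mapped into `P1` -/
structure MT (z : G) (θ : G → P24) (T : Subgroup G) : Prop extends Md z θ where
  syl : IsSylowIn 2 T (Cx z)
  inP : ∀ x ∈ T, θ x ∈ P1

theorem Md.exT (m : Md z θ) : ∃ T, MT z θ T := by
  obtain ⟨S, hS⟩ := exists_isSylowIn 2 (Cx z)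
  obtain ⟨g, hg, h1⟩ := syl1.exists_cj_le ((hS.pgroup.comap_subtype (K := Cx z)).map m.hom)
    (by rintro _ ⟨a, -, rfl⟩; exact m.mem a a.2)
  obtain ⟨r, hr, h2⟩ : ∃ r ∈ Spor.M12, ∀ x ∈ S, r * θ x * r⁻¹ ∈ P1 := by
    have h3 : ∀ x ∈ S, g * θ x * g⁻¹ ∈ P1 := fun x hx => cj_le_iff.1 h1 _ ⟨⟨x, hS.le hx⟩, hx, rfl⟩
    by_cases k : g ∈ Spor.M12
    · exact ⟨g, k, h3⟩
    · have h4 := el_mem (hasL1 (a := c0) (by decide +kernel))
      refine ⟨_, out_mul (el_mem has_c0) hg c0_out k, fun x hx => ?_⟩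
      simpa only [mul_inv_rev, mul_assoc] using mul_mem (mul_mem h4 (h3 x hx)) (inv_mem h4)
  obtain ⟨n, hn, rfl⟩ := m.sur r hr
  refine ⟨_, m, hS.cj_of_mem hn, ?_⟩
  rintro _ ⟨x, hx, rfl⟩
  exact (m.conj hn (hS.le hx)).symm ▸ h2 x hx

/-- `x` lies in `T` over the permutation with code `a` -/
def Ov (θ : G → P24) (T : Subgroup G) (x : G) (a : ℕ) : Prop := x ∈ T ∧ code (θ x) = a

/-- the code has a fixed point -/
abbrev fx (a : ℕ) : Prop := ∃ i < 24, app a i = i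

def b1 : ℕ := 596231196239481512186369904750922754
def b2 : ℕ := 227578386318009578406903204956702752
def b3 : ℕ := 601847173115937222645968446922227809
def sg : ℕ := 446029883625694123791315690597028242

namespace MT

variable (m : MT z θ T) {x y g t : G} {a b γ : ℕ}
include m

theorem lift (hx : x ∈ Cx z) (h : θ x ∈ P1) : ∃ y ∈ T, θ y = θ x := by
  have h1 : IsSylowIn 2 (T.subgroupOf (Cx z)) ⊤ := IsSylowIn.of_sylow_top m.syl.toSylow
  have h2 : IsSylowIn 2 ((T.subgroupOf (Cx z)).map m.hom) ((⊤ : Subgroup (Cx z)).map m.hom) :=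
    ⟨map_mono le_top, h1.pgroup.map _, fun e => h1.not_dvd (e.trans (by
      rw [← relIndex_comap]
      exact relIndex_dvd_of_le_left _ (le_comap_map _ _)))⟩
  obtain ⟨y, hy, e⟩ := (h2.eq_of_le (Q := P1 ⊓ _) pg1.to_inf_left
    (le_inf (by rintro _ ⟨a, ha, rfl⟩; exact m.inP a ha) h2.le) inf_le_right).le ⟨h, ⟨x, hx⟩, mem_top _, rfl⟩
  exact ⟨y, hy, e⟩

theorem conjT {Q : Subgroup G} (h1 : IsPGroup 2 Q) (h2 : Q ≤ Cx z) {n : G} (hn : n ∈ Cx z)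
    (h3 : ∀ x ∈ Q, θ (n * x * n⁻¹) ∈ P1) : ∃ s ∈ Cx z, θ s = θ n ∧ ∀ x ∈ Q, s * x * s⁻¹ ∈ T := by
  obtain ⟨g, hg, h4⟩ := (m.syl.of_le (K := m.pre P1) (fun x hx => m.mem_pre.2 ⟨m.syl.le hx, m.inP x hx⟩)
    fun x hx => (m.mem_pre.1 hx).1).exists_cj_le (isPGroup_cj n h1) (cj_le_iff.2 fun x hx =>
      m.mem_pre.2 ⟨mul_mem (mul_mem hn (h2 hx)) (inv_mem hn), h3 x hx⟩)
  obtain ⟨g1, g2⟩ := m.mem_pre.1 hg
  obtain ⟨s, hs, e⟩ := m.lift g1 g2
  have h5 := inv_mem (m.syl.le hs)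
  refine ⟨s⁻¹ * g * n, mul_mem (mul_mem h5 g1) hn, ?_, fun x hx => ?_⟩
  · rw [m.mul _ (mul_mem h5 g1) _ hn, m.mul _ h5 _ g1, m.inv (m.syl.le hs), e, inv_mul_cancel, one_mul]
  · simpa only [mul_inv_rev, mul_assoc, inv_inv] using
      mul_mem (mul_mem (inv_mem hs) (cj_le_iff.1 h4 _ (conj_mem_cj.2 hx))) hs

theorem conj1 (hx : x ∈ Cx z) (h2 : IsPGroup 2 (zpowers x)) (ha : a ∈ L1)
    (h : ∃ r ∈ Spor.M12, code (r * θ x * r⁻¹) = a) : ∃ s ∈ Cx z, Ov θ T (s * x * s⁻¹) a := by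
  obtain ⟨r, hr, e⟩ := h
  obtain ⟨n, hn, rfl⟩ := m.sur r hr
  obtain ⟨s, hs, e1, e2⟩ := m.conjT h2 (zpowers_le.2 hx) hn fun y hy => (m.mem_pre.1 (cj_le_iff.1 (by
    rw [cj_zpowers, zpowers_le]
    exact m.mem_pre.2 ⟨mul_mem (mul_mem hn hx) (inv_mem hn), lst1.mem.2 (by rwa [m.conj hn hx, e])⟩) y hy)).2
  exact ⟨s, hs, e2 x (mem_zpowers x), by rw [m.conj hs hx, e1, e]⟩

theorem zc (hx : x ∈ T) : x * z = z * x := mem_Cx.1 (m.syl.le hx)

theorem zc' (hx : x ∈ T) (w : G) : x * (z * w) = z * (x * w) := by rw [← mul_assoc, m.zc hx, mul_assoc]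

theorem zz' (w : G) : z * (z * w) = w := by rw [← mul_assoc, m.zz, one_mul]

theorem zT : z ∈ T := m.syl.le_of_normalizes (isPGroup_two_zpowers m.zz) (zpowers_le.2 (mem_Cx.2 rfl))
  (zpowers_le.2 (mem_normalizer_of_forall fun x hx => by rwa [← m.zc hx, mul_inv_cancel_right])) (mem_zpowers z)

theorem ovz : Ov θ T z idc := ⟨m.zT, by rw [m.one, code_one]⟩

theorem ov1 : Ov θ T 1 idc := ⟨one_mem _, by rw [m.one', code_one]⟩

theorem inL (h : Ov θ T x a) : a ∈ L1 := h.2 ▸ lst1.mem.1 (m.inP x h.1)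

theorem mu (hx : Ov θ T x a) (hy : Ov θ T y b) : Ov θ T (x * y) (comp a b) :=
  ⟨mul_mem hx.1 hy.1, by rw [m.mul _ (m.syl.le hx.1) _ (m.syl.le hy.1), code_mul, hx.2, hy.2]⟩

theorem eq (hx : Ov θ T x a) (hy : Ov θ T y b) (e : a = b) : y = x ∨ y = z * x := by
  have h1 := mul_mem hy.1 (inv_mem hx.1)
  have := m.ker _ (m.syl.le h1) (isPGroup_zpowers_of_mem m.syl.pgroup h1) (by
    rw [m.mul _ (m.syl.le hy.1) _ (inv_mem (m.syl.le hx.1)), m.inv (m.syl.le hx.1),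
      code_injective (hx.2.trans (e.trans hy.2.symm)), mul_inv_cancel])
  rwa [mul_inv_eq_one, mul_inv_eq_iff_eq_mul] at this

theorem sq (hx : Ov θ T x a) (hy : Ov θ T y b) (e : a = b) : y * y = x * x := by
  rcases m.eq hx hy e with rfl | rfl
  · rfl
  · rw [mul_assoc, m.zc' hx.1, m.zz']

theorem sq1 (hx : Ov θ T x a) (e : comp a a = idc) : x * x = 1 ∨ x * x = z := by
  simpa using m.eq m.ov1 (m.mu hx hx) e.symm

theorem cj (hg : Ov θ T g γ) (hx : Ov θ T x a) (hy : Ov θ T y b) (e : comp b γ = comp γ a) :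
    g * (x * x) = y * y * g := by
  rcases m.eq (m.mu hy hg) (m.mu hg hx) e with h | h
  · rw [← mul_assoc, h, mul_assoc, h, mul_assoc]
  · rw [← mul_assoc, h, mul_assoc, mul_assoc, h, m.zc' hy.1, m.zz', mul_assoc]

theorem lf (ha : a ∈ L0) : ∃ x, Ov θ T x a := by
  obtain ⟨g, hg, rfl⟩ := hasL0 ha
  obtain ⟨x, hx, rfl⟩ := m.sur g hg
  obtain ⟨y, hy, e⟩ := m.lift hx (hasL1 (L0_L1 ha)).mem
  exact ⟨y, hy, congrArg code e⟩

theorem lf1 (hg : Ov θ T g γ) (h : γ ∉ L0) (ha : a ∈ L1) : ∃ x, Ov θ T x a := by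
  by_cases k : a ∈ L0
  · exact m.lf k
  obtain ⟨p, hp, rfl⟩ := hasL1 ha
  have g1 := m.syl.le hg.1
  obtain ⟨x, hx, e⟩ := m.sur _ (out_mul (gp_le has1 hp) (inv_mem (m.mem g g1)) (fun e => k ((mem_L0 hp).1 e))
    fun e => h (hg.2 ▸ (mem_L0 (m.inP g hg.1)).1 (inv_mem_iff.1 e)))
  have e1 : θ (x * g) = p := by rw [m.mul _ hx _ g1, e, inv_mul_cancel_right]
  obtain ⟨y, hy, e2⟩ := m.lift (mul_mem hx g1) (e1 ▸ hp)
  exact ⟨y, hy, by rw [e2, e1]⟩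

theorem a2 (hx : Ov θ T x sylZ12) : x * x = 1 := by
  obtain ⟨A, hA⟩ := m.lf (a := 719923664328491199848526586197411872) (by decide +kernel)
  obtain ⟨B, hB⟩ := m.lf (a := b2) (by decide +kernel)
  rw [m.sq (m.mu hB hB) hx (by decide +kernel)]
  have h1 : B * (B * (A * (B * B))) = A := by
    rcases m.eq hA (m.mu hB (m.mu hA hB)) (by decide +kernel) with h | h
    · calc _ = B * (B * (A * B)) * B := by simp only [mul_assoc]
        _ = _ := by rw [h, mul_assoc, h]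
    · calc _ = B * (B * (A * B)) * B := by simp only [mul_assoc]
        _ = _ := by rw [h, m.zc' hB.1, mul_assoc, mul_assoc, h, m.zz']
  have h2 : A * (B * B) = B * B * A := by
    rcases m.eq (m.mu hA hA) (m.mu hB hB) (by decide +kernel) with h | h <;> rw [h]
    · rw [mul_assoc]
    · rw [m.zc' hA.1]; simp only [mul_assoc]
  rw [h2] at h1
  simpa only [← mul_assoc, mul_eq_right] using h1

theorem q1 (hx : x ∈ Cx z) (h2 : IsPGroup 2 (zpowers x)) (e : θ x * θ x = 1) (h : FX (θ x)) : x * x = 1 := by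
  by_cases k : θ x = 1
  · rcases m.ker x hx h2 k with rfl | rfl
    exacts [one_mul 1, m.zz]
  obtain ⟨s, -, hs⟩ := m.conj1 hx h2 (by decide +kernel) (conjB (h.mem (m.mem x hx)) e k h)
  simpa only [conj_mul, conj_eq_one_iff] using m.a2 hs

theorem q2 (hx : x ∈ Cx z) (e : x * x = 1) (h : θ x ∈ Spor.M12) : FX (θ x) := by
  by_contra k
  obtain ⟨y, hy, y1, y2, y3, y4⟩ := m.ns
  obtain ⟨s, -, hs⟩ := m.conj1 hx (isPGroup_two_zpowers e) (by decide +kernel)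
    (conjA h (by rw [← m.mul _ hx _ hx, e, m.one']) k)
  obtain ⟨u, -, hu⟩ := m.conj1 hy y1 (by decide +kernel) (conjA y2 y3 fun k => y4 (m.q1 hy y1 y3 k))
  have := m.sq hs hu rfl
  rw [conj_mul, conj_mul, e, mul_one, mul_inv_cancel, conj_eq_one_iff] at this
  exact y4 this

theorem q1T (hx : Ov θ T x a) (e : comp a a = idc) (h : fx a) : x * x = 1 :=
  m.q1 (m.syl.le hx.1) (isPGroup_zpowers_of_mem m.syl.pgroup hx.1) (Pat.MT.sq_iff.2 (hx.2 ▸ e)) (fx_iff.2 (hx.2 ▸ h))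

theorem q2T (hx : Ov θ T x a) (h : a ∈ L0 ∧ comp a a = idc ∧ ¬ fx a) : x * x = z :=
  (m.sq1 hx h.2.1).resolve_left fun e => h.2.2
    (hx.2 ▸ fx_iff.1 (m.q2 (m.syl.le hx.1) e ((mem_L0 (m.inP x hx.1)).2 (hx.2 ▸ h.1))))

theorem q3T (hx : Ov θ T x a) (hy : Ov θ T y c0) (h : a ∉ L0 ∧ comp a a = idc) : x * x = y * y := by
  have x1 := m.syl.le hx.1
  obtain ⟨s, hs, k⟩ := m.conj1 x1 (isPGroup_zpowers_of_mem m.syl.pgroup hx.1) (by decide +kernel)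
    (conjC (m.mem x x1) (fun e => h.1 (hx.2 ▸ (mem_L0 (m.inP x hx.1)).1 e)) (Pat.MT.sq_iff.2 (hx.2 ▸ h.2)))
  rw [m.sq k hy rfl, conj_mul]
  rcases m.sq1 hx h.2 with e | e <;> rw [e]
  · simp
  · exact (mem_Cx'.1 hs).symm

theorem cen0 (ht : Ov θ T t sylZ12) (hy : Ov θ T y b) (e : comp b b = sylZ12) (hg : g ∈ T)
    (h : g * (y * y) = y * y * g) : g * t = t * g := by
  rcases m.eq (m.mu hy hy) ht e with rfl | rfl
  · exact h
  · rw [m.zc' hg, h, mul_assoc z]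

theorem cen1 (ht : Ov θ T t sylZ12) (hg : Ov θ T g γ) (h : γ ∈ L0) : g * t = t * g := by
  obtain ⟨B, hB⟩ := m.lf (a := b2) (by decide +kernel)
  refine m.cen0 ht hB (by decide +kernel) hg.1 ?_
  rcases (by decide +kernel : ∀ γ ∈ L0, comp b2 γ = comp γ b2 ∨ comp (comp b2 (comp b2 b2)) γ = comp γ b2) γ h
    with e | e
  · exact m.cj hg hB hB e
  · have h1 := m.a2 (x := B * B) ⟨(m.mu hB hB).1, (m.mu hB hB).2.trans (by decide +kernel)⟩
    rw [m.cj hg hB (m.mu hB (m.mu hB hB)) e]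
    congr 1
    calc _ = B * B * (B * B * (B * B)) := by simp only [mul_assoc]
      _ = _ := by rw [h1, mul_one]

theorem cen (ht : Ov θ T t sylZ12) (hg : g ∈ T) : g * t = t * g := by
  by_cases h : code (θ g) ∈ L0
  · exact m.cen1 ht ⟨hg, rfl⟩ h
  obtain ⟨x, hx⟩ := m.lf1 ⟨hg, rfl⟩ h (a := comp c0 b1) (by decide +kernel)
  have h1 := m.cen0 ht hx (by decide +kernel) hx.1 (mul_assoc _ _ _).symm
  have h2 := mul_mem hx.1 hg
  have h3 := m.cen1 ht ⟨h2, rfl⟩ ((mem_L0 (m.inP _ h2)).1 (by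
    rw [m.mul _ (m.syl.le hx.1) _ (m.syl.le hg)]
    refine out_mul (m.mem _ (m.syl.le hx.1)) (m.mem _ (m.syl.le hg)) (fun e => ?_)
      fun e => h ((mem_L0 (m.inP _ hg)).1 e)
    have := (mem_L0 (m.inP _ hx.1)).1 e
    rw [hx.2] at this
    revert this
    decide +kernel))
  rwa [← mul_assoc, ← h1, mul_assoc, mul_assoc, mul_right_inj] at h3

end MT

end CfsgLib.GHE.M12x
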