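import Mathlib
import Cfsg.Agent.Lib.GHE.M12b
import Cfsg.Agent.Lib.ZStar.Main

/-! Block M12: the involution `z` is isolated. -/

set_option autoImplicit false
set_option linter.unusedSectionVars false

namespace CfsgLib.GHE.M12x

open Subgroup Cfsg CfsgLib.W2 CfsgLib.Tech CfsgLib.Mathieu CfsgLib.QT3.K12

/-- the inner involutions without fixed points -/
def I12 : List ℕ := [234127864083396158983920601914215425, 601305442431200926218084222330014721,
  235858092014725848871085848532159489, 606616056642888436882462226996333569, 217411764146181876636355759353921634,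
  221463205168990124215892544010092642, 731113300341743120980327113948168290, 726038449334658011187390141433938018,
  591414355991433043804149359661024323, 734318709634027620545279344385197123, 595151360256427030557912619012850755,
  732588243999094229886711587426796611]

/-- the outer involutions -/
def O8 : List ℕ := [136789966605084841304492997629164069, 132581687243330654708508358866614821,
  62857985249199355299273995854583534, 52669997441937325397105483360802542, 94011885113187235035854527140420785,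
  104592847082400013900728396199451825, 8280936312215832123010840069850583, 11860468403896828992621525182105047]

/-- the inner square roots of the central involution -/
def R12 : List ℕ := [227578386318009578406903204956702752, 232652365823391711183829569059784736,
  980460995170761438563047119441101891, 975151252460776881860753093258380355, 719923664328491199848526586197411872,
  608405391266436187982588441666881568, 715872302521680643580706198532491296, 609271311764373893382231684089481248,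
  968996774143150361768157684793674753, 965259690662158669917158057253604353, 983116567191296540113908308675428450,
  982250884396962498574165580454068322]

/-- the outer square roots of the central involution -/
def X8 : List ℕ := [133150557868570647561427227904820677, 136848612814888513883246840085464517,
  91416015341393221327883410196716718, 95506405682877589332397548951362734, 53771546093450261680429057736906481,
  50074124962156633107079463134762737, 12429972776463581777564963062331959, 8338948619954962225550448966941239]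

def u2 : ℕ := 735548533734033527546468929854573569
def v0 : ℕ := 217411764146181876636355759353921634
def x8 : ℕ := 719608059484697496685871976717321280

theorem alg {H : Type*} [Group H] {k a b c η ε : H} (h1 : k * a * (k * a) = η * (b * b))
    (h2 : k * b * (k * b) = η * (c * c)) (h3 : k * c * (k * c) = η * (a * a)) (kk : k * k = ε)
    (hd : k * (a * (b * c)) = a * (b * c) * k) (ηη : η * η = 1) (εε : ε * ε = 1) (ηa : Commute η a) (ηb : Commute η b)
    (ηc : Commute η c) (εa : Commute ε a) (εb : Commute ε b) (εc : Commute ε c) (ab : Commute a (b * b))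
    (ac : Commute a (c * c)) (bc : Commute b (c * c)) (ba : Commute b (a * a)) : η = ε := by
  have e1 : k * a * k = η * (b * b) * a⁻¹ := by rw [← h1]; group
  have e2 : k * b * k = η * (c * c) * b⁻¹ := by rw [← h2]; group
  have e3 : k * c * k = η * (a * a) * c⁻¹ := by rw [← h3]; group
  have e4 : k * a * k * (k * b * k) * (k * c * k) = ε * (a * (b * c)) := by
    calc _ = k * (a * (k * k * b * (k * k)) * c) * k := by simp only [mul_assoc]
      _ = k * (a * (b * c)) * k := by rw [kk, εb.eq, mul_assoc b, εε, mul_one, mul_assoc a]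
      _ = _ := by rw [hd, mul_assoc, kk, (εa.mul_right (εb.mul_right εc)).eq]
  have e5 : η * (b * b) * a⁻¹ * (η * (c * c) * b⁻¹) * (η * (a * a) * c⁻¹) = η * (a * (b * c)) := by
    calc _ = η * (b * b) * (a⁻¹ * η) * (c * c * b⁻¹ * η) * (a * a) * c⁻¹ := by simp only [mul_assoc]
      _ = η * (b * b * η) * (a⁻¹ * η) * (c * c * b⁻¹ * (a * a)) * c⁻¹ := by
        rw [← ηa.inv_right.eq, ← ((ηc.mul_right ηc).mul_right ηb.inv_right).eq]
        simp only [mul_assoc, ← ηa.inv_right.left_comm]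
      _ = η * η * (b * b * η) * a⁻¹ * (a * a * (c * c * b⁻¹)) * c⁻¹ := by
        rw [← (ηb.mul_right ηb).eq, ← ηa.inv_right.eq, ((ac.mul_left ac).mul_right ba.symm.inv_right).eq]
        simp only [mul_assoc, ηb.left_comm]
      _ = η * (b * b * a) * (c * c * b⁻¹) * c⁻¹ := by
        rw [ηη, ← (ηb.mul_right ηb).eq]; group
      _ = _ := by rw [← ab.eq, ← bc.inv_left.eq]; group
  rw [e1, e2, e3, e5] at e4
  exact mul_right_cancel e4

variable {G : Type*} [Group G] [Finite G] {z : G} {θ : G → P24} {T : Subgroup G}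

namespace MT

variable (m : MT z θ T) {x y g t : G} {a b γ : ℕ}
include m

theorem cnt {u v : G} (e : {x | x ∈ T ∧ x * x = u}.ncard = {x | x ∈ T ∧ x * x = v}.ncard) {l₁ l₂ : List ℕ}
    (nd : l₁.Nodup) (h1 : ∀ a ∈ l₁, ∃ x, Ov θ T x a ∧ x * x = u) (h2 : ∀ x a, Ov θ T x a → x * x = v → a ∈ l₂) :
    l₁.length ≤ l₂.length := by
  classical
  have := Fintype.ofFinite G
  have k : ∀ w : G, {x | x ∈ T ∧ x * x = w}.ncard = (Finset.univ.filter fun x => x ∈ T ∧ x * x = w).card := fun w => by
    rw [← Set.ncard_coe_finset]; congr 1; ext; simp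
  rw [k, k] at e
  have k1 := Finset.mul_card_image_le_card_of_maps_to (f := fun x => code (θ x))
    (s := (Finset.univ.filter fun x => x ∈ T ∧ x * x = u).filter fun x => code (θ x) ∈ l₁) (t := l₁.toFinset)
    (by simp) 2 fun a ha => by
      obtain ⟨x, hx, e⟩ := h1 a (List.mem_toFinset.1 ha)
      have h3 := m.mu m.ovz hx
      have h4 : code (θ (z * x)) = a := by rw [m.mul _ (m.syl.le m.zT) _ (m.syl.le hx.1), m.one, one_mul, hx.2]
      refine Finset.one_lt_card.2 ⟨x, ?_, z * x, ?_, fun h => m.z1 (right_eq_mul.1 h)⟩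
      · simp [hx.1, hx.2, e, List.mem_toFinset.1 ha]
      · simp [h3.1, h4, m.sq hx ⟨h3.1, h4⟩ rfl, e, List.mem_toFinset.1 ha]
  have k2 := Finset.card_le_mul_card_image_of_maps_to (f := fun x => code (θ x))
    (s := Finset.univ.filter fun x => x ∈ T ∧ x * x = v) (t := l₂.toFinset)
    (fun x hx => by
      rw [Finset.mem_filter] at hx
      exact List.mem_toFinset.2 (h2 x _ ⟨hx.2.1, rfl⟩ hx.2.2)) 2 fun a _ => by
      rcases (Finset.filter (fun x => code (θ x) = a)
        (Finset.univ.filter fun x => x ∈ T ∧ x * x = v)).eq_empty_or_nonempty with h | ⟨x, hx⟩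
      · simp [h]
      refine (Finset.card_le_card (t := {x, z * x}) fun y hy => ?_).trans Finset.card_le_two
      simp only [Finset.mem_filter] at hx hy
      simpa using m.eq ⟨hx.1.2.1, hx.2⟩ ⟨hy.1.2.1, hy.2⟩ rfl
  have k3 := Finset.card_filter_le (Finset.univ.filter fun x => x ∈ T ∧ x * x = u) fun x => code (θ x) ∈ l₁
  have k4 := List.toFinset_card_le l₂
  rw [List.toFinset_card_of_nodup nd] at k1
  omega

theorem az (hx : Ov θ T x a) (e : x * x = z) : a ∈ I12 ∨ a ∈ O8 := by
  have h1 : comp a a = idc := by rw [← (m.mu hx hx).2, e, m.ovz.2]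
  exact ((by decide +kernel : ∀ a ∈ L1, comp a a = idc → fx a ∨ a ∈ I12 ∨ a ∈ O8) a (m.inL hx) h1).resolve_left
    fun h => m.z1 (e ▸ m.q1T hx h1 h)

theorem at' (ht : Ov θ T t sylZ12) (hx : Ov θ T x a) (e : x * x = t) : a ∈ R12 ++ X8 :=
  (by decide +kernel : ∀ a ∈ L1, comp a a = sylZ12 → a ∈ R12 ++ X8) a (m.inL hx)
    (by rw [← (m.mu hx hx).2, e, ht.2])

theorem i12 (ha : a ∈ I12) : ∃ x, Ov θ T x a ∧ x * x = z := by
  have h := (by decide +kernel : ∀ a ∈ I12, a ∈ L0 ∧ comp a a = idc ∧ ¬ fx a) a ha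
  obtain ⟨x, hx⟩ := m.lf h.1
  exact ⟨x, hx, m.q2T hx h⟩

theorem r8 (hy : Ov θ T y b2) (hx : Ov θ T x (comp b2 v0)) : x * x = y * y := by
  obtain ⟨A, hA⟩ := m.lf (a := e0) (by decide +kernel)
  obtain ⟨B, hB⟩ := m.lf (a := u2) (by decide +kernel)
  obtain ⟨V, hV⟩ := m.lf (a := v0) (by decide +kernel)
  have h1 := m.q2T hA (by decide +kernel)
  have h2 := m.q1T hB (by decide +kernel) (by decide +kernel)
  have h3 := m.q2T hV (by decide +kernel)
  have h4 := m.q2T (m.mu hA hV) (by decide +kernel)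
  have h5 := m.q2T (m.mu hB hV) (by decide +kernel)
  have h6 : V * A = z * (A * V) := by
    apply mul_left_cancel (a := A)
    apply mul_right_cancel (b := V)
    rw [m.zc' hA.1, ← mul_assoc A A, h1, m.zz', h3, ← h4]
    simp only [mul_assoc]
  have h7 : V * B = B * V := by
    apply mul_left_cancel (a := B)
    apply mul_right_cancel (b := V)
    rw [← mul_assoc B B, h2, one_mul, h3, ← h5]
    simp only [mul_assoc]
  rw [m.sq (m.mu (m.mu hA hB) hV) hx (by decide +kernel), m.sq (m.mu hA hB) hy (by decide +kernel)]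
  calc _ = A * B * (V * A * B) * V := by simp only [mul_assoc]
    _ = A * B * (z * (A * B * (V * V))) := by rw [h6, mul_assoc z, mul_assoc A V, h7]; simp only [mul_assoc]
    _ = _ := by rw [h3, m.zc (mul_mem hA.1 hB.1), m.zz']

theorem cor {k : G} (hk : Ov θ T k c0) (hx : Ov θ T x (comp c0 b1)) (hy : Ov θ T y b2) :
    x * x = k * k * (y * y) := by
  obtain ⟨σ, hσ, eσ⟩ := has_M12 (a := sg) (by decide +kernel)
  obtain ⟨n, hn, rfl⟩ := m.sur σ hσ
  obtain ⟨s, hs, e1, e2⟩ := m.conjT (Q := T ⊓ Tech.cj n⁻¹ (m.pre P1)) m.syl.pgroup.to_inf_left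
    (inf_le_left.trans m.syl.le) hn fun x hx => by simpa using (m.mem_pre.1 (mem_cj.1 hx.2)).2
  have S : ∀ {x a b}, Ov θ T x a → (b ∈ L1 ∧ comp b sg = comp sg a) → Ov θ T (s * x * s⁻¹) b := fun {x a b} hx h => by
    obtain ⟨p, hp, rfl⟩ := hasL1 h.1
    have x1 := m.syl.le hx.1
    have e3 : θ n * θ x * (θ n)⁻¹ = p := by
      rw [mul_inv_eq_iff_eq_mul, ← code_injective.eq_iff, code_mul, code_mul, eσ, hx.2, h.2]
    refine ⟨e2 x ⟨hx.1, mem_cj.2 (m.mem_pre.2 ?_)⟩, by rw [m.conj hs x1, e1, e3]⟩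
    rw [inv_inv, m.conj hn x1, e3]
    exact ⟨mul_mem (mul_mem hn x1) (inv_mem hn), hp⟩
  obtain ⟨A, hA⟩ := m.lf (a := b1) (by decide +kernel)
  have hB := S (b := b2) hA (by decide +kernel)
  have hC := S (b := b3) hB (by decide +kernel)
  have hD := S (b := b1) hC (by decide +kernel)
  have hk' := S (b := c0) hk (by decide +kernel)
  rw [m.sq (m.mu hk hA) hx rfl, m.sq hB hy rfl]
  obtain ⟨η, h0, h1⟩ : ∃ η, (η = 1 ∨ η = z) ∧ k * A * (k * A) = η * (s * A * s⁻¹ * (s * A * s⁻¹)) := by
    rcases m.eq (m.mu hB hB) (m.mu (m.mu hk hA) (m.mu hk hA)) (by decide +kernel) with h | h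
    exacts [⟨1, .inl rfl, by rwa [one_mul]⟩, ⟨z, .inr rfl, h⟩]
  have h2 : s * η * s⁻¹ = η := by
    rcases h0 with rfl | rfl
    exacts [by simp, mem_Cx'.1 hs]
  have step : ∀ {u v : G} {a : ℕ}, Ov θ T (s * u * s⁻¹) a → k * u * (k * u) = η * (v * v) →
      k * (s * u * s⁻¹) * (k * (s * u * s⁻¹)) = η * (s * v * s⁻¹ * (s * v * s⁻¹)) := fun hu e => by
    rw [m.sq (m.mu hk' hu) (m.mu hk hu) rfl, conj_mul, conj_mul, e, ← conj_mul, h2, conj_mul]
  have h3 := step hB h1
  have h4 := step hC h3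
  rw [m.sq hA hD rfl] at h4
  have c : ∀ {η x : G}, η = 1 ∨ η = z → x ∈ T → Commute η x := fun h hx => by
    rcases h with rfl | rfl
    exacts [Commute.one_left _, (m.zc hx).symm]
  have d : ∀ {η : G}, η = 1 ∨ η = z → η * η = 1 := fun h => by
    rcases h with rfl | rfl
    exacts [one_mul 1, m.zz]
  have h5 := m.sq1 hk (by decide +kernel)
  have h6 := m.eq m.ov1 (m.mu hA (m.mu hB hC)) (by decide +kernel)
  rw [mul_one] at h6
  rw [h1, alg h1 h3 h4 rfl (c h6 hk.1).symm (d h0) (d h5) (c h0 hA.1) (c h0 hB.1) (c h0 hC.1) (c h5 hA.1) (c h5 hB.1)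
    (c h5 hC.1) (m.cj hA hB hB (by decide +kernel)) (m.cj hA hC hC (by decide +kernel))
    (m.cj hB hC hC (by decide +kernel)) (m.cj hB hA hA (by decide +kernel))]

theorem noA (ht : Ov θ T t sylZ12) {h : G} (h1 : h * z * h⁻¹ = t) (h2 : Tech.cj h T = T) : False := by
  have e : {x | x ∈ T ∧ x * x = z}.ncard = {x | x ∈ T ∧ x * x = t}.ncard := by
    refine Set.ncard_congr (fun x _ => h * x * h⁻¹) (fun x hx => ⟨h2 ▸ conj_mem_cj.2 hx.1, by
      rw [conj_mul, hx.2, h1]⟩) (fun _ _ _ _ e => by simpa using e) fun x hx =>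
      ⟨h⁻¹ * x * h, ⟨mem_cj.1 (h2.ge hx.1), ?_⟩, by group⟩
    calc _ = h⁻¹ * (x * x) * h := by group
      _ = _ := by rw [hx.2, ← h1]; group
  have ne : z * t ≠ t := fun e => m.z1 (mul_eq_right.1 e)
  by_cases out : ∃ g ∈ T, code (θ g) ∉ L0
  · obtain ⟨g, hg, out⟩ := out
    have lf := fun a => m.lf1 (a := a) ⟨hg, rfl⟩ out
    obtain ⟨k, hk⟩ := lf c0 (by decide +kernel)
    obtain ⟨x, hx⟩ := lf (comp c0 b1) (by decide +kernel)
    obtain ⟨y, hy⟩ := lf b2 (by decide +kernel)
    have h3 := m.cor hk hx hy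
    have h4 := (by decide +kernel : ∀ a ∈ O8, a ∈ L1 ∧ a ∉ L0 ∧ comp a a = idc)
    rcases m.sq1 hk (by decide +kernel) with h5 | h5
    · rw [h5, one_mul] at h3
      obtain ⟨w, hw⟩ := lf (comp b2 v0) (by decide +kernel)
      have h6 : ∀ u a, Ov θ T u a → a ∈ R12 ++ X8 → u * u = y * y := fun u a hu ha => by
        obtain ⟨γ, h7, h8⟩ := (by decide +kernel : ∀ a ∈ R12 ++ X8, ∃ γ ∈ L1, comp a γ = comp γ b2 ∨
          comp a γ = comp γ (comp c0 b1) ∨ comp a γ = comp γ (comp b2 v0)) a ha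
        obtain ⟨g, hg⟩ := lf γ h7
        refine mul_right_cancel (b := g) (.trans ?_ (m.cen ⟨(m.mu hy hy).1, (m.mu hy hy).2.trans (by decide +kernel)⟩ hg.1))
        rcases h8 with h8 | h8 | h8
        · exact (m.cj hg hy hu h8).symm
        · rw [← h3, m.cj hg hx hu h8]
        · rw [← m.r8 hy hw, m.cj hg hw hu h8]
      by_cases h7 : y * y = t
      · refine absurd (m.cnt e.symm (l₁ := R12 ++ X8) (l₂ := I12) (by decide +kernel) (fun a ha => ?_)
          fun u a hu e => (m.az hu e).resolve_right fun ha => m.z1 ?_) (by decide +kernel)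
        · obtain ⟨u, hu⟩ := lf a ((by decide +kernel : ∀ a ∈ R12 ++ X8, a ∈ L1) a ha)
          exact ⟨u, hu, (h6 u a hu ha).trans h7⟩
        · rw [← e, m.q3T hu hk (h4 a ha).2, h5]
      · exact absurd (m.cnt e (l₁ := I12) (l₂ := []) (by decide +kernel) (fun a => m.i12)
          fun u a hu e => (h7 ((h6 u a hu (m.at' ht hu e)).symm.trans e)).elim) (by decide +kernel)
    · obtain ⟨r, c, hr, h6, h7⟩ : ∃ r c, Ov θ T r c ∧ r * r ≠ t ∧ c ∈ R12 ++ X8 := by
        by_cases h6 : y * y = t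
        · exact ⟨x, _, hx, by rwa [h3, h5, h6], by decide +kernel⟩
        · exact ⟨y, _, hy, h6, by decide +kernel⟩
      have := m.cnt e (l₁ := I12 ++ O8) (l₂ := (R12 ++ X8).erase c) (by decide +kernel) (fun a ha => by
        rcases List.mem_append.1 ha with ha | ha
        · exact m.i12 ha
        · obtain ⟨u, hu⟩ := lf a (h4 a ha).1
          exact ⟨u, hu, (m.q3T hu hk (h4 a ha).2).trans h5⟩)
        fun u a hu e => (List.mem_erase_of_ne fun k => h6 ((m.sq hu hr k).trans e)).2 (m.at' ht hu e)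
      rw [List.length_erase_of_mem h7] at this
      revert this
      decide +kernel
  · push Not at out
    obtain ⟨x, hx⟩ := m.lf (a := x8) (by decide +kernel)
    have h3 := m.mu hx hx
    by_cases h4 : x * x * (x * x) = t
    · have h5 : Ov θ T (h⁻¹ * x * h) _ := ⟨mem_cj.1 (h2.ge hx.1), rfl⟩
      refine (by decide +kernel : ∀ c ∈ L0, ¬ (comp c c ∈ I12 ∨ comp c c ∈ O8)) _ (out _ h5.1) (m.az (m.mu h5 h5) ?_)
      calc _ = h⁻¹ * (x * x * (x * x)) * h := by group
        _ = _ := by rw [h4, ← h1]; group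
    · refine absurd (m.cnt e (l₁ := I12) (l₂ := R12.erase (comp x8 x8)) (by decide +kernel) (fun a => m.i12)
        fun u a hu e => (List.mem_erase_of_ne fun k => h4 ((m.sq hu h3 k).trans e)).2 ?_) (by decide +kernel)
      exact (List.mem_append.1 (m.at' ht hu e)).resolve_right fun k =>
        (by decide +kernel : ∀ a ∈ X8, a ∉ L0) a k (hu.2 ▸ out u hu.1)

theorem caseA (ht : t ∈ Cx z) (h1 : IsConj z t) (h2 : t ≠ z) : θ t ∉ Spor.M12 := fun h3 => by
  obtain ⟨g, rfl⟩ := isConj_iff.1 h1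
  have h4 : g * z * g⁻¹ * (g * z * g⁻¹) = 1 := by simp [conj_mul, m.zz]
  obtain ⟨s, -, hs⟩ := m.conj1 ht (isPGroup_two_zpowers h4) (by decide +kernel)
    (conjB h3 (by rw [← m.mul _ ht _ ht, h4, m.one']) (fun e => (m.ker _ ht (isPGroup_two_zpowers h4) e).elim
      (fun e => m.z1 (conj_eq_one_iff.1 e)) h2) (m.q2 ht h4 h3))
  rw [show s * (g * z * g⁻¹) * s⁻¹ = s * g * z * (s * g)⁻¹ by group] at hs
  have h5 := m.syl.cj (s * g)
  rw [cj_centralizer_singleton] at h5
  obtain ⟨c, hc, e⟩ := h5.exists_cj_eq (h5.of_card_le m.syl.pgroup (fun x hx => mem_Cx.2 (m.cen hs hx))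
    (card_cj _ _).le)
  refine m.noA hs (h := c * (s * g)) (.trans ?_ (mem_Cx'.1 hc)) (by rw [cj_mul, e])
  group

theorem outc (hx : x ∈ Cx z) (e : x * x = 1) (h : θ x ∉ Spor.M12) {k : G} (hk : Ov θ T k c0) :
    k * k = 1 ∧ IsConj x k := by
  obtain ⟨s, -, hs⟩ := m.conj1 hx (isPGroup_two_zpowers e) (by decide +kernel)
    (conjC (m.mem x hx) h (by rw [← m.mul _ hx _ hx, e, m.one']))
  have h1 : k * k = 1 := by simp [m.sq hs hk rfl, conj_mul, e]
  refine ⟨h1, (isConj_iff.2 ⟨s, rfl⟩).trans ?_⟩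
  obtain ⟨D, hD⟩ := m.lf (a := e0) (by decide +kernel)
  rcases m.eq (m.mu hk hD) (m.mu hD hk) (by decide +kernel) with h2 | h2
  · refine (m.z1 ?_).elim
    rw [← h1, ← m.q3T (m.mu hD hk) hk (by decide +kernel), ← m.q2T hD (by decide +kernel), mul_assoc,
      ← mul_assoc k, ← h2, mul_assoc, h1, mul_one]
  · rcases m.eq hk hs rfl with h3 | h3 <;> rw [h3]
    exact IsConj.symm (isConj_iff.2 ⟨D, by rw [h2]; group⟩)

theorem caseB (ht : t ∈ Cx z) (h1 : IsConj z t) (h2 : t ≠ z) : False := by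
  have sq : ∀ {u}, IsConj z u → u * u = 1 := fun h => by
    obtain ⟨g, rfl⟩ := isConj_iff.1 h
    simp [conj_mul, m.zz]
  have h3 := m.caseA ht h1 h2
  obtain ⟨s, -, hk⟩ := m.conj1 ht (isPGroup_two_zpowers (sq h1)) (by decide +kernel)
    (conjC (m.mem t ht) h3 (by rw [← m.mul _ ht _ ht, sq h1, m.one']))
  obtain ⟨g, hg⟩ := isConj_iff.1 (h1.trans (m.outc ht (sq h1) h3 hk).2)
  generalize s * t * s⁻¹ = k at *
  have h4 : ∀ {u}, u * k = k * u → g⁻¹ * u * g ∈ Cx z := fun {u} h => mem_Cx.2 (by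
    calc _ = g⁻¹ * (u * k) * g := by rw [← hg]; group
      _ = _ := by rw [h, ← hg]; group)
  have h5 : IsConj z (g⁻¹ * z * g) := isConj_iff.2 ⟨g⁻¹, by rw [inv_inv]⟩
  have h6 := h4 (m.zc hk.1).symm
  have h7 := m.caseA h6 h5 fun e => by
    have e1 : k = z := by
      calc _ = g * (g⁻¹ * z * g) * g⁻¹ := by rw [e, hg]
        _ = _ := by group
    have := hk.2
    rw [e1, m.ovz.2] at this
    revert this
    decide +kernel
  have key : ∀ {u}, Ov θ T u sylZ12 → θ (g⁻¹ * u * g) ∈ Spor.M12 := fun {u} hu => by_contra fun h => by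
    have h8 := (m.outc (h4 (m.cen hu hk.1).symm) (by
      calc _ = g⁻¹ * (u * u) * g := by group
        _ = _ := by rw [m.a2 hu]; group) h hk).2
    refine m.caseA (m.syl.le hu.1) ((isConj_iff.2 ⟨g, hg⟩).trans (h8.symm.trans (isConj_iff.2 ⟨g, by group⟩)))
      (fun e => ?_) ((mem_L0 (m.inP u hu.1)).2 (hu.2 ▸ by decide +kernel))
    have := hu.2
    rw [e, m.ovz.2] at this
    revert this
    decide +kernel
  obtain ⟨u, hu⟩ := m.lf (a := sylZ12) (by decide +kernel)
  have h8 := key (u := z * u) ⟨(m.mu m.ovz hu).1, (m.mu m.ovz hu).2.trans (by decide +kernel)⟩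
  rw [show g⁻¹ * (z * u) * g = g⁻¹ * z * g * (g⁻¹ * u * g) by group, m.mul _ h6 _ (h4 (m.cen hu hk.1).symm)] at h8
  exact h7 ((mul_mem_cancel_right (key hu)).1 h8)

end MT

theorem Md.false (m : Md z θ) [IsSimpleGroup G] (h : ¬ IsMulCommutative G) : False := by
  obtain ⟨T, k⟩ := m.exT
  exact ZStar.not_isolated_of_simple h z ⟨m.ord, fun g hg => by_contra
    (k.caseB (mem_Cx.2 hg.symm.eq) (isConj_iff.2 ⟨g, rfl⟩))⟩

end CfsgLib.GHE.M12x
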