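import Mathlib
import Cfsg.Agent.Lib.GHE.Qa
import Cfsg.Agent.Lib.GHE.Rk2
import Cfsg.Agent.Lib.PD.ToolsA
import Cfsg.Agent.Lib.BG.Defs

/-! Block RQ: the data.  See `plans/GHE_RQ.md`. -/

set_option autoImplicit false
set_option linter.unusedSectionVars false

namespace CfsgLib.GHE

open Subgroup Cfsg CfsgLib.W2 CfsgLib.Tech CfsgLib.Sect CfsgLib.PComp CfsgLib.DihSyl
  CfsgLib.GW.Cor
open CfsgLib.LBal hiding cj
open scoped MatrixGroups commutatorElement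

universe u

variable {G : Type u} [Group G] [Finite G]
variable {S M : Subgroup G} {Λ : G → Subgroup G} {m : ℕ} {a b z u v w i β θ x g : G}

/-- the fusion data: `Λ v` is the component that belongs to the conjugate `v` of `z` -/
structure RB (S M : Subgroup G) (Λ : G → Subgroup G) (m : ℕ) (a b z : G) : Prop extends Ctx G where
  syl : IsSylowIn 2 S ⊤
  cen : S ≤ Cx z
  q : Q2 (S ⊓ Λ z) m a b
  hz : z = a ^ m
  act : ∀ s ∈ S, ∃ k j, QAct a b s k j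
  conj : ∀ g v, Λ (g * v * g⁻¹) = cj g (Λ v)
  inv : ∀ w ∈ Λ z, w * w = 1 → w = 1 ∨ w = z
  nM : Cx z ≤ normalizer (M : Set G)
  cs : ∀ x ∈ S, x ∈ M ↔ x * a = a * x ∧ x * b = b * x
  h1 : ∀ u ∈ M, IsConj z u → u = z
  four : ∀ e ∈ S ⊓ M, ∀ d ∈ S ⊓ Λ z, ∀ d' ∈ S ⊓ Λ z, d * d = z → d' * d' = z → IsConj (d * e) (d' * e)
  perf : ∀ X ≤ S ⊓ M, ∃ J : Subgroup G, J ≠ ⊥ ∧ J ≤ centralizer (X : Set G) ∧ ⁅J, J⁆ = J

/-- the product of the three subgroups of `C_S(u)` that belong to `z`, `u`, `u z` -/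
abbrev RAA (S : Subgroup G) (Λ : G → Subgroup G) (z u : G) : Subgroup G :=
  S ⊓ Cx u ⊓ Λ z ⊔ S ⊓ Cx u ⊓ Λ u ⊔ S ⊓ Cx u ⊓ Λ (u * z)

/-- `θ` normalises `C_S(u)` and permutes `z, u, u z` -/
structure RX (S : Subgroup G) (Λ : G → Subgroup G) (z u β θ : G) : Prop where
  uS : u ∈ S
  ne : u ≠ z
  cj : IsConj z u
  βm : β ∈ S ⊓ Λ z
  βu : β * u * β⁻¹ = u * z
  nθ : θ ∈ normalizer ((S ⊓ Cx u : Subgroup G) : Set G)
  θz : θ * z * θ⁻¹ = u
  θu : θ * u * θ⁻¹ = u * z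
  dec : ∀ c ∈ S ⊓ Cx u, ∃ α ∈ RAA S Λ z u, ∃ x ∈ S ⊓ Cx u ⊓ Cx θ, c = α * x
  com : ∀ x ∈ S ⊓ Cx u ⊓ Cx θ, β * x = x * β

/-- case A -/
structure RBA (S M : Subgroup G) (Λ : G → Subgroup G) (m : ℕ) (a b z u θ : G) : Prop
    extends RB S M Λ m a b z, RX S Λ z u b θ where
  ua : u * a = a * u
  ab : ∀ v ∈ S, IsConj z v → v ≠ z → ∀ p ∈ S ⊓ Λ z ⊓ Cx v, ∀ r ∈ S ⊓ Λ z ⊓ Cx v, p * r = r * p

/-- case C -/
structure RBC (S M : Subgroup G) (Λ : G → Subgroup G) (m : ℕ) (a b z u i θ : G) : Prop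
    extends RB S M Λ m a b z, RX S Λ z u i θ where
  ia : i ∈ zpowers a
  ii : i * i = z
  hC : ∀ v ∈ S, IsConj z v → v ≠ z → ∀ d ∈ S ⊓ Λ z, d * v = v * d → d = 1 ∨ d = z

theorem Ctx.idx2 (h : Ctx G) (N : Subgroup G) : N.index ≠ 2 := by
  intro e
  have := h.simple
  have hn := N.normal_of_index_eq_two e
  rcases hn.eq_bot_or_eq_top with rfl | rfl
  · rw [index_bot] at e
    have : Fact (Nat.Prime 2) := ⟨Nat.prime_two⟩
    have := isCyclic_of_prime_card e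
    exact h.ncomm inferInstance
  · rw [index_top] at e; omega

theorem Ctx.thompson (h : Ctx G) {S₀ : Subgroup G} (hS : IsSylowIn 2 S ⊤) (le : S₀ ≤ S)
    (hn : S ≤ normalizer (S₀ : Set G)) {p : G} (hp : p ∈ S) (hc : S ≤ S₀ ⊔ zpowers p) (hu : orderOf u = 2) :
    ∃ g : G, g * u * g⁻¹ ∈ S₀ :=
  PD.ToolsA.thompson_cyclic h.idx2 (BG.isSylowOf_top Nat.prime_two hS.toSylowTop) ⟨le, hn⟩ hp hc hu

omit [Finite G] in
theorem rq_conj (g x : G) : IsConj x (g * x * g⁻¹) := isConj_iff.2 ⟨g, rfl⟩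

omit [Finite G] in
/-- a nontrivial element of a 2-group has an involution as a power -/
theorem rq_pow {P : Subgroup G} (hP : IsPGroup 2 P) (hx : x ∈ P) (ne : x ≠ 1) :
    ∃ y ∈ zpowers x, y ≠ 1 ∧ y * y = 1 := by
  obtain ⟨k, hk⟩ := isPGroup_iff_mem.1 hP x hx
  induction k with
  | zero => exact absurd (by simpa using hk) ne
  | succ k ih =>
    by_cases e : x ^ 2 ^ k = 1
    · exact ih e
    · exact ⟨_, pow_mem (mem_zpowers x) _, e, by rw [← pow_two, ← pow_mul, ← pow_succ, hk]⟩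

namespace RB

variable (h : RB S M Λ m a b z)
include h

theorem aS : a ∈ S := h.q.a_mem.1
theorem bS : b ∈ S := h.q.b_mem.1
theorem zz : z * z = 1 := h.hz ▸ h.q.zz
theorem z1 : z ≠ 1 := h.hz ▸ h.q.z1
theorem oz : orderOf z = 2 := h.hz ▸ h.q.oz
theorem zD : z ∈ S ⊓ Λ z := by have := h.q.z_mem; rwa [← h.hz] at this
theorem zS : z ∈ S := h.zD.1
theorem z_inv : z⁻¹ = z := inv_eq_of_mul_eq_one_right h.zz
theorem cz (hx : x ∈ S) : x * z = z * x := mem_Cx.1 (h.cen hx)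
theorem zM : z ∈ M := (h.cs z h.zS).2 ⟨(h.cz h.aS).symm, (h.cz h.bS).symm⟩
theorem bb : b * b = z := h.hz ▸ h.q.bb
theorem sq (c : IsConj z v) : v * v = 1 := by
  obtain ⟨g, rfl⟩ := isConj_iff.1 c
  rw [conj_mul, h.zz, mul_one, mul_inv_cancel]
theorem ne1 (c : IsConj z v) : v ≠ 1 := fun e => h.z1 (isConj_one_left.1 (e ▸ c))
theorem ord (c : IsConj z v) : orderOf v = 2 := orderOf_eq_prime (by rw [pow_two, h.sq c]) (h.ne1 c)

theorem memΛ (g : G) : g * x * g⁻¹ ∈ Λ (g * v * g⁻¹) ↔ x ∈ Λ v := by rw [h.conj, conj_mem_cj]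

/-- `C(v)` normalises `Λ v` -/
theorem nΛ (hg : g * v = v * g) (hx : x ∈ Λ v) : g * x * g⁻¹ ∈ Λ v := by
  have := (h.memΛ g).2 hx
  rwa [hg, mul_inv_cancel_right] at this

theorem nD (hg : g ∈ S) (hx : x ∈ S ⊓ Λ z) : g * x * g⁻¹ ∈ S ⊓ Λ z :=
  ⟨S.mul_mem (S.mul_mem hg hx.1) (S.inv_mem hg), h.nΛ (h.cz hg) hx.2⟩

theorem self_mem (c : IsConj z v) : v ∈ Λ v := by
  obtain ⟨g, rfl⟩ := isConj_iff.1 c
  exact (h.memΛ g).2 h.zD.2

theorem inv' (c : IsConj z v) (hw : w ∈ Λ v) (e : w * w = 1) : w = 1 ∨ w = v := by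
  obtain ⟨g, rfl⟩ := isConj_iff.1 c
  obtain ⟨w, rfl⟩ : ∃ w', w = g * w' * g⁻¹ := ⟨g⁻¹ * w * g, by group⟩
  rw [conj_mul, conj_eq_one_iff] at e
  rcases h.inv w ((h.memΛ g).1 hw) e with rfl | rfl
  exacts [.inl (by group), .inr rfl]

/-- the subgroups that belong to different conjugates have no common 2-elements -/
theorem dis (c : IsConj z v) (c' : IsConj z w) (ne : v ≠ w) (hx : x ∈ S) (h1 : x ∈ Λ v) (h2 : x ∈ Λ w) : x = 1 := by
  by_contra e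
  obtain ⟨y, hy, y1, yy⟩ := rq_pow h.syl.pgroup hx e
  exact ne (((h.inv' c (zpowers_le.2 h1 hy) yy).resolve_left y1).symm.trans
    ((h.inv' c' (zpowers_le.2 h2 hy) yy).resolve_left y1))

theorem comm (c : IsConj z v) (c' : IsConj z w) (ne : v ≠ w) {p r : G} (hp : p ∈ S ⊓ Cx w ⊓ Λ v)
    (hr : r ∈ S ⊓ Cx v ⊓ Λ w) : p * r = r * p := by
  have := h.dis c c' ne (x := p * (r * p⁻¹ * r⁻¹))
    (mul_mem hp.1.1 (mul_mem (mul_mem hr.1.1 (inv_mem hp.1.1)) (inv_mem hr.1.1)))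
    (mul_mem hp.2 (h.nΛ (mem_Cx.1 hr.1.2) (inv_mem hp.2)))
    (by rw [show p * (r * p⁻¹ * r⁻¹) = p * r * p⁻¹ * r⁻¹ by group]
        exact mul_mem (h.nΛ (mem_Cx.1 hp.1.2) hr.2) (inv_mem hr.2))
  rw [← mul_inv_eq_one, ← this]; group

/-- the elements of `S ⊓ M` centralise the quaternion group -/
theorem cM (hx : x ∈ S ⊓ M) {d : G} (hd : d ∈ S ⊓ Λ z) : x * d = d * x := by
  obtain ⟨h1, h2⟩ := (h.cs x hx.1).1 hx.2
  have c1 : Commute x a := h1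
  have c2 : Commute x b := h2
  obtain ⟨k, rfl | rfl⟩ := (h.q.mem d).1 hd
  exacts [c1.zpow_right k, (c1.zpow_right k).mul_right c2]

theorem conjM (hg : g * z = z * g) (hx : x ∈ M) : g * x * g⁻¹ ∈ M :=
  conj_mem_of_mem_normalizer (h.nM (mem_Cx.2 hg)) hx

end RB

namespace RX

variable (h : RB S M Λ m a b z) (r : RX S Λ z u β θ)
include h r

theorem uu : u * u = 1 := h.sq r.cj
theorem uz : u * z = z * u := h.cz r.uS
theorem cj' : IsConj z (u * z) := r.cj.trans (r.βu ▸ rq_conj β u)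
theorem θuz : θ * (u * z) * θ⁻¹ = z := by
  rw [← conj_mul, r.θu, r.θz, mul_assoc, ← r.uz h, ← mul_assoc, r.uu h, one_mul]
theorem ne' : u * z ≠ z := fun e => h.ne1 r.cj (mul_eq_right.1 e)
theorem ne'' : u * z ≠ u := fun e => h.z1 (mul_eq_left.1 e)
theorem uM : u ∉ M := fun e => r.ne (h.h1 u e r.cj)

/-- an element of `⟨u, z⟩` fixed by `θ` is trivial -/
theorem zθ : z ∉ Cx θ := fun e => r.ne (by rw [← r.θz, ← mem_Cx.1 e, mul_inv_cancel_right])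
theorem uθ : u ∉ Cx θ := fun e => r.ne'' h (by rw [← r.θu, ← mem_Cx.1 e, mul_inv_cancel_right])
theorem uzθ : u * z ∉ Cx θ := fun e => r.ne' h (by
  have := r.θuz h
  rwa [← mem_Cx.1 e, mul_inv_cancel_right] at this)

/-- for `x` fixed by `θ` the elements `z x`, `u x`, `u z x` are conjugate -/
theorem rot (hx : x ∈ Cx θ) : IsConj (z * x) (u * x) ∧ IsConj (z * x) (u * z * x) := by
  have e : θ * x * θ⁻¹ = x := by rw [← mem_Cx.1 hx, mul_inv_cancel_right]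
  have a1 : IsConj (z * x) (u * x) := isConj_iff.2 ⟨θ, by rw [← conj_mul, r.θz, e]⟩
  exact ⟨a1, a1.trans (isConj_iff.2 ⟨θ, by rw [← conj_mul, r.θu, e]⟩)⟩

theorem θC (hx : x ∈ S ⊓ Cx u) : θ * x * θ⁻¹ ∈ S ⊓ Cx u := conj_mem_of_mem_normalizer r.nθ hx
theorem θC' (hx : x ∈ S ⊓ Cx u) : θ⁻¹ * x * θ ∈ S ⊓ Cx u := conj_mem_of_mem_normalizer' r.nθ hx

end RX

end CfsgLib.GHE
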