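import Mathlib
import Cfsg.Agent.Lib.GHE.RQ0
import Cfsg.Agent.Lib.Hom.Defs

/-! Block RQ, package RQA1: the structure of `S` in case A.  See `plans/GHE_RQ.md`. -/

set_option autoImplicit false
set_option linter.unusedSectionVars false

namespace CfsgLib.GHE

open Subgroup Cfsg CfsgLib.W2 CfsgLib.Tech CfsgLib.Sect CfsgLib.PComp CfsgLib.DihSyl
  CfsgLib.GW.Cor
open CfsgLib.LBal hiding cj
open scoped MatrixGroups commutatorElement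

universe u

variable {G : Type u} [Group G] [Finite G]
variable {S M : Subgroup G} {Λ : G → Subgroup G} {m : ℕ} {a b z u v w i β θ x g : G}

/-- coordinates in case A: `C_S(u) = (⟨c⟩ × ⟨y⟩) Γ` -/
structure RA1 (S M : Subgroup G) (Λ : G → Subgroup G) (m : ℕ) (a b z u θ c y : G) : Prop
    extends RBA S M Λ m a b z u θ where
  hy : y = b * c * b⁻¹
  oc : orderOf c = 2 * m
  cm : c ^ m = u
  e₁ : S ⊓ Cx u ⊓ Λ z = zpowers a
  e₂ : S ⊓ Cx u ⊓ Λ u = zpowers c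
  e₃ : S ⊓ Cx u ⊓ Λ (u * z) = zpowers y
  cy : c * y = y * c
  gen : ∃ k : ℤ, a = (y * c⁻¹) ^ k
  eA : RAA S Λ z u = zpowers c ⊔ zpowers y
  ind : zpowers c ⊓ zpowers y = ⊥
  invA : ∀ α ∈ RAA S Λ z u, α * α = 1 → α = 1 ∨ α = z ∨ α = u ∨ α = u * z
  inf : ∀ α ∈ RAA S Λ z u, α ∈ Cx θ → α = 1
  all : ∀ s ∈ S, s ∈ Cx u ∨ s * b ∈ Cx u

omit [Finite G] in
theorem rqa1_fix (e : g * x = x * g) : g * x * g⁻¹ = x := by rw [e, mul_inv_cancel_right]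

omit [Finite G] in
theorem rqa1_sq {K H : Subgroup G} (le : K ≤ H) (sq : ∀ g ∈ H, g * g ∈ K)
    (cm : ∀ g ∈ H, x⁻¹ * (g * x * g⁻¹) ∈ K) (xx : x * x ∈ K) : ∀ g ∈ H ⊔ zpowers x, g * g ∈ K := by
  intro g hg
  have n : ∀ w ∈ H, x * w * x⁻¹ ∈ H := fun w hw => by
    have := H.mul_mem (H.mul_mem (H.mul_mem (le xx) (le (cm w hw))) hw) (H.inv_mem (le xx))
    rwa [show x * x * (x⁻¹ * (w * x * w⁻¹)) * w * (x * x)⁻¹ = x * w * x⁻¹ by group] at this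
  rcases (Hom.mem_sup_zpowers n (le xx)).1 hg with e | e
  · exact sq g e
  · have := K.mul_mem (K.mul_mem xx (cm _ e)) (sq _ e)
    rwa [show x * x * (x⁻¹ * (x⁻¹ * g * x * (x⁻¹ * g)⁻¹)) * (x⁻¹ * g * (x⁻¹ * g)) = g * g by group] at this

theorem rqa1_idx {K H : Subgroup G} (le : K ≤ H) (n : x ∉ H) :
    K.relIndex H * 2 ≤ K.relIndex (H ⊔ zpowers x) := by
  rw [← relIndex_mul_relIndex K H (H ⊔ zpowers x) le le_sup_left]
  exact Nat.mul_le_mul_left _ (two_le_relIndex fun l => n (l (mem_sup_right (mem_zpowers x))))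

/-- the elements of `S` that centralise `x` modulo `z` -/
theorem RB.a1_N (h : RB S M Λ m a b z) {s : G} : s ∈ S ⊓ normalizer ({x, x * z} : Set G) ↔
    s ∈ S ∧ (s * x * s⁻¹ = x ∨ s * x * s⁻¹ = x * z) := by
  refine ⟨fun hs => ⟨hs.1, (mem_set_normalizer_iff.1 hs.2 x).1 (.inl rfl)⟩,
    fun ⟨hs, e⟩ => ⟨hs, mem_normalizer_fintype fun n hn => ?_⟩⟩
  rcases hn with rfl | rfl
  · exact e
  · rw [← conj_mul, rqa1_fix (h.cz hs)]
    rcases e with e | e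
    · exact .inr (by rw [e]; rfl)
    · exact .inl (by rw [e, mul_assoc, h.zz, mul_one])

theorem RB.a1_tr (h : RB S M Λ m a b z) {C : Subgroup G} {d : G} (hg : g ∈ normalizer (C : Set G))
    (e : C ⊓ Λ v = zpowers d) : C ⊓ Λ (g * v * g⁻¹) = zpowers (g * d * g⁻¹) := by
  ext x
  obtain ⟨x, rfl⟩ : ∃ x', x = g * x' * g⁻¹ := ⟨g⁻¹ * x * g, by group⟩
  rw [show zpowers (g * d * g⁻¹) = cj g (zpowers d) from
    (MonoidHom.map_zpowers (MulAut.conj g).toMonoidHom d).symm, conj_mem_cj,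
    ← e, mem_inf, mem_inf, h.memΛ, ← mem_normalizer_iff.1 hg]

/-- every element of `S` centralises the element of order 4 of `⟨a⟩` modulo `z` -/
theorem RB.a1_i (h : RB S M Λ m a b z) {r : ℤ} (hr : (m : ℤ) = 2 * r) :
    a ^ r * a ^ r = z ∧ a ^ r * b * (a ^ r)⁻¹ = b * z ∧ b * a ^ r * b⁻¹ = a ^ r * z ∧
      ∀ s ∈ S, s * a ^ r * s⁻¹ = a ^ r ∨ s * a ^ r * s⁻¹ = a ^ r * z := by
  have e : z = a ^ (2 * r) := by rw [← hr, zpow_natCast, h.hz]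
  refine ⟨by rw [e, ← zpow_add, two_mul], by rw [(h.q.act_a r).2, ← e, h.cz h.bS], ?_, fun s hs => ?_⟩
  · rw [h.q.act_b.zpow, e, ← zpow_add, h.q.zeq, hr]
    exact ⟨-1, by ring⟩
  obtain ⟨k, j, ac⟩ := h.act s hs
  obtain ⟨l, rfl⟩ := h.q.act_odd ac
  rw [ac.zpow, e, ← zpow_add, h.q.zeq, h.q.zeq, hr]
  rcases Int.even_or_odd' l with ⟨t, rfl | rfl⟩
  exacts [.inl ⟨t, by ring⟩, .inr ⟨t, by ring⟩]

namespace RBA

variable (h : RBA S M Λ m a b z u θ)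
include h

theorem a1_uu : u * u = 1 := h.toRX.uu h.toRB
theorem a1_uz : u * z = z * u := h.toRX.uz h.toRB
theorem a1_cj : IsConj z (u * z) := h.toRX.cj' h.toRB
theorem a1_ne : u ≠ u * z := (h.toRX.ne'' h.toRB).symm
theorem a1_aC : a ∈ S ⊓ Cx u := mem_inf.2 ⟨h.aS, mem_Cx.2 h.ua.symm⟩
theorem a1_zC : z ∈ S ⊓ Cx u := mem_inf.2 ⟨h.zS, mem_Cx.2 h.a1_uz.symm⟩
theorem a1_uC : u ∈ S ⊓ Cx u := mem_inf.2 ⟨h.uS, mem_Cx.2 rfl⟩
theorem a1_buz : b * (u * z) * b⁻¹ = u := by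
  rw [← conj_mul, h.βu, rqa1_fix (h.cz h.bS), mul_assoc, h.zz, mul_one]
theorem a1_C (hx : x ∈ S ⊓ Cx u) : x ∈ S ⊓ Cx (u * z) :=
  mem_inf.2 ⟨hx.1, mem_Cx.2 (Commute.mul_right (a := x) (mem_Cx.1 hx.2) (h.cz hx.1))⟩
theorem a1_bC : b ∉ Cx u := fun e => h.a1_ne (by rw [← h.βu, rqa1_fix (mem_Cx.1 e)])

theorem a1_nb : b ∈ normalizer ((S ⊓ Cx u : Subgroup G) : Set G) :=
  mem_normalizer_fintype fun n hn => mem_inf.2 ⟨mul_mem (mul_mem h.bS hn.1) (inv_mem h.bS), mem_Cx.2 (by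
    have := congrArg (fun t => b * t * b⁻¹) (mem_Cx.1 (h.a1_C hn).2)
    simp only [← conj_mul (a := n), ← conj_mul (a := u * z), h.a1_buz] at this
    exact this)⟩

theorem a1_e : S ⊓ Cx u ⊓ Λ z = zpowers a := by
  refine le_antisymm (fun x hx => ?_) (zpowers_le.2 (mem_inf.2 ⟨h.a1_aC, h.q.a_mem.2⟩))
  obtain ⟨k, rfl | rfl⟩ := (h.q.mem x).1 ⟨hx.1.1, hx.2⟩
  · exact zpow_mem (mem_zpowers a) k
  · exact absurd ((mul_mem_cancel_left (zpow_mem (mem_inf.1 h.a1_aC).2 k)).1 (mem_inf.1 hx.1).2) h.a1_bC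

end RBA

/-- `RA1` without the last field -/
structure RA0 (S M : Subgroup G) (Λ : G → Subgroup G) (m : ℕ) (a b z u θ c y : G) : Prop
    extends RBA S M Λ m a b z u θ where
  hy : y = b * c * b⁻¹
  oc : orderOf c = 2 * m
  cm : c ^ m = u
  e₁ : S ⊓ Cx u ⊓ Λ z = zpowers a
  e₂ : S ⊓ Cx u ⊓ Λ u = zpowers c
  e₃ : S ⊓ Cx u ⊓ Λ (u * z) = zpowers y
  cy : c * y = y * c
  gen : ∃ k : ℤ, a = (y * c⁻¹) ^ k
  eA : RAA S Λ z u = zpowers c ⊔ zpowers y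
  ind : zpowers c ⊓ zpowers y = ⊥
  invA : ∀ α ∈ RAA S Λ z u, α * α = 1 → α = 1 ∨ α = z ∨ α = u ∨ α = u * z
  inf : ∀ α ∈ RAA S Λ z u, α ∈ Cx θ → α = 1

theorem RBA.a1_ra0 (h : RBA S M Λ m a b z u θ) : ∃ c y, RA0 S M Λ m a b z u θ c y := by
  obtain ⟨c, hc⟩ : ∃ c, c = θ * a * θ⁻¹ := ⟨_, rfl⟩
  obtain ⟨y, hy⟩ : ∃ y, y = b * c * b⁻¹ := ⟨_, rfl⟩
  have e₂ : S ⊓ Cx u ⊓ Λ u = zpowers c := by
    have := h.a1_tr h.nθ h.a1_e
    rwa [h.θz, ← hc] at this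
  have e₃ : S ⊓ Cx u ⊓ Λ (u * z) = zpowers y := by
    have := h.a1_tr h.a1_nb e₂
    rwa [h.βu, ← hy] at this
  have cm : c ^ m = u := by rw [hc, conj_pow, ← h.hz, h.θz]
  have ym : y ^ m = u * z := by rw [hy, conj_pow, cm, h.βu]
  have m2 : ∀ p ∈ zpowers c, p ∈ S ⊓ Cx u ∧ p ∈ Λ u := fun p hp => mem_inf.1 (e₂ ▸ hp)
  have m3 : ∀ p ∈ zpowers y, p ∈ S ⊓ Cx u ∧ p ∈ Λ (u * z) := fun p hp => mem_inf.1 (e₃ ▸ hp)
  have cC := m2 c (mem_zpowers c)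
  have yC := m3 y (mem_zpowers y)
  have cy : Commute c y := h.comm h.cj h.a1_cj h.a1_ne (mem_inf.2 ⟨h.a1_C cC.1, cC.2⟩) (mem_inf.2 yC)
  have gen : ∃ k : ℤ, a = (y * c⁻¹) ^ k := by
    have : y * c⁻¹ ∈ zpowers a := by
      rw [← h.a1_e]
      refine mem_inf.2 ⟨mul_mem yC.1 (inv_mem cC.1), ?_⟩
      rw [hy, show b * c * b⁻¹ * c⁻¹ = b * (c * b⁻¹ * c⁻¹) by group]
      exact (mul_mem h.q.b_mem (h.nD cC.1.1 (inv_mem h.q.b_mem))).2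
    obtain ⟨k, hk⟩ := mem_zpowers_iff.1 this
    have e : a ^ (k * m) = a ^ (m : ℤ) := by
      rw [zpow_mul, hk, zpow_natCast, zpow_natCast, cy.symm.inv_right.mul_pow, inv_pow, cm, ym, ← h.hz,
        h.a1_uz, mul_inv_cancel_right]
    obtain ⟨l, hl⟩ := h.q.zeq.1 e
    have m0 : (m : ℤ) ≠ 0 := by have := h.q.two; omega
    have k1 : k = 2 * l + 1 := mul_right_cancel₀ m0 (by linear_combination hl)
    obtain ⟨n, hn⟩ := h.q.pow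
    have : a ∈ zpowers (a ^ k) := by
      rw [mem_zpowers_zpow_iff, h.q.ord, ← Int.isCoprime_iff_gcd_eq_one, hn, ← pow_succ']
      push_cast
      exact IsCoprime.pow_right ⟨1, -l, by rw [k1]; ring⟩
    obtain ⟨j, hj⟩ := mem_zpowers_iff.1 this
    exact ⟨j, by rw [← hk, hj]⟩
  have eA : RAA S Λ z u = zpowers c ⊔ zpowers y := by
    rw [RAA, h.a1_e, e₂, e₃, sup_assoc, sup_eq_right, zpowers_le]
    obtain ⟨k, rfl⟩ := gen
    exact zpow_mem (mul_mem (mem_sup_right (mem_zpowers y)) (inv_mem (mem_sup_left (mem_zpowers c)))) k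
  have ind : ∀ p ∈ zpowers c, p ∈ zpowers y → p = 1 := fun p h1 h2 =>
    h.dis h.cj h.a1_cj h.a1_ne (m2 p h1).1.1 (m2 p h1).2 (m3 p h2).2
  have cc : ∀ p ∈ zpowers c, ∀ r ∈ zpowers y, p * r = r * p := by
    rintro _ ⟨k, rfl⟩ _ ⟨j, rfl⟩
    exact cy.zpow_zpow k j
  have invA : ∀ α ∈ RAA S Λ z u, α * α = 1 → α = 1 ∨ α = z ∨ α = u ∨ α = u * z := by
    intro α hα e
    obtain ⟨p, hp, r, hr, rfl⟩ := (mem_sup_of_comm cc).1 (eA ▸ hα)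
    have e1 : p * p = (r * r)⁻¹ := by
      rw [eq_inv_iff_mul_eq_one, ← e, mul_assoc, mul_assoc, ← mul_assoc r p, ← cc p hp r hr]; group
    have pp := ind _ (mul_mem hp hp) (e1 ▸ inv_mem (mul_mem hr hr))
    have rr : r * r = 1 := by rwa [pp, eq_comm, inv_eq_one] at e1
    rcases h.inv' h.cj (m2 p hp).2 pp with rfl | rfl <;>
      rcases h.inv' h.a1_cj (m3 r hr).2 rr with rfl | rfl
    exacts [.inl (one_mul 1), .inr (.inr (.inr (one_mul _))), .inr (.inr (.inl (mul_one _))),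
      .inr (.inl (by rw [← mul_assoc, h.a1_uu, one_mul]))]
  refine ⟨c, y, h, hy, ?_, cm, h.a1_e, e₂, e₃, cy, gen, eA, (eq_bot_iff_forall _).2 fun p hp => ind p hp.1 hp.2,
    invA, fun α hα hθ => by_contra fun ne => ?_⟩
  · rw [hc, ← h.q.ord]
    exact (MulAut.conj θ).orderOf_eq a
  have le : RAA S Λ z u ≤ S := sup_le (sup_le (fun _ t => t.1.1) fun _ t => t.1.1) fun _ t => t.1.1
  obtain ⟨p, hp, p1, pp⟩ := rq_pow h.syl.pgroup (le hα) ne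
  have := zpowers_le.2 hθ hp
  rcases invA p (zpowers_le.2 hα hp) pp with rfl | rfl | rfl | rfl
  exacts [p1 rfl, h.toRX.zθ h.toRB this, h.toRX.uθ h.toRB this, h.toRX.uzθ h.toRB this]

namespace RA0

variable {c y : G} (h : RA0 S M Λ m a b z u θ c y)
include h

theorem cC : c ∈ S ⊓ Cx u ⊓ Λ u := h.e₂ ▸ mem_zpowers c
theorem yC : y ∈ S ⊓ Cx u ⊓ Λ (u * z) := h.e₃ ▸ mem_zpowers y
theorem aA : a ∈ RAA S Λ z u := mem_sup_left (mem_sup_left (h.e₁ ▸ mem_zpowers a))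

theorem cent (hc : c * x = x * c) (hy : y * x = x * y) {α : G} (hα : α ∈ RAA S Λ z u) : α * x = x * α := by
  rw [h.eA] at hα
  exact mem_Cx.1 (sup_le (zpowers_le.2 (mem_Cx.2 hc)) (zpowers_le.2 (mem_Cx.2 hy)) hα)

theorem abel {α α' : G} (hα : α ∈ RAA S Λ z u) (hα' : α' ∈ RAA S Λ z u) : α * α' = α' * α := by
  have hc : c ∈ RAA S Λ z u := h.eA ▸ mem_sup_left (mem_zpowers c)
  have hy : y ∈ RAA S Λ z u := h.eA ▸ mem_sup_right (mem_zpowers y)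
  exact h.cent (h.cent rfl h.cy.symm hα').symm (h.cent h.cy rfl hα').symm hα

/-- a conjugate of `z` that centralises `A` lies in `⟨u, z⟩` -/
theorem of_cent (hv : v ∈ S ⊓ Cx u) (cj : IsConj z v) (hc : c * v = v * c) (hy : y * v = v * y) :
    v = z ∨ v = u ∨ v = u * z := by
  obtain ⟨α, hα, γ, hγ, e⟩ := h.dec v hv
  have e' : γ = α⁻¹ * v := by rw [e, inv_mul_cancel_left]
  have av : Commute α v := h.cent hc hy hα
  have γM : γ ∈ M := (h.cs γ hγ.1.1).2 ⟨by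
    rw [e']
    exact Commute.mul_left (Commute.inv_left (h.abel hα h.aA)) (h.cent hc hy h.aA).symm,
    (h.com γ hγ).symm⟩
  have aa : α * α = 1 := h.inf _ (mul_mem hα hα) (by
    have : α * α = (γ * γ)⁻¹ := by
      rw [e', ← pow_two, ← pow_two, av.inv_left.mul_pow, pow_two v, h.sq cj, mul_one, inv_pow, inv_inv]
    exact this ▸ inv_mem (mul_mem (mem_inf.1 hγ).2 (mem_inf.1 hγ).2))
  have k : IsConj z (z * γ) → γ = 1 := fun t => mul_eq_left.1 (h.h1 _ (mul_mem h.zM γM) t)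
  have rot := h.toRX.rot h.toRB hγ.2
  rcases h.invA α hα aa with rfl | rfl | rfl | rfl
  · exact .inl (h.h1 v (by rw [e, one_mul]; exact γM) cj)
  · exact .inl (h.h1 v (by rw [e]; exact mul_mem h.zM γM) cj)
  · exact .inr (.inl (by rw [e, k ((e ▸ cj).trans rot.1.symm), mul_one]))
  · exact .inr (.inr (by rw [e, k ((e ▸ cj).trans rot.2.symm), mul_one]))

theorem allN : S ≤ S ⊓ normalizer ({u, u * z} : Set G) := by
  by_contra hn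
  obtain ⟨g, gS, gN, -, nN⟩ := exists_norm_sq h.syl.pgroup inf_le_left hn
  have CN : ∀ x ∈ S ⊓ Cx u, x ∈ S ⊓ normalizer ({u, u * z} : Set G) := fun x hx =>
    h.a1_N.2 ⟨hx.1, .inl (rqa1_fix (mem_Cx.1 hx.2))⟩
  have cj : IsConj z (g * u * g⁻¹) := h.cj.trans (rq_conj g u)
  have vC : g * u * g⁻¹ ∈ S ⊓ Cx u := by
    obtain ⟨n, hn⟩ := h.q.pow
    obtain ⟨tS, e⟩ := h.a1_N.1 (nN _ (CN _ (pow_mem h.cC.1 (2 ^ n))))
    generalize ht : g * c ^ 2 ^ n * g⁻¹ = t at tS e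
    have : g * u * g⁻¹ = t * t := by rw [← ht, conj_mul, ← pow_add, ← mul_two, ← pow_succ, ← hn, h.cm]
    refine this ▸ mem_inf.2 ⟨mul_mem tS tS, mem_Cx.2 ?_⟩
    rw [← mul_inv_eq_iff_eq_mul, show t * t * u * (t * t)⁻¹ = t * (t * u * t⁻¹) * t⁻¹ by group]
    rcases e with e | e
    · rw [e, e]
    · rw [e, ← conj_mul, e, rqa1_fix (h.cz tS), mul_assoc, h.zz, mul_one]
  generalize hv : g * u * g⁻¹ = v at cj vC
  have key : ∀ p w, IsConj z w → w ≠ z → v * w = w * v → p ∈ S ⊓ Cx u → p ∈ Λ w → p * v = v * p := by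
    intro p w cw ne vw hp hΛ
    have e1 : p * v * p⁻¹ = g * (g⁻¹ * p * g * u * (g⁻¹ * p * g)⁻¹) * g⁻¹ := by rw [← hv]; group
    rcases (h.a1_N.1 (conj_inv_mem nN (CN p hp))).2 with e | e
    · rw [e, hv] at e1
      exact mul_inv_eq_iff_eq_mul.1 e1
    · rw [e, ← conj_mul, hv, rqa1_fix (h.cz gS)] at e1
      refine absurd (h.dis (IsConj.refl z) cw ne.symm h.zS h.zD.2 ?_) h.z1
      have := mul_mem (h.nΛ (g := v⁻¹) (Commute.inv_left vw) hΛ) (inv_mem hΛ)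
      rwa [show v⁻¹ * p * v⁻¹⁻¹ * p⁻¹ = v⁻¹ * (p * v * p⁻¹) by group, e1, inv_mul_cancel_left] at this
  rcases h.of_cent vC cj (key c u h.cj h.ne (mem_Cx.1 vC.2) h.cC.1 h.cC.2)
    (key y _ h.a1_cj (h.toRX.ne' h.toRB) (mem_Cx.1 (h.a1_C vC).2) h.yC.1 h.yC.2) with e | e | e
  · refine h.ne ?_
    rw [e, ← rqa1_fix (h.cz gS)] at hv
    simpa using hv
  · exact gN (h.a1_N.2 ⟨gS, .inl (hv.trans e)⟩)
  · exact gN (h.a1_N.2 ⟨gS, .inr (hv.trans e)⟩)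

theorem all {s : G} (hs : s ∈ S) : s ∈ Cx u ∨ s * b ∈ Cx u := by
  refine (h.a1_N.1 (h.allN hs)).2.imp (fun e => mem_Cx.2 (mul_inv_eq_iff_eq_mul.1 e)) fun e =>
    mem_Cx.2 (mul_inv_eq_iff_eq_mul.1 ?_)
  rw [show s * b * u * (s * b)⁻¹ = s * (b * u * b⁻¹) * s⁻¹ by group, h.βu, ← conj_mul, e,
    rqa1_fix (h.cz hs), mul_assoc, h.zz, mul_one]

end RA0

theorem RA1.ra0 {c y : G} (h : RA1 S M Λ m a b z u θ c y) : RA0 S M Λ m a b z u θ c y :=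
  ⟨h.toRBA, h.hy, h.oc, h.cm, h.e₁, h.e₂, h.e₃, h.cy, h.gen, h.eA, h.ind, h.invA, h.inf⟩

theorem RBA.ra1 (h : RBA S M Λ m a b z u θ) : ∃ c y, RA1 S M Λ m a b z u θ c y := by
  obtain ⟨c, y, p⟩ := h.a1_ra0
  exact ⟨c, y, h, p.hy, p.oc, p.cm, p.e₁, p.e₂, p.e₃, p.cy, p.gen, p.eA, p.ind, p.invA, p.inf,
    fun _ => p.all⟩

/-- the fixed points of `θ` form a cyclic group -/
theorem RA1.cyc {c y : G} (h : RA1 S M Λ m a b z u θ c y) : ∃ γ, S ⊓ Cx u ⊓ Cx θ = zpowers γ := by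
  by_contra! hn
  generalize hΓ : S ⊓ Cx u ⊓ Cx θ = Γ at hn
  have mΓ : ∀ x ∈ Γ, x ∈ S ⊓ Cx u ⊓ Cx θ := fun x hx => hΓ ▸ hx
  have ΓS : Γ ≤ S := fun x hx => (mΓ x hx).1.1
  have h4 := four_le_di (h.syl.pgroup.to_le ΓS) fun x _ => (hn x).symm
  obtain ⟨r, hr⟩ := h.q.half
  obtain ⟨ii, ib, -, si⟩ := h.a1_i hr
  generalize hi : a ^ r = i at ii ib si
  have iC : i ∈ S ⊓ Cx u := hi ▸ zpow_mem h.a1_aC r
  have zθ := h.toRX.zθ h.toRB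
  have zK : z ∈ Sq Γ ⊔ zpowers z := mem_sup_right (mem_zpowers z)
  have l0 : Γ ⊔ zpowers z ≤ S ⊓ Cx u := sup_le (fun x hx => (mΓ x hx).1) (zpowers_le.2 h.a1_zC)
  have l1 : Γ ⊔ zpowers z ⊔ zpowers u ≤ S ⊓ Cx u := sup_le l0 (zpowers_le.2 h.a1_uC)
  have l2 : Γ ⊔ zpowers z ⊔ zpowers u ⊔ zpowers i ≤ S ⊓ Cx u := sup_le l1 (zpowers_le.2 iC)
  have cz : ∀ {K : Subgroup G}, K ≤ S → ∀ p ∈ K, ∀ t ∈ zpowers z, p * t = t * p := fun l p hp t ht =>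
    (mem_Cx.1 (zpowers_le.2 (mem_Cx.2 (h.cz (l hp)).symm) ht)).symm
  have s0 := rqa1_sq (x := z) (Sq_le Γ) (fun g => sq_mem)
    (fun g hg => by rw [rqa1_fix (h.cz (ΓS hg)), inv_mul_cancel]; exact one_mem _) (h.zz ▸ one_mem _)
  have s1 := rqa1_sq (x := u) ((Sq_le Γ).trans le_sup_left) s0
    (fun g hg => by rw [rqa1_fix (mem_Cx.1 (l0 hg).2), inv_mul_cancel]; exact one_mem _) (h.a1_uu ▸ one_mem _)
  have k0 : Sq Γ ⊔ zpowers z ≤ Γ ⊔ zpowers z := sup_le_sup_right (Sq_le Γ) _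
  have md : ∀ {x g : G}, g * x * g⁻¹ = x ∨ g * x * g⁻¹ = x * z → x⁻¹ * (g * x * g⁻¹) ∈ Sq Γ ⊔ zpowers z := by
    rintro x g (e | e) <;> rw [e]
    · exact inv_mul_cancel x ▸ one_mem _
    · rwa [inv_mul_cancel_left]
  have s2 := rqa1_sq (x := i) (k0.trans le_sup_left) (fun g hg => mem_sup_left (s1 g hg))
    (fun g hg => md (si g (l1 hg).1)) (ii ▸ zK)
  have lb : Γ ⊔ zpowers z ⊔ zpowers u ⊔ zpowers i ≤ S ⊓ normalizer ({b, b * z} : Set G) := by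
    refine sup_le (sup_le (sup_le (fun x hx => h.a1_N.2 ⟨ΓS hx, .inl (rqa1_fix (h.com x (mΓ x hx)).symm)⟩)
      (zpowers_le.2 (h.a1_N.2 ⟨h.zS, .inl (rqa1_fix (h.cz h.bS).symm)⟩)))
      (zpowers_le.2 (h.a1_N.2 ⟨h.uS, .inr ?_⟩))) (zpowers_le.2 (h.a1_N.2 ⟨iC.1, .inr ib⟩))
    rw [← h.a1_buz, show b * (u * z) * b⁻¹ * b * (b * (u * z) * b⁻¹)⁻¹ = b * (u * z * (b * (u * z) * b⁻¹)⁻¹) by group,
      h.a1_buz, h.a1_uz, mul_inv_cancel_right]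
  have s3 := rqa1_sq (x := b) ((k0.trans le_sup_left).trans le_sup_left) s2
    (fun g hg => md (h.a1_N.1 (lb hg)).2) (h.bb ▸ zK)
  have i4 := h.sr _ le_top _ s3
  have i3 := rqa1_idx ((k0.trans le_sup_left).trans le_sup_left) fun t => h.a1_bC (l2 t).2
  have i2 := rqa1_idx (x := i) (k0.trans (le_sup_left (b := zpowers u))) fun t =>
    zθ (ii ▸ (mΓ _ (Sq_le Γ (s1 i t))).2)
  have i1 := rqa1_idx (x := u) k0 fun t => by
    obtain ⟨p, hp, t, ht, e⟩ := (mem_sup_of_comm (cz ΓS)).1 t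
    rcases (mem_zpowers_two h.zz).1 ht with rfl | rfl
    · exact h.toRX.uθ h.toRB (by rw [e, mul_one]; exact (mΓ p hp).2)
    · exact h.toRX.uzθ h.toRB (by rw [e, mul_assoc, h.zz, mul_one]; exact (mΓ p hp).2)
  have i0 := relIndex_mono_right (Sq Γ ⊔ zpowers z) (le_sup_left : Γ ≤ Γ ⊔ zpowers z)
  have : (Sq Γ ⊔ zpowers z).relIndex Γ = di Γ := relIndex_congr fun x hx => ⟨fun t => by
    obtain ⟨p, hp, t, ht, rfl⟩ := (mem_sup_of_comm (cz ((Sq_le Γ).trans ΓS))).1 t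
    rcases (mem_zpowers_two h.zz).1 ht with rfl | rfl
    · rwa [mul_one]
    · exact absurd (mΓ _ ((mul_mem_cancel_left (Sq_le Γ hp)).1 hx)).2 zθ, mem_sup_left⟩
  omega

end CfsgLib.GHE
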