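import Mathlib
import Cfsg.Agent.Lib.GHE.RQ0
import Cfsg.Agent.Lib.GHE.Int1
import Cfsg.Agent.Lib.GHE.Base1
import Cfsg.Agent.Lib.GHE.BlocksA
import Cfsg.Agent.Lib.GHE.Tool1

/-! Block RQ, package RQH: conjugates of `z` that centralise the component.  See `plans/GHE_RQ.md`. -/

set_option autoImplicit false
set_option linter.unusedSectionVars false

namespace CfsgLib.GHE

open Subgroup Cfsg CfsgLib.W2 CfsgLib.Tech CfsgLib.Sect CfsgLib.PComp CfsgLib.DihSyl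
  CfsgLib.GW.Cor
open CfsgLib.LBal hiding cj
open scoped MatrixGroups commutatorElement

universe u

variable {G : Type u} [Group G] [Finite G]
variable {S M : Subgroup G} {Λ : G → Subgroup G} {m : ℕ} {a b z u v w i β θ x g : G}

theorem rqh_LZ_le (g v : G) : cj g (LZ v) ≤ LZ (g * v * g⁻¹) := by
  have := Fact.mk Nat.prime_two
  refine map_le_iff_le_comap.2 (sSup_le fun K hK => map_le_iff_le_comap.1 (le_sSup ?_))
  refine ⟨?_, conj_mem_cj.2 hK.2⟩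
  rw [← cj_Cx]
  exact hK.1.conj g

theorem LZ_conj (g v : G) : LZ (g * v * g⁻¹) = cj g (LZ v) := by
  refine le_antisymm ?_ (rqh_LZ_le g v)
  have := cj_mono g (rqh_LZ_le g⁻¹ (g * v * g⁻¹))
  rwa [cj_cj_inv, show g⁻¹ * (g * v * g⁻¹) * g⁻¹⁻¹ = v by group] at this

theorem rqh_nrm (v : G) : Cx v ≤ normalizer (LZ v : Set G) := fun g hg =>
  mem_normalizer_iff_cj.2 (by rw [← LZ_conj, mem_Cx'.1 hg])

theorem RQ.nrm (h : RQ S z) : Cx z ≤ normalizer (LZ z : Set G) := (fun _ => rqh_nrm z) h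

theorem rqh_nM (v : G) : Cx v ≤ normalizer (MZ v : Set G) :=
  le_normalizer_inf le_normalizer ((rqh_nrm v).trans (normalizer_le_normalizer_cmod _))

theorem RQ.rqh_sylC (h : RQ S z) : IsSylowIn 2 S (Cx z) := by
  have := Fact.mk Nat.prime_two
  exact h.syl.of_le h.cen le_top

theorem RQ.rqh_zz (h : RQ S z) : z * z = 1 := sq_of_ord h.ord

theorem RQ.rqh_z1 (h : RQ S z) : z ≠ 1 := ne_one_of_ord h.ord

theorem RQ.rqh_zS (h : RQ S z) : z ∈ S := by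
  have := Fact.mk Nat.prime_two
  exact h.rqh_sylC.le_of_le_normalizer (isPGroup_two_zpowers h.rqh_zz)
    (zpowers_le.2 (mem_Cx.2 rfl)) (fun g hg => mem_normalizer_iff_cj.2 (by
      rw [cj_zpowers, mem_Cx'.1 hg])) (mem_zpowers z)

theorem RQ.sylL (h : RQ S z) : IsSylowIn 2 (S ⊓ LZ z) (LZ z) := by
  have := Fact.mk Nat.prime_two
  have := h.rqh_sylC.inf_of_le_normalizer h.nrm
  rwa [inf_eq_right.2 h.pc.le] at this

/-- a Sylow 2-subgroup of the component that contains `z` -/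
theorem RQ.rqh_q (h : RQ S z) {D : Subgroup G} (hD : IsSylowIn 2 D (LZ z)) (hz : z ∈ D) :
    ∃ m a b, Q2 D m a b ∧ z = a ^ m := by
  obtain ⟨m, a, b, h1, h2⟩ := h.qt D hD
  have q := q2_of h2 h1 hD.pgroup
  exact ⟨m, a, b, q, (q.inv hz h.rqh_zz).resolve_left h.rqh_z1⟩

theorem RQ.inv (h : RQ S z) : ∀ w ∈ LZ z, w * w = 1 → w = 1 ∨ w = z := by
  have := Fact.mk Nat.prime_two
  intro w hw ww
  obtain ⟨m, a, b, q, e⟩ := h.rqh_q h.sylL ⟨h.rqh_zS, h.mem⟩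
  obtain ⟨g, hg, k⟩ := h.sylL.exists_conj_mem hw (isPGroup_two_zpowers ww)
  refine (q.inv k (by rw [conj_mul, ww, mul_one, mul_inv_cancel])).imp (fun k1 => conj_eq_one_iff.1 k1)
    fun k1 => ?_
  rw [← e, ← mem_Cx'.1 (h.pc.le hg)] at k1
  exact mul_left_cancel (mul_right_cancel k1)

theorem RQ.conj (h : RQ S z) (g : G) : RQ (cj g S) (g * z * g⁻¹) := by
  have := Fact.mk Nat.prime_two
  refine ⟨h.toCtx, (ord_conj g z).trans h.ord, cj_top g ▸ h.syl.cj g, ?_, ?_, ?_, fun D hD => ?_⟩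
  · rw [← cj_Cx]; exact cj_mono g h.cen
  · rw [LZ_conj, ← cj_Cx]; exact h.pc.conj g
  · rw [LZ_conj]; exact conj_mem_cj.2 h.mem
  · have h1 := hD.cj g⁻¹
    rw [LZ_conj, cj_inv_cj] at h1
    obtain ⟨m, a, b, h2, h3⟩ := h.qt _ h1
    have h4 := (q2_of h3 h2 h1.pgroup).map g
    rw [cj_cj_inv] at h4
    exact ⟨m, _, _, h2, h4.toIsQuat⟩

theorem RQ.rqh_of (h : RQ S z) (c : IsConj z v) : ∃ S', RQ S' v := by
  obtain ⟨g, rfl⟩ := isConj_iff.1 c
  exact ⟨_, h.conj g⟩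

/-- the components that belong to different conjugates have no common 2-elements -/
theorem RQ.rqh_dis (h : RQ S z) (c : IsConj z v) (c' : IsConj z w) (ne : v ≠ w) (hx : x ∈ S)
    (h1 : x ∈ LZ v) (h2 : x ∈ LZ w) : x = 1 := by
  obtain ⟨_, hv⟩ := h.rqh_of c
  obtain ⟨_, hw⟩ := h.rqh_of c'
  by_contra e
  obtain ⟨y, hy, y1, yy⟩ := rq_pow h.syl.pgroup hx e
  exact ne (((hv.inv y (zpowers_le.2 h1 hy) yy).resolve_left y1).symm.trans
    ((hw.inv y (zpowers_le.2 h2 hy) yy).resolve_left y1))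

theorem RQ.rqh_comm (h : RQ S z) (c : IsConj z v) (c' : IsConj z w) (ne : v ≠ w) {p r : G}
    (hp : p ∈ S) (pw : p ∈ Cx w) (pv : p ∈ LZ v) (hr : r ∈ S) (rv : r ∈ Cx v) (rw' : r ∈ LZ w) :
    p * r = r * p := by
  have := h.rqh_dis c c' ne (x := p * (r * p⁻¹ * r⁻¹))
    (mul_mem hp (mul_mem (mul_mem hr (inv_mem hp)) (inv_mem hr)))
    (mul_mem pv (conj_mem_of_mem_normalizer (rqh_nrm v rv) (inv_mem pv)))
    (by rw [show p * (r * p⁻¹ * r⁻¹) = p * r * p⁻¹ * r⁻¹ by group]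
        exact mul_mem (conj_mem_of_mem_normalizer (rqh_nrm w pw) rw') (inv_mem rw'))
  rw [← mul_inv_eq_one, ← this]; group

theorem RQ.rqh_cs' (h : RQ S z) (hx : x ∈ S ⊓ MZ z) : ∀ d ∈ S ⊓ LZ z, x * d = d * x := fun d hd =>
  commutatorElement_eq_one_iff_mul_comm.1 (eq_one_of_odd (odd_card_opOf (LZ z)) h.syl.pgroup
    (hx.2.2.2 d hd.2) (mul_mem (mul_mem (mul_mem hx.1 hd.1) (inv_mem hx.1)) (inv_mem hd.1)))

/-- there is no quaternion subgroup of another component in `S ⊓ MZ z` -/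
theorem RQ.rqh_core (h : RQ S z) (c : IsConj z u) (ne : u ≠ z) {D : Subgroup G} {m' : ℕ} {a' b' : G}
    (q' : Q2 D m' a' b') (hu : u = a' ^ m') (le : D ≤ S ⊓ MZ z) (lu : D ≤ LZ u) : False := by
  have := Fact.mk Nat.prime_two
  obtain ⟨m, a, b, q, e⟩ := h.rqh_q h.sylL ⟨h.rqh_zS, h.mem⟩
  have zz := h.rqh_zz
  have zS := h.rqh_zS
  have uu : u * u = 1 := hu ▸ q'.zz
  have u1 : u ≠ 1 := hu ▸ q'.z1
  have uW : u ∈ S ⊓ MZ z := le (hu ▸ q'.z_mem)
  have bb : b' * b' = u := hu ▸ q'.bb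
  have bW := le q'.b_mem
  have cz : ∀ s ∈ S, s * z = z * s := fun s hs => mem_Cx.1 (h.cen hs)
  have Du : ∀ d ∈ D, d ∈ Cx u := fun d hd => mem_Cx.2 (hu ▸ q'.z_comm hd)
  have star : ∀ x ∈ S, (∀ d ∈ S ⊓ LZ z, d * x = x * d) → (∀ d ∈ D, d * x = x * d) →
      x = 1 ∨ x = u ∨ x = z ∨ x = z * u := fun x hx c1 c2 => by
    obtain ⟨k, hk⟩ := isPGroup_iff_mem.1 h.syl.pgroup x hx
    obtain ⟨p, r, hp, hr, rfl⟩ := Bk.cent_pair h.sr q q' (fun y hy d hd => (h.rqh_cs' (le hd) y hy).symm)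
      hk c1 c2
    rw [← e] at hp
    rw [← hu] at hr
    rcases hp with rfl | rfl <;> rcases hr with rfl | rfl <;> simp
  have third : ∀ n : G, n * b' * n⁻¹ ∈ S ⊓ Cx u → n * u * n⁻¹ ≠ z → n * u * n⁻¹ ≠ u →
      S ⊓ LZ z ≤ Cx (n * u * n⁻¹) → D ≤ Cx (n * u * n⁻¹) → False := fun n hd n1 n2 c1 c2 => by
    have cw : IsConj z (n * u * n⁻¹) := c.trans (rq_conj n u)
    have dL : n * b' * n⁻¹ ∈ LZ (n * u * n⁻¹) := by
      rw [LZ_conj]; exact conj_mem_cj.2 (lu q'.b_mem)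
    have k := star _ hd.1
      (fun d hd' => h.rqh_comm (IsConj.refl z) cw n1.symm hd'.1 (c1 hd') hd'.2 hd.1 (h.cen hd.1) dL)
      (fun d hd' => h.rqh_comm c cw n2.symm (le hd').1 (c2 hd') (lu hd') hd.1 hd.2 dL)
    have k2 : n * b' * n⁻¹ * (n * b' * n⁻¹) = 1 := by
      rcases k with k | k | k | k <;> rw [k]
      exacts [one_mul 1, uu, zz, by rw [mul_assoc, ← mul_assoc u, cz u uW.1, mul_assoc, uu, mul_one, zz]]
    rw [conj_mul, bb, conj_eq_one_iff] at k2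
    exact u1 k2
  have uz : u ∉ zpowers z := fun k => ((mem_zpowers_two zz).1 k).elim u1 ne
  obtain ⟨r, hr, rz, cr⟩ := exists_central_mod h.syl.pgroup (inf_le_left : S ⊓ MZ z ≤ S)
    (le_normalizer_inf le_normalizer (h.cen.trans (rqh_nM z))) (x := z) (fun s hs => cz s hs)
    fun k => uz (k uW)
  have cr' : ∀ s ∈ S, s * r * s⁻¹ = r ∨ s * r * s⁻¹ = z * r := fun s hs =>
    ((mem_zpowers_two zz).1 (cr s hs)).imp (fun k => mul_inv_eq_one.1 k) fun k => mul_inv_eq_iff_eq_mul.1 k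
  have ru : r ∈ Cx u := by
    rw [Cx_comm, mem_Cx', ← bb, show b' * b' * r * (b' * b')⁻¹ = b' * (b' * r * b'⁻¹) * b'⁻¹ by group]
    rcases cr' b' bW.1 with k | k
    · rw [k, k]
    · rw [k, ← conj_mul, k, cz b' bW.1, mul_inv_cancel_right, ← mul_assoc, zz, one_mul]
  have rD : ∀ d ∈ D, d * r = r * d := fun d hd => commutatorElement_eq_one_iff_mul_comm.1
    (h.rqh_dis (IsConj.refl z) c ne.symm (zpowers_le.2 zS (cr d (le hd).1))
      (zpowers_le.2 h.mem (cr d (le hd).1)) (by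
        rw [commutatorElement_def, mul_assoc, mul_assoc, ← mul_assoc r]
        exact mul_mem (lu hd) (conj_mem_of_mem_normalizer (rqh_nrm u ru) (inv_mem (lu hd)))))
  have su : S ≤ Cx u := fun s hs => by
    have k : s * u * s⁻¹ = u ∨ s * u * s⁻¹ = z * u := by
      rcases star r hr.1 (fun d hd => (h.rqh_cs' hr d hd).symm) rD with k | k | k | k
      · exact absurd (k ▸ one_mem _) rz
      · exact k ▸ cr' s hs
      · exact absurd (k ▸ mem_zpowers z) rz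
      · have k2 := cr' s hs
        rw [k, ← conj_mul, cz s hs, mul_inv_cancel_right] at k2
        exact k2.imp mul_left_cancel mul_left_cancel
    refine mem_Cx'.2 (k.resolve_right fun k => ?_)
    have sb : s * b' * s⁻¹ ∈ S := mul_mem (mul_mem hs bW.1) (inv_mem hs)
    refine third s ⟨sb, ?_⟩ (fun k1 => u1 (mul_eq_left.1 (k ▸ k1))) (fun k1 => h.rqh_z1 (mul_eq_right.1 (k ▸ k1)))
      (fun d hd => ?_) fun d hd => ?_
    · have k1 : s * b' * s⁻¹ ∈ Cx (z * u) := k ▸ conj_mem_Cx.2 (Du _ q'.b_mem)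
      rw [mem_Cx, ← mul_assoc, cz _ sb, mul_assoc, mul_assoc z u] at k1
      exact mem_Cx.2 (mul_left_cancel k1)
    · rw [k, mem_Cx, ← mul_assoc, cz d hd.1, mul_assoc, ← h.rqh_cs' uW d hd, mul_assoc]
    · rw [k, mem_Cx, ← mul_assoc, cz d (le hd).1, mul_assoc, mem_Cx.1 (Du d hd), mul_assoc]
  obtain ⟨n, hn, nz⟩ := conj_center h.syl zS uW.1 h.cen su c
  have sw : S ≤ Cx (n * u * n⁻¹) := by
    rw [← cj_Cx, ← mem_normalizer_iff_cj.1 hn]
    exact cj_mono n su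
  have nb := conj_mem_of_mem_normalizer hn bW.1
  refine third n ⟨nb, su nb⟩ (fun k => ne ?_) (fun k => ne ?_) (inf_le_left.trans sw)
    ((le.trans inf_le_left).trans sw)
  · obtain ⟨j, k', hk', ho⟩ := Nat.exists_eq_two_pow_mul_odd (orderOf_pos n).ne'
    have k1 : n ^ k' ∈ S := zpowers_le.1 (h.syl.le_of_normalizes
      (isPGroup_zpowers_of_pow (k := j) (by rw [← pow_mul, mul_comm, ← ho, pow_orderOf_eq_one])) le_top
      (zpowers_le.2 (pow_mem hn _)))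
    have k2 : n ^ 2 ∈ Cx z := by
      rw [mem_Cx', pow_two, show n * n * z * (n * n)⁻¹ = n * (n * z * n⁻¹) * n⁻¹ by group, nz, k]
    rw [← nz, mem_Cx'.1 (mem_of_coprime_pow hk'.coprime_two_right (h.cen k1) k2)]
  · exact mul_left_cancel (mul_right_cancel (k.trans nz.symm))

theorem RQ.rqh_main (h : RQ S z) (c : IsConj z u) (ne : u ≠ z) {J : Subgroup G} (uJ : u ∈ J)
    (JM : J ≤ MZ z) (JL : J ≤ LZ u) (cov : LZ u ≤ J ⊔ opOf 2 (LZ u)) : False := by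
  have := Fact.mk Nat.prime_two
  obtain ⟨_, hu⟩ := h.rqh_of c
  obtain ⟨D, hD, le⟩ := exists_isSylowIn_ge (isPGroup_two_zpowers hu.rqh_zz) (zpowers_le.2 uJ)
  obtain ⟨m', a', b', q', e⟩ := hu.rqh_q (syl_of_cover JL cov hD) (zpowers_le.1 le)
  obtain ⟨S', hS', le'⟩ := exists_isSylowIn_ge hD.pgroup ((hD.le.trans JM).trans inf_le_left)
  have h' : RQ S' z := ⟨h.toCtx, h.ord,
    h.syl.of_card_le hS'.pgroup le_top (hS'.card_le h.syl.pgroup h.cen), hS'.le, h.pc, h.mem, h.qt⟩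
  exact h'.rqh_core c ne q' e (le_inf le' (hD.le.trans JM)) (hD.le.trans JL)

theorem RQ.h1 (h : RQ S z) : ∀ u ∈ MZ z, IsConj z u → u = z := by
  have := Fact.mk Nat.prime_two
  intro u hu c
  by_contra ne
  obtain ⟨S', h'⟩ := h.rqh_of c
  have zu : z ∈ Cx u := Cx_comm.1 hu.1
  have h3 := ky_pc h.pc h'.ord hu.2
  rw [inf_comm] at h3
  have h4 : z ∈ Ky 2 (LZ z) u := mem_pec_of_pow (k := 1) (mem_inf.2 ⟨h.mem, zu⟩)
    (by rw [pow_one, pow_two, h.rqh_zz])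
  obtain ⟨K, hK⟩ := exists_pu h.ord zu h3
  refine h'.rqh_main c.symm (Ne.symm ne) h4 (le_inf (ky_le' _ _) ?_) (ky_le _ _)
    (ky_cov h.pc.pqs h'.ord hu.2)
  rcases hK.alt with e | e
  · refine e.trans ((h'.pc.eq_or_le_cmod hK.pc).resolve_left fun k => ?_)
    exact (h'.inv z (k ▸ e h4) h.rqh_zz).elim h.rqh_z1 (Ne.symm ne)
  · have k : cj z (LZ u) = LZ u := mem_normalizer_iff_cj.1 (h'.nrm zu)
    exact (three_pc h.sr hK.pc (hK.pc.cj_mem zu) h'.pc (fun k1 => e.1 (mem_normalizer_iff_cj.2 k1.symm))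
      (fun k1 => e.1 (k1 ▸ h'.nrm zu)) fun k1 => e.1 (cj_injective z (k1.trans k.symm) ▸ h'.nrm zu)).elim

end CfsgLib.GHE
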