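import Mathlib
import Cfsg.Agent.Lib.GHE.Defs
import Cfsg.Agent.Lib.GHE.Defs2
import Cfsg.Agent.Lib.Sz.Models
import Cfsg.Agent.Lib.Sz.Sylow
import Cfsg.Agent.Lib.Sz.Aut
import Cfsg.Agent.Lib.Sect.Tools

/-! Block SZ, part a: the frame of a component of type `Sz(8)`. -/

set_option autoImplicit false
set_option linter.unusedSectionVars false
set_option linter.style.haveILetI false
set_option linter.unusedVariables false

namespace CfsgLib.GHE.Sz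

open Subgroup Cfsg CfsgLib.W2 CfsgLib.Tech CfsgLib.Sect CfsgLib.PComp CfsgLib.Sz
open CfsgLib.LBal hiding cj
open scoped commutatorElement

universe u

variable {G : Type u} [Group G] [Finite G]

theorem syl_subn {T K H : Subgroup G} (hT : IsSylowIn 2 T H) (h : SubnIn K H) :
    IsSylowIn 2 (T ⊓ K) K := by
  haveI := Fact.mk Nat.prime_two
  refine h.induction_on (P := fun A => IsSylowIn 2 (T ⊓ A) A) ?_ fun A B hAB _ hn hB => ?_
  · rwa [inf_eq_left.mpr hT.le]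
  · have := hB.inf_of_le_normalizer hn
    rwa [inf_assoc, inf_eq_right.mpr hAB] at this

theorem le_relIndex {β : Type*} (A K : Subgroup G) (f : β → G) (hf : ∀ b, f b ∈ A)
    (inj : ∀ b c, (f b)⁻¹ * f c ∈ K → b = c) : Nat.card β ≤ K.relIndex A :=
  Nat.card_le_card_of_injective (fun b => ((⟨f b, hf b⟩ : A) : A ⧸ K.subgroupOf A))
    fun b c e => inj b c ((QuotientGroup.eq (s := K.subgroupOf A)).1 e)

theorem mem_Cx {a y : G} : a ∈ Cx y ↔ a * y = y * a := mem_centralizer_singleton_iff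

theorem mem_cmod_of_perfect {L : Subgroup G} (hL : ⁅L, L⁆ = L) {g : G}
    (hg : g ∈ normalizer (L : Set G)) (h : ∀ l ∈ L, ⁅g, l⁆ ∈ LBal.cmod 2 L) :
    g ∈ LBal.cmod 2 L := by
  have cO : ∀ l ∈ L, ∀ o ∈ opOf 2 L, l * o * l⁻¹ ∈ opOf 2 L := fun l hl o ho =>
    conj_mem_of_mem_normalizer (le_normalizer_opOf L hl) ho
  have cm : ∀ a ∈ L, ∀ b ∈ L, ⁅a, b⁆ ∈ L := fun a ha b hb =>
    mul_mem (mul_mem (mul_mem ha hb) (inv_mem ha)) (inv_mem hb)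
  have gL : ∀ l ∈ L, ⁅g, l⁆ ∈ L := fun l hl =>
    mul_mem (conj_mem_of_mem_normalizer hg hl) (inv_mem hl)
  let V : Subgroup G :=
    { carrier := {l | l ∈ L ∧ ⁅g, l⁆ ∈ opOf 2 L}
      one_mem' := ⟨one_mem _, by simp⟩
      mul_mem' := fun {a b} ha hb => ⟨mul_mem ha.1 hb.1, by
        have e : ⁅g, a * b⁆ = ⁅g, a⁆ * (a * ⁅g, b⁆ * a⁻¹) := by
          simp only [commutatorElement_def]; group
        exact e ▸ mul_mem ha.2 (cO a ha.1 _ hb.2)⟩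
      inv_mem' := fun {a} ha => ⟨inv_mem ha.1, by
        have e : ⁅g, a⁻¹⁆ = a⁻¹ * ⁅g, a⁆⁻¹ * a⁻¹⁻¹ := by
          simp only [commutatorElement_def]; group
        exact e ▸ cO _ (inv_mem ha.1) _ (inv_mem ha.2)⟩ }
  have : ⁅L, L⁆ ≤ V := commutator_le.2 fun l hl m hm => ⟨cm l hl m hm, by
    have e : ⁅g, ⁅l, m⁆⁆ = ⁅⁅g, l⁆, ⁅l, ⁅g, m⁆ * m⁆⁆ * ⁅⁅g, m⁆, l⁆⁻¹ * ⁅⁅g, m⁆, ⁅l, m⁆⁆ *
        (⁅l, m⁆ * ⁅⁅g, l⁆, ⁅g, m⁆ * m⁆ * ⁅l, m⁆⁻¹) := by
      simp only [commutatorElement_def]; group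
    have dm := mul_mem (gL m hm) hm
    exact e ▸ mul_mem (mul_mem (mul_mem ((h l hl).2 _ (cm _ hl _ dm)) (inv_mem ((h m hm).2 _ hl)))
      ((h m hm).2 _ (cm _ hl _ hm))) (cO _ (cm _ hl _ hm) _ ((h l hl).2 _ dm))⟩
  exact ⟨hg, fun l hl => (this (hL.symm ▸ hl)).2⟩

/-- the frame -/
structure Fr {F : Type} [Field F] (τ : Tits F) (y : G) (L T : Subgroup G) (π : G → τ.grp) :
    Prop where
  card : Nat.card F = 8
  sr : SR 16 (⊤ : Subgroup G)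
  ord : orderOf y = 2
  pc : PC 2 L (Cx y)
  syl : IsSylowIn 2 T (Cx y)
  mul : ∀ a ∈ L, ∀ b ∈ L, π (a * b) = π a * π b
  ker : ∀ a ∈ L, π a = 1 ↔ a ∈ LBal.cmod 2 L
  surj : ∀ x, ∃ a ∈ L, π a = x
  img : ∀ a ∈ T ⊓ L, π a ∈ τ.U
  img' : ∀ u ∈ τ.U, ∃ a ∈ T ⊓ L, π a = u
  two : ∀ a ∈ T ⊓ L, π a = 1 → a = 1 ∨ a = y

theorem exists_fr {y : G} {L T : Subgroup G} {X : Type u} [Group X] [Finite X] (κ : L →* X)
    (sr : SR 16 (⊤ : Subgroup G)) (ord : orderOf y = 2) (pc : PC 2 L (Cx y))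
    (syl : IsSylowIn 2 T (Cx y)) (surj : Function.Surjective κ)
    (ker : ∀ l : L, κ l = 1 ↔ (l : G) ∈ LBal.cmod 2 L)
    (two : ∀ a ∈ T ⊓ L, a ∈ LBal.cmod 2 L → a = 1 ∨ a = y) (k : Sz8 X) :
    ∃ (F : Type) (_ : Field F) (_ : Finite F) (τ : Tits F) (π : G → τ.grp), Fr τ y L T π := by
  classical
  haveI := Fact.mk Nat.prime_two
  obtain ⟨F, _, _, hF, ⟨e⟩⟩ := k
  have hF' : Fintype.card F = 2 ^ (2 * 1 + 1) := hF
  have hH := syl_subn syl pc.subn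
  obtain ⟨e', he⟩ := Tits.exists_equiv_sylow ((lieSzEquiv hF').trans e.symm)
    (hH.toSylow.mapSurjective surj)
  have he' : ∀ x, x ∈ (hH.toSylow : Subgroup L).map κ ↔ e'.symm x ∈ (tits hF').U := fun x => by
    have : (hH.toSylow : Subgroup L).map κ = (tits hF').U.map e'.toMonoidHom := he
    rw [this]
    exact ⟨fun ⟨u, hu, h⟩ => by rw [← h]; simpa using hu, fun h => ⟨_, h, by simp⟩⟩
  have k1 : ∀ a (h : a ∈ L), e'.symm (κ ⟨a, h⟩) = 1 ↔ a ∈ LBal.cmod 2 L := fun a h => by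
    rw [← ker ⟨a, h⟩]; simp
  refine ⟨F, inferInstance, inferInstance, tits hF',
    fun a => if h : a ∈ L then e'.symm (κ ⟨a, h⟩) else 1,
    by rw [Nat.card_eq_fintype_card, hF], sr, ord, pc, syl, fun a ha b hb => ?_, fun a ha => ?_,
    fun x => ?_, fun a ha => ?_, fun u hu => ?_, fun a ha h => ?_⟩
  · rw [dif_pos ha, dif_pos hb, dif_pos (mul_mem ha hb), ← map_mul, ← map_mul]; rfl
  · rw [dif_pos ha, k1]
  · obtain ⟨⟨a, ha⟩, h⟩ := surj (e' x)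
    exact ⟨a, ha, by rw [dif_pos ha, h]; simp⟩
  · rw [dif_pos (mem_inf.1 ha).2]
    exact (he' _).1 ⟨⟨a, ha.2⟩, hH.mem_toSylow.2 ha, rfl⟩
  · obtain ⟨⟨a, ha⟩, h1, h⟩ := (he' (e' u)).2 (by simpa using hu)
    exact ⟨a, hH.mem_toSylow.1 h1, by rw [dif_pos ha, h]; simp⟩
  · rw [dif_pos (mem_inf.1 ha).2, k1] at h
    exact two a ha h

variable {F : Type} [Field F] [Finite F] {τ : Tits F} {y : G} {L T : Subgroup G} {π : G → τ.grp}

theorem exists_third (τ : Tits F) (c8 : Nat.card F = 8) (a b : F) :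
    ∃ c, c ≠ 0 ∧ c ≠ a ∧ c ≠ b ∧ c ≠ a + b := by
  classical
  by_contra h
  push Not at h
  haveI := Fintype.ofFinite F
  have : (Finset.univ : Finset F) ⊆ {0, a, b, a + b} := fun c _ => by
    by_cases h0 : c = 0
    · simp [h0]
    by_cases h1 : c = a
    · simp [h1]
    by_cases h2 : c = b
    · simp [h2]
    simp [h c h0 h1 h2]
  have h1 := (Finset.card_le_card this).trans Finset.card_le_four
  rw [Finset.card_univ, ← Nat.card_eq_fintype_card, c8] at h1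
  omega

theorem span3 (τ : Tits F) (c8 : Nat.card F = 8) {a b c : F} (a0 : a ≠ 0) (b0 : b ≠ 0) (ab : a ≠ b)
    (c0 : c ≠ 0) (ca : c ≠ a) (cb : c ≠ b) (cab : c ≠ a + b) {d : F} (d0 : d ≠ 0) (da : d ≠ a)
    (db : d ≠ b) (dab : d ≠ a + b) : c + d = 0 ∨ c + d = a ∨ c + d = b ∨ c + d = a + b := by
  classical
  have h2 := τ.two_eq_zero
  by_contra h
  push Not at h
  haveI := Fintype.ofFinite F
  have h0 : ({0, a, b, a + b, c, c + a, c + b, c + a + b, d} : Finset F).card = 9 := by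
    iterate 8 rw [Finset.card_insert_of_notMem (by
      simp only [Finset.mem_insert, Finset.mem_singleton, not_or]
      repeat' apply And.intro
      all_goals grind)]
    simp
  have h1 := Finset.card_le_univ ({0, a, b, a + b, c, c + a, c + b, c + a + b, d} : Finset F)
  rw [← Nat.card_eq_fintype_card, c8, h0] at h1
  omega

namespace Fr

variable (h : Fr τ y L T π)
include h

theorem ht : ∃ t : F, t ≠ 0 ∧ t ≠ 1 :=
  let ⟨c, h0, h1, _⟩ := exists_third τ h.card 1 1; ⟨c, h0, h1⟩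

theorem yy : y * y = 1 := mul_self_of_orderOf_two h.ord
theorem y1 : y ≠ 1 := ne_one_of_orderOf_two h.ord
theorem yinv : y⁻¹ = y := inv_eq_of_orderOf_two h.ord
theorem Ly {a : G} (ha : a ∈ L) : a * y = y * a := mem_Cx.1 (h.pc.le ha)
theorem Ty {a : G} (ha : a ∈ T) : a * y = y * a := mem_Cx.1 (h.syl.le ha)
theorem yc : y ∈ LBal.cmod 2 L := centralizer_le_cmod L (mem_cent'.2 fun _ ha => h.Ly ha)

theorem yT : y ∈ T := by
  haveI := Fact.mk Nat.prime_two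
  refine h.syl.le_of_le_normalizer (isPGroup_two_zpowers h.yy) (zpowers_le.2 (mem_Cx.2 rfl))
    (fun c hc => mem_normalizer_of_forall fun x hx => ?_) (mem_zpowers y)
  obtain ⟨k, rfl⟩ := hx
  have : Commute c y := mem_Cx.1 hc
  simp only [(this.zpow_right k).eq, mul_inv_cancel_right]
  exact ⟨k, rfl⟩

theorem one : π 1 = 1 := (h.ker 1 (one_mem _)).2 (one_mem _)

theorem inv {a : G} (ha : a ∈ L) : π a⁻¹ = (π a)⁻¹ :=
  eq_inv_of_mul_eq_one_left (by rw [← h.mul _ (inv_mem ha) _ ha, inv_mul_cancel, h.one])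

theorem conj {a b : G} (ha : a ∈ L) (hb : b ∈ L) : π (a * b * a⁻¹) = π a * π b * (π a)⁻¹ := by
  rw [h.mul _ (mul_mem ha hb) _ (inv_mem ha), h.mul _ ha _ hb, h.inv ha]

theorem cm {a b : G} (ha : a ∈ L) (hb : b ∈ L) : π ⁅a, b⁆ = ⁅π a, π b⁆ := by
  rw [commutatorElement_def, h.mul _ (mul_mem (mul_mem ha hb) (inv_mem ha)) _ (inv_mem hb),
    h.conj ha hb, h.inv hb, commutatorElement_def]

theorem eq_iff {a b : G} (ha : a ∈ L) (hb : b ∈ L) : π a = π b ↔ a⁻¹ * b ∈ LBal.cmod 2 L := by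
  rw [← h.ker _ (mul_mem (inv_mem ha) hb), h.mul _ (inv_mem ha) _ hb, h.inv ha, inv_mul_eq_one]

theorem eq_or {a b : G} (ha : a ∈ T ⊓ L) (hb : b ∈ T ⊓ L) (e : π a = π b) : b = a ∨ b = a * y := by
  have := h.two _ (mul_mem (inv_mem ha) hb)
    ((h.ker _ (mul_mem (inv_mem ha.2) hb.2)).2 ((h.eq_iff ha.2 hb.2).1 e))
  rwa [inv_mul_eq_one, eq_comm, inv_mul_eq_iff_eq_mul] at this

/-- the preimage of the centre -/
def Fs : Subgroup G where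
  carrier := {a | a ∈ T ⊓ L ∧ π a ∈ τ.Z}
  one_mem' := ⟨one_mem _, h.one ▸ one_mem _⟩
  mul_mem' ha hb := ⟨mul_mem ha.1 hb.1, h.mul _ ha.1.2 _ hb.1.2 ▸ mul_mem ha.2 hb.2⟩
  inv_mem' ha := ⟨inv_mem ha.1, h.inv ha.1.2 ▸ inv_mem ha.2⟩

theorem mem_Fs {a : G} : a ∈ h.Fs ↔ a ∈ T ⊓ L ∧ π a ∈ τ.Z := Iff.rfl

theorem exF (d : F) : ∃ f ∈ h.Fs, π f = τ.S 0 d :=
  let ⟨f, hf, e⟩ := h.img' _ (τ.S_mem_U 0 d); ⟨f, ⟨hf, e ▸ τ.S_mem_Z d⟩, e⟩

theorem sq_mem {a : G} (ha : a ∈ T ⊓ L) : a * a ∈ h.Fs := by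
  obtain ⟨u, v, e⟩ := h.img a ha
  exact ⟨mul_mem ha ha, by rw [h.mul _ ha.2 _ ha.2, e, τ.S_sq]; exact τ.S_mem_Z _⟩

theorem cm_mem {a b : G} (ha : a ∈ T ⊓ L) (hb : b ∈ T ⊓ L) : ⁅a, b⁆ ∈ h.Fs := by
  obtain ⟨u, v, e⟩ := h.img a ha
  obtain ⟨u', v', e'⟩ := h.img b hb
  refine ⟨mul_mem (mul_mem (mul_mem ha hb) (inv_mem ha)) (inv_mem hb), ?_⟩
  rw [h.cm ha.2 hb.2, e, e', τ.S_commutator]; exact τ.S_mem_Z _

theorem trans {f f' : G} (hf : f ∈ h.Fs) (hf' : f' ∈ h.Fs) (n1 : π f ≠ 1) (n2 : π f' ≠ 1) :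
    ∃ n ∈ L, n ∈ normalizer ((T ⊓ L : Subgroup G) : Set G) ∧
      (f' = n * f * n⁻¹ ∨ f' = n * f * n⁻¹ * y) := by
  haveI := Fact.mk Nat.prime_two
  obtain ⟨b, eb⟩ := hf.2
  obtain ⟨d, ed⟩ := hf'.2
  obtain ⟨k, hk⟩ := τ.exists_M_conj_S_zero (b := b) (d := d)
    (fun e => n1 (by rw [eb, e, τ.S_zero])) (fun e => n2 (by rw [ed, e, τ.S_zero]))
  obtain ⟨n₀, hn₀, e₀⟩ := h.surj (τ.M k)
  let W : Subgroup G :=
    { carrier := {a | a ∈ L ∧ π a ∈ τ.U}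
      one_mem' := ⟨one_mem _, h.one ▸ one_mem _⟩
      mul_mem' := fun ha hb => ⟨mul_mem ha.1 hb.1, h.mul _ ha.1 _ hb.1 ▸ mul_mem ha.2 hb.2⟩
      inv_mem' := fun ha => ⟨inv_mem ha.1, h.inv ha.1 ▸ inv_mem ha.2⟩ }
  have hW : IsSylowIn 2 (T ⊓ L) W :=
    (syl_subn h.syl h.pc.subn).of_le (fun a ha => ⟨ha.2, h.img a ha⟩) fun a ha => ha.1
  obtain ⟨w, hw, hn⟩ := hW.frattini (g := n₀) (mem_normalizer_of_forall fun x hx =>
    ⟨mul_mem (mul_mem hn₀ hx.1) (inv_mem hn₀), by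
      rw [h.conj hn₀ hx.1, e₀]; exact Tits.conj_mem_U (τ.M_mem_B k) hx.2⟩)
  have hL : w * n₀ ∈ L := mul_mem hw.1 hn₀
  refine ⟨w * n₀, hL, hn, h.eq_or (conj_mem_of_mem_normalizer hn hf.1) hf'.1 ?_⟩
  rw [h.conj hL hf.1.2, h.mul _ hw.1 _ hn₀, e₀, eb, ed]
  have : π w * τ.M k * τ.S 0 b * (π w * τ.M k)⁻¹ = π w * τ.S 0 d * (π w)⁻¹ := by
    rw [← hk]; group
  rw [this, ← Tits.comm_of_mem_Z (τ.S_mem_Z d) hw.2, mul_inv_cancel_right]

theorem el {f : G} (hf : f ∈ h.Fs) : f * f = 1 := by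
  have sq : ∀ f ∈ h.Fs, f * f = 1 ∨ f * f = y := fun f hf =>
    h.two _ (mul_mem hf.1 hf.1) (by rw [h.mul _ hf.1.2 _ hf.1.2]; exact (Tits.mem_Z_iff'.1 hf.2).2)
  refine (sq f hf).resolve_right fun e => ?_
  have n1 : π f ≠ 1 := fun e1 => h.y1 (by
    rcases h.two f hf.1 e1 with e2 | e2
    · rw [← e, e2, one_mul]
    · rw [← e, e2, h.yy])
  have all : ∀ a ∈ h.Fs, ∀ d, d ≠ 0 → π a = τ.S 0 d → a * a = y := fun a ha d hd ea => by
    obtain ⟨n, hn, -, e2⟩ := h.trans hf ha n1 (by rw [ea, Ne, τ.S_eq_one]; exact fun e => hd e.2)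
    have e3 : n * f * n⁻¹ * (n * f * n⁻¹) = y := by
      rw [conj_mul, e, h.Ly hn, mul_inv_cancel_right]
    rcases e2 with rfl | rfl
    · exact e3
    · have := h.Ly (mul_mem (mul_mem hn hf.1.2) (inv_mem hn))
      rw [mul_assoc _ y, ← mul_assoc y, ← this, mul_assoc _ y, h.yy, mul_one, e3]
  obtain ⟨t, t0, t1⟩ := h.ht
  obtain ⟨s, s0, s1, st, s2⟩ := exists_third τ h.card 1 t
  obtain ⟨a, ha, ea⟩ := h.exF 1
  obtain ⟨b, hb, eb⟩ := h.exF t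
  obtain ⟨c, hc, ec⟩ := h.exF s
  have h2 := τ.two_eq_zero
  have m : ∀ a ∈ h.Fs, ∀ b ∈ h.Fs, ∀ u v, π a = τ.S 0 u → π b = τ.S 0 v →
      π (a * b) = τ.S 0 (u + v) := fun a ha b hb u v e1 e2 => by
    rw [h.mul _ ha.1.2 _ hb.1.2, e1, e2, τ.S_zero_mul]
  have aa := all a ha _ one_ne_zero ea
  have bb := all b hb _ t0 eb
  have cc := all c hc _ s0 ec
  have ab := all _ (mul_mem ha hb) _ (by grind) (m a ha b hb _ _ ea eb)
  have ac := all _ (mul_mem ha hc) _ (by grind) (m a ha c hc _ _ ea ec)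
  have bc := all _ (mul_mem hb hc) _ (by grind) (m b hb c hc _ _ eb ec)
  have abc := all _ (mul_mem (mul_mem ha hb) hc) _ (by grind)
    (m _ (mul_mem ha hb) c hc _ _ (m a ha b hb _ _ ea eb) ec)
  have e1 : b * a * b = a := mul_left_cancel (a := a) (by rw [aa, ← ab]; group)
  have e2 : c * a * c = a := mul_left_cancel (a := a) (by rw [aa, ← ac]; group)
  have e3 : c * b * c = b := mul_left_cancel (a := b) (by rw [bb, ← bc]; group)
  have e4 : a * b * c * (a * b * c) =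
      a * (b * (c * a * c) * (c * c)⁻¹ * (c * b * c)) := by group
  rw [abc, e2, e3, cc, h.yinv, mul_assoc _ y, ← h.Ly hb.1.2, ← mul_assoc _ b, e1, ← mul_assoc, aa,
    h.yy] at e4
  exact h.y1 e4

theorem comm {a r : G} (ha : a ∈ T ⊓ L) (hr : r ∈ T ⊓ LBal.cmod 2 L) : a * r = r * a := by
  haveI := Fact.mk Nat.prime_two
  have : ⁅r, a⁆ ∈ T ⊓ opOf 2 L :=
    ⟨T.mul_mem (T.mul_mem (T.mul_mem hr.1 ha.1) (T.inv_mem hr.1)) (T.inv_mem ha.1),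
      LBal.mem_cmod.1 hr.2 a ha.2⟩
  rw [isPGroup_inf_opOf h.syl.pgroup, mem_bot, commutatorElement_eq_one_iff_mul_comm] at this
  exact this.symm

theorem uniq {r : G} (hr : r ∈ T ⊓ LBal.cmod 2 L) (rr : r * r = 1) : r = 1 ∨ r = y := by
  by_contra hc
  push Not at hc
  have ry := h.Ty hr.1
  have cV : ∀ a ∈ zpowers y, ∀ b ∈ zpowers r, a * b = b * a := by
    rintro _ ⟨i, rfl⟩ _ ⟨j, rfl⟩
    exact (Commute.zpow_zpow ry.symm i j).eq
  have VR : zpowers y ⊔ zpowers r ≤ T ⊓ LBal.cmod 2 L :=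
    sup_le (zpowers_le.2 ⟨h.yT, h.yc⟩) (zpowers_le.2 hr)
  have V2 : ∀ v ∈ zpowers y ⊔ zpowers r, v * v = 1 := fun v hv => by
    obtain ⟨a, ha, b, hb, rfl⟩ := (mem_sup_of_comm cV).1 hv
    rw [mul_assoc, ← mul_assoc b, ← cV a ha b hb, mul_assoc, ← mul_assoc]
    rcases (mem_zpowers_two h.yy).1 ha with rfl | rfl <;>
      rcases (mem_zpowers_two rr).1 hb with rfl | rfl <;> simp [h.yy, rr]
  have cA : ∀ a ∈ h.Fs, ∀ b ∈ zpowers y ⊔ zpowers r, a * b = b * a :=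
    fun a ha b hb => h.comm ha.1 (VR hb)
  have h1 := h.sr.card_le (A := h.Fs ⊔ (zpowers y ⊔ zpowers r)) le_top fun v hv => by
    obtain ⟨a, ha, b, hb, rfl⟩ := (mem_sup_of_comm cA).1 hv
    rw [mul_assoc, ← mul_assoc b, ← cA a ha b hb, mul_assoc, V2 b hb, mul_one, h.el ha]
  choose σ hσ eσ using h.exF
  have h2 := le_relIndex (h.Fs ⊔ (zpowers y ⊔ zpowers r)) (LBal.cmod 2 L) σ
    (fun d => mem_sup_left (hσ d)) fun b c e => by
      have := (h.eq_iff (hσ b).1.2 (hσ c).1.2).2 e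
      rw [eσ, eσ] at this
      exact (τ.S_inj this).2
  have h3 := two_mul_card_le (K := zpowers y)
    (H := LBal.cmod 2 L ⊓ (h.Fs ⊔ (zpowers y ⊔ zpowers r)))
    (zpowers_le.2 ⟨h.yc, mem_sup_right (mem_sup_left (mem_zpowers y))⟩) fun e =>
      ((mem_zpowers_two h.yy).1 (e ⟨hr.2, mem_sup_right (mem_sup_right (mem_zpowers r))⟩)).elim
        hc.1 hc.2
  rw [card_zpowers_two h.yy h.y1] at h3
  rw [card_eq_relIndex (LBal.cmod 2 L)] at h1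
  rw [h.card] at h2
  nlinarith

theorem nrm : T ≤ normalizer (L : Set G) := fun c hc => by
  haveI := Fact.mk Nat.prime_two
  have h1 := h.pc.conj c
  rw [map_conj_centralizer_singleton, h.Ty hc, mul_inv_cancel_right] at h1
  rcases h.pc.eq_or_commutator_le h1 with e | e
  · exact mem_normalizer_iff_map.2 e.symm
  obtain ⟨f, hf, ef⟩ := h.exF 1
  have h2 := h.uniq (r := c * f * c⁻¹) ⟨T.mul_mem (T.mul_mem hc hf.1.1) (inv_mem hc),
    le_cmod_iff.2 e (conj_mem_map c hf.1.2)⟩ (by rw [conj_mul, h.el hf]; simp)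
  refine absurd (ef ▸ (h.ker f hf.1.2).2 ?_) τ.S_zero_one_ne_one
  rcases h2 with e1 | e1
  · rw [conj_eq_one_iff] at e1
    exact e1 ▸ one_mem _
  · rw [mul_inv_eq_iff_eq_mul, ← h.Ty hc, mul_right_inj] at e1
    exact e1 ▸ h.yc

theorem nrmR {c r : G} (hc : c ∈ T) (hr : r ∈ T ⊓ LBal.cmod 2 L) :
    c * r * c⁻¹ ∈ T ⊓ LBal.cmod 2 L :=
  ⟨T.mul_mem (T.mul_mem hc hr.1) (inv_mem hc),
    conj_mem_of_mem_normalizer (normalizer_le_normalizer_cmod L (h.nrm hc)) hr.2⟩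

theorem dec {t : G} (ht : t ∈ T) : ∃ a ∈ T ⊓ L, ∃ r ∈ T ⊓ LBal.cmod 2 L, t = a * r := by
  haveI := Fact.mk Nat.prime_two
  have hn := h.nrm ht
  have cL : ∀ a ∈ L, t * a * t⁻¹ ∈ L := fun a ha => conj_mem_of_mem_normalizer hn ha
  choose s hs es using h.surj
  have wd : ∀ a ∈ L, π (t * s (π a) * t⁻¹) = π (t * a * t⁻¹) := fun a ha => by
    rw [h.eq_iff (cL _ (hs _)) (cL _ ha), conj_inv, conj_mul]
    exact conj_mem_of_mem_normalizer (normalizer_le_normalizer_cmod L hn)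
      ((h.eq_iff (hs _) ha).1 (es _))
  let φ₀ : τ.grp →* τ.grp := MonoidHom.mk' (fun x => π (t * s x * t⁻¹)) fun x x' => by
    rw [← h.mul _ (cL _ (hs _)) _ (cL _ (hs _)), conj_mul, ← wd _ (mul_mem (hs x) (hs x')),
      h.mul _ (hs _) _ (hs _), es, es]
  have sj : Function.Surjective φ₀ := fun x =>
    ⟨π (t⁻¹ * s x * t), (wd _ (conj_mem_of_mem_normalizer' hn (hs x))).trans (by
      simp only [mul_assoc, mul_inv_cancel, mul_one, mul_inv_cancel_left, es])⟩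
  let φ : MulAut τ.grp := MulEquiv.ofBijective φ₀ ⟨Finite.injective_iff_surjective.2 sj, sj⟩
  have hφ : ∀ a ∈ L, φ (π a) = π (t * a * t⁻¹) := wd
  have hp : ∀ n : ℕ, ∀ a ∈ L, (φ ^ n) (π a) = π (t ^ n * a * (t ^ n)⁻¹) := fun n => by
    induction n with
    | zero => simp
    | succ n ih =>
      intro a ha
      rw [pow_succ, MulAut.mul_apply, hφ a ha, ih _ (cL a ha), pow_succ]
      congr 1; group
  obtain ⟨k, hk⟩ := isPGroup_iff_mem.1 h.syl.pgroup t ht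
  have p1 : φ ^ 2 ^ k = 1 := MulEquiv.ext fun x => by
    rw [← es x, hp _ _ (hs x), hk]; simp
  obtain ⟨x, α, e⟩ := Tits.exists_eq_conj_mul_fieldAut h.ht φ
  have a3 : α ^ 3 = 1 := by
    rw [← card_ringEquiv (F := F) (p := 2) (n := 3) h.card]; exact pow_card_eq_one'
  have q1 : (QuotientGroup.mk' (Inn τ.grp)) φ = QuotientGroup.mk' (Inn τ.grp) (τ.fieldAut α) := by
    rw [e, map_mul, QuotientGroup.mk'_apply,
      (QuotientGroup.eq_one_iff (N := Inn τ.grp) _).2 ⟨x, rfl⟩, one_mul]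
  have q2 : (QuotientGroup.mk' (Inn τ.grp)) φ = 1 :=
    (pow_eq_one_iff_of_coprime (m := 2 ^ k) (n := 3) (Nat.Coprime.pow_left k (by norm_num))).1
      ⟨by rw [← map_pow, p1, map_one], by rw [q1, ← map_pow, ← map_pow, a3, map_one, map_one]⟩
  obtain ⟨x, e⟩ := (QuotientGroup.eq_one_iff (N := Inn τ.grp) _).1 q2
  have ex : ∀ a ∈ L, π (t * a * t⁻¹) = x * π a * x⁻¹ := fun a ha => by rw [← hφ a ha, ← e]; rfl
  have xB : x ∈ τ.B := by
    rw [← τ.normalizer_U]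
    refine mem_normalizer_of_forall fun u hu => ?_
    obtain ⟨a, ha, rfl⟩ := h.img' u hu
    rw [← ex a ha.2]
    exact h.img _ ⟨T.mul_mem (T.mul_mem ht ha.1) (inv_mem ht), cL a ha.2⟩
  have cx : ∀ w, x ^ 2 ^ k * w = w * x ^ 2 ^ k := fun w => by
    have : MulAut.conj (x ^ 2 ^ k) w = w := by rw [map_pow, e, p1]; rfl
    exact mul_inv_eq_iff_eq_mul.1 this
  obtain ⟨a, ha, rfl⟩ := h.img' x (Tits.mem_U_of_pow xB (Tits.eq_one_of_comm_S_T (cx _) (cx _)))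
  replace ha := mem_inf.1 ha
  refine ⟨a, ha, a⁻¹ * t, ⟨T.mul_mem (inv_mem ha.1) ht, mem_cmod_of_perfect h.pc.perfect
    (mul_mem (le_normalizer (inv_mem ha.2)) hn) fun l hl => ?_⟩, by simp⟩
  have e1 : ⁅a⁻¹ * t, l⁆ = a⁻¹ * (t * l * t⁻¹) * a⁻¹⁻¹ * l⁻¹ := by
    simp only [commutatorElement_def]; group
  have m1 := mul_mem (mul_mem (inv_mem ha.2) (cL l hl)) (inv_mem (inv_mem ha.2))
  rw [e1, ← h.ker _ (mul_mem m1 (inv_mem hl)), h.mul _ m1 _ (inv_mem hl),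
    h.conj (inv_mem ha.2) (cL l hl), ex l hl, h.inv ha.2, h.inv hl]
  group

theorem om {x : G} (hx : x ∈ T) (xx : x * x = 1) : ∃ f ∈ h.Fs, x = f ∨ x = f * y := by
  obtain ⟨a, ha, r, hr, rfl⟩ := h.dec hx
  rw [mul_assoc, ← mul_assoc r, ← h.comm ha hr, mul_assoc, ← mul_assoc] at xx
  have h1 : π (a * a) = 1 := (h.ker _ (mul_mem ha.2 ha.2)).2 (by
    rw [eq_inv_of_mul_eq_one_left xx]; exact Subgroup.inv_mem _ (Subgroup.mul_mem _ hr.2 hr.2))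
  rw [h.mul _ ha.2 _ ha.2] at h1
  have hF : a ∈ h.Fs := ⟨ha, Tits.mem_Z_iff'.2 ⟨h.img a ha, h1⟩⟩
  rw [h.el hF, one_mul] at xx
  refine ⟨a, hF, (h.uniq hr xx).imp ?_ ?_⟩ <;> rintro rfl <;> simp

theorem om_comm {a b : G} (ha : a ∈ T) (hb : b ∈ T) (aa : a * a = 1) (bb : b * b = 1) :
    a * b = b * a := by
  obtain ⟨f, hf, e⟩ := h.om ha aa
  obtain ⟨f', hf', e'⟩ := h.om hb bb
  have c : Commute f f' := comm_of_sq (fun x hx => h.el hx) hf hf'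
  have c1 : Commute f y := h.Ty hf.1.1
  have c2 : Commute y f' := (h.Ty hf'.1.1).symm
  rcases e with rfl | rfl <;> rcases e' with rfl | rfl
  exacts [c, c.mul_right c1, c.mul_left c2, (c.mul_right c1).mul_left (c2.mul_right rfl)]

end Fr

end CfsgLib.GHE.Sz
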