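import Mathlib
import Cfsg.Agent.Lib.GHE.RQh
import Cfsg.Agent.Lib.GHE.ApiA
import Cfsg.Agent.Lib.GHE.Sza

/-! Block RQ, package RQB: the fusion data.  See `plans/GHE_RQ.md`. -/

set_option autoImplicit false
set_option linter.unusedSectionVars false

namespace CfsgLib.GHE

open Subgroup Cfsg CfsgLib.W2 CfsgLib.Tech CfsgLib.Sect CfsgLib.PComp CfsgLib.DihSyl
  CfsgLib.GW.Cor
open CfsgLib.LBal hiding cj
open scoped MatrixGroups commutatorElement

universe u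

variable {G : Type u} [Group G] [Finite G]
variable {S M : Subgroup G} {Λ : G → Subgroup G} {m : ℕ} {a b z u v w i β θ x g : G}

theorem rqb_odd {L : Subgroup G} (hx : x ∈ L) (hc : x ∈ LBal.cmod 2 L) (o : Odd (orderOf x)) : x ∈ opOf 2 L := by
  have c := (piO_mem_center ⟨x, hx⟩).2 hc
  have : (zpowers (piO 2 L ⟨x, hx⟩)).Normal := ⟨fun n hn g => by
    rw [mem_center_iff.1 (zpowers_le.2 c hn) g, mul_inv_cancel_right]; exact hn⟩
  have := Core.le_pPrimeCore (p := 2) (N := zpowers (piO 2 L ⟨x, hx⟩)) (Nat.coprime_two_right.2 (by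
    rw [Nat.card_zpowers]
    exact o.of_dvd_nat ((orderOf_map_dvd _ _).trans (orderOf_mk _ _).dvd))) (mem_zpowers _)
  rw [pPrimeCore_quotient, mem_bot] at this
  exact (mem_opOf_iff (x := ⟨x, hx⟩)).2 ((QuotientGroup.eq_one_iff _).1 this)

/-- the `Z*`-theorem modulo `cmod` -/
theorem rqb_z {L D : Subgroup G} (pq : IsPQs 2 L) (hD : IsSylowIn 2 D L) (nD : ¬ D ≤ LBal.cmod 2 L)
    (n : x ∈ normalizer (L : Set G)) (x2 : IsPGroup 2 (zpowers x)) (c : D ≤ Cx x) (xx : x * x ∈ LBal.cmod 2 L)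
    (iso : ∀ l ∈ L, ∀ δ ∈ D, δ⁻¹ * (l * x * l⁻¹ * x⁻¹) ∈ LBal.cmod 2 L → δ ∈ LBal.cmod 2 L) :
    x ∈ LBal.cmod 2 L := by
  by_contra hx
  have hH : L ⊔ zpowers x ≤ normalizer (L : Set G) := sup_le le_normalizer (zpowers_le.2 n)
  have nM := normalizer_le_normalizer_cmod (p := 2) L
  have : ((LBal.cmod 2 L).subgroupOf (L ⊔ zpowers x)).Normal := normal_subgroupOf_of_le_normalizer (hH.trans nM)
  obtain ⟨f, hf, kf⟩ : ∃ f : (L ⊔ zpowers x : Subgroup G) →* _ ⧸ (LBal.cmod 2 L).subgroupOf (L ⊔ zpowers x),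
      Function.Surjective f ∧ ∀ a, f a = 1 ↔ (a : G) ∈ LBal.cmod 2 L :=
    ⟨QuotientGroup.mk' _, QuotientGroup.mk'_surjective _, fun a => QuotientGroup.eq_one_iff a⟩
  obtain ⟨T, hT, le⟩ := exists_isSylowIn_ge (H := L ⊔ zpowers x) (Q := D ⊔ zpowers x)
    (hD.pgroup.to_sup_of_normal_right' x2 fun y hy => mem_normalizer_of_forall (by
        rintro _ ⟨i, rfl⟩
        rw [((show Commute y x from mem_Cx.1 (c hy)).zpow_right i).eq, mul_inv_cancel_right]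
        exact ⟨i, rfl⟩)) (sup_le_sup_right hD.le _)
  have xT := le (mem_sup_right (mem_zpowers x))
  have xH := hT.le xT
  have cL : ∀ l ∈ L, l * x * l⁻¹ * x⁻¹ ∈ L := fun l hl => by
    simpa [mul_assoc] using mul_mem hl (conj_mem_of_mem_normalizer n (inv_mem hl))
  have is := ZStar.isIsolatedInvolution_of_sylow (hT.toSylow.mapSurjective hf) (u := f ⟨x, xH⟩)
    (ord_two (by rw [← map_mul, kf]; exact xx) fun e => hx ((kf _).1 e)) ⟨_, hT.mem_toSylow.2 xT, rfl⟩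
    fun g hg => by
      obtain ⟨g, rfl⟩ := hf g
      obtain ⟨t, ht, e⟩ := hg
      obtain ⟨l, hl, _, ⟨i, rfl⟩, e'⟩ := (Core.mem_sup_of_le_normalizer_left (zpowers_le.2 n)).1 g.2
      have k : (g : G) * x * (g : G)⁻¹ = l * x * l⁻¹ := by rw [← e']; group
      have tT := hT.mem_toSylow.1 ht
      have m1 : (t : G)⁻¹ * (l * x * l⁻¹) ∈ LBal.cmod 2 L := by
        rw [← k]
        refine (kf (t⁻¹ * (g * ⟨x, xH⟩ * g⁻¹))).1 ?_
        rw [map_mul, map_inv, e, map_mul, map_mul, map_inv, inv_mul_cancel]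
      have m2 := conj_mem_of_mem_normalizer (nM n) m1
      obtain ⟨δ, hδ, m3⟩ := exists_syl_mul hD le_normalizer (cmod_le_normalizer L) nM
        (hT.pgroup.to_inf_left (K := L ⊔ LBal.cmod 2 L)) (le_inf (le_sup_left.trans le) (hD.le.trans le_sup_left))
        inf_le_right (x := t * x⁻¹) (mem_inf.2 ⟨mul_mem tT (inv_mem xT), by
          have := mul_mem (mem_sup_left (T := LBal.cmod 2 L) (cL l hl)) (mem_sup_right (inv_mem m2))
          convert this using 1; group⟩)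
      have m4 : δ⁻¹ * (l * x * l⁻¹ * x⁻¹) ∈ LBal.cmod 2 L := by
        convert mul_mem m3 m2 using 1; group
      have m5 := mul_mem (iso l hl δ hδ m4) m4
      rw [mul_inv_cancel_left, ← k] at m5
      have := (kf (g * ⟨x, xH⟩ * g⁻¹ * ⟨x, xH⟩⁻¹)).2 m5
      rwa [map_mul, map_mul, map_mul, map_inv, map_inv, mul_inv_eq_one] at this
  have mem : ∀ (l) (hl : l ∈ L), l ∈ L ⊓ ((pPrimeCore 2 _).comap f).map (L ⊔ zpowers x).subtype ↔
      f ⟨l, mem_sup_left hl⟩ ∈ pPrimeCore 2 _ := fun l hl =>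
    ⟨fun ⟨_, l', h1, h2⟩ => by obtain rfl : (l' : G) = l := h2; exact h1, fun h => ⟨hl, _, h, rfl⟩⟩
  rcases (isPQs_iff.1 pq).2.2.2 (L ⊓ ((pPrimeCore 2 _).comap f).map (L ⊔ zpowers x).subtype) inf_le_left
    (fun l hl => mem_normalizer_of_forall fun y hy => (mem _ (mul_mem (mul_mem hl hy.1) (inv_mem hl))).2 (by
      have := Normal.conj_mem inferInstance _ ((mem y hy.1).1 hy) (f ⟨l, mem_sup_left hl⟩)
      rwa [← map_mul, ← map_inv, ← map_mul] at this)) with e | e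
  · refine nD fun d hd => (kf ⟨d, mem_sup_left (hD.le hd)⟩).1 ?_
    obtain ⟨k, hk⟩ := isPGroup_iff_mem.1 hD.pgroup d hd
    refine ZStar.eq_one_of_odd_of_pow (k := k) ((Nat.coprime_two_right.1 (Core.coprime_card_pPrimeCore 2 _)).of_dvd_nat
      (orderOf_dvd_natCard _ ((mem d (hD.le hd)).1 (e.ge (hD.le hd))))) ?_
    rw [← map_pow, ← map_one f]; congr 1; exact Subtype.ext hk
  · rw [commutator_comm, ← le_cmod_iff] at e
    refine hx (Sz.mem_cmod_of_perfect pq.perfect n fun l hl => e ?_)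
    have m : ⁅x, l⁆ ∈ L := mul_mem (conj_mem_of_mem_normalizer n hl) (inv_mem hl)
    refine (mem _ m).2 ?_
    have := ZStar.zstar is (f ⟨l, mem_sup_left hl⟩)
    rwa [← map_inv, ← map_inv, ← map_mul, ← map_mul, ← map_mul] at this

/-- the elements of order 4 of a perfect group with quaternion Sylow 2-subgroups -/
theorem rqb_four {J D : Subgroup G} (hJ : ⁅J, J⁆ = J) (hD : IsSylowIn 2 D J) (q : Q2 D m a b)
    (cz : J ≤ Cx (a ^ m)) {r : ℤ} (hr : (m : ℤ) = 2 * r) {d : G} (hd : d ∈ D) (dd : d * d = a ^ m) :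
    ∃ j ∈ J, j * d * j⁻¹ = a ^ r := by
  have : ((zpowers (a ^ m)).subgroupOf J).Normal := normal_subgroupOf_of_le_normalizer fun j hj =>
    mem_normalizer_of_forall (by
      rintro _ ⟨i, rfl⟩
      rw [((show Commute j (a ^ m) from mem_Cx.1 (cz hj)).zpow_right i).eq, mul_inv_cancel_right]
      exact ⟨i, rfl⟩)
  obtain ⟨f, hf, kf⟩ : ∃ f : J →* J ⧸ (zpowers (a ^ m)).subgroupOf J,
      Function.Surjective f ∧ ∀ y, f y = 1 ↔ (y : G) ∈ zpowers (a ^ m) :=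
    ⟨QuotientGroup.mk' _, QuotientGroup.mk'_surjective _, fun a => QuotientGroup.eq_one_iff a⟩
  have hp : commutator J = ⊤ := by
    apply map_injective J.subtype_injective
    rw [commutator_def, map_commutator, ← MonoidHom.range_eq_map, range_subtype, hJ]
  have aJ := hD.le q.a_mem
  have bJ := hD.le q.b_mem
  have mem : ∀ y ∈ ((hD.toSylow.mapSurjective hf : Sylow 2 _) : Subgroup _),
      ∃ k : ℤ, y = f ⟨a, aJ⟩ ^ k ∨ y = f ⟨a, aJ⟩ ^ k * f ⟨b, bJ⟩ := by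
    rintro _ ⟨y, hy, rfl⟩
    obtain ⟨k, e | e⟩ := (q.mem _).1 (hD.mem_toSylow.1 hy)
    · exact ⟨k, .inl (by rw [← map_zpow]; congr 1; exact Subtype.ext e)⟩
    · exact ⟨k, .inr (by rw [← map_zpow, ← map_mul]; congr 1; exact Subtype.ext e)⟩
  have eb : f ⟨b, bJ⟩ * f ⟨a, aJ⟩ * (f ⟨b, bJ⟩)⁻¹ = (f ⟨a, aJ⟩)⁻¹ := by
    rw [← map_inv, ← map_inv, ← map_mul, ← map_mul]; congr 1; exact Subtype.ext q.conj
  obtain ⟨g, hg⟩ := PD.ToolsA.thompson_cyclic (fun M hM => by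
      rw [← index_comap_of_surjective M hf] at hM
      have := (M.comap f).normal_of_index_eq_two hM
      have h3 : commutator J ≤ M.comap f := Normal.quotient_commutative_iff_commutator_le.1
        (isCyclic_of_prime_card (p := 2) hM).isMulCommutative
      rw [top_le_iff.1 (hp.ge.trans h3), index_top] at hM
      omega) (BG.isSylowOf_top Nat.prime_two (hD.toSylow.mapSurjective hf)) (S₀ := zpowers (f ⟨a, aJ⟩))
    ⟨zpowers_le.2 ⟨_, hD.mem_toSylow.2 q.a_mem, rfl⟩, fun y hy => mem_normalizer_of_forall (by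
      rintro _ ⟨i, rfl⟩
      obtain ⟨k, rfl | rfl⟩ := mem y hy
      · exact mul_mem (mul_mem ⟨k, rfl⟩ ⟨i, rfl⟩) (inv_mem ⟨k, rfl⟩)
      · simp only [mul_inv_rev]
        rw [mul_assoc _ (f _), mul_assoc, ← mul_assoc (f _ * _), ← conj_zpow, eb, ← mul_assoc]
        exact mul_mem (mul_mem ⟨k, rfl⟩ (zpow_mem (inv_mem (mem_zpowers _)) i)) (inv_mem ⟨k, rfl⟩))⟩
    (p := f ⟨b, bJ⟩) ⟨_, hD.mem_toSylow.2 q.b_mem, rfl⟩ (fun y hy => by
      obtain ⟨k, rfl | rfl⟩ := mem y hy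
      exacts [mem_sup_left ⟨k, rfl⟩, mul_mem (mem_sup_left ⟨k, rfl⟩) (mem_sup_right (mem_zpowers _))])
    (u := f ⟨d, hD.le hd⟩) (ord_two (by rw [← map_mul, kf]; exact dd ▸ mem_zpowers _) fun e => by
      obtain ⟨i, hi⟩ := mem_zpowers_iff.1 ((kf _).1 e)
      have hi : (a ^ m) ^ i = d := hi
      exact q.z1 (by rw [← dd, ← hi, ← (Commute.refl _).mul_zpow, q.zz, one_zpow]))
  obtain ⟨g, rfl⟩ := hf g
  obtain ⟨k, hk⟩ := mem_zpowers_iff.1 hg
  obtain ⟨i, hi⟩ := mem_zpowers_iff.1 ((kf ((⟨a, aJ⟩ ^ k)⁻¹ * (g * ⟨d, hD.le hd⟩ * g⁻¹))).1 (by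
    rw [map_mul, map_inv, map_zpow, hk, map_mul, map_mul, map_inv, inv_mul_cancel]))
  have hi : (a ^ m) ^ i = (a ^ k)⁻¹ * (g * d * (g : G)⁻¹) := hi
  have e : (g : G) * d * (g : G)⁻¹ = a ^ (k + m * i) := by
    rw [zpow_add, zpow_mul, zpow_natCast, hi, mul_inv_cancel_left]
  generalize k + m * i = l at e
  have e2 : a ^ (l + l) = a ^ (m : ℤ) := by
    rw [zpow_add, ← e, conj_mul, dd, mem_Cx.1 (cz g.2), mul_inv_cancel_right, zpow_natCast]
  obtain ⟨s, hs⟩ := q.zeq.1 e2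
  rcases Int.even_or_odd' s with ⟨s, rfl | rfl⟩
  · exact ⟨g, g.2, e.trans (q.zeq.2 ⟨s, by nlinarith⟩)⟩
  · refine ⟨b * g, mul_mem bJ g.2, ?_⟩
    rw [mul_inv_rev, mul_assoc b, mul_assoc b, ← mul_assoc (_ * d), e, ← mul_assoc, q.act_b.zpow]
    exact q.zeq.2 ⟨-s - 1, by nlinarith⟩

theorem RQ.cs' (h : RQ S z) (hx : x ∈ S ⊓ MZ z) : ∀ d ∈ S ⊓ LZ z, x * d = d * x := fun d hd => by
  have h3 : ⁅x, d⁆ ∈ S ⊓ opOf 2 (LZ z) :=
    ⟨S.mul_mem (S.mul_mem (S.mul_mem hx.1 hd.1) (S.inv_mem hx.1)) (S.inv_mem hd.1), mem_cmod.1 hx.2.2 d hd.2⟩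
  rw [isPGroup_inf_opOf h.syl.pgroup] at h3
  exact commutatorElement_eq_one_iff_mul_comm.1 h3

theorem RQ.b_zS (h : RQ S z) : z ∈ S :=
  ((h.syl.of_le h.cen le_top).le_of_normalizes (isPGroup_zpowers_iff.2 ⟨1, h.ord⟩) (zpowers_le.2 (mem_Cx.2 rfl))
    (zpowers_le.2 (mem_normalizer_of_forall fun s hs => by
      rwa [← mem_Cx.1 (h.cen hs), mul_inv_cancel_right]))) (mem_zpowers z)

theorem RQ.b_q (h : RQ S z) : ∃ m a b, Q2 (S ⊓ LZ z) m a b ∧ z = a ^ m ∧ ∀ s ∈ S, ∃ k j, QAct a b s k j := by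
  obtain ⟨m, a, b, hm, q⟩ := h.qt _ h.sylL
  obtain ⟨a, b, q, -, ac⟩ := (q2_of q hm h.sylL.pgroup).exists_norm h.syl.pgroup inf_le_left
    (le_normalizer_inf le_normalizer (h.cen.trans h.nrm))
  exact ⟨m, a, b, q, (q.inv ⟨h.b_zS, h.mem⟩ (sq_of_ord h.ord)).resolve_left fun e => by simpa [e] using h.ord, ac⟩

theorem RQ.b_zM (h : RQ S z) : z ∈ LBal.cmod 2 (LZ z) :=
  centralizer_le_cmod _ fun _ hl => mem_Cx.1 (h.pc.le hl)

theorem RQ.b_cen (h : RQ S z) (hx : x ∈ S ⊓ LZ z) (hc : x ∈ LBal.cmod 2 (LZ z)) : x = 1 ∨ x = z := by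
  obtain ⟨m, a, b, q, hz, -⟩ := h.b_q
  have c := h.cs' ⟨hx.1, h.cen hx.1, hc⟩
  have hm := q.two
  obtain ⟨k, rfl | rfl⟩ := (q.mem x).1 hx
  · refine h.inv _ hx.2 ?_
    have := q.act_b.zpow k
    rw [← c b q.b_mem, mul_inv_cancel_right] at this
    rw [← zpow_add]; nth_rewrite 1 [zpow_add, this]; rw [← zpow_add]; simp
  · have c1 : Commute (a ^ k * b) a := c a q.a_mem
    have c2 := (((Commute.refl a).zpow_left k).inv_left.mul_left c1).eq
    rw [inv_mul_cancel_left] at c2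
    have := q.conj
    rw [c2, mul_inv_cancel_right, ← zpow_neg_one, ← zpow_one a, ← zpow_mul, q.zeq] at this
    have := Int.le_of_dvd (by norm_num) this
    omega

theorem RQ.b_LM (h : RQ S z) (hx : x ∈ LZ z) (hc : x ∈ LBal.cmod 2 (LZ z)) :
    ∃ e, (e = 1 ∨ e = z) ∧ x * e ∈ opOf 2 (LZ z) := by
  obtain ⟨k, n, ⟨j, rfl⟩, e⟩ := Nat.exists_eq_two_pow_mul_odd (orderOf_pos x).ne'
  have h1 : x ^ (2 * j + 1) = 1 ∨ x ^ (2 * j + 1) = z := by
    obtain ⟨l, hl, m⟩ := h.sylL.exists_conj_mem (pow_mem hx (2 * j + 1)) (isPGroup_zpowers_of_pow (k := k)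
      (by rw [← pow_mul, mul_comm, ← e, pow_orderOf_eq_one]))
    rcases h.b_cen m (conj_mem_of_mem_normalizer (normalizer_le_normalizer_cmod _ (le_normalizer hl))
      (pow_mem hc _)) with e' | e'
    · exact .inl (conj_eq_one_iff.1 e')
    · rw [mul_inv_eq_iff_eq_mul, ← mem_Cx.1 (h.pc.le hl)] at e'
      exact .inr (mul_left_cancel e')
  have h2 : x * x ∈ opOf 2 (LZ z) := rqb_odd (mul_mem hx hx) (mul_mem hc hc)
    (Odd.of_dvd_nat ⟨j, rfl⟩ (orderOf_dvd_of_pow_eq_one (by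
      rw [(Commute.refl x).mul_pow]
      rcases h1 with e | e <;> rw [e]
      exacts [one_mul 1, sq_of_ord h.ord])))
  refine ⟨_, h1, ?_⟩
  have := pow_mem h2 (j + 1)
  rwa [← pow_two, ← pow_mul, show 2 * (j + 1) = 2 * j + 1 + 1 from rfl, pow_succ'] at this

theorem RQ.cs (h : RQ S z) (hx : x ∈ S) (hc : ∀ d ∈ S ⊓ LZ z, x * d = d * x) : x ∈ MZ z := by
  refine ⟨h.cen hx, ?_⟩
  obtain ⟨k, hk⟩ := isPGroup_iff_mem.1 h.syl.pgroup x hx
  induction k generalizing x with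
  | zero => rw [pow_zero, pow_one] at hk; rw [hk]; exact one_mem _
  | succ k ih =>
    have xx := ih (mul_mem hx hx) (fun d hd => (show Commute x d from hc d hd).mul_left (hc d hd))
      (by rw [← pow_two, ← pow_mul, ← pow_succ', hk])
    have n := h.nrm (h.cen hx)
    have nO := normalizer_le_normalizer_opOf (p := 2) (LZ z)
    refine rqb_z h.pc.pqs h.sylL (fun le => ?_) n (isPGroup_zpowers_of_mem h.syl.pgroup hx)
      (fun d hd => mem_Cx.2 (hc d hd).symm) xx fun l hl δ hδ m => ?_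
    · obtain ⟨m, a, b, q, hz, -⟩ := h.b_q
      have := q.bb
      rcases h.b_cen q.b_mem (le q.b_mem) with e | e <;> rw [e] at this
      exacts [q.z1 (by rw [← this, one_mul]), q.z1 (by rw [← this, sq_of_ord h.ord])]
    · obtain ⟨e, he, o⟩ := h.b_LM (mul_mem (inv_mem hδ.2) (by
        simpa [mul_assoc] using mul_mem hl (conj_mem_of_mem_normalizer n (inv_mem hl)))) m
      have eD : e ∈ S ⊓ LZ z := by rcases he with rfl | rfl; exacts [one_mem _, ⟨h.b_zS, h.mem⟩]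
      have eM : e ∈ LBal.cmod 2 (LZ z) := by rcases he with rfl | rfl; exacts [one_mem _, h.b_zM]
      obtain ⟨d, hd⟩ : ∃ d, d = δ * e⁻¹ := ⟨_, rfl⟩
      have dD : d ∈ S ⊓ LZ z := hd ▸ mul_mem hδ (inv_mem eD)
      obtain ⟨o', ho⟩ : ∃ o', o' = e * (δ⁻¹ * (l * x * l⁻¹ * x⁻¹) * e) * e⁻¹ := ⟨_, rfl⟩
      have oO : o' ∈ opOf 2 (LZ z) := ho ▸ conj_mem_of_mem_normalizer (nO (le_normalizer eD.2)) o
      have e1 : l * x * l⁻¹ = d * o' * x := by rw [hd, ho]; group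
      have e2 : d * d = (d * o' * d⁻¹)⁻¹ * ⁅x * x, l⁆⁻¹ * (x * o' * x⁻¹)⁻¹ := by
        calc d * d = d * (x * d * x⁻¹) := by rw [hc d dD, mul_inv_cancel_right]
        _ = (d * o' * d⁻¹)⁻¹ * (d * o' * x * (d * o' * x) * (x * x)⁻¹) * (x * o' * x⁻¹)⁻¹ := by group
        _ = _ := by rw [← e1, conj_mul, commutatorElement_def]; generalize x * x = y; group
      have h3 : d * d ∈ S ⊓ opOf 2 (LZ z) := mem_inf.2 ⟨mul_mem dD.1 dD.1, e2 ▸ mul_mem (mul_mem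
        (inv_mem (conj_mem_of_mem_normalizer (nO (le_normalizer dD.2)) oO)) (inv_mem (mem_cmod.1 xx l hl)))
        (inv_mem (conj_mem_of_mem_normalizer (nO n) oO))⟩
      rw [isPGroup_inf_opOf h.syl.pgroup] at h3
      rw [eq_mul_of_mul_inv_eq hd.symm]
      refine mul_mem ?_ eM
      rcases h.inv d dD.2 h3 with e | e <;> rw [e]
      exacts [one_mem _, h.b_zM]

theorem RQ.b_J (h : RQ S z) {X : Subgroup G} (hX : X ≤ S ⊓ MZ z) :
    IsPQs 2 (pElementClosure 2 (LZ z ⊓ centralizer (X : Set G))) :=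
  have h1 : X ≤ LBal.cmod 2 (LZ z) := fun _ hx => (hX hx).2.2
  (IsPQs.cent h.pc.pqs (h.syl.pgroup.to_le (hX.trans inf_le_left)) (h1.trans (cmod_le_normalizer _))
    (le_cmod_iff.1 h1)).1

theorem RQ.four (h : RQ S z) : ∀ e ∈ S ⊓ MZ z, ∀ d ∈ S ⊓ LZ z, ∀ d' ∈ S ⊓ LZ z, d * d = z → d' * d' = z →
    IsConj (d * e) (d' * e) := by
  intro e he d hd d' hd' dd dd'
  obtain ⟨m, a, b, q, hz, -⟩ := h.b_q
  obtain ⟨r, hr⟩ := q.half
  have hX := zpowers_le.2 he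
  have le := pec_le (p := 2) (LZ z ⊓ centralizer (zpowers e : Set G))
  have hD := h.sylL.of_le (le_pec_of_isPGroup h.sylL.pgroup (le_inf inf_le_right
    fun d hd => mem_centralizer_iff.2 fun y hy => h.cs' (hX hy) d hd)) (le.trans inf_le_left)
  have key : ∀ d ∈ S ⊓ LZ z, d * d = z → IsConj (d * e) (a ^ r * e) := fun d hd dd => by
    obtain ⟨j, hj, e1⟩ := rqb_four (h.b_J hX).perfect hD q (hz ▸ (le.trans inf_le_left).trans h.pc.le) hr hd
      (hz ▸ dd)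
    exact isConj_iff.2 ⟨j, by rw [← conj_mul, e1, ← (le hj).2 e (mem_zpowers e), mul_inv_cancel_right]⟩
  exact (key d hd dd).trans (key d' hd' dd').symm

theorem RQ.perf (h : RQ S z) : ∀ X ≤ S ⊓ MZ z, ∃ J : Subgroup G, J ≠ ⊥ ∧ J ≤ centralizer (X : Set G) ∧ ⁅J, J⁆ = J :=
  fun _ hX => ⟨_, (h.b_J hX).ne_bot, (pec_le _).trans inf_le_right, (h.b_J hX).perfect⟩

theorem RQ.rb (h : RQ S z) : ∃ m a b, RB S (MZ z) LZ m a b z := by
  obtain ⟨m, a, b, q, hz, ac⟩ := h.b_q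
  refine ⟨m, a, b, h.toCtx, h.syl, h.cen, q, hz, ac, LZ_conj, h.inv,
    le_normalizer_inf le_normalizer (h.nrm.trans (normalizer_le_normalizer_cmod _)), fun x hx =>
    ⟨fun m => ⟨h.cs' ⟨hx, m⟩ a q.a_mem, h.cs' ⟨hx, m⟩ b q.b_mem⟩, fun c => h.cs hx fun d hd => ?_⟩,
    h.h1, h.four, h.perf⟩
  have c1 : Commute x a := c.1
  have c2 : Commute x b := c.2
  obtain ⟨k, rfl | rfl⟩ := (q.mem d).1 hd
  exacts [c1.zpow_right k, (c1.zpow_right k).mul_right c2]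

end CfsgLib.GHE
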