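import Mathlib
import Cfsg.Agent.Lib.GHE.RQ0

/-! Block RQ, package RQC1: the structure of `S` in case C.  See `plans/GHE_RQ.md`. -/

set_option autoImplicit false
set_option linter.unusedSectionVars false

namespace CfsgLib.GHE

open Subgroup Cfsg CfsgLib.W2 CfsgLib.Tech CfsgLib.Sect CfsgLib.PComp CfsgLib.DihSyl
  CfsgLib.GW.Cor
open CfsgLib.LBal hiding cj
open scoped MatrixGroups commutatorElement

universe u

variable {G : Type u} [Group G] [Finite G]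
variable {S M : Subgroup G} {Λ : G → Subgroup G} {m : ℕ} {a b z u v w i β θ x g : G}

namespace RBC

variable (h : RBC S M Λ m a b z u i θ)
include h

theorem c1_A1 (hx : x ∈ S ⊓ Cx u ⊓ Λ z) : x = 1 ∨ x = z :=
  h.hC u h.uS h.cj h.ne x ⟨hx.1.1, hx.2⟩ (mem_Cx.1 hx.1.2)

theorem c1_A {α : G} (hα : α ∈ RAA S Λ z u) : α = 1 ∨ α = z ∨ α = u ∨ α = u * z := by
  have zz := h.toRB.zz
  have uu := h.toRX.uu h.toRB
  have uz := h.toRX.uz h.toRB
  have e1 : z * (u * z) = u := by rw [← mul_assoc, ← uz, mul_assoc, zz, mul_one]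
  have e2 : u * (u * z) = z := by rw [← mul_assoc, uu, one_mul]
  have e3 : u * z * z = u := by rw [mul_assoc, zz, mul_one]
  have e4 : u * z * u = z := by rw [mul_assoc, ← uz, e2]
  have e5 : u * z * (u * z) = 1 := by rw [← mul_assoc, e4, zz]
  let U : Subgroup G :=
    { carrier := {y | y = 1 ∨ y = z ∨ y = u ∨ y = u * z}
      one_mem' := Or.inl rfl
      mul_mem' := by
        rintro p q (e | e | e | e) (f | f | f | f) <;> rw [e, f] <;>
          simp [zz, uu, ← uz, e1, e2, e3, e4, e5]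
      inv_mem' := by
        rintro p (e | e | e | e) <;> rw [e]
        · simp
        · rw [inv_eq_of_mul_eq_one_right zz]; simp
        · rw [inv_eq_of_mul_eq_one_right uu]; simp
        · rw [inv_eq_of_mul_eq_one_right e5]; simp }
  refine (sup_le (sup_le (fun y hy => ?_) fun y hy => ?_) fun y hy => ?_ : RAA S Λ z u ≤ U) hα
  · exact (h.c1_A1 hy).imp_right Or.inl
  · have e : y = θ * (θ⁻¹ * y * θ) * θ⁻¹ := by group
    have h1 : θ⁻¹ * y * θ ∈ Λ z := (h.toRB.memΛ θ).1 (by rw [← e, h.θz]; exact hy.2)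
    rcases h.c1_A1 ⟨h.toRX.θC' h.toRB hy.1, h1⟩ with f | f
    · exact Or.inl (by rw [e, f]; group)
    · exact Or.inr (Or.inr (Or.inl (by rw [e, f, h.θz])))
  · have h1 : θ * y * θ⁻¹ ∈ Λ z := h.toRX.θuz h.toRB ▸ (h.toRB.memΛ θ).2 hy.2
    rcases h.c1_A1 ⟨h.toRX.θC h.toRB hy.1, h1⟩ with f | f
    · exact Or.inl (conj_eq_one_iff.1 f)
    · rw [← h.toRX.θuz h.toRB] at f
      exact Or.inr (Or.inr (Or.inr (mul_left_cancel (mul_right_cancel f))))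

theorem dec' (hx : x ∈ S ⊓ Cx u) :
    ∃ y ∈ S ⊓ Cx u ⊓ Cx θ, x = y ∨ x = z * y ∨ x = u * y ∨ x = u * z * y := by
  obtain ⟨α, hα, y, hy, e⟩ := h.dec x hx
  refine ⟨y, hy, ?_⟩
  rcases h.c1_A hα with f | f | f | f <;> rw [e, f] <;> simp

theorem c1_ui : u * i ≠ i * u := fun e => h.toRX.ne'' h.toRB (by rw [← h.βu, ← e, mul_inv_cancel_right])

/-- the elements of `C_S(u)` that centralise `i` -/
theorem dec_i (hx : x ∈ S ⊓ Cx u) (hi : x * i = i * x) : ∃ y ∈ S ⊓ Cx u ⊓ Cx θ, x = y ∨ x = z * y := by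
  obtain ⟨y, hy, e⟩ := h.dec' hx
  have c1 : Commute y i := (h.com y hy).symm
  have c2 : Commute z i := (h.toRB.cz h.βm.1).symm
  have c3 : Commute x i := hi
  refine ⟨y, hy, ?_⟩
  rcases e with e | e | e | e
  · exact Or.inl e
  · exact Or.inr e
  · refine absurd ?_ h.c1_ui
    rw [show u = x * y⁻¹ by rw [e]; group]
    exact c3.mul_left c1.inv_left
  · refine absurd ?_ h.c1_ui
    rw [show u = x * y⁻¹ * z⁻¹ by rw [e]; group]
    exact (c3.mul_left c1.inv_left).mul_left c2.inv_left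

theorem sq_mem (hx : x ∈ S ⊓ Cx u) : x * x ∈ Cx θ := by
  obtain ⟨y, hy, e⟩ := h.dec' hx
  have c1 : Commute z y := (h.toRB.cz hy.1.1).symm
  have c2 : Commute u y := (mem_Cx.1 hy.1.2).symm
  have key : ∀ α : G, Commute α y → α * α = 1 → α * y * (α * y) ∈ Cx θ := fun α c e => by
    rw [c.symm.mul_mul_mul_comm, e, one_mul]
    exact mul_mem hy.2 hy.2
  rcases e with e | e | e | e <;> rw [e]
  exacts [mul_mem hy.2 hy.2, key z c1 h.toRB.zz, key u c2 (h.toRX.uu h.toRB),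
    key _ (c2.mul_left c1) (h.toRB.sq (h.toRX.cj' h.toRB))]

theorem od (hv : v ∈ S) (c : IsConj z v) (ne : v ≠ z) : ∃ j, QAct a b v (-1) (2 * j + 1) := by
  obtain ⟨k, j, h1⟩ := h.act v hv
  rcases h1.ev_or_od with h2 | ⟨k, j, h2⟩
  · obtain ⟨d, hd, dd, e⟩ := h.q.ev_four h2
    refine absurd ?_ h.q.z1
    rcases h.hC v hv c ne d hd e.symm with f | f <;> rw [← dd, f]
    exacts [one_mul 1, h.toRB.zz]
  · refine ⟨j, h2.1.trans (h.q.zeq.2 ?_), h2.2⟩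
    have h3 := (h2.mul h2).2
    rw [h.toRB.sq c, one_mul, inv_one, mul_one, eq_comm, mul_eq_right, h.q.ze] at h3
    obtain ⟨n, hn⟩ := h.q.pow
    have h4 : IsCoprime (2 * m : ℤ) (2 * j + 1) := by
      rw [hn]
      push_cast
      rw [← pow_succ']
      exact IsCoprime.pow_left ⟨-j, 1, by ring⟩
    exact h4.dvd_of_dvd_mul_right (by rwa [show (k - -1) * (2 * j + 1) = k * (2 * j + 1) + (2 * j + 1) by ring])

theorem fuse (k : ℤ) : ∃ d ∈ S ⊓ Λ z, d * u * d⁻¹ = a ^ k * u := by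
  obtain ⟨j, hj⟩ := h.od h.uS h.cj h.ne
  have uu := h.toRX.uu h.toRB
  have ui : u⁻¹ = u := inv_eq_of_mul_eq_one_right uu
  have e1 : ∀ l : ℤ, a ^ l * u * (a ^ l)⁻¹ = a ^ (2 * l) * u := fun l => by
    calc a ^ l * u * (a ^ l)⁻¹ = a ^ l * (u * a ^ (-l) * u⁻¹) * u := by group
      _ = _ := by rw [hj.zpow]; group
  have e2 : b * u * b⁻¹ = a ^ (-(2 * j + 1)) * u := by
    calc b * u * b⁻¹ = b * (u * b * u⁻¹)⁻¹ * u := by group
      _ = _ := by rw [hj.2]; group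
  rcases Int.even_or_odd' k with ⟨l, rfl | rfl⟩
  · exact ⟨a ^ l, (h.q.mem _).2 ⟨l, Or.inl rfl⟩, e1 l⟩
  · refine ⟨a ^ (l + j + 1) * b, (h.q.mem _).2 ⟨_, Or.inr rfl⟩, ?_⟩
    calc a ^ (l + j + 1) * b * u * (a ^ (l + j + 1) * b)⁻¹
        = a ^ (l + j + 1) * (b * u * b⁻¹) * (a ^ (l + j + 1))⁻¹ := by group
      _ = a ^ (-(2 * j + 1)) * (a ^ (l + j + 1) * u * (a ^ (l + j + 1))⁻¹) := by rw [e2]; group
      _ = _ := by rw [e1]; group

theorem c1_C34 (hw : w ∈ S ⊓ M) (e : w * u * w⁻¹ = u ∨ w * u * w⁻¹ = u * z) (c : IsConj z (w * u)) :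
    w = 1 ∨ w = z := by
  have zz := h.toRB.zz
  have wi := h.toRB.cM hw h.βm
  have rot : ∀ y ∈ S ⊓ Cx u ⊓ Cx θ, ∀ x, x = y ∨ x = z * y → IsConj z (x * u) → IsConj z (z * y) := by
    intro y hy x e c
    obtain ⟨r1, r2⟩ := h.toRX.rot h.toRB hy.2
    have c1 : y * u = u * y := mem_Cx.1 hy.1.2
    rcases e with e | e <;> rw [e] at c
    · exact c.trans (c1 ▸ r1.symm)
    · rw [mul_assoc, c1, ← mul_assoc, ← h.toRX.uz h.toRB] at c
      exact c.trans r2.symm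
  have inM : ∀ x ∈ M, ∀ y, x = y ∨ x = z * y → z * y ∈ M := by
    rintro x hx y (e | e)
    exacts [mul_mem h.toRB.zM (e ▸ hx), e ▸ hx]
  rcases e with e | e
  · obtain ⟨y, hy, f⟩ := h.dec_i ⟨hw.1, mem_Cx'.2 e⟩ wi
    have h1 := mul_eq_left.1 (h.h1 _ (inM w hw.2 y f) (rot y hy w f c))
    rwa [h1, mul_one] at f
  · exfalso
    have h1 : i * w ∈ S ⊓ Cx u := ⟨mul_mem h.βm.1 hw.1, mem_Cx'.2 (by
      calc i * w * u * (i * w)⁻¹ = i * (w * u * w⁻¹) * i⁻¹ := by group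
        _ = i * u * (z * i⁻¹) := by rw [e]; group
        _ = i * u * i⁻¹ * z := by rw [← h.toRB.cz (inv_mem h.βm.1)]; group
        _ = u := by rw [h.βu, mul_assoc, zz, mul_one])⟩
    obtain ⟨y, hy, f⟩ := h.dec_i h1 (by rw [mul_assoc, wi])
    obtain ⟨k, hk⟩ := mem_zpowers_iff.1 h.ia
    obtain ⟨d, hd, hd'⟩ := h.fuse k
    have c2 : IsConj z (i * w * u) := c.trans (isConj_iff.2 ⟨d, by
      calc d * (w * u) * d⁻¹ = (d * w) * u * d⁻¹ := by group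
        _ = w * (d * u * d⁻¹) := by rw [← h.toRB.cM hw hd]; group
        _ = _ := by rw [hd', hk, ← mul_assoc, wi]⟩)
    have c3 := rot y hy _ f c2
    have i1 : i * i ≠ 1 := h.ii ▸ h.toRB.z1
    by_cases y1 : y = 1
    · have iM : i ∈ M := by
        refine (M.mul_mem_cancel_right hw.2).1 ?_
        rcases f with f | f <;> rw [f, y1]
        exacts [one_mem M, mul_mem h.toRB.zM (one_mem M)]
      have h2 := h.q.act_b.zpow k
      rw [neg_one_mul, zpow_neg, hk, ← ((h.cs i h.βm.1).1 iM).2, mul_inv_cancel_right] at h2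
      exact i1 (mul_eq_one_iff_eq_inv.2 h2)
    · rcases h.hC _ (mul_mem h.toRB.zS hy.1.1) c3 (fun e => y1 (mul_eq_left.1 e)) i h.βm
        (Commute.mul_right (h.toRB.cz h.βm.1) (h.com y hy)) with f | f
      · exact i1 (by rw [f, one_mul])
      · exact i1 (by rw [f, zz])

theorem c1_cT (hx : x ∈ S ⊓ M) : x * u * x⁻¹ = u ∨ x * u * x⁻¹ = u * z := by
  have zz := h.toRB.zz
  have uu := h.toRX.uu h.toRB
  have cz : ∀ g : G, g * z = z * g → g * (u * z) * g⁻¹ = g * u * g⁻¹ * z := fun g e => by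
    rw [← conj_mul, e, mul_inv_cancel_right]
  have inv : ∀ g : G, g * u * g⁻¹ = u → g⁻¹ * u * g⁻¹⁻¹ = u := fun g e => by
    nth_rw 1 [← e]; group
  let N : Subgroup G :=
    { carrier := {g | g * z = z * g ∧ (g * u * g⁻¹ = u ∨ g * u * g⁻¹ = u * z)}
      one_mem' := by simp
      mul_mem' := by
        rintro p q ⟨p1, p2⟩ ⟨q1, q2⟩
        refine ⟨Commute.mul_left p1 q1, ?_⟩
        rw [show p * q * u * (p * q)⁻¹ = p * (q * u * q⁻¹) * p⁻¹ by group]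
        rcases q2 with e | e <;> rw [e]
        · exact p2
        · rw [cz p p1]
          rcases p2 with f | f <;> rw [f]
          exacts [Or.inr rfl, Or.inl (by rw [mul_assoc, zz, mul_one])]
      inv_mem' := by
        rintro p ⟨p1, e | e⟩
        · exact ⟨Commute.inv_left p1, Or.inl (inv p e)⟩
        · refine ⟨Commute.inv_left p1, Or.inr ?_⟩
          have f : p * (u * z) * p⁻¹ = u := by rw [cz p p1, e, mul_assoc, zz, mul_one]
          nth_rw 1 [← f]; group }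
  have nT : u ∈ normalizer ((S ⊓ M : Subgroup G) : Set G) := mem_normalizer_of_forall fun y hy =>
    ⟨S.mul_mem (S.mul_mem h.uS hy.1) (S.inv_mem h.uS), h.toRB.conjM (h.toRX.uz h.toRB) hy.2⟩
  have mem : ∀ g, g ∈ S ⊓ M ⊔ zpowers u ↔ g ∈ S ⊓ M ∨ ∃ c ∈ S ⊓ M, g = c * u := fun g =>
    TwoGrp.mem_sup_zpowers_iff nT (uu ▸ one_mem _)
  have uP : u ∈ (S ⊓ M ⊔ zpowers u) ⊓ N :=
    ⟨mem_sup_right (mem_zpowers u), h.toRX.uz h.toRB, Or.inl (mul_inv_cancel_right u u)⟩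
  by_contra hn
  have : Fact (Nat.Prime 2) := ⟨Nat.prime_two⟩
  obtain ⟨g, g1, g2, g3⟩ := exists_mem_normalizer_of_lt (Q := (S ⊓ M ⊔ zpowers u) ⊓ N)
    (h.syl.pgroup.to_le (sup_le inf_le_left (zpowers_le.2 h.uS)))
    (inf_lt_left.2 fun le => hn (le (mem_sup_left hx)).2)
  obtain ⟨c, c1, c2, c3⟩ : ∃ c ∈ S ⊓ M, c ∉ N ∧
      c ∈ normalizer (((S ⊓ M ⊔ zpowers u) ⊓ N : Subgroup G) : Set G) := by
    rcases (mem g).1 g1 with e | ⟨c, hc, e⟩
    · exact ⟨g, e, fun f => g2 ⟨g1, f⟩, g3⟩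
    · exact ⟨c, hc, fun f => g2 ⟨g1, e ▸ mul_mem f uP.2⟩,
        (mul_mem_cancel_right (le_normalizer uP)).1 (e ▸ g3)⟩
  have h1 := conj_mem_of_mem_normalizer c3 uP
  have cj := h.cj.trans (rq_conj c u)
  rcases (mem _).1 h1.1 with e | ⟨w, hw, e⟩
  · refine h.toRX.uM h.toRB ?_
    have := M.mul_mem (M.mul_mem (M.inv_mem c1.2) e.2) c1.2
    simpa [mul_assoc] using this
  · have wN : w ∈ N := (N.mul_mem_cancel_right uP.2).1 (e ▸ h1.2)
    refine c2 ⟨h.toRB.cz c1.1, ?_⟩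
    rcases h.c1_C34 hw wN.2 (e ▸ cj) with f | f <;> rw [e, f]
    exacts [Or.inl (one_mul u), Or.inr (h.toRX.uz h.toRB).symm]

theorem cT (hx : x ∈ S ⊓ M) : u * x * u⁻¹ = x ∨ u * x * u⁻¹ = x * z := by
  have uu := h.toRX.uu h.toRB
  have ui : u⁻¹ = u := inv_eq_of_mul_eq_one_right uu
  refine (h.c1_cT hx).imp (fun e => ?_) fun e => ?_
  · rw [← mul_inv_eq_iff_eq_mul.1 e, mul_inv_cancel_right]
  · rw [ui, mul_assoc, mul_inv_eq_iff_eq_mul.1 e, ← mul_assoc, ← mul_assoc, uu, one_mul, h.toRB.cz hx.1]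

theorem all (hv : v ∈ S) (c : IsConj z v) (ne : v ≠ z) : ∃ d ∈ S ⊓ Λ z, d * u * d⁻¹ = v := by
  obtain ⟨j, hj⟩ := h.od hv c ne
  obtain ⟨j', hj'⟩ := h.od h.uS h.cj h.ne
  have uu := h.toRX.uu h.toRB
  have h1 := (h.q.act_a (-(j - j'))).mul (hj.mul hj')
  obtain ⟨t, ht⟩ : ∃ t, t = a ^ (-(j - j')) * (v * u) := ⟨_, rfl⟩
  rw [← ht] at h1
  have tS : t ∈ S := ht ▸ mul_mem (zpow_mem h.toRB.aS _) (mul_mem hv h.uS)
  have tM : t ∈ S ⊓ M := ⟨tS, (h.cs t tS).2 ⟨mul_inv_eq_iff_eq_mul.1 (by rw [h1.1]; simp),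
    mul_inv_eq_iff_eq_mul.1 (by
      rw [h1.2, show 1 * (-1 * (2 * j' + 1) + (2 * j + 1)) + 2 * -(j - j') = 0 by ring]; simp)⟩⟩
  have ev : v = t * (a ^ (j - j') * u) := by
    rw [← mul_assoc, h.toRB.cM tM ((h.q.mem _).2 ⟨_, Or.inl rfl⟩), ht]
    calc v = v * (u * u) := by rw [uu, mul_one]
      _ = _ := by group
  obtain ⟨d, hd, e⟩ := h.fuse (j - j')
  have c1 : IsConj z (t * u) := c.trans (isConj_iff.2 ⟨d, by
    calc d * (t * u) * d⁻¹ = d * t * u * d⁻¹ := by group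
      _ = t * (d * u * d⁻¹) := by rw [← h.toRB.cM tM hd]; group
      _ = v := by rw [e, ← ev]⟩ : IsConj (t * u) v).symm
  rcases h.c1_C34 tM (h.c1_cT tM) c1 with f | f
  · exact ⟨d, hd, by rw [e, ev, f, one_mul]⟩
  · obtain ⟨d', hd', e'⟩ := h.fuse (m + (j - j'))
    exact ⟨d', hd', by rw [e', ev, f, h.hz, zpow_add, zpow_natCast, mul_assoc]⟩

theorem top (hx : x ∈ S) : ∃ d ∈ S ⊓ Λ z, ∃ c ∈ S ⊓ Cx u, x = d * c := by
  obtain ⟨d, hd, e⟩ := h.all (mul_mem (mul_mem hx h.uS) (inv_mem hx)) (h.cj.trans (rq_conj x u)) fun e =>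
    h.ne (mul_left_cancel ((mul_inv_eq_iff_eq_mul.1 e).trans (h.toRB.cz hx).symm))
  refine ⟨d, hd, d⁻¹ * x, ⟨S.mul_mem (S.inv_mem hd.1) hx, mem_Cx'.2 ?_⟩, by group⟩
  calc d⁻¹ * x * u * (d⁻¹ * x)⁻¹ = d⁻¹ * (x * u * x⁻¹) * d := by group
    _ = u := by rw [← e]; group

theorem not_sq (hx : x ∈ S) (c : IsConj z (x * x)) : x * x = z := by
  by_contra ne
  obtain ⟨d, hd, e⟩ := h.all (mul_mem hx hx) c ne
  have h1 : d⁻¹ * x * d * (d⁻¹ * x * d) = u := by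
    calc d⁻¹ * x * d * (d⁻¹ * x * d) = d⁻¹ * (x * x) * d := by group
      _ = u := by rw [← e]; group
  refine h.toRX.uθ h.toRB (h1 ▸ h.sq_mem ⟨S.mul_mem (S.mul_mem (S.inv_mem hd.1) hx) hd.1, mem_Cx.2 ?_⟩)
  rw [← h1, mul_assoc (d⁻¹ * x * d)]

end RBC

end CfsgLib.GHE
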