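import Mathlib
import Cfsg.Agent.Lib.GHE.RQ0
import Cfsg.Agent.Lib.GHM.Tools

/-! Block RQ, package RQX: extremal conjugates.  See `plans/GHE_RQ.md`. -/

set_option autoImplicit false
set_option linter.unusedSectionVars false

namespace CfsgLib.GHE

open Subgroup Cfsg CfsgLib.W2 CfsgLib.Tech CfsgLib.Sect CfsgLib.PComp CfsgLib.DihSyl
  CfsgLib.GW.Cor
open CfsgLib.LBal hiding cj
open scoped MatrixGroups commutatorElement

universe u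

variable {G : Type u} [Group G] [Finite G]
variable {S M : Subgroup G} {Λ : G → Subgroup G} {m : ℕ} {a b z u v w i β θ x g : G}

/-- an extremal conjugate -/
structure RE (S : Subgroup G) (z u : G) : Prop where
  uS : u ∈ S
  ne : u ≠ z
  cj : IsConj z u
  syl : IsSylowIn 2 (S ⊓ Cx u) (Cx z ⊓ Cx u)

/-- `β` acts trivially on `C_S(u)` modulo `RAA` -/
def RP (S : Subgroup G) (Λ : G → Subgroup G) (z u g : G) : Prop :=
  ∀ c ∈ S ⊓ Cx u, g * c * g⁻¹ * c⁻¹ ∈ RAA S Λ z u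

theorem raa_le : RAA S Λ z u ≤ S ⊓ Cx u := sup_le (sup_le inf_le_left inf_le_left) inf_le_left

theorem RP.mem (p : RP S Λ z u g) (hx : x ∈ S ⊓ Cx u) : g * x * g⁻¹ ∈ S ⊓ Cx u := by
  have := mul_mem (raa_le (p x hx)) hx
  rwa [inv_mul_cancel_right] at this

theorem RP.mul {g' : G} (p : RP S Λ z u g) (p' : RP S Λ z u g') : RP S Λ z u (g * g') := fun c hc => by
  have := mul_mem (p _ (p'.mem hc)) (p' c hc)
  convert this using 1; group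

theorem RP.pow (p : RP S Λ z u g) (n : ℕ) : RP S Λ z u (g ^ n) := by
  induction n with
  | zero => intro c _; simp
  | succ n ih => rw [pow_succ]; exact ih.mul p

theorem RP.dec (p : RP S Λ z u θ) (hS : IsPGroup 2 S) (o : Odd (orderOf θ)) :
    ∀ c ∈ S ⊓ Cx u, ∃ α ∈ RAA S Λ z u, ∃ x ∈ S ⊓ Cx u ⊓ Cx θ, c = α * x := fun c hc => by
  obtain ⟨n, hn, e⟩ := GHM.exists_fixed (N := RAA S Λ z u) (hS.to_le (raa_le.trans inf_le_left)) o
    (fun n hn => by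
      have := mul_mem (p n (raa_le hn)) hn
      rwa [inv_mul_cancel_right] at this) (a := c⁻¹)
    (by have := inv_mem (p c hc); convert this using 1; group)
  exact ⟨n, hn, (c⁻¹ * n)⁻¹, inv_mem (mem_inf.2 ⟨mul_mem (inv_mem hc) (raa_le hn), mem_Cx.2 e.symm⟩), by group⟩

omit [Finite G] in
theorem x_odd (hg : IsOfFinOrder g) : ∃ k, Odd (orderOf (g ^ 4 ^ k)) := by
  obtain ⟨k, n, hn, e⟩ := Nat.exists_eq_two_pow_mul_odd hg.orderOf_pos.ne'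
  refine ⟨k, hn.of_dvd_nat (orderOf_dvd_of_pow_eq_one ?_)⟩
  rw [← pow_mul, show 4 ^ k * n = orderOf g * 2 ^ k by rw [e, show 4 = 2 * 2 from rfl, mul_pow]; ring,
    pow_mul, pow_orderOf_eq_one, one_pow]

omit [Finite G] in
theorem x_four (e : g ^ 3 * x * (g ^ 3)⁻¹ = x) (k : ℕ) : g ^ 4 ^ k * x * (g ^ 4 ^ k)⁻¹ = g * x * g⁻¹ := by
  obtain ⟨n, hn⟩ : ∃ n, 4 ^ k = 1 + 3 * n := by
    induction k with
    | zero => exact ⟨0, rfl⟩
    | succ k ih => obtain ⟨n, hn⟩ := ih; exact ⟨4 * n + 1, by rw [pow_succ, hn]; ring⟩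
  have c : Commute (g ^ 3) x := mul_inv_eq_iff_eq_mul.1 e
  rw [hn, pow_add, pow_one, pow_mul, mul_inv_rev, mul_assoc g, (c.pow_left n).eq]; group

namespace RB

variable (h : RB S M Λ m a b z)
include h

theorem sylC : IsSylowIn 2 S (Cx z) := h.syl.of_le h.cen le_top

theorem x_eq {P : Subgroup G} (hP : IsSylowIn 2 P (Cx z ⊓ Cx u)) (le : P ≤ S) : S ⊓ Cx u = P :=
  hP.eq_of_le (h.syl.pgroup.to_le inf_le_left) (le_inf le (hP.le.trans inf_le_right)) (inf_le_inf_right _ h.cen)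

theorem x_ext (hv : v ∈ S) (c : IsConj z v) (ne : v ≠ z) :
    ∃ k, k * z * k⁻¹ = z ∧ RE S z (k * v * k⁻¹) ∧ ∀ d ∈ S ⊓ Λ z ⊓ Cx v, k * d * k⁻¹ ∈ S ⊓ Λ z ⊓ Cx (k * v * k⁻¹) := by
  obtain ⟨P, hP, le⟩ := exists_isSylowIn_ge (h.syl.pgroup.to_le (inf_le_left (b := Cx v)))
    (inf_le_inf_right _ h.cen)
  obtain ⟨k, hk, e⟩ := h.sylC.exists_cj_le hP.pgroup (hP.le.trans inf_le_left)
  have kz : k * z * k⁻¹ = z := by rw [mem_Cx.1 hk, mul_inv_cancel_right]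
  have s := hP.cj k
  rw [cj_inf, cj_centralizer_singleton, cj_centralizer_singleton, kz] at s
  refine ⟨k, kz, ⟨cj_le_iff.1 e v (le ⟨hv, mem_Cx.2 rfl⟩), fun e' => ne ?_, c.trans (rq_conj k v),
    (h.x_eq s e).symm ▸ s⟩, fun d hd => ⟨⟨cj_le_iff.1 e d (le ⟨hd.1.1, hd.2⟩), h.nΛ (mem_Cx.1 hk) hd.1.2⟩, ?_⟩⟩
  · exact mul_left_cancel (mul_right_cancel (e'.trans kz.symm))
  · exact mem_Cx.2 (by rw [conj_mul, conj_mul, mem_Cx.1 hd.2])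

theorem x_nc (hv : v ∈ S) (c : IsConj z v) (ne : v ≠ z) : ¬ (v * a = a * v ∧ v * b = b * v) :=
  fun e => ne (h.h1 v ((h.cs v hv).2 e) c)

theorem x_mv (hv : v ∈ S) (c : IsConj z v) (ne : v ≠ z) : ∃ d ∈ S ⊓ Λ z, d * v * d⁻¹ = v * z := by
  obtain ⟨d, hd, e⟩ : ∃ d ∈ S ⊓ Λ z, v * d ≠ d * v := by
    by_contra! hc
    exact h.x_nc hv c ne ⟨hc a h.q.a_mem, hc b h.q.b_mem⟩
  obtain ⟨d, hd, e⟩ := h.q.fuse (h.sq c) (fun u hu => h.nD hv hu) hd e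
  exact ⟨d, hd, by rw [e, ← h.hz, h.cz hv]⟩

/-- an element of `S` that maps `u` to `u z` normalises `C_S(u)` -/
theorem x_nC (hβ : β ∈ S) (e : β * u * β⁻¹ = u * z) (hx : x ∈ S ⊓ Cx u) : β * x * β⁻¹ ∈ S ⊓ Cx u := by
  have xS : β * x * β⁻¹ ∈ S := mul_mem (mul_mem hβ hx.1) (inv_mem hβ)
  refine ⟨xS, mem_Cx.2 (mul_right_cancel (b := z) ?_)⟩
  rw [mul_assoc _ u, ← e, mul_assoc u, h.cz xS, ← mul_assoc u, ← e, conj_mul, conj_mul, mem_Cx.1 hx.2]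

theorem x_inv (hβ : β ∈ S) (e : β * u * β⁻¹ = u * z) : β⁻¹ * u * β⁻¹⁻¹ = u * z := by
  have e1 : β⁻¹ * z * β⁻¹⁻¹ = z := by rw [h.cz (inv_mem hβ), mul_inv_cancel_right]
  have e2 : β⁻¹ * (u * z) * β⁻¹⁻¹ = u := by rw [← e]; group
  rw [← conj_mul, e1] at e2
  rw [eq_mul_inv_of_mul_eq e2, h.z_inv]

theorem x_rp (hβ : β ∈ S ⊓ Λ z) (e : β * u * β⁻¹ = u * z) : RP S Λ z u β := fun c hc => by
  refine mem_sup_left (mem_sup_left (mem_inf.2 ⟨mul_mem (h.x_nC hβ.1 e hc) (inv_mem hc), ?_⟩))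
  have := (Λ z).mul_mem hβ.2 (h.nΛ (h.cz hc.1) ((Λ z).inv_mem hβ.2))
  convert this using 1; group

/-- the mirror image of an element of the quaternion group -/
theorem x_mir (r : RE S z u) : ∃ g d, g * u * g⁻¹ = z ∧ RE S z (g * z * g⁻¹) ∧ d ∈ S ⊓ Λ z ∧
    d * (g * z * g⁻¹) * d⁻¹ = g * z * g⁻¹ * z ∧ RP S Λ z u (g⁻¹ * d * g) := by
  obtain ⟨g₀, e₀⟩ := isConj_iff.1 r.cj.symm
  obtain ⟨k, hk, le⟩ := h.sylC.exists_cj_le (isPGroup_cj g₀ r.syl.pgroup)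
    (by rw [← e₀]; exact (cj_mono _ inf_le_right).trans (cj_centralizer_singleton g₀ u).le)
  rw [← cj_mul] at le
  obtain ⟨g, hg⟩ : ∃ g, g = k * g₀ := ⟨_, rfl⟩
  rw [← hg] at le
  have e : g * u * g⁻¹ = z := by
    rw [hg, mul_inv_rev, mul_assoc k, mul_assoc k, ← mul_assoc (g₀ * u), e₀, ← mul_assoc, mem_Cx.1 hk,
      mul_inv_cancel_right]
  have s := r.syl.cj g
  rw [cj_inf g (Cx z), cj_centralizer_singleton, cj_centralizer_singleton, e, inf_comm (Cx _)] at s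
  have eq := h.x_eq s le
  have r' : RE S z (g * z * g⁻¹) := ⟨cj_le_iff.1 le z ⟨h.zS, mem_Cx.2 (h.cz r.uS).symm⟩,
    fun e' => r.ne (mul_left_cancel (mul_right_cancel (e.trans e'.symm))), rq_conj g z, eq.symm ▸ s⟩
  obtain ⟨d, hd, ed⟩ := h.x_mv r'.uS r'.cj r'.ne
  refine ⟨g, d, e, r', hd, ed, fun c hc => mem_sup_left (mem_sup_right (mem_inf.2 ⟨mul_mem ?_ (inv_mem hc), ?_⟩))⟩
  · have := h.x_nC hd.1 ed (eq ▸ conj_mem_cj.2 hc)
    rw [eq, mem_cj] at this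
    convert this using 1; group
  · have hβ : g⁻¹ * d * g ∈ Λ u := by
      rw [← h.memΛ g, e]; convert (mem_inf.1 hd).2 using 1; group
    have := mul_mem hβ (h.nΛ (mem_Cx.1 hc.2) (inv_mem hβ))
    convert this using 1; group

theorem x_ia (hu : u ∈ S) (ne : u * a ≠ a * u) : ∃ β ∈ zpowers a, β * u * β⁻¹ = u * z := by
  obtain ⟨k, j, e⟩ := h.act u hu
  have n1 : a ^ (1 - k) ≠ 1 := fun e' => ne (by
    rw [zpow_sub, zpow_one, mul_inv_eq_one, ← e.1] at e'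
    exact (mul_inv_eq_iff_eq_mul.1 e'.symm))
  have aD : a ^ (1 - k) ∈ S ⊓ Λ z := zpow_mem h.q.a_mem _
  obtain ⟨y, hy, y1, yy⟩ := rq_pow h.syl.pgroup aD.1 n1
  have yz := (h.inv y (zpowers_le.2 aD.2 hy) yy).resolve_left y1
  obtain ⟨l, hl⟩ := mem_zpowers_iff.1 hy
  refine ⟨a ^ l, zpow_mem (mem_zpowers a) l, ?_⟩
  rw [h.cz hu, ← yz, ← hl, ← zpow_mul, ← zpow_neg, mul_assoc, ← mul_inv_eq_iff_eq_mul, mul_assoc, e.zpow,
    ← zpow_add]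
  congr 1; ring

/-- the dichotomy -/
theorem x_di (r : RE S z u) (ne : u * a ≠ a * u) {d : G} (hd : d ∈ S ⊓ Λ z ⊓ Cx u) : d = 1 ∨ d = z := by
  obtain ⟨β, hβ, e⟩ := h.x_ia r.uS ne
  have βD : β ∈ S ⊓ Λ z := zpowers_le.2 h.q.a_mem hβ
  obtain ⟨g, δ, e1, -, hδ, e2, p⟩ := h.x_mir r
  have uz := h.cz r.uS
  have c3 : IsConj z (u * z) := r.cj.trans (e ▸ rq_conj β u)
  have n3 : u ≠ u * z := fun e => h.z1 (left_eq_mul.1 e)
  obtain ⟨β', hβ'⟩ : ∃ β', β' = g⁻¹ * δ * g := ⟨_, rfl⟩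
  have e3 : β' * z * β'⁻¹ = u * z := by
    rw [uz]
    calc β' * z * β'⁻¹ = g⁻¹ * (δ * (g * z * g⁻¹) * δ⁻¹) * g := by rw [hβ']; group
    _ = z * (g⁻¹ * z * g) := by rw [e2]; group
    _ = z * u := by rw [← e1]; group
  rw [← hβ'] at p
  obtain ⟨y, hy⟩ : ∃ y, y = β' * d * β'⁻¹ := ⟨_, rfl⟩
  have yC : y ∈ S ⊓ Cx u := hy ▸ p.mem ⟨hd.1.1, hd.2⟩
  have yΛ : y ∈ Λ (u * z) := by rw [hy, ← e3]; exact (h.memΛ β').2 hd.1.2
  obtain ⟨c, hc⟩ : ∃ c, c = β⁻¹ * y * β⁻¹⁻¹ := ⟨_, rfl⟩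
  have cC : c ∈ S ⊓ Cx u := hc ▸ h.x_nC (inv_mem βD.1) (h.x_inv βD.1 e) yC
  have ey : β * c * β⁻¹ = y := by rw [hc]; group
  have cΛ : c ∈ Λ u := by rw [← h.memΛ β, ey, e]; exact yΛ
  have cy : c * y = y * c := h.comm r.cj c3 n3
    ⟨⟨cC.1, mem_Cx.2 (by rw [← mul_assoc, mem_Cx.1 cC.2, mul_assoc, h.cz cC.1, mul_assoc])⟩, cΛ⟩ ⟨yC, yΛ⟩
  have βc : β * β * c = c * (β * β) := h.comm (IsConj.refl z) r.cj r.ne.symm
    ⟨⟨mul_mem βD.1 βD.1, mem_Cx.2 (by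
      have : β * β * u * (β * β)⁻¹ = β * (β * u * β⁻¹) * β⁻¹ := by group
      rw [e, ← conj_mul, e, h.cz βD.1, mul_inv_cancel_right, mul_assoc u, h.zz, mul_one] at this
      exact mul_inv_eq_iff_eq_mul.1 this)⟩, mul_mem βD.2 βD.2⟩ ⟨⟨cC.1, h.cen cC.1⟩, cΛ⟩
  have εβ : β * (c * β⁻¹ * c⁻¹) = c * β⁻¹ * c⁻¹ * β := by
    obtain ⟨k, j, ac⟩ := h.act c cC.1
    obtain ⟨l, rfl⟩ := mem_zpowers_iff.1 hβ
    rw [← zpow_neg, ac.zpow, ← zpow_add, ← zpow_add, add_comm]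
  have e4 : y * y = c * c := by
    have e5 : β * y * β⁻¹ = c := by
      rw [← ey]
      calc β * (β * c * β⁻¹) * β⁻¹ = β * β * c * (β * β)⁻¹ := by group
      _ = c := by rw [βc, mul_inv_cancel_right]
    have e6 : β * (y * c⁻¹) * β⁻¹ = y * c⁻¹ := by
      rw [← ey]
      calc β * (β * c * β⁻¹ * c⁻¹) * β⁻¹ = β * (β * (c * β⁻¹ * c⁻¹)) * β⁻¹ := by group
      _ = _ := by rw [εβ]; group
    rw [← conj_mul, e5, ← conj_inv, ey] at e6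
    have c1 : Commute c y := cy
    calc y * y = y * c⁻¹ * (c * y) := by group
    _ = c * y⁻¹ * (y * c) := by rw [← e6, cy]
    _ = c * c := by group
  have := h.dis r.cj c3 n3 (mul_mem cC.1 cC.1) (mul_mem cΛ cΛ) (e4 ▸ mul_mem yΛ yΛ)
  rw [← e4, hy, conj_mul, conj_eq_one_iff] at this
  exact h.inv d hd.1.2 this

theorem x_cyc (r : RE S z u) {d : G} (hd : d ∈ S ⊓ Λ z ⊓ Cx u) : d ∈ zpowers a := by
  by_cases ne : u * a = a * u
  · obtain ⟨k, rfl | rfl⟩ := (h.q.mem d).1 hd.1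
    · exact zpow_mem (mem_zpowers a) k
    · have c : Commute u a := ne
      have c' : Commute u (a ^ k * b) := (mem_Cx.1 hd.2).symm
      have := (c.zpow_right k).inv_right.mul_right c'
      rw [inv_mul_cancel_left] at this
      exact absurd ⟨ne, this⟩ (h.x_nc r.uS r.cj r.ne)
  · rcases h.x_di r ne hd with rfl | rfl
    exacts [one_mem _, h.hz ▸ pow_mem (mem_zpowers a) m]

theorem x_sq (r : RE S z u) (hβ : β ∈ S ⊓ Λ z) (e : β * u * β⁻¹ = u * z) : β * β = z := by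
  have nc : β * u ≠ u * β := fun e' => h.z1 (by rw [e', mul_inv_cancel_right] at e; exact left_eq_mul.1 e)
  by_cases ne : u * a = a * u
  · obtain ⟨k, rfl | rfl⟩ := (h.q.mem β).1 hβ
    · exact absurd ((show Commute u a from ne).zpow_right k).symm.eq nc
    · calc a ^ k * b * (a ^ k * b) = a ^ k * (b * a ^ k * b⁻¹) * (b * b) := by group
      _ = z := by rw [h.q.act_b.zpow, h.bb, ← zpow_add]; simp
  · have : β * β * u * (β * β)⁻¹ = β * (β * u * β⁻¹) * β⁻¹ := by group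
    rw [e, ← conj_mul, e, h.cz hβ.1, mul_inv_cancel_right, mul_assoc u, h.zz, mul_one] at this
    refine (h.x_di r ne ⟨mul_mem hβ hβ, mem_Cx.2 (mul_inv_eq_iff_eq_mul.1 this)⟩).resolve_left fun e' => nc ?_
    rcases h.inv β hβ.2 e' with rfl | rfl
    exacts [by simp, (h.cz r.uS).symm]

theorem x_rx (r : RE S z u) (hβ : β ∈ S ⊓ Λ z) (e : β * u * β⁻¹ = u * z) : ∃ θ, RX S Λ z u β θ := by
  obtain ⟨g, δ, e1, r', hδ, e2, p⟩ := h.x_mir r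
  have uz := h.cz r.uS
  have uu := h.sq r.cj
  obtain ⟨β', hβ'⟩ : ∃ β', β' = g⁻¹ * δ * g := ⟨_, rfl⟩
  have eu : u = g⁻¹ * z * g := by rw [← e1]; group
  have e3 : β' * z * β'⁻¹ = u * z := by
    rw [uz]
    calc β' * z * β'⁻¹ = g⁻¹ * (δ * (g * z * g⁻¹) * δ⁻¹) * g := by rw [hβ']; group
    _ = z * u := by rw [e2, eu]; group
  have e4 : β' * β' = u := by rw [eu, ← h.x_sq r' hδ e2, hβ']; group
  have e5 : β' * u * β'⁻¹ = u := by rw [← e4]; group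
  have βz : β * z * β⁻¹ = z := by rw [h.cz hβ.1, mul_inv_cancel_right]
  have ββ := h.x_sq r hβ e
  rw [← hβ'] at p
  obtain ⟨t, ht⟩ : ∃ t, t = β * β' := ⟨_, rfl⟩
  have pt : RP S Λ z u t := ht ▸ (h.x_rp hβ e).mul p
  have tz : t * z * t⁻¹ = u := by
    calc t * z * t⁻¹ = β * (β' * z * β'⁻¹) * β⁻¹ := by rw [ht]; group
    _ = u := by rw [e3, ← conj_mul, e, βz, mul_assoc, h.zz, mul_one]
  have tu : t * u * t⁻¹ = u * z := by
    calc t * u * t⁻¹ = β * (β' * u * β'⁻¹) * β⁻¹ := by rw [ht]; group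
    _ = u * z := by rw [e5, e]
  have tuz : t * (u * z) * t⁻¹ = z := by rw [← conj_mul, tu, tz, mul_assoc, ← uz, ← mul_assoc, uu, one_mul]
  have t3 : ∀ x, t ^ 3 * x * (t ^ 3)⁻¹ = t * (t * (t * x * t⁻¹) * t⁻¹) * t⁻¹ := fun x => by
    simp only [pow_succ, pow_zero, one_mul, mul_inv_rev, mul_assoc]
  obtain ⟨k, hk⟩ := x_odd (isOfFinOrder_of_finite t)
  have θz : t ^ 4 ^ k * z * (t ^ 4 ^ k)⁻¹ = u := by rw [x_four (by rw [t3, tz, tu, tuz]), tz]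
  have θu : t ^ 4 ^ k * u * (t ^ 4 ^ k)⁻¹ = u * z := by rw [x_four (by rw [t3, tu, tuz, tz]), tu]
  have pθ := pt.pow (4 ^ k)
  refine ⟨t ^ 4 ^ k, r.uS, r.ne, r.cj, hβ, e, mem_normalizer_of_forall fun x hx => pθ.mem hx, θz, θu,
    pθ.dec h.syl.pgroup hk, fun x hx => ?_⟩
  -- `β t⁻¹ β⁻¹ = z t`
  have e6 : β * t⁻¹ * β⁻¹ = z * t := by
    have a1 : β'⁻¹ = β' * u := by rw [inv_eq_iff_mul_eq_one, ← mul_assoc, e4, uu]
    have a2 : β⁻¹ = β * z := by rw [inv_eq_iff_mul_eq_one, ← mul_assoc, ββ, h.zz]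
    calc β * t⁻¹ * β⁻¹ = β * β'⁻¹ * (β * β)⁻¹ := by rw [ht]; group
    _ = t * (u * z) * t⁻¹ * t := by rw [a1, ββ, h.z_inv, ht]; group
    _ = z * t := by rw [tuz]
  have e7 : ∀ n : ℕ, ∀ x ∈ S ⊓ Cx u, (z * t) ^ n * x * ((z * t) ^ n)⁻¹ = t ^ n * x * (t ^ n)⁻¹ := by
    intro n x hx
    induction n with
    | zero => simp
    | succ n ih =>
      have := h.cz ((pt.pow (n + 1)).mem hx).1
      calc (z * t) ^ (n + 1) * x * ((z * t) ^ (n + 1))⁻¹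
          = z * (t * ((z * t) ^ n * x * ((z * t) ^ n)⁻¹) * t⁻¹) * z⁻¹ := by
            simp only [pow_succ', mul_inv_rev, mul_assoc]
      _ = z * (t ^ (n + 1) * x * (t ^ (n + 1))⁻¹) * z⁻¹ := by rw [ih, pow_succ']; group
      _ = _ := by rw [← this, mul_inv_cancel_right]
  have e8 := e7 (4 ^ k) x hx.1
  rw [← e6, conj_pow, inv_pow, ← mem_Cx.1 hx.2, mul_inv_cancel_right] at e8
  have xC : β⁻¹ * x * β⁻¹⁻¹ ∈ S ⊓ Cx u ⊓ Cx (t ^ 4 ^ k) :=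
    ⟨h.x_nC (inv_mem hβ.1) (h.x_inv hβ.1 e) hx.1, mem_Cx.2 (by
      generalize t ^ 4 ^ k = s at e8
      conv_rhs => rw [← e8]
      group)⟩
  have yC := mul_mem xC (inv_mem hx)
  have yΛ : β⁻¹ * x * β⁻¹⁻¹ * x⁻¹ ∈ Λ z := by
    have := (Λ z).mul_mem ((Λ z).inv_mem hβ.2) (h.nΛ (h.cz hx.1.1) hβ.2)
    convert this using 1; group
  have := h.dis (IsConj.refl z) r.cj r.ne.symm yC.1.1 yΛ (by
    have := (h.memΛ (t ^ 4 ^ k)).2 yΛ
    rwa [θz, ← mem_Cx.1 yC.2, mul_inv_cancel_right] at this)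
  calc β * x = β * (β⁻¹ * x * β⁻¹⁻¹ * x⁻¹) * x := by rw [this, mul_one]
  _ = x * β := by group

end RB

theorem RB.cases (h : RB S M Λ m a b z) :
    (∃ u θ, RBA S M Λ m a b z u θ) ∨ ∃ u i θ, RBC S M Λ m a b z u i θ := by
  by_cases hA : ∃ u, RE S z u ∧ u * a = a * u
  · obtain ⟨u, r, ua⟩ := hA
    obtain ⟨d, hd, e⟩ := h.x_mv r.uS r.cj r.ne
    have c : Commute a u := ua.symm
    have e' : b * u * b⁻¹ = u * z := by
      obtain ⟨k, rfl | rfl⟩ := (h.q.mem d).1 hd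
      · rw [(c.zpow_left k).eq, mul_inv_cancel_right] at e
        exact absurd (left_eq_mul.1 e) h.z1
      · have c' : Commute a (u * z) := c.mul_right (h.cz h.aS)
        calc b * u * b⁻¹ = (a ^ k)⁻¹ * (a ^ k * b * u * (a ^ k * b)⁻¹) * a ^ k := by group
        _ = u * z := by rw [e, mul_assoc, ← (c'.zpow_left k).eq, inv_mul_cancel_left]
    obtain ⟨θ, x⟩ := h.x_rx r h.q.b_mem e'
    refine .inl ⟨u, θ, h, x, ua, fun v hv c ne p hp q hq => ?_⟩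
    obtain ⟨k, -, r', hk⟩ := h.x_ext hv c ne
    have := comm_of_mem_zpowers (h.x_cyc r' (hk p hp)) (h.x_cyc r' (hk q hq))
    rw [conj_mul, conj_mul] at this
    exact mul_left_cancel (mul_right_cancel this)
  · push Not at hA
    have := h.simple
    obtain ⟨v, hv, ne, c⟩ := GHM.exists_conj_ne h.ncomm h.syl h.zS h.z1 h.zz
    obtain ⟨k, -, r, -⟩ := h.x_ext hv c ne
    obtain ⟨i, hi, e⟩ := h.x_ia r.uS (hA _ r)
    have iD : i ∈ S ⊓ Λ z := zpowers_le.2 h.q.a_mem hi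
    obtain ⟨θ, x⟩ := h.x_rx r iD e
    refine .inr ⟨_, i, θ, h, x, hi, h.x_sq r iD e, fun v hv c ne d hd e => ?_⟩
    obtain ⟨k, kz, r', hk⟩ := h.x_ext hv c ne
    rcases h.x_di r' (hA _ r') (hk d ⟨hd, mem_Cx.2 e⟩) with e' | e'
    · exact .inl (conj_eq_one_iff.1 e')
    · exact .inr (mul_left_cancel (mul_right_cancel (e'.trans kz.symm)))

end CfsgLib.GHE
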