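import Mathlib
import Cfsg.Agent.Lib.GHE.Defs
import Cfsg.Agent.Lib.GHE.Defs3
import Cfsg.Agent.Lib.TwoGrp.QD

/-! Block SD: the model `Hol(Z₈)` and the frames.  See `plans/GHE_SD.md`. -/

set_option autoImplicit false

namespace CfsgLib.GHE

open Subgroup Cfsg CfsgLib.W2 CfsgLib.Tech CfsgLib.Sect CfsgLib.PComp CfsgLib.DihSyl
  CfsgLib.GW.Cor CfsgLib.TwoGrp
open CfsgLib.LBal hiding cj
open scoped MatrixGroups commutatorElement

universe u

/-- `x ^ i * a ^ p * v ^ q`, where `a x a = x ^ 3`, `v x v = x ^ 5` -/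
structure Hol where
  i : Fin 8
  p : Bool
  q : Bool
deriving DecidableEq, Fintype

namespace Hol

/-- the exponent of the automorphism -/
def s (p q : Bool) : Fin 8 := cond p 3 1 * cond q 5 1

instance : Mul Hol := ⟨fun e f => ⟨e.i + s e.p e.q * f.i, e.p ^^ f.p, e.q ^^ f.q⟩⟩
instance : One Hol := ⟨⟨0, false, false⟩⟩
instance : Inv Hol := ⟨fun e => ⟨-(s e.p e.q * e.i), e.p, e.q⟩⟩

theorem mul_def (e f : Hol) : e * f = ⟨e.i + s e.p e.q * f.i, e.p ^^ f.p, e.q ^^ f.q⟩ := rfl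

instance : Group Hol := Group.ofLeftAxioms (by
  rintro ⟨i, p, q⟩ ⟨j, p', q'⟩ ⟨k, p'', q''⟩
  simp only [mul_def, Hol.mk.injEq, Bool.xor_assoc, and_true]
  revert i j k p q p' q'
  decide +kernel) (by decide +kernel) (by decide +kernel)

/-- generators -/
def X : Hol := ⟨1, false, false⟩
/-- generators -/
def A : Hol := ⟨0, true, false⟩
/-- generators -/
def V : Hol := ⟨0, false, true⟩
/-- `C = X ^ 2` -/
def C : Hol := ⟨2, false, false⟩
/-- `W = X ^ 4` -/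
def W : Hol := ⟨4, false, false⟩

theorem q_mul (e f : Hol) : (e * f).q = (e.q ^^ f.q) := rfl
theorem p_mul (e f : Hol) : (e * f).p = (e.p ^^ f.p) := rfl
theorem q_inv (e : Hol) : e⁻¹.q = e.q := rfl
theorem p_inv (e : Hol) : e⁻¹.p = e.p := rfl
theorem X_sq : X ^ 2 = C := by decide
theorem X_four : X ^ 4 = W := by decide
theorem dec : ∀ e : Hol, e = X ^ e.i.val * cond e.p A 1 * cond e.q V 1 := by decide +kernel
theorem card : Nat.card Hol = 32 := by rw [Nat.card_eq_fintype_card]; rfl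

end Hol

open Hol

variable {G : Type u} [Group G]

/-- `K ≤ N ≤ Aut K`, and `P ∩ K = ⟨x, a⟩` is semidihedral of order 16 -/
structure SL {N : Type u} [Group N] (K P : Subgroup N) (x a : N) : Prop where
  nrm : K.Normal
  simple : IsSimpleGroup K
  ncomm : ¬ IsMulCommutative K
  cent : centralizer (K : Set N) = ⊥
  syl : IsSylowIn 2 P ⊤
  qd : IsQD (P ⊓ K) 1 x a

/-- `π` is a homomorphism of `T` into `Hol` with kernel `T ∩ M`; the elements of `T ∩ LM` are those with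
`q = false` -/
structure HP (T M LM : Subgroup G) (x a : G) (π : G → Hol) : Prop where
  mul : ∀ s ∈ T, ∀ s' ∈ T, π (s * s') = π s * π s'
  ker : ∀ s ∈ T, π s = 1 ↔ s ∈ M
  inn : ∀ s ∈ T, (π s).q = false ↔ s ∈ LM
  px : π x = X
  pa : π a = A

variable [Finite G]

/-- a frame for a component with semidihedral Sylow 2-subgroups of order 16 -/
structure SF (y : G) (T : Subgroup G) (x a ρ : G) (π : G → Hol) : Prop
    extends HP T (MM y) (LL y ⊔ MM y) x a π where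
  ord : orderOf y = 2
  pc : PC 2 (LL y) (Cx y)
  odd : Odd (Nat.card (LL y ⊓ MM y : Subgroup G))
  syl : IsSylowIn 2 T (Cx y)
  qd : IsQD (T ⊓ LL y) 1 x a
  rL : ρ ∈ LL y
  cy : Cy ρ (x ^ 4) a
  rc : ∀ s ∈ T, π s = 1 ∨ π s = V → s * ρ = ρ * s
  out : ∀ s ∈ T, s * s = 1 → (π s).q = true →
    ∃ k ∈ Cx y, k * s * k⁻¹ ∈ T ∧ π (k * s * k⁻¹) = V

/-- every member of `I` has frames -/
def AllF (I : Set G) : Prop :=
  ∀ y ∈ I, ∀ T : Subgroup G, IsSylowIn 2 T (Cx y) → ∃ x a ρ π, SF y T x a ρ π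

/-- configuration C with `R = ⟨t⟩`, `t ^ g = t w` -/
structure C2 (I : Set G) (K₀ : Type u) [Group K₀] (S T : Subgroup G) (t g x a ρ : G) (π : G → Hol) :
    Prop extends CC I K₀ S T t g where
  f : SF t T x a ρ π
  R : ∀ r ∈ T ⊓ MM t, r = 1 ∨ r = t
  gt : g * t * g⁻¹ = t * x ^ 4
  gw : g * x ^ 4 * g⁻¹ = x ^ 4
  nc : ¬ IsConj t (x ^ 4)

/-- configuration C with `T = φ(Hol) × ⟨t⟩` -/
structure C3 (I : Set G) (K₀ : Type u) [Group K₀] (S T : Subgroup G) (t g x a ρ : G) (π : G → Hol)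
    (φ : Hol →* G) : Prop extends C2 I K₀ S T t g x a ρ π where
  eX : φ X = x
  eA : φ A = a
  sec : ∀ e, φ e ∈ T ∧ π (φ e) = e
  memL : ∀ e, φ e ∈ LL t ↔ e.q = false
  gc : g * φ C * g⁻¹ = φ C ∨ g * φ C * g⁻¹ = (φ C)⁻¹

end CfsgLib.GHE
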