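import Mathlib
import Cfsg.Agent.Lib.GHE.Defs
import Cfsg.Agent.Lib.TwoGrp.Wr

/-!
Block W: vocabulary and the arithmetic of `H = Z₄ ≀ Z₂ = ⟨a, b⟩ ⟨s⟩`.  We write `u₁ = a a`, `u₂ = b b`,
`w = u₁ u₂`, `A = WA a b`, `U = WU a b`, `E = WE a b t`.
-/

set_option autoImplicit false
set_option linter.unusedSectionVars false

namespace CfsgLib.GHE

open Subgroup Cfsg CfsgLib.W2 CfsgLib.Tech CfsgLib.Sect CfsgLib.TwoGrp
open scoped commutatorElement

universe u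

variable {G : Type u} [Group G]

abbrev WA (a b : G) : Subgroup G := zpowers a ⊔ zpowers b

abbrev WU (a b : G) : Subgroup G := zpowers (a * a) ⊔ zpowers (b * b)

abbrev WE (a b t : G) : Subgroup G := WU a b ⊔ zpowers t

/-- the elements of `N(A)` that commute with `p` modulo `A` -/
def cA (A : Subgroup G) (p : G) : Subgroup G where
  carrier := {q | q ∈ normalizer (A : Set G) ∧ q * p * q⁻¹ * p⁻¹ ∈ A}
  one_mem' := ⟨one_mem _, by simp⟩
  mul_mem' := fun {x y} hx hy => ⟨mul_mem hx.1 hy.1, by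
    have := mul_mem (conj_mem_of_mem_normalizer hx.1 hy.2) hx.2
    convert this using 1; group⟩
  inv_mem' := fun {x} hx => ⟨inv_mem hx.1, by
    have := inv_mem (conj_mem_of_mem_normalizer' hx.1 hx.2)
    convert this using 1; group⟩

theorem mem_cA {A : Subgroup G} {p q : G} :
    q ∈ cA A p ↔ q ∈ normalizer (A : Set G) ∧ q * p * q⁻¹ * p⁻¹ ∈ A := Iff.rfl

theorem cA_symm {A : Subgroup G} {p q : G} (h : q ∈ cA A p) (hp : p ∈ normalizer (A : Set G)) :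
    p ∈ cA A q := ⟨hp, by have := inv_mem h.2; convert this using 1; group⟩

theorem le_cA {A : Subgroup G} {p : G} (hp : p ∈ normalizer (A : Set G)) : A ≤ cA A p :=
  fun q hq => ⟨le_normalizer hq, by
    have := mul_mem hq (conj_mem_of_mem_normalizer hp (inv_mem hq))
    convert this using 1; group⟩

/-- the frame: `L` is normal in `C(y)`, `T ∩ L = Z₄ ≀ Z₂`, with the fusion of a simple group -/
structure WF (y : G) (L T : Subgroup G) (a b s σ : G) : Prop where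
  sr : SR 16 (⊤ : Subgroup G)
  ord : orderOf y = 2
  le : L ≤ Cx y
  nrm : Cx y ≤ normalizer (L : Set G)
  syl : IsSylowIn 2 T (Cx y)
  ny : y ∉ L
  wr : IsWr (T ⊓ L) 1 a b s
  σL : σ ∈ L
  σa : σ * (a * a) * σ⁻¹ = b * b
  σb : σ * (b * b) * σ⁻¹ = a * a * (b * b)
  fus : ∀ v ∈ T ⊓ L, v * v = 1 → v ≠ 1 → v ≠ a * a * (b * b) →
    ∃ l ∈ L, l * (a * a * (b * b)) * l⁻¹ = a * a * (b * b) ∧ l * v * l⁻¹ = a * a

/-- `T = (T ∩ L) ⋊ ⟨η⟩` -/
structure WS (y : G) (L T : Subgroup G) (a b s σ η : G) : Prop extends WF y L T a b s σ where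
  ηT : η ∈ T
  act : (η * a * η⁻¹ = a ∧ η * b * η⁻¹ = b) ∨ (η * a * η⁻¹ = a⁻¹ ∧ η * b * η⁻¹ = b⁻¹)
  gen : ∀ x ∈ T, ∃ h ∈ T ⊓ L, ∃ j : ℕ, x = h * η ^ j
  disj : ∀ j : ℕ, η ^ j ∈ L → η ^ j = 1
  yη : ∃ k : ℕ, η ^ 2 ^ k = y

/-- configuration C: `x` normalises `T`, centralises `U` and maps `t` to `t w` -/
structure WC (t : G) (L T : Subgroup G) (a b s σ η x : G) : Prop extends WS t L T a b s σ η where
  ca : η * a = a * η
  cb : η * b = b * η
  ηt : η = t ∨ η * η = t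
  xa : x * (a * a) * x⁻¹ = a * a
  xb : x * (b * b) * x⁻¹ = b * b
  xt : x * t * x⁻¹ = t * (a * a * (b * b))
  xn : x ∈ normalizer (T : Set G)
  pg : IsPGroup 2 (T ⊔ zpowers x : Subgroup G)
  xs : x * s * x⁻¹ ∈ L
  nw : ¬ IsConj t (a * a * (b * b))

/-- `Q` is a Sylow 2-subgroup of `N(E)` and `ρ` normalises `Q₀ = C_Q(U)` -/
structure WQ (t : G) (L T : Subgroup G) (a b s σ η x : G) (Q : Subgroup G) (ρ : G) : Prop
    extends WC t L T a b s σ η x where
  sylQ : IsSylowIn 2 Q (normalizer (WE a b t : Set G))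
  TQ : T ≤ Q
  xQ : x ∈ Q
  inf : ∀ q ∈ Q, q * t * q⁻¹ = t → q ∈ T
  Qw : ∀ q ∈ Q, q * (a * a * (b * b)) * q⁻¹ = a * a * (b * b)
  Qu : ∀ q ∈ Q, q * (a * a) * q⁻¹ = a * a ∨ q * (a * a) * q⁻¹ = b * b
  Qt : ∀ q ∈ Q, ∃ v ∈ WU a b, q * t * q⁻¹ = t * v
  ρo : Odd (orderOf ρ)
  ρt : ρ * t * ρ⁻¹ = t
  ρa : ρ * (a * a) * ρ⁻¹ = b * b
  ρb : ρ * (b * b) * ρ⁻¹ = a * a * (b * b)
  ρn : ρ ∈ normalizer ((Q ⊓ Cx (a * a) : Subgroup G) : Set G)

/-- the end configuration: `Q = (Z₈ ≀ Z₂) ⟨t⟩` -/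
structure WZ (t : G) (M Q : Subgroup G) (a b s p q : G) : Prop where
  wr : IsWr M 2 p q s
  le : M ≤ Q
  tM : t ∉ M
  cases : ∀ g ∈ Q, g ∈ M ∨ t * g ∈ M
  pa : p ^ 4 = a * a
  qb : q ^ 4 = b * b
  tp : t * p * t⁻¹ = p ^ 5
  tq : t * q * t⁻¹ = q ^ 5

namespace W0

variable {H : Subgroup G} {a b s : G} (h : IsWr H 1 a b s)
include h

local notation "u" => wu a b

theorem ea : a = u 1 0 := (wu_one_zero a b).symm
theorem eb : b = u 0 1 := (wu_zero_one a b).symm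
theorem e1 : a * a = u 2 0 := by simp [wu, zpow_ofNat, pow_two]
theorem e2 : b * b = u 0 2 := by simp [wu, zpow_ofNat, pow_two]
theorem ew : a * a * (b * b) = u 2 2 := by simp [wu, zpow_ofNat, pow_two]
theorem e0 : (1 : G) = u 0 0 := (wu_zero a b).symm

theorem ueq {i j k l : ℤ} : u i j = u k l ↔ (4 : ℤ) ∣ i - k ∧ (4 : ℤ) ∣ j - l := by
  simpa using h.u_eq_iff (a := i) (b := j) (c := k) (d := l)

theorem uone {i j : ℤ} : u i j = 1 ↔ (4 : ℤ) ∣ i ∧ (4 : ℤ) ∣ j := by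
  simpa using h.u_eq_one_iff (a := i) (b := j)

theorem memA {g : G} : g ∈ WA a b ↔ ∃ i j : ℤ, g = u i j := mem_sup_zpowers_iff_wu h.comm

theorem uA (i j : ℤ) : u i j ∈ WA a b := (memA h).2 ⟨i, j, rfl⟩

theorem aA : a ∈ WA a b := mem_sup_left (mem_zpowers a)
theorem bA : b ∈ WA a b := mem_sup_right (mem_zpowers b)

theorem A_le : WA a b ≤ H := fun g hg => by
  obtain ⟨i, j, rfl⟩ := (memA h).1 hg; exact h.u_mem i j

theorem aH : a ∈ H := A_le h (aA h)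
theorem bH : b ∈ H := A_le h (bA h)
theorem sH : s ∈ H := h.t_mem

theorem commA {x y : G} (hx : x ∈ WA a b) (hy : y ∈ WA a b) : x * y = y * x := by
  obtain ⟨i, j, rfl⟩ := (memA h).1 hx
  obtain ⟨k, l, rfl⟩ := (memA h).1 hy
  exact h.u_comm i j k l

theorem pow4 {x : G} (hx : x ∈ WA a b) : x * x * (x * x) = 1 := by
  obtain ⟨i, j, rfl⟩ := (memA h).1 hx
  simp only [h.u_mul_u, uone h]; omega

theorem cardA : Nat.card (WA a b) = 16 := by
  rw [card_sup_zpowers_of_comm h.comm h.disj, h.ord, h.ord']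

theorem s_notA : s ∉ WA a b := fun hs => by
  obtain ⟨i, j, e⟩ := (memA h).1 hs
  exact h.ut_ne_u 0 0 i j (by rw [h.t_eq]; exact e)

theorem H_cases {g : G} (hg : g ∈ H) : g ∈ WA a b ∨ g * s ∈ WA a b := by
  obtain ⟨i, j, rfl | rfl⟩ := (h.mem g).1 hg
  · exact Or.inl (uA h i j)
  · right; rw [mul_assoc, h.tt, mul_one]; exact uA h i j

theorem memU {g : G} : g ∈ WU a b ↔ ∃ i j : ℤ, g = u (2 * i) (2 * j) := by
  have c : a * a * (b * b) = b * b * (a * a) := commA h (mul_mem (aA h) (aA h)) (mul_mem (bA h) (bA h))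
  rw [mem_sup_zpowers_iff_wu c]
  have : ∀ i j : ℤ, wu (a * a) (b * b) i j = u (2 * i) (2 * j) := fun i j => by
    simp [wu, zpow_mul, zpow_ofNat, pow_two]
  simp only [this]

theorem memU' {g : G} : g ∈ WU a b ↔ g ∈ WA a b ∧ g * g = 1 := by
  rw [memU h, memA h]
  constructor
  · rintro ⟨i, j, rfl⟩
    exact ⟨⟨_, _, rfl⟩, by rw [h.u_mul_u, uone h]; omega⟩
  · rintro ⟨⟨i, j, rfl⟩, e⟩
    rw [h.u_mul_u, uone h] at e
    exact ⟨i / 2, j / 2, (ueq h).2 (by omega)⟩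

theorem U_le : WU a b ≤ WA a b := fun _ hg => ((memU' h).1 hg).1

theorem U_sq {g : G} (hg : g ∈ WU a b) : g * g = 1 := ((memU' h).1 hg).2

theorem sq_U {g : G} (hg : g ∈ WA a b) : g * g ∈ WU a b := (memU' h).2 ⟨mul_mem hg hg, pow4 h hg⟩

theorem u1U : a * a ∈ WU a b := mem_sup_left (mem_zpowers _)
theorem u2U : b * b ∈ WU a b := mem_sup_right (mem_zpowers _)
theorem wU : a * a * (b * b) ∈ WU a b := mul_mem (u1U h) (u2U h)

theorem U_cases {g : G} (hg : g ∈ WU a b) :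
    g = 1 ∨ g = a * a ∨ g = b * b ∨ g = a * a * (b * b) := by
  obtain ⟨i, j, rfl⟩ := (memU h).1 hg
  rw [ew h, e1 h, e2 h, uone h, ueq h, ueq h, ueq h]; omega

theorem cardU : Nat.card (WU a b) = 4 := by
  have c : a * a * (b * b) = b * b * (a * a) := commA h (mul_mem (aA h) (aA h)) (mul_mem (bA h) (bA h))
  have o1 : orderOf (a * a) = 2 := ord_two (U_sq h (u1U h)) (by rw [e1 h, Ne, uone h]; omega)
  have o2 : orderOf (b * b) = 2 := ord_two (U_sq h (u2U h)) (by rw [e2 h, Ne, uone h]; omega)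
  rw [card_sup_zpowers_of_comm c, o1, o2]
  refine eq_bot_iff.2 (le_trans (inf_le_inf ?_ ?_) h.disj.le) <;> rw [zpowers_le]
  · exact mul_mem (mem_zpowers a) (mem_zpowers a)
  · exact mul_mem (mem_zpowers b) (mem_zpowers b)

theorem u1_ne : a * a ≠ 1 := by rw [e1 h, Ne, uone h]; omega
theorem u2_ne : b * b ≠ 1 := by rw [e2 h, Ne, uone h]; omega
theorem w_ne : a * a * (b * b) ≠ 1 := by rw [ew h, Ne, uone h]; omega
theorem u12 : a * a ≠ b * b := by rw [e1 h, e2 h, Ne, ueq h]; omega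
theorem u1w : a * a ≠ a * a * (b * b) := by rw [ew h, e1 h, Ne, ueq h]; omega
theorem u2w : b * b ≠ a * a * (b * b) := by rw [ew h, e2 h, Ne, ueq h]; omega
theorem u1u1 : a * a * (a * a) = 1 := U_sq h (u1U h)
theorem u2u2 : b * b * (b * b) = 1 := U_sq h (u2U h)
theorem ww : a * a * (b * b) * (a * a * (b * b)) = 1 := U_sq h (wU h)
theorem u2u1 : b * b * (a * a) = a * a * (b * b) := commA h (U_le h (u2U h)) (U_le h (u1U h))
theorem u1_w : a * a * (a * a * (b * b)) = b * b := by rw [← mul_assoc, u1u1 h, one_mul]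
theorem u2_w : b * b * (a * a * (b * b)) = a * a := by
  rw [← mul_assoc, u2u1 h, mul_assoc (a * a), u2u2 h, mul_one]
theorem w_u1 : a * a * (b * b) * (a * a) = b * b := by
  rw [commA h (U_le h (wU h)) (U_le h (u1U h)), u1_w h]
theorem w_u2 : a * a * (b * b) * (b * b) = a * a := by rw [mul_assoc (a * a), u2u2 h, mul_one]
theorem ord_w : orderOf (a * a * (b * b)) = 2 := ord_two (ww h) (w_ne h)

theorem s_inv : s⁻¹ = s := h.t_inv
theorem su (i j : ℤ) : s * u i j * s⁻¹ = u j i := by rw [h.t_mul_u, mul_inv_cancel_right]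
theorem sa : s * a * s⁻¹ = b := h.conj
theorem sb : s * b * s⁻¹ = a := h.conj'
theorem su1 : s * (a * a) * s⁻¹ = b * b := by rw [e1 h, e2 h, su h]
theorem su2 : s * (b * b) * s⁻¹ = a * a := by rw [e1 h, e2 h, su h]
theorem sw : s * (a * a * (b * b)) * s⁻¹ = a * a * (b * b) := by rw [ew h, su h]

theorem sA {g : G} (hg : g ∈ WA a b) : s * g * s⁻¹ ∈ WA a b := by
  obtain ⟨i, j, rfl⟩ := (memA h).1 hg
  rw [su h]; exact uA h j i

/-- `w` is central in `H` -/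
theorem w_comm {g : G} (hg : g ∈ H) : g * (a * a * (b * b)) = a * a * (b * b) * g := by
  rw [ew h]; exact (h.commute_diag hg 2).eq

/-- `C_H(u₁) = A` -/
theorem A_of_comm {g : G} (hg : g ∈ H) (c : g * (a * a) = a * a * g) : g ∈ WA a b := by
  obtain ⟨i, j, rfl | rfl⟩ := (h.mem g).1 hg
  · exact uA h i j
  · rw [e1 h] at c
    have := h.commute_u_ut_iff.1 c.symm
    omega

/-- the involutions of `Z(H)` -/
theorem cen {g : G} (hg : g ∈ H) (gg : g * g = 1) (ca : g * a = a * g) (cs : g * s = s * g) :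
    g = 1 ∨ g = a * a * (b * b) := by
  have hA : g ∈ WA a b := A_of_comm h hg (by rw [← mul_assoc, ca, mul_assoc, ca, mul_assoc])
  rcases U_cases h ((memU' h).2 ⟨hA, gg⟩) with e | e | e | e
  · exact Or.inl e
  · exact absurd (by rw [← su1 h, ← e, ← cs, mul_inv_cancel_right]) (u12 h)
  · exact absurd (by rw [← su2 h, ← e, ← cs, mul_inv_cancel_right]) (u12 h)
  · exact Or.inr e

/-- an element of `H` whose commutator with `a` has order at most 2 lies in `A` -/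
theorem A_of_sq {g : G} (hg : g ∈ H) (c : g * a * g⁻¹ * a⁻¹ * (g * a * g⁻¹ * a⁻¹) = 1) :
    g ∈ WA a b := by
  obtain ⟨i, j, rfl | rfl⟩ := (h.mem g).1 hg
  · exact uA h i j
  · have e : u i j * s * a * (u i j * s)⁻¹ = u 0 1 := by
      have := h.ut_conj_u i j 1 0
      rwa [wu_one_zero] at this
    have e' : a⁻¹ = u (-1) 0 := by simp [wu]
    rw [e, e', h.u_mul_u, h.u_mul_u, uone h] at c
    omega

/-- two commuting elements of `H` with different nontrivial squares of order 2 lie in `A` -/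
theorem A_of_pair {x y : G} (hx : x ∈ H) (hy : y ∈ H) (c : x * y = y * x)
    (x4 : x * x * (x * x) = 1) (y4 : y * y * (y * y) = 1) (x2 : x * x ≠ 1) (y2 : y * y ≠ 1)
    (ne : x * x ≠ y * y) : x ∈ WA a b := by
  obtain ⟨i, j, rfl | rfl⟩ := (h.mem x).1 hx
  · exact uA h i j
  exfalso
  obtain ⟨k, l, rfl | rfl⟩ := (h.mem y).1 hy
  · have := h.commute_u_ut_iff.1 c.symm
    simp only [h.ut_sq, h.u_mul_u, Ne, uone h, ueq h] at x4 y4 x2 y2 ne
    omega
  · simp only [h.ut_sq, h.u_mul_u, Ne, uone h, ueq h] at x4 y4 x2 y2 ne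
    omega

/-- `A` is characteristic in `H` -/
theorem normA [Finite G] {n : G} (hn : ∀ g ∈ H, n * g * n⁻¹ ∈ H) : n ∈ normalizer (WA a b : Set G) := by
  have k : ∀ g : G, n * g * n⁻¹ * (n * g * n⁻¹) = n * (g * g) * n⁻¹ := fun g => by group
  have k1 : ∀ g : G, g ≠ 1 → n * g * n⁻¹ ≠ 1 := fun g hg e => hg (by simpa using e)
  have c : n * a * n⁻¹ * (n * b * n⁻¹) = n * b * n⁻¹ * (n * a * n⁻¹) := by
    rw [conj_mul, conj_mul, h.comm]
  have a4 : n * a * n⁻¹ * (n * a * n⁻¹) * (n * a * n⁻¹ * (n * a * n⁻¹)) = 1 := by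
    rw [k, k, u1u1 h]; group
  have b4 : n * b * n⁻¹ * (n * b * n⁻¹) * (n * b * n⁻¹ * (n * b * n⁻¹)) = 1 := by
    rw [k, k, u2u2 h]; group
  have a2 : n * a * n⁻¹ * (n * a * n⁻¹) ≠ 1 := by rw [k]; exact k1 _ (u1_ne h)
  have b2 : n * b * n⁻¹ * (n * b * n⁻¹) ≠ 1 := by rw [k]; exact k1 _ (u2_ne h)
  have ne : n * a * n⁻¹ * (n * a * n⁻¹) ≠ n * b * n⁻¹ * (n * b * n⁻¹) := by
    rw [k, k]; intro e; exact u12 h (by simpa using e)
  have ha := A_of_pair h (hn a (aH h)) (hn b (bH h)) c a4 b4 a2 b2 ne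
  have hb := A_of_pair h (hn b (bH h)) (hn a (aH h)) c.symm b4 a4 b2 a2 ne.symm
  refine mem_normalizer_of_cj_le ?_
  rw [cj_sup, cj_zpowers, cj_zpowers, sup_le_iff, zpowers_le, zpowers_le]
  exact ⟨ha, hb⟩

/-- an element that normalises `A` normalises `U` -/
theorem conjU {n g : G} (hn : n ∈ normalizer (WA a b : Set G)) (hg : g ∈ WU a b) :
    n * g * n⁻¹ ∈ WU a b :=
  (memU' h).2 ⟨conj_mem_of_mem_normalizer hn (U_le h hg), by rw [conj_mul, U_sq h hg]; group⟩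

/-- an element that normalises `A` and centralises `U` centralises `A / U` -/
theorem comm_U {n g : G} (hn : n ∈ normalizer (WA a b : Set G)) (h1 : n * (a * a) * n⁻¹ = a * a)
    (h2 : n * (b * b) * n⁻¹ = b * b) (hg : g ∈ WA a b) : n * g * n⁻¹ * g⁻¹ ∈ WU a b := by
  have hg' := conj_mem_of_mem_normalizer hn hg
  have e : n * (g * g) * n⁻¹ = g * g := by
    rcases U_cases h (sq_U h hg) with e | e | e | e <;> rw [e]
    · group
    · exact h1
    · exact h2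
    · rw [← conj_mul, h1, h2]
  refine (memU' h).2 ⟨mul_mem hg' (inv_mem hg), ?_⟩
  have c := commA h (inv_mem hg) hg'
  calc _ = n * g * n⁻¹ * (g⁻¹ * (n * g * n⁻¹)) * g⁻¹ := by group
    _ = n * (g * g) * n⁻¹ * (g * g)⁻¹ := by rw [c]; group
    _ = 1 := by rw [e]; group

/-- an element that centralises `u₁`, `u₂` centralises `U` -/
theorem fixU {n g : G} (h1 : n * (a * a) * n⁻¹ = a * a) (h2 : n * (b * b) * n⁻¹ = b * b)
    (hg : g ∈ WU a b) : n * g * n⁻¹ = g := by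
  rcases U_cases h hg with e | e | e | e <;> rw [e]
  · group
  · exact h1
  · exact h2
  · rw [← conj_mul, h1, h2]

theorem rho_w {ρ : G} (h1 : ρ * (a * a) * ρ⁻¹ = b * b) (h2 : ρ * (b * b) * ρ⁻¹ = a * a * (b * b)) :
    ρ * (a * a * (b * b)) * ρ⁻¹ = a * a := by rw [← conj_mul, h1, h2, u2_w h]

/-- an element that permutes `u₁, u₂, w` cyclically has no fixed point on `A` -/
theorem fpf {ρ g : G} (h1 : ρ * (a * a) * ρ⁻¹ = b * b) (h2 : ρ * (b * b) * ρ⁻¹ = a * a * (b * b))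
    (hg : g ∈ WA a b) (e : ρ * g * ρ⁻¹ = g) : g = 1 := by
  have k : ∀ v ∈ WU a b, ρ * v * ρ⁻¹ = v → v = 1 := fun v hv e => by
    rcases U_cases h hv with f | f | f | f
    · exact f
    · rw [f, h1] at e; exact absurd e.symm (u12 h)
    · rw [f, h2] at e; exact absurd e.symm (u2w h)
    · rw [f, rho_w h h1 h2] at e; exact absurd e (u1w h)
  exact k g ((memU' h).2 ⟨hg, k _ (sq_U h hg) (by rw [← conj_mul, e])⟩) e

end W0

end CfsgLib.GHE
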