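import Mathlib
import Cfsg.Agent.Lib.GHE.SdDefs
import Cfsg.Agent.Lib.GHE.Tool1
import Cfsg.Agent.Lib.GHE.LocD2
import Cfsg.Agent.Lib.Invol.Four
import Cfsg.Agent.Lib.TwoGrp.QDFus
import Cfsg.Agent.Lib.ZStar.Main

/-! Block SD: automorphisms of a simple group with Sylow 2-subgroups `SD₁₆`, I.  See `plans/GHE_SD.md`. -/

set_option autoImplicit false

namespace CfsgLib.GHE

open Subgroup Cfsg CfsgLib.W2 CfsgLib.Tech CfsgLib.Sect CfsgLib.PComp CfsgLib.DihSyl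
  CfsgLib.GW.Cor CfsgLib.TwoGrp
open CfsgLib.LBal hiding cj
open scoped MatrixGroups commutatorElement
open Hol

universe u

variable {G : Type u} [Group G] [Finite G]

variable {K P : Subgroup G} {x a s v : G}

theorem s2a_swap {S : Subgroup G} (hS : IsSylowIn 2 S K) {n y z : G} (nK : n ∈ K)
    (hn : n ∈ normalizer (S : Set G)) (cy : S ≤ Cx y) (e₁ : n * y * n⁻¹ = z) (e₂ : n * z * n⁻¹ = y) :
    y = z := by
  obtain ⟨j, k, hk, e⟩ := Nat.exists_eq_two_pow_mul_odd (orderOf_pos n).ne'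
  have h1 : n ^ k ∈ S := hS.le_of_normalizes (Q := zpowers (n ^ k)) (isPGroup_zpowers_of_pow (k := j) (by
    rw [← pow_mul, mul_comm, ← e, pow_orderOf_eq_one])) (zpowers_le.2 (pow_mem nK k))
    (zpowers_le.2 (pow_mem hn k)) (mem_zpowers _)
  obtain ⟨m, rfl⟩ := hk
  have h2 : n ^ 2 ∈ Cx y := mem_Cx'.2 (by
    calc n ^ 2 * y * (n ^ 2)⁻¹ = n * (n * y * n⁻¹) * n⁻¹ := by rw [pow_two]; group
      _ = y := by rw [e₁, e₂])
  have h3 : n ∈ Cx y := by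
    have := cy h1
    rw [pow_succ, pow_mul] at this
    exact (mul_mem_cancel_left (pow_mem h2 m)).1 this
  rw [← e₁, mem_Cx'.1 h3]

omit [Finite G] in
theorem s2a_pow (hP : IsPGroup 2 P) (hs : s ∈ P) (ne : s ∉ K) : ∃ v ∈ zpowers s, v ∉ K ∧ v * v ∈ K := by
  obtain ⟨k, hk⟩ := isPGroup_iff_mem.1 hP s hs
  replace hk : s ^ 2 ^ k ∈ K := hk ▸ one_mem K
  induction k with
  | zero => exact absurd (by simpa using hk) ne
  | succ k ih =>
    by_cases e : s ^ 2 ^ k ∈ K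
    · exact ih e
    · exact ⟨_, pow_mem (mem_zpowers s) _, e, by rwa [← pow_two, ← pow_mul, ← pow_succ]⟩

omit [Finite G] in
theorem s2a_e4 (x : G) : x ^ (4 * ((1 : ℕ) : ℤ)) = x ^ 4 := by rw [Nat.cast_one, mul_one, zpow_ofNat]

namespace SL

variable (h : SL K P x a)
include h

theorem s2a_syl : IsSylowIn 2 (P ⊓ K) K := by
  have : Fact (Nat.Prime 2) := ⟨Nat.prime_two⟩
  have := h.nrm
  have := h.syl.inf_of_le_normalizer (N := K) le_normalizer_of_normal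
  rwa [top_inf_eq] at this

omit [Finite G] in
theorem s2a_wH : x ^ 4 ∈ P ⊓ K := pow_mem h.qd.x_mem 4
omit [Finite G] in
theorem s2a_ow : orderOf (x ^ 4) = 2 := s2a_e4 x ▸ h.qd.orderOf_z
omit [Finite G] in
theorem s2a_cw {t : G} (ht : t ∈ P ⊓ K) : t * x ^ 4 = x ^ 4 * t := s2a_e4 x ▸ (h.qd.commute_z ht).eq
omit [Finite G] in
theorem s2a_aw : a ≠ x ^ 4 := s2a_e4 x ▸ h.qd.y_ne_xpow _

omit [Finite G] in
theorem s2a_fix (hs : s * x * s⁻¹ ∈ P ⊓ K) : s * x ^ 4 * s⁻¹ = x ^ 4 := by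
  have ne : (s * x * s⁻¹) ^ 4 ≠ 1 := by
    rw [conj_pow]
    exact fun e => ne_one_of_ord h.s2a_ow (conj_eq_one_iff.1 e)
  have sq : (s * x * s⁻¹) ^ 4 * (s * x * s⁻¹) ^ 4 = 1 := by
    rw [conj_pow, conj_mul, sq_of_ord h.s2a_ow, mul_one, mul_inv_cancel]
  rw [← conj_pow]
  obtain ⟨i, e | e⟩ := (h.qd.mem _).1 hs <;> rw [e] at ne sq ⊢
  · rw [← zpow_ofNat, ← zpow_mul] at ne sq ⊢
    exact ((h.qd.eq_of_sq_eq_one sq).resolve_left ne).trans (s2a_e4 x)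
  · exact absurd (by rw [← h.qd.sq_xpowy_sq i]; simp only [pow_succ, pow_zero, one_mul, mul_assoc]) ne

omit [Finite G] in
theorem s2a_U {t : G} : t ∈ closure {a, x ^ 4} ↔ t = 1 ∨ t = a ∨ t = x ^ 4 ∨ t = a * x ^ 4 :=
  Invol.mem_closure_pair_of_commute h.qd.yy (sq_of_ord h.s2a_ow) (h.s2a_cw h.qd.y_mem) t

omit [Finite G] in
theorem s2a_ca {t : G} (ht : t ∈ P ⊓ K) (c : t * a = a * t) : t ∈ closure {a, x ^ 4} := by
  have k : ∀ i : ℤ, x ^ i * a = a * x ^ i → x ^ i ∈ closure {a, x ^ 4} := fun i e => by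
    rw [h.qd.y_mul, mul_left_inj, h.qd.eq_iff] at e
    obtain ⟨j, hj⟩ := e
    obtain rfl : i = 4 * -j := by push_cast at hj; omega
    rw [zpow_mul, zpow_ofNat]
    exact zpow_mem (subset_closure (by simp)) _
  obtain ⟨i, rfl | rfl⟩ := (h.qd.mem t).1 ht
  · exact k i c
  · exact mul_mem (k i (by rwa [← mul_assoc a, mul_left_inj] at c)) (subset_closure (by simp))

omit [Finite G] in
theorem s2a_cH {t : G} (ht : t ∈ P ⊓ K) (c₁ : t * x = x * t) (c₂ : t * a = a * t) : t = 1 ∨ t = x ^ 4 := by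
  have n : a ∉ Cx x := fun e => by
    have := h.qd.conj
    rw [mem_Cx'.1 e, ← zpow_one x, ← zpow_mul, h.qd.eq_iff] at this
    norm_num at this
  rcases h.s2a_U.1 (h.s2a_ca ht c₂) with rfl | rfl | rfl | rfl
  exacts [.inl rfl, absurd (mem_Cx.2 c₁) n, .inr rfl,
    absurd ((mul_mem_cancel_right (pow_mem (mem_Cx.2 rfl) 4)).1 (mem_Cx.2 c₁)) n]

theorem s2a_fus : ∃ k ∈ K, k * a * k⁻¹ = x ^ 4 := by
  have : Fact (Nat.Prime 2) := ⟨Nat.prime_two⟩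
  have := h.simple
  have q : IsQD (h.s2a_syl.toSylow : Subgroup K) 1 _ _ := h.qd.subgroupOf inf_le_right
  obtain ⟨k, hk⟩ := isConj_iff.1 (q.isConj_of_index_ne_two fun M hM => by
    rcases (normal_of_index_eq_two hM).eq_bot_or_eq_top with e | e
    · rw [e, index_bot] at hM
      exact h.ncomm (isCyclic_of_prime_card hM).isMulCommutative
    · rw [e, index_top] at hM
      omega).1.symm
  rw [s2a_e4] at hk
  exact ⟨k, k.2, congrArg Subtype.val hk⟩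

/-- the `Z*`-theorem in `K ⟨v⟩` -/
theorem s2a_z (uu : v * v = 1) (uL : v ∉ K) (c : P ⊓ K ≤ Cx v) :
    ∃ t ∈ P ⊓ K, t ≠ 1 ∧ t * t = 1 ∧ ∃ l ∈ K, l * v * l⁻¹ = v * t := by
  have := Fact.mk Nat.prime_two
  have := h.nrm
  have := h.simple
  have hH := h.s2a_syl
  by_contra hno
  have n : v ∈ normalizer (K : Set G) := le_normalizer_of_normal (mem_top v)
  have o : orderOf v = 2 := ord_two uu fun k => uL (k ▸ one_mem _)
  obtain ⟨T, hT, le⟩ := exists_isSylowIn_ge (H := K ⊔ zpowers v) (Q := P ⊓ K ⊔ zpowers v)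
    (hH.pgroup.to_sup_of_normal_right' (isPGroup_zpowers_of_pow (k := 1) (by rwa [pow_one, pow_two]))
      fun x hx => mem_normalizer_of_forall (by
        rintro _ ⟨i, rfl⟩
        rw [((show Commute x v from mem_Cx.1 (c hx)).zpow_right i).eq, mul_inv_cancel_right]
        exact ⟨i, rfl⟩)) (sup_le_sup_right hH.le _)
  have eq := hH.eq_of_le (hT.pgroup.to_inf_left (K := K)) (le_inf (le_sup_left.trans le) hH.le) inf_le_right
  have uT := le (mem_sup_right (mem_zpowers v))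
  have iso := ZStar.isIsolatedInvolution_of_sylow hT.toSylow (u := ⟨v, hT.le uT⟩) ((orderOf_mk _ _).trans o)
    (hT.mem_toSylow.2 uT) fun g hg => Subtype.ext (by
      obtain ⟨l, hl, _, ⟨i, rfl⟩, e⟩ := (Core.mem_sup_of_le_normalizer_left (zpowers_le.2 n)).1 g.2
      have k : (g : G) * v * (g : G)⁻¹ = l * v * l⁻¹ := by rw [← e]; group
      have m : v⁻¹ * (l * v * l⁻¹) ∈ P ⊓ K :=
        eq.le (mem_inf.2 ⟨mul_mem (inv_mem uT) (k ▸ hT.mem_toSylow.1 hg), by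
          simpa [mul_assoc] using mul_mem (conj_mem_of_mem_normalizer' n hl) (inv_mem hl)⟩)
      refine k.trans (inv_mul_eq_one.1 (by_contra fun k1 => hno ⟨_, m, k1, ?_, l, hl, by group⟩)).symm
      have k2 := mem_Cx.1 (c m)
      rw [mul_inv_cancel_left, mul_assoc, inv_mul_eq_iff_eq_mul] at k2
      rw [inv_eq_of_mul_eq_one_right uu, mul_assoc, ← mul_assoc _ v, k2, mul_assoc v, conj_mul, uu, mul_one,
        mul_inv_cancel, mul_one, uu])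
  have core : opOf 2 K = ⊥ := by
    rcases (inferInstance : (pPrimeCore 2 K).Normal).eq_bot_or_eq_top with e | e
    · rw [opOf_def, e, Subgroup.map_bot]
    · have := odd_card_opOf K
      rw [opOf_def, e, ← MonoidHom.range_eq_map, range_subtype] at this
      have := this.of_dvd_nat (orderOf_dvd_natCard K h.qd.y_mem.2)
      rw [h.qd.orderOf_y] at this
      exact absurd this (by decide)
  have : v ∈ centralizer (K : Set G) := mem_centralizer_iff.2 fun k hk => by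
    have : v * k * v⁻¹ * k⁻¹ ∈ opOf 2 K := inf_opOf_le (K := K ⊔ zpowers v) le_sup_left
      ⟨K.mul_mem (conj_mem_of_mem_normalizer n hk) (K.inv_mem hk),
        ⟨_, ZStar.zstar iso ⟨k, mem_sup_left hk⟩, rfl⟩⟩
    rwa [core, mem_bot, mul_inv_eq_one, mul_inv_eq_iff_eq_mul, eq_comm] at this
  rw [h.cent, mem_bot] at this
  exact uL (this ▸ one_mem K)

theorem s2a_z' (uu : v * v = 1) (uL : v ∉ K) (c : P ⊓ K ≤ Cx v) :
    (∃ l ∈ K, l * v * l⁻¹ = v * x ^ 4) ∨ ∀ j : ℤ, ∃ l ∈ K, l * v * l⁻¹ = v * (x ^ (2 * j) * a) := by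
  obtain ⟨t, ht, t1, tt, l, hl, e⟩ := h.s2a_z uu uL c
  rcases h.qd.eq_of_orderOf_two ht (ord_two tt t1) with rfl | ⟨i, rfl⟩
  · exact .inl ⟨l, hl, s2a_e4 x ▸ e⟩
  refine .inr fun j => ?_
  obtain ⟨k, hk⟩ := h.qd.exists_conj_xpowy (2 * i) (j - i)
  refine ⟨x ^ k * l, mul_mem (h.qd.xpow_mem k).2 hl, ?_⟩
  rw [show x ^ k * l * v * (x ^ k * l)⁻¹ = x ^ k * (l * v * l⁻¹) * (x ^ k)⁻¹ by group, e, ← conj_mul, hk,
    mem_Cx'.1 (c (h.qd.xpow_mem k)), show 2 * i + 2 * (j - i) = 2 * j by ring]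

end SL

theorem SL.fix (h : SL K P x a) (hs : s ∈ P) : s * x ^ 4 = x ^ 4 * s := mul_inv_eq_iff_eq_mul.1 (h.s2a_fix
    ⟨P.mul_mem (P.mul_mem hs h.qd.x_mem.1) (P.inv_mem hs), h.nrm.conj_mem _ h.qd.x_mem.2 s⟩)

/-- Frattini argument for `A = C_P(a)` -/
theorem SL.rho (h : SL K P x a) : ∃ ρ ∈ K, Cy ρ (x ^ 4) a ∧
    ∀ s ∈ P, s * a = a * s → ρ * s * ρ⁻¹ * s⁻¹ ∈ closure {a, x ^ 4} := by
  have : Fact (Nat.Prime 2) := ⟨Nat.prime_two⟩
  have := h.nrm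
  have fx : P ≤ Cx (x ^ 4) := fun s hs => mem_Cx.2 (h.fix hs)
  have aa := h.qd.yy
  have c := h.s2a_cw h.qd.y_mem
  obtain ⟨k, hk, e⟩ := h.s2a_fus
  obtain ⟨g', hg', g1, g2⟩ := exists_ext h.syl.pgroup (le_sup_left (b := K))
    (isSylowIn_cent_of_central (h.syl.of_le le_sup_left le_top) fx) (mem_sup_right hk) e
  obtain ⟨p, hp, g, hg, rfl⟩ := mem_sup_of_normal_right.1 hg'
  have g1 : g * a * g⁻¹ = x ^ 4 := by
    rw [← mem_Cx'.1 (fx (inv_mem hp)), ← g1]; group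
  have g2 : ∀ s ∈ P, s * a = a * s → g * s * g⁻¹ ∈ P := fun s hs cs => by
    have := mul_mem (mul_mem (inv_mem hp) (g2 s hs cs)) hp
    rwa [show p⁻¹ * (p * g * s * (p * g)⁻¹) * p = g * s * g⁻¹ by group] at this
  obtain ⟨i, hi⟩ : ∃ i : ℤ, g * x ^ 4 * g⁻¹ = x ^ (2 * i) * a := by
    refine (h.qd.eq_of_orderOf_two ⟨g2 _ h.s2a_wH.1 c.symm, K.mul_mem (K.mul_mem hg h.s2a_wH.2) (K.inv_mem hg)⟩
      (((MulAut.conj g).orderOf_eq _).trans h.s2a_ow)).resolve_left fun e => h.s2a_aw ?_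
    rw [s2a_e4] at e
    exact conj_injective (g1.trans e.symm)
  obtain ⟨j, hj⟩ := h.qd.exists_conj_xpowy (2 * i) (2 - i)
  rw [show 2 * i + 2 * (2 - i) = 4 by ring, zpow_ofNat, ← c, ← hi] at hj
  have xj := h.qd.xpow_mem j
  obtain ⟨σ, hσ, s1, s2, s3⟩ : ∃ σ ∈ K, σ * a * σ⁻¹ = x ^ 4 ∧ σ * x ^ 4 * σ⁻¹ = a * x ^ 4 ∧
      ∀ s ∈ P, s * a = a * s → σ * s * σ⁻¹ ∈ P := by
    have e : ∀ t, x ^ j * g * t * (x ^ j * g)⁻¹ = x ^ j * (g * t * g⁻¹) * (x ^ j)⁻¹ := fun t => by group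
    exact ⟨x ^ j * g, mul_mem xj.2 hg, by rw [e, g1, mem_Cx'.1 (fx xj.1)], by rw [e, hj],
      fun s hs cs => by rw [e]; exact mul_mem (mul_mem xj.1 (g2 s hs cs)) (inv_mem xj.1)⟩
  have s4 : σ * (a * x ^ 4) * σ⁻¹ = a := by
    rw [← conj_mul, s1, s2, c, ← mul_assoc, sq_of_ord h.s2a_ow, one_mul]
  have nA : σ ∈ normalizer ((P ⊓ Cx a : Subgroup G) : Set G) := mem_normalizer_of_forall fun s hs =>
    mem_inf.2 ⟨s3 s hs.1 (mem_Cx.1 hs.2), by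
      have : σ * s * σ⁻¹ ∈ Cx (σ * (a * x ^ 4) * σ⁻¹) :=
        conj_mem_Cx.2 (mem_Cx.2 (Commute.mul_right (a := s) (mem_Cx.1 hs.2) (h.fix hs.1)))
      rwa [s4] at this⟩
  obtain ⟨n, hn⟩ := ld2_cy (σ := σ⁻¹) (w := x ^ 4) (a := a) (by rw [← s1]; group)
    (by conv_lhs => rw [← s4]
        group) aa c
  refine ⟨σ⁻¹ ^ n, pow_mem (inv_mem hσ) n, hn, fun s hs cs => ?_⟩
  have m := mul_mem (conj_mem_of_mem_normalizer (pow_mem (inv_mem nA) n) (mem_inf.2 ⟨hs, mem_Cx.2 cs⟩))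
    (inv_mem (mem_inf.2 ⟨hs, mem_Cx.2 cs⟩))
  refine h.s2a_ca ⟨m.1, ?_⟩ (mem_Cx.1 m.2)
  rw [mul_assoc, mul_assoc, ← mul_assoc s]
  exact mul_mem (pow_mem (inv_mem hσ) n) (h.nrm.conj_mem _ (inv_mem (pow_mem (inv_mem hσ) n)) s)

theorem SL.cen (h : SL K P x a) (hs : s ∈ P) (c₁ : s * x = x * s) (c₂ : s * a = a * s) :
    s = 1 ∨ s = x ^ 4 := by
  have : Fact (Nat.Prime 2) := ⟨Nat.prime_two⟩
  by_cases sK : s ∈ K
  · exact h.s2a_cH ⟨hs, sK⟩ c₁ c₂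
  exfalso
  obtain ⟨v, hv, vK, vv⟩ := s2a_pow h.syl.pgroup hs sK
  have vP : v ∈ P := zpowers_le.2 hs hv
  have vx : Commute v x := mem_Cx.1 (zpowers_le.2 (mem_Cx.2 c₁) hv)
  have va : Commute v a := mem_Cx.1 (zpowers_le.2 (mem_Cx.2 c₂) hv)
  have c : P ⊓ K ≤ Cx v := fun t ht => by
    obtain ⟨i, rfl | rfl⟩ := (h.qd.mem t).1 ht
    exacts [mem_Cx.2 (vx.zpow_right i).symm, mem_Cx.2 ((vx.zpow_right i).mul_right va).symm]
  have ww := sq_of_ord h.s2a_ow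
  rcases h.s2a_cH ⟨mul_mem vP vP, vv⟩ (vx.mul_left vx) (va.mul_left va) with e | e
  · have vw : Commute v (x ^ 4) := vx.pow_right 4
    have c' : P ⊓ K ≤ Cx (v * x ^ 4) := fun t ht =>
      mem_Cx.2 (Commute.mul_right (a := t) (mem_Cx.1 (c ht)) (h.s2a_cw ht))
    obtain ⟨l, hl, el⟩ : ∃ l ∈ K, l * v * l⁻¹ = v * x ^ 4 := by
      rcases h.s2a_z' e vK c with k | k
      · exact k
      rcases h.s2a_z' (v := v * x ^ 4) (Invol.mul_mul_self_of_commute e ww vw)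
        (fun t => vK ((K.mul_mem_cancel_right h.s2a_wH.2).1 t)) c' with ⟨l, hl, e'⟩ | k'
      · exact ⟨l⁻¹, inv_mem hl, by
          rw [mul_assoc v, ww, mul_one] at e'
          conv_lhs => rw [← e']
          group⟩
      obtain ⟨l₁, h₁, e₁⟩ := k 0
      obtain ⟨l₂, h₂, e₂⟩ := k' 2
      rw [show (2 : ℤ) * 2 = 4 by norm_num, zpow_ofNat, mul_assoc v, ← mul_assoc (x ^ 4), ww, one_mul] at e₂
      rw [mul_zero, zpow_zero, one_mul, ← e₂] at e₁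
      exact ⟨l₂⁻¹ * l₁, mul_mem (inv_mem h₂) h₁, by
        rw [show l₂⁻¹ * l₁ * v * (l₂⁻¹ * l₁)⁻¹ = l₂⁻¹ * (l₁ * v * l₁⁻¹) * l₂ by group, e₁]; group⟩
    obtain ⟨g, hg, g1, g2⟩ := exists_ext h.s2a_syl.pgroup inf_le_right
      (isSylowIn_cent_of_central h.s2a_syl c') hl el
    have g3 : ∀ t ∈ P ⊓ K, g * t * g⁻¹ ∈ P ⊓ K := fun t ht => g2 t ht (mem_Cx.1 (c ht))
    have := s2a_swap h.s2a_syl hg (mem_normalizer_of_forall g3) c g1 (by
      rw [← conj_mul, g1, h.s2a_fix (g3 x h.qd.x_mem), mul_assoc, ww, mul_one])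
    exact ne_one_of_ord h.s2a_ow (left_eq_mul.1 this)
  · obtain ⟨ρ, -, cy, hρ⟩ := h.rho
    have hu := hρ v vP va
    have uH : closure {a, x ^ 4} ≤ P ⊓ K := (closure_le _).2 (by
      rintro _ (rfl | rfl); exacts [h.qd.y_mem, h.s2a_wH])
    have uv : Commute (ρ * v * ρ⁻¹ * v⁻¹) v := mem_Cx.1 (c (uH hu))
    have uu : ρ * v * ρ⁻¹ * v⁻¹ * (ρ * v * ρ⁻¹ * v⁻¹) = 1 := by
      rcases h.s2a_U.1 hu with t | t | t | t <;> rw [t]
      exacts [one_mul 1, h.qd.yy, ww, Invol.mul_mul_self_of_commute h.qd.yy ww (h.s2a_cw h.qd.y_mem)]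
    have := uv.mul_pow 2
    rw [inv_mul_cancel_right, pow_two, pow_two, pow_two, uu, one_mul, conj_mul, e, cy.ew] at this
    exact h.s2a_aw this

end CfsgLib.GHE
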