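import Mathlib
import Cfsg.Agent.Lib.GHE.SdDefs
import Cfsg.Agent.Lib.GHE.Sd2a
import Cfsg.Agent.Lib.GHE.ApiA

/-! Block SD: automorphisms of a simple group with Sylow 2-subgroups `SD₁₆`, II.  See `plans/GHE_SD.md`. -/

set_option autoImplicit false

namespace CfsgLib.GHE

open Subgroup Cfsg CfsgLib.W2 CfsgLib.Tech CfsgLib.Sect CfsgLib.PComp CfsgLib.DihSyl
  CfsgLib.GW.Cor CfsgLib.TwoGrp
open CfsgLib.LBal hiding cj
open scoped MatrixGroups commutatorElement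
open Hol

universe u

variable {G : Type u} [Group G] [Finite G]

variable {K P : Subgroup G} {x a s v : G}

/-- the element `x ^ i * a ^ p * v ^ q` -/
def s2E (x a v : G) (e : Hol) : G := x ^ e.i.val * (cond e.p a 1 * cond e.q v 1)

/-- an outer involution that centralises `a` -/
structure S2V (K P : Subgroup G) (x a v : G) : Prop where
  mem : v ∈ P
  out : v ∉ K
  vv : v * v = 1
  va : v * a = a * v
  vx : v * x * v⁻¹ = x ^ 5

namespace SL

variable (h : SL K P x a)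
include h

omit [Finite G] in
theorem s2_x8 : x ^ 8 = 1 := by
  have := pow_orderOf_eq_one x
  rwa [h.qd.ord] at this

omit [Finite G] in
theorem s2_ax : a * x * a⁻¹ = x ^ 3 := by
  rw [h.qd.conj, ← zpow_natCast]
  norm_num

omit [Finite G] in
theorem s2_mul {e f : Hol} (he : e.q = false ∨ S2V K P x a v) (hf : f.q = false ∨ S2V K P x a v) :
    s2E x a v (e * f) = s2E x a v e * s2E x a v f := by
  have hx : ∀ i j k : Fin 8, x ^ (i + k * j).val = x ^ i.val * (x ^ k.val) ^ j.val := fun i j k => by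
    rw [← pow_mul, ← pow_add, pow_eq_pow_mod (i.val + _) h.s2_x8, Fin.val_add, Fin.val_mul,
      Nat.add_mod_mod]
  have aa := h.qd.yy
  obtain ⟨i, p, q⟩ := e
  obtain ⟨j, p', q'⟩ := f
  have h1 : cond p a 1 * cond q v 1 * x * (cond p a 1 * cond q v 1)⁻¹ = x ^ (Hol.s p q).val := by
    cases p <;> cases q
    · simp [Hol.s]
    · simpa [Hol.s] using (he.resolve_left (by simp)).vx
    · simpa [Hol.s] using h.s2_ax
    · have : (Hol.s true true).val = 15 % 8 := by decide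
      rw [this, ← pow_eq_pow_mod _ h.s2_x8, cond_true, cond_true,
        show a * v * x * (a * v)⁻¹ = a * (v * x * v⁻¹) * a⁻¹ by group,
        (he.resolve_left (by simp)).vx, ← conj_pow, h.s2_ax, ← pow_mul]
  have h2 : cond (p ^^ p') a 1 * cond (q ^^ q') v 1 =
      cond p a 1 * cond q v 1 * (cond p' a 1 * cond q' v 1) := by
    cases q
    · cases p <;> cases p' <;> simp [← mul_assoc, aa]
    · have r := he.resolve_left (by simp)
      have r1 : ∀ g, v * (a * g) = a * (v * g) := fun g => by rw [← mul_assoc, r.va, mul_assoc]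
      have r2 : ∀ g, a * (a * g) = g := fun g => by rw [← mul_assoc, aa, one_mul]
      cases p <;> cases p' <;> cases q' <;> simp [mul_assoc, r1, r2, r.vv, r.va, aa]
  simp only [s2E, mul_def]
  rw [hx, h2, ← h1, conj_pow]
  group

theorem s2_psi (hv : ∀ s ∈ P, s ∈ K ∨ S2V K P x a v ∧ s * v ∈ K) :
    ∃ ψ : G → Hol, HP P ⊥ K x a ψ ∧ (∀ s ∈ P, ∀ s' ∈ P, ψ s = ψ s' → s = s') ∧
      (S2V K P x a v → ψ v = V ∧ ∀ e, ∃ s ∈ P, ψ s = e) := by
  have xH := h.qd.x_mem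
  have aH := h.qd.y_mem
  have e0 : ∀ e : Hol, x ^ e.i.val * cond e.p a 1 ∈ P ⊓ K := fun e =>
    mul_mem (pow_mem xH _) (by cases e.p; exacts [one_mem _, aH])
  have mK : ∀ e : Hol, e.q = false ∨ S2V K P x a v → (s2E x a v e ∈ K ↔ e.q = false) :=
    fun e he => by
      rw [s2E, ← mul_assoc, mul_mem_cancel_left (mem_inf.1 (e0 e)).2]
      cases hq : e.q
      · simp
      · simpa using (he.resolve_left (by simp [hq])).out
  have mP : ∀ e : Hol, e.q = false ∨ S2V K P x a v → s2E x a v e ∈ P := fun e he => by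
    rw [s2E, ← mul_assoc, mul_mem_cancel_left (mem_inf.1 (e0 e)).1]
    cases hq : e.q
    · simp
    · simpa using (he.resolve_left (by simp [hq])).mem
  have ok : ∀ e f : Hol, e.q = false ∨ S2V K P x a v → f.q = false ∨ S2V K P x a v →
      (e * f).q = false ∨ S2V K P x a v := fun e f he hf =>
    he.elim (fun a => hf.imp_left fun b => by rw [q_mul, a, b]; rfl) .inr
  have k1 : ∀ e : Hol, e.q = false ∨ S2V K P x a v → s2E x a v e = 1 → e = 1 := fun e he e1 => by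
    have hq := (mK e he).1 (e1 ▸ one_mem _)
    obtain ⟨i, p, q⟩ := e
    obtain rfl : q = false := hq
    cases p
    · have h1 : x ^ i.val = 1 := by simpa [s2E] using e1
      rw [← orderOf_dvd_iff_pow_eq_one, h.qd.ord] at h1
      obtain rfl : i = 0 := Fin.ext (Nat.eq_zero_of_dvd_of_lt h1 i.2)
      rfl
    · exact absurd (by simpa [s2E] using e1) (h.qd.xpowy_ne_one i.val)
  have inj : ∀ e f : Hol, e.q = false ∨ S2V K P x a v → f.q = false ∨ S2V K P x a v →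
      s2E x a v e = s2E x a v f → e = f := fun e f he hf e1 => by
    have h1 := h.s2_mul he (ok e⁻¹ f he hf)
    rw [mul_inv_cancel_left, ← e1, eq_comm, mul_eq_left] at h1
    exact inv_mul_eq_one.1 (k1 _ (ok e⁻¹ f he hf) h1)
  have sH : ∀ s ∈ P ⊓ K, ∃ e : Hol, e.q = false ∧ s2E x a v e = s := fun s hs => by
    obtain ⟨i, hi⟩ := (h.qd.mem s).1 hs
    have h1 : x ^ (i % 8).toNat = x ^ i := by
      rw [← zpow_natCast, h.qd.eq_iff]
      omega
    rcases hi with rfl | rfl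
    · exact ⟨⟨⟨(i % 8).toNat, by omega⟩, false, false⟩, rfl, by simp [s2E, h1]⟩
    · exact ⟨⟨⟨(i % 8).toNat, by omega⟩, true, false⟩, rfl, by simp [s2E, h1]⟩
  have eV : s2E x a v V = v := by simp [s2E, V]
  have sur : ∀ s ∈ P, ∃ e : Hol, (e.q = false ∨ S2V K P x a v) ∧ s2E x a v e = s := fun s hs => by
    rcases hv s hs with k | ⟨r, k⟩
    · obtain ⟨e, h1, h2⟩ := sH s ⟨hs, k⟩
      exact ⟨e, .inl h1, h2⟩
    · obtain ⟨e, h1, h2⟩ := sH _ ⟨mul_mem hs r.mem, k⟩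
      exact ⟨e * V, .inr r, by
        rw [h.s2_mul (.inr r) (.inr r), h2, eV, mul_assoc, r.vv, mul_one]⟩
  choose! ψ o1 o2 using sur
  have sec : ∀ e : Hol, e.q = false ∨ S2V K P x a v → ψ (s2E x a v e) = e := fun e he =>
    inj _ _ (o1 _ (mP e he)) he (o2 _ (mP e he))
  have e1 : s2E x a v 1 = 1 := by
    have := h.s2_mul (v := v) (e := 1) (f := 1) (.inl rfl) (.inl rfl)
    rwa [mul_one, eq_comm, mul_eq_left] at this
  refine ⟨ψ, ⟨fun s hs s' hs' => ?_, fun s hs => ⟨fun e => ?_, fun e => ?_⟩, fun s hs => ?_, ?_, ?_⟩,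
    fun s hs s' hs' e => by rw [← o2 s hs, e, o2 s' hs'], fun r => ⟨?_, fun e =>
      ⟨_, mP e (.inr r), sec e (.inr r)⟩⟩⟩
  · rw [← sec _ (ok _ _ (o1 s hs) (o1 s' hs')), h.s2_mul (o1 s hs) (o1 s' hs'), o2 s hs, o2 s' hs']
  · rw [mem_bot, ← o2 s hs, e, e1]
  · rw [mem_bot.1 e, ← e1, sec 1 (.inl rfl)]
  · rw [← mK _ (o1 s hs), o2 s hs]
  · simpa [s2E, X] using sec X (.inl rfl)
  · simpa [s2E, A] using sec A (.inl rfl)
  · rw [← sec V (.inr r), eV]

omit [Finite G] in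
theorem s2_nrm (hs : s ∈ P) {k : G} (hk : k ∈ P ⊓ K) : s * k * s⁻¹ ∈ P ⊓ K :=
  mem_inf.2 ⟨mul_mem (mul_mem hs (mem_inf.1 hk).1) (inv_mem hs), h.nrm.conj_mem _ (mem_inf.1 hk).2 _⟩

omit [Finite G] h in
theorem s2_z : x ^ (4 * ((1 : ℕ) : ℤ)) = x ^ 4 := by
  rw [← zpow_natCast]
  norm_num

omit [Finite G] in
theorem s2_w1 : x ^ 4 ≠ 1 := s2_z (x := x) ▸ h.qd.z_ne_one

omit [Finite G] in
theorem s2_aw : a ≠ x ^ 4 := s2_z (x := x) ▸ h.qd.y_ne_xpow _

theorem s2_nf (hs : s ∈ P) : ∃ k ∈ P ⊓ K, k * s * a = a * (k * s) ∧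
    (k * s * x * (k * s)⁻¹ = x ∨ k * s * x * (k * s)⁻¹ = x ^ 5) := by
  obtain ⟨l, hl⟩ : ∃ l : ℤ, x ^ l * s * a * (x ^ l * s)⁻¹ = a := by
    rcases h.qd.eq_of_orderOf_two (h.s2_nrm hs h.qd.y_mem)
      (((MulAut.conj s).orderOf_eq a).trans h.qd.orderOf_y) with e | ⟨j, e⟩
    · refine (h.s2_aw (conj_injective (x := s) ?_)).elim
      simp only
      rw [e, h.fix hs, mul_inv_cancel_right, s2_z]
    · obtain ⟨l, hl⟩ := h.qd.exists_conj_xpowy (2 * j) (-j)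
      refine ⟨l, ?_⟩
      rw [show x ^ l * s * a * (x ^ l * s)⁻¹ = x ^ l * (s * a * s⁻¹) * (x ^ l)⁻¹ by group, e, hl]
      simp
  have xl := h.qd.xpow_mem l
  have hP : x ^ l * s ∈ P := mul_mem (mem_inf.1 xl).1 hs
  have c1 := mul_inv_eq_iff_eq_mul.1 hl
  have h4 : ∀ u : G, x ^ l * s * x * (x ^ l * s)⁻¹ = u → u ^ 4 ≠ 1 := fun u e e4 => h.s2_w1 (by
    rw [← e, conj_pow] at e4
    exact conj_eq_one_iff.1 e4)
  obtain ⟨i, e | e⟩ := (h.qd.mem _).1 (h.s2_nrm hP h.qd.x_mem)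
  swap
  · exact (h4 _ e (by
      rw [← h.qd.sq_xpowy_sq i, show 4 = 2 * 2 from rfl, pow_mul, pow_two, pow_two])).elim
  have h5 : ¬ (8 : ℤ) ∣ i * 4 := fun d => h4 _ e (by
    rw [← zpow_natCast, ← zpow_mul, h.qd.eq_one_iff]; simpa using d)
  have h6 : ∀ j : ℕ, (8 : ℤ) ∣ i - j → x ^ i = x ^ j := fun j d => by
    rw [← zpow_natCast, h.qd.eq_iff]; simpa using d
  by_cases h7 : i % 4 = 1
  · refine ⟨_, xl, c1, ?_⟩
    rw [e]
    by_cases h8 : i % 8 = 1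
    · exact .inl ((h6 1 (by omega)).trans (pow_one x))
    · exact .inr (h6 5 (by omega))
  · refine ⟨a * x ^ l, mul_mem h.qd.y_mem xl, by rw [mul_assoc a, mul_assoc a, c1], ?_⟩
    rw [show a * x ^ l * s * x * (a * x ^ l * s)⁻¹ = a * (x ^ l * s * x * (x ^ l * s)⁻¹) * a⁻¹ by
      group, e]
    by_cases h8 : i % 8 = 3
    · left
      rw [h6 3 (by omega), ← conj_pow, h.s2_ax, ← pow_mul, pow_eq_pow_mod _ h.s2_x8, pow_one]
    · right
      rw [h6 7 (by omega), ← conj_pow, h.s2_ax, ← pow_mul, pow_eq_pow_mod _ h.s2_x8]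

omit [Finite G] in
theorem s2_four {u : G} (hu : u ∈ closure {a, x ^ 4}) :
    u = 1 ∨ u = a ∨ u = x ^ 4 ∨ u = a * x ^ 4 := by
  have aa := h.qd.yy
  have ww : x ^ 4 * x ^ 4 = 1 := by rw [← pow_add, h.s2_x8]
  have c : x ^ 4 * a = a * x ^ 4 := s2_z (x := x) ▸ (h.qd.commute_z h.qd.y_mem).eq.symm
  generalize x ^ 4 = w at *
  have r1 : ∀ g, w * (a * g) = a * (w * g) := fun g => by rw [← mul_assoc, c, mul_assoc]
  have r2 : ∀ g, a * (a * g) = g := fun g => by rw [← mul_assoc, aa, one_mul]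
  induction hu using closure_induction with
  | mem y hy => rcases hy with rfl | rfl <;> simp
  | one => simp
  | mul y z _ _ hy hz =>
    rcases hy with rfl | rfl | rfl | rfl <;> rcases hz with rfl | rfl | rfl | rfl <;>
      simp [mul_assoc, *]
  | inv y _ hy =>
    rcases hy with rfl | rfl | rfl | rfl <;>
      simp [inv_eq_of_mul_eq_one_right aa, inv_eq_of_mul_eq_one_right ww, c]

theorem s2_pre (hs : s ∈ P) (out : s ∉ K) :
    ∃ v, S2V K P x a v ∧ ∀ s ∈ P, s ∈ K ∨ s * v ∈ K := by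
  have wK : x ^ 4 ∈ K := pow_mem (mem_inf.1 h.qd.x_mem).2 4
  have c0 : ∀ s ∈ P, s * x * s⁻¹ = x → s * a = a * s → s ∈ K := fun s hs c1 c2 => by
    rcases h.cen hs (mul_inv_eq_iff_eq_mul.1 c1) c2 with e | e <;> rw [e]
    exacts [one_mem _, wK]
  have ex : ∀ s ∈ P, s ∉ K → ∃ k ∈ P ⊓ K, k * s * a = a * (k * s) ∧
      k * s * x * (k * s)⁻¹ = x ^ 5 := fun s hs out => by
    obtain ⟨k, hk, c, e⟩ := h.s2_nf hs
    exact ⟨k, hk, c, e.resolve_left fun e => out ((mul_mem_cancel_left (mem_inf.1 hk).2).1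
      (c0 _ (mul_mem (mem_inf.1 hk).1 hs) e c))⟩
  have two : ∀ v v' : G, v * a = a * v → v * x * v⁻¹ = x ^ 5 → v' * a = a * v' →
      v' * x * v'⁻¹ = x ^ 5 → v * v' * x * (v * v')⁻¹ = x ∧ v * v' * a = a * (v * v') :=
    fun v v' a1 x1 a2 x2 => ⟨by
      rw [show v * v' * x * (v * v')⁻¹ = v * (v' * x * v'⁻¹) * v⁻¹ by group, x2, ← conj_pow, x1,
        ← pow_mul, pow_eq_pow_mod _ h.s2_x8, pow_one],
      by rw [mul_assoc, a2, ← mul_assoc, a1, mul_assoc]⟩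
  obtain ⟨k, hk, va, vx⟩ := ex s hs out
  have vP : k * s ∈ P := mul_mem (mem_inf.1 hk).1 hs
  have vK : k * s ∉ K := fun e => out ((mul_mem_cancel_left (mem_inf.1 hk).2).1 e)
  generalize k * s = v at *
  refine ⟨v, ⟨vP, vK, ?_, va, vx⟩, fun s hs => or_iff_not_imp_left.2 fun out => ?_⟩
  · obtain ⟨c1, c2⟩ := two v v va vx va vx
    refine (h.cen (mul_mem vP vP) (mul_inv_eq_iff_eq_mul.1 c1) c2).resolve_right fun e => ?_
    obtain ⟨ρ, -, cy, hρ⟩ := h.rho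
    have vw := h.fix vP
    have aa := h.qd.yy
    have ww : x ^ 4 * x ^ 4 = 1 := by rw [← pow_add, h.s2_x8]
    have c := h.fix (mem_inf.1 h.qd.y_mem).1
    obtain ⟨u, hu, uu, uv⟩ : ∃ u, ρ * v * ρ⁻¹ = u * v ∧ u * u = 1 ∧ v * u = u * v := by
      refine ⟨ρ * v * ρ⁻¹ * v⁻¹, by group, ?_⟩
      rcases h.s2_four (hρ v vP va) with e | e | e | e <;> rw [e]
      · simp
      · exact ⟨aa, va⟩
      · exact ⟨ww, vw⟩
      · exact ⟨by rw [mul_assoc, ← mul_assoc (x ^ 4), ← c, mul_assoc, ww, mul_one, aa],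
          by rw [← mul_assoc, va, mul_assoc, vw, mul_assoc]⟩
    refine h.s2_aw ?_
    rw [← cy.ew, ← e, ← conj_mul, hu, mul_assoc, ← mul_assoc v, uv, mul_assoc, ← mul_assoc, uu,
      one_mul]
  · obtain ⟨k, hk, va', vx'⟩ := ex s hs out
    obtain ⟨c1, c2⟩ := two _ v va' vx' va vx
    have := c0 _ (mul_mem (mul_mem (mem_inf.1 hk).1 hs) vP) c1 c2
    rwa [mul_assoc, mul_mem_cancel_left (mem_inf.1 hk).2] at this

end SL

namespace HP

variable {T M LM : Subgroup G} {π : G → Hol} {s' : G} (f : HP T M LM x a π)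
include f

omit [Finite G]

theorem s2_one : π 1 = 1 := (f.ker 1 (one_mem _)).2 (one_mem _)

theorem s2_inv (hs : s ∈ T) : π s⁻¹ = (π s)⁻¹ :=
  eq_inv_of_mul_eq_one_left (by rw [← f.mul _ (inv_mem hs) _ hs, inv_mul_cancel, f.s2_one])

theorem s2_conj (hs : s ∈ T) (hs' : s' ∈ T) : π (s * s' * s⁻¹) = π s * π s' * (π s)⁻¹ := by
  rw [f.mul _ (mul_mem hs hs') _ (inv_mem hs), f.mul _ hs _ hs', f.s2_inv hs]

theorem s2_pow (hs : s ∈ T) (n : ℕ) : π (s ^ n) = π s ^ n := by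
  induction n with
  | zero => rw [pow_zero, pow_zero, f.s2_one]
  | succ n ih => rw [pow_succ, pow_succ, f.mul _ (pow_mem hs n) _ hs, ih]

end HP

theorem SL.s2_sylK (h : SL K P x a) : IsSylowIn 2 (P ⊓ K) K := by
  have := h.nrm
  have h1 := h.syl.inf_of_le_normalizer (N := K) le_normalizer_of_normal
  rwa [top_inf_eq] at h1

/-- `U` is a Sylow 2-subgroup of its centraliser in `K` -/
theorem SL.s2_cU (h : SL K P x a) {ψ : G → Hol} (f : HP P ⊥ K x a ψ)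
    (inj : ∀ s ∈ P, ∀ s' ∈ P, ψ s = ψ s' → s = s') {n : G} (nK : n ∈ K)
    (pg : IsPGroup 2 (zpowers n)) (na : n * a = a * n) (nw : n * x ^ 4 = x ^ 4 * n) :
    n = 1 ∨ n = a ∨ n = x ^ 4 ∨ n = a * x ^ 4 := by
  have le : closure {a, x ^ 4} ≤ P ⊓ K := (closure_le _).2 (by
    rintro _ (rfl | rfl)
    exacts [h.qd.y_mem, pow_mem h.qd.x_mem 4])
  obtain ⟨g, -, hg⟩ := h.s2_sylK.exists_cj_le ((h.s2_sylK.pgroup.to_le le).to_sup_of_normal_left' pg
    (zpowers_le.2 (centralizer_le_normalizer _ (by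
      rw [centralizer_closure]
      rintro _ (rfl | rfl)
      exacts [na.symm, nw.symm])))) (sup_le (le.trans inf_le_right) (zpowers_le.2 nK))
  obtain ⟨a1, a2⟩ := mem_inf.1 (cj_le_iff.1 hg a (mem_sup_left (subset_closure (by simp))))
  obtain ⟨w1, w2⟩ := mem_inf.1 (cj_le_iff.1 hg (x ^ 4) (mem_sup_left (subset_closure (by simp))))
  obtain ⟨n1, n2⟩ := mem_inf.1 (cj_le_iff.1 hg n (mem_sup_right (mem_zpowers n)))
  have key : ∀ e : Hol, e.q = false → e * e = 1 → e ≠ 1 → ∀ f : Hol, f.q = false → f * f = 1 →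
      f ≠ 1 → e ≠ f → e * f = f * e → ∀ o : Hol, o.q = false → o * e = e * o → o * f = f * o →
      o = 1 ∨ o = e ∨ o = f ∨ o = e * f := by decide +kernel
  have ww : x ^ 4 * x ^ 4 = 1 := by rw [← pow_add, h.s2_x8]
  have c := h.fix (mem_inf.1 h.qd.y_mem).1
  have ne : ∀ u, g * u * g⁻¹ ∈ P → u ≠ 1 → ψ (g * u * g⁻¹) ≠ 1 := fun u hu u1 e =>
    u1 (conj_eq_one_iff.1 (mem_bot.1 ((f.ker _ hu).1 e)))
  have := key _ ((f.inn _ a1).2 a2)
    (by rw [← f.mul _ a1 _ a1, conj_mul, h.qd.yy, mul_one, mul_inv_cancel, f.s2_one])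
    (ne _ a1 (ne_one_of_ord h.qd.orderOf_y)) _ ((f.inn _ w1).2 w2)
    (by rw [← f.mul _ w1 _ w1, conj_mul, ww, mul_one, mul_inv_cancel, f.s2_one]) (ne _ w1 h.s2_w1)
    (fun e => h.s2_aw (conj_injective (inj _ a1 _ w1 e)))
    (by rw [← f.mul _ a1 _ w1, ← f.mul _ w1 _ a1, conj_mul, conj_mul, c]) _ ((f.inn _ n1).2 n2)
    (by rw [← f.mul _ a1 _ n1, ← f.mul _ n1 _ a1, conj_mul, conj_mul, na])
    (by rw [← f.mul _ w1 _ n1, ← f.mul _ n1 _ w1, conj_mul, conj_mul, nw])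
  rw [← f.mul _ a1 _ w1] at this
  refine this.imp (fun e => by_contra fun n0 => ne _ n1 n0 e) (Or.imp
    (fun e => conj_injective (inj _ n1 _ a1 e)) (Or.imp (fun e => conj_injective (inj _ n1 _ w1 e))
      fun e => ?_))
  have := inj _ n1 _ (mul_mem a1 w1) e
  rw [conj_mul] at this
  exact conj_injective this

theorem SL.exists_v (h : SL K P x a) (hs : s ∈ P) (out : s ∉ K) :
    ∃ v ∈ P, v ∉ K ∧ v * v = 1 ∧ v * a = a * v ∧ v * x * v⁻¹ = x ^ 5 ∧ (∀ s ∈ P, s ∈ K ∨ s * v ∈ K) ∧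
      ∃ ρ ∈ K, ρ * v = v * ρ ∧ Cy ρ (x ^ 4) a := by
  obtain ⟨v, r, hv⟩ := h.s2_pre hs out
  obtain ⟨ψ, f, inj, -⟩ := h.s2_psi fun s hs => (hv s hs).imp_right fun k => ⟨r, k⟩
  obtain ⟨ρ, ρK, cy, hρ⟩ := h.rho
  obtain ⟨xP, xK⟩ := mem_inf.1 h.qd.x_mem
  have aa := h.qd.yy
  have ww : x ^ 4 * x ^ 4 = 1 := by rw [← pow_add, h.s2_x8]
  have c := h.fix (mem_inf.1 h.qd.y_mem).1
  have vw := h.fix r.mem
  have bad : ρ * v * ρ⁻¹ = a * v ∨ ρ * v * ρ⁻¹ = x ^ 4 * v → False := fun b => by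
    have c6 : a * x ^ 6 * a⁻¹ = x ^ 2 := by
      rw [← conj_pow, h.s2_ax, ← pow_mul, pow_eq_pow_mod _ h.s2_x8]
    have ga : MulAut.conj (x ^ 2) a = a * x ^ 4 := by
      rw [MulAut.conj_apply]
      nth_rewrite 1 [← c6]
      group
    have gw : MulAut.conj (x ^ 2) (x ^ 4) = x ^ 4 := by rw [MulAut.conj_apply]; group
    have gv : MulAut.conj (x ^ 2) v = v := by
      have : v * x ^ 2 * v⁻¹ = x ^ 2 := by
        rw [← conj_pow, r.vx, ← pow_mul, pow_eq_pow_mod _ h.s2_x8]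
      rw [MulAut.conj_apply]
      nth_rewrite 1 [← this]
      group
    have sw : MulAut.conj ρ (x ^ 4) = a := cy.ew
    have sa : MulAut.conj ρ a = a * x ^ 4 := cy.ea
    have hn : ∀ y, x ^ 2 * ρ * x ^ 2 * ρ * y * (x ^ 2 * ρ * x ^ 2 * ρ)⁻¹ = MulAut.conj (x ^ 2)
        (MulAut.conj ρ (MulAut.conj (x ^ 2) (MulAut.conj ρ y))) := fun y => by
      simp only [MulAut.conj_apply]
      group
    have nK : x ^ 2 * ρ * x ^ 2 * ρ ∈ K :=
      mul_mem (mul_mem (mul_mem (pow_mem xK 2) ρK) (pow_mem xK 2)) ρK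
    have n1 := hn a
    have n2 := hn (x ^ 4)
    have n3 := hn v
    have b' : MulAut.conj ρ v = a * v ∨ MulAut.conj ρ v = x ^ 4 * v := b
    generalize x ^ 2 * ρ * x ^ 2 * ρ = n at *
    have r1 : ∀ g, x ^ 4 * (a * g) = a * (x ^ 4 * g) := fun g => by rw [← mul_assoc, ← c, mul_assoc]
    have r2 : ∀ g, a * (a * g) = g := fun g => by rw [← mul_assoc, aa, one_mul]
    have r3 : ∀ g, x ^ 4 * (x ^ 4 * g) = g := fun g => by rw [← mul_assoc, ww, one_mul]
    have n4 : n * v * n⁻¹ = a * v := by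
      rw [n3]
      rcases b' with b | b <;>
        simp only [b, map_mul, ga, gw, gv, sw, sa, mul_assoc, r1, r2, r3, ← c, ww, aa, mul_one]
    simp only [map_mul, ga, gw, sw, sa, mul_assoc a, mul_assoc (x ^ 4), r1, r2, r3, ← c, ww, aa,
      mul_one] at n1 n2
    have n5 : Commute n a := mul_inv_eq_iff_eq_mul.1 n1
    have n6 : Commute n (x ^ 4) := mul_inv_eq_iff_eq_mul.1 n2
    have n7 : Commute (n ^ 2) v := mul_inv_eq_iff_eq_mul.1 (by
      rw [pow_two, show n * n * v * (n * n)⁻¹ = n * (n * v * n⁻¹) * n⁻¹ by group, n4, ← conj_mul,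
        n1, n4, r2])
    obtain ⟨k, m, ⟨j, rfl⟩, hk⟩ := Nat.exists_eq_two_pow_mul_odd (orderOf_pos n).ne'
    have n8 : n ^ (2 * j + 1) * v * (n ^ (2 * j + 1))⁻¹ = a * v := by
      rw [pow_succ, show n ^ (2 * j) * n * v * (n ^ (2 * j) * n)⁻¹ =
        n ^ (2 * j) * (n * v * n⁻¹) * (n ^ (2 * j))⁻¹ by group, n4, mul_inv_eq_iff_eq_mul]
      exact (n5.pow_left _).mul_right (pow_mul n 2 j ▸ n7.pow_left j)
    have n9 : n ^ (2 * j + 1) * v = v * n ^ (2 * j + 1) := by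
      rcases h.s2_cU f inj (pow_mem nK (2 * j + 1)) (E2.pg ⟨k, by
        rw [← pow_mul, mul_comm, ← hk, pow_orderOf_eq_one]⟩) (n5.pow_left _) (n6.pow_left _)
        with e | e | e | e <;> rw [e]
      · simp
      · exact r.va.symm
      · exact vw.symm
      · rw [← mul_assoc, r.va, mul_assoc, mul_assoc, vw]
    rw [n9, mul_inv_cancel_right, eq_comm, mul_eq_right] at n8
    exact ne_one_of_ord h.qd.orderOf_y n8
  rcases h.s2_four (hρ v r.mem r.va) with e | e | e | e <;> rw [mul_inv_eq_iff_eq_mul] at e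
  · exact ⟨v, r.mem, r.out, r.vv, r.va, r.vx, hv, ρ, ρK,
      by rw [← mul_inv_eq_iff_eq_mul, e, one_mul], cy⟩
  · exact (bad (.inl e)).elim
  · exact (bad (.inr e)).elim
  · refine ⟨x ^ 4 * v, mul_mem (pow_mem xP 4) r.mem,
      fun k => r.out ((mul_mem_cancel_left (pow_mem xK 4)).1 k), ?_, ?_, ?_, fun s hs => ?_, ρ, ρK,
      ?_, cy⟩
    · rw [mul_assoc, ← mul_assoc v, vw, mul_assoc, r.vv, mul_one, ww]
    · rw [mul_assoc, r.va, ← mul_assoc, ← c, mul_assoc]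
    · rw [show x ^ 4 * v * x * (x ^ 4 * v)⁻¹ = x ^ 4 * (v * x * v⁻¹) * (x ^ 4)⁻¹ by group, r.vx]
      group
    · exact (hv s hs).imp_right fun k => by
        rw [← vw, ← mul_assoc]
        exact mul_mem k (pow_mem xK 4)
    · rw [← mul_inv_eq_iff_eq_mul, ← conj_mul, cy.ew, e, ← mul_assoc, ← mul_assoc, aa, one_mul]

theorem SL.s2_conj4 (h : SL K P x a) : IsConj (x ^ 2) (x * a) := by
  have q := h.qd.subgroupOf (H := K) inf_le_right
  have := (IsQD.isConj_of_index_ne_two (S := h.s2_sylK.toSylow) q fun N e => by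
    have := h.simple
    rcases (N.normal_of_index_eq_two e).eq_bot_or_eq_top with rfl | rfl
    · rw [index_bot] at e
      have := isCyclic_of_prime_card e
      exact h.ncomm inferInstance
    · rw [index_top] at e
      omega).2
  have h2 := K.subtype.map_isConj this
  rw [map_zpow, map_mul] at h2
  rw [← zpow_natCast]
  exact h2

theorem SL.hp (h : SL K P x a) : ∃ (ρ : G) (ψ : G → Hol), HP P ⊥ K x a ψ ∧ ρ ∈ K ∧ Cy ρ (x ^ 4) a ∧
    (∀ s ∈ P, ψ s = V → s * ρ = ρ * s) ∧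
    ∀ s ∈ P, s * s = 1 → (ψ s).q = true → ∃ k, k * s * k⁻¹ ∈ P ∧ ψ (k * s * k⁻¹) = V := by
  by_cases hP : P ≤ K
  · obtain ⟨ψ, f, -⟩ := h.s2_psi (v := 1) fun s hs => .inl (hP hs)
    obtain ⟨ρ, ρK, cy, -⟩ := h.rho
    refine ⟨ρ, ψ, f, ρK, cy, fun s hs e => ?_, fun s hs _ e => ?_⟩
    · have := (f.inn s hs).2 (hP hs)
      rw [e] at this
      exact absurd this (by decide)
    · exact absurd ((f.inn s hs).2 (hP hs)) (by simp [e])
  obtain ⟨s₀, hs₀, out⟩ := SetLike.not_le_iff_exists.1 hP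
  obtain ⟨v, vP, vK, vv, va, vx, hv, ρ, ρK, ρv, cy⟩ := h.exists_v hs₀ out
  have r : S2V K P x a v := ⟨vP, vK, vv, va, vx⟩
  obtain ⟨ψ, f, inj, h1⟩ := h.s2_psi fun s hs => (hv s hs).imp_right fun k => ⟨r, k⟩
  obtain ⟨pv, sur⟩ := h1 r
  refine ⟨ρ, ψ, f, ρK, cy, fun s hs e => by rw [inj s hs v vP (e.trans pv.symm), ρv], ?_⟩
  suffices ∀ s ∈ P, s * s = 1 → (ψ s).q = true → IsConj s v from fun s hs ss q => by
    obtain ⟨k, hk⟩ := isConj_iff.1 (this s hs ss q)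
    exact ⟨k, hk ▸ vP, hk ▸ pv⟩
  have cP : ∀ s ∈ P, ∀ s' ∈ P, (∃ e, e * ψ s * e⁻¹ = ψ s') → IsConj s s' := by
    rintro s hs s' hs' ⟨e, he⟩
    obtain ⟨k, hk, rfl⟩ := sur e
    exact isConj_iff.2 ⟨k, inj _ (mul_mem (mul_mem hk hs) (inv_mem hk)) _ hs'
      (by rw [f.s2_conj hk hs, he])⟩
  have xP := (mem_inf.1 h.qd.x_mem).1
  have aP := (mem_inf.1 h.qd.y_mem).1
  have sq : ∀ s ∈ P, s * s = 1 → ψ s * ψ s = 1 := fun s hs ss => by
    rw [← f.mul s hs s hs, ss, f.s2_one]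
  have k1 : IsConj (a * v) v := by
    refine IsConj.trans (IsConj.symm (isConj_iff.2 ⟨ρ, ?_⟩))
      (cP (x ^ 4 * v) (mul_mem (pow_mem xP 4) vP) v vP ?_)
    · rw [← conj_mul, cy.ew, ρv, mul_inv_cancel_right]
    · rw [f.mul _ (pow_mem xP 4) _ vP, f.s2_pow xP, f.px, pv]
      decide +kernel
  have tP : x * a * v ∈ P := mul_mem (mul_mem xP aP) vP
  have pt : ψ (x * a * v) = X * A * V := by
    rw [f.mul _ (mul_mem xP aP) _ vP, f.mul _ xP _ aP, f.px, f.pa, pv]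
  have k2 : IsConj (x * a * v) v := by
    have yP : x ^ 3 * a ∈ P := mul_mem (pow_mem xP 3) aP
    have py : ψ (x ^ 3 * a) = X ^ 3 * A := by
      rw [f.mul _ (pow_mem xP 3) _ aP, f.s2_pow xP, f.px, f.pa]
    have ty : x * a * v * (x ^ 3 * a) = x ^ 3 * a * (x * a * v) :=
      inj _ (mul_mem tP yP) _ (mul_mem yP tP) (by
        rw [f.mul _ tP _ yP, f.mul _ yP _ tP, pt, py]
        decide)
    have tt : x * a * v * (x * a * v) = 1 := inj _ (mul_mem tP tP) _ (one_mem _) (by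
      rw [f.mul _ tP _ tP, pt, f.s2_one]
      decide)
    have tK : x * a * v ∉ K := fun k => absurd ((f.inn _ tP).2 k) (by rw [pt]; decide)
    obtain ⟨g, hg⟩ := isConj_iff.1 ((cP _ yP _ (mul_mem xP aP) (by
      rw [py, f.mul _ xP _ aP, f.px, f.pa]
      decide +kernel)).trans h.s2_conj4.symm)
    generalize x * a * v = t at *
    have cP' := pow_mem xP 2
    have pc : ψ (x ^ 2) = C := by rw [f.s2_pow xP, f.px, X_sq]
    have le : P ≤ normalizer (zpowers (x ^ 2) : Set G) := fun s hs => mem_normalizer_zpowers (by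
      have : ∀ e : Hol, e * C * e⁻¹ = C ∨ e * C * e⁻¹ = C⁻¹ := by decide +kernel
      have m := mul_mem (mul_mem hs cP') (inv_mem hs)
      rcases this (ψ s) with e | e
      · rw [inj _ m _ cP' (by rw [f.s2_conj hs cP', pc, e])]
        exact mem_zpowers _
      · rw [inj _ m _ (inv_mem cP') (by rw [f.s2_conj hs cP', f.s2_inv cP', pc, e])]
        exact inv_mem (mem_zpowers _))
    have c1 : Commute (g * t * g⁻¹) (x ^ 2) := by
      rw [← hg, Commute, SemiconjBy, conj_mul, conj_mul, ty]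
    obtain ⟨n, hn, m⟩ := (h.syl.of_le le le_top).exists_conj_mem (x := g * t * g⁻¹)
      (mem_normalizer_zpowers (by rw [c1.eq, mul_inv_cancel_right]; exact mem_zpowers _))
      (E2.pg ⟨1, by rw [pow_one, pow_two, conj_mul, tt]; group⟩)
    refine (isConj_iff.2 ⟨n * g, by group⟩ : IsConj t (n * (g * t * g⁻¹) * n⁻¹)).trans
      (cP _ m v vP ?_)
    have key : ∀ e : Hol, e * e = 1 → ¬ e.q = false → e * C = C * e → ∃ g, g * e * g⁻¹ = V := by
      decide +kernel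
    rw [pv]
    refine key _ (sq _ m (by rw [conj_mul, conj_mul, tt]; group)) (fun q => tK ?_) ?_
    · have := h.nrm.conj_mem _ ((f.inn _ m).1 q) (n * g)⁻¹
      rwa [show (n * g)⁻¹ * (n * (g * t * g⁻¹) * n⁻¹) * (n * g)⁻¹⁻¹ = t by group] at this
    · obtain ⟨i, hi⟩ := mem_zpowers_iff.1
        ((mem_normalizer_iff.1 (inv_mem hn) _).1 (mem_zpowers (x ^ 2)))
      rw [← pc, ← f.mul _ m _ cP', ← f.mul _ cP' _ m]
      congr 1
      have := (c1.zpow_right i).eq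
      rw [hi] at this
      calc n * (g * t * g⁻¹) * n⁻¹ * x ^ 2
          = n * (g * t * g⁻¹ * (n⁻¹ * x ^ 2 * n⁻¹⁻¹)) * n⁻¹ := by group
        _ = _ := by rw [this]; group
  intro s hs ss q
  have key : ∀ e : Hol, e * e = 1 → e.q = true →
      (∃ g, g * e * g⁻¹ = V) ∨ (∃ g, g * e * g⁻¹ = A * V) ∨ ∃ g, g * e * g⁻¹ = X * A * V := by
    decide +kernel
  rcases key _ (sq s hs ss) q with e | e | e
  · exact cP s hs v vP (pv ▸ e)
  · exact (cP s hs _ (mul_mem aP vP) (by rwa [f.mul _ aP _ vP, f.pa, pv])).trans k1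
  · exact (cP s hs _ tP (pt ▸ e)).trans k2

end CfsgLib.GHE
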