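import Mathlib
import Cfsg.Agent.Lib.GHE.SdDefs
import Cfsg.Agent.Lib.GHE.Base
import Cfsg.Agent.Lib.GHE.ApiA
import Cfsg.Agent.Lib.GHE.Tool1

/-! Block SD: the API of a frame.  See `plans/GHE_SD.md`. -/

set_option autoImplicit false

namespace CfsgLib.GHE

open Subgroup Cfsg CfsgLib.W2 CfsgLib.Tech CfsgLib.Sect CfsgLib.PComp CfsgLib.DihSyl
  CfsgLib.GW.Cor CfsgLib.TwoGrp
open CfsgLib.LBal hiding cj
open scoped MatrixGroups commutatorElement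
open Hol

universe u

variable {G : Type u} [Group G] [Finite G]

omit [Finite G] in
/-- the elements of `N(K)` that commute with `z` modulo `K` -/
def e32M (K : Subgroup G) (z : G) : Subgroup G where
  carrier := {y | y ∈ normalizer (K : Set G) ∧ z * y * z⁻¹ * y⁻¹ ∈ K}
  one_mem' := ⟨one_mem _, by simp⟩
  mul_mem' := fun {y y'} h1 h2 => ⟨mul_mem h1.1 h2.1, by
    have := mul_mem h1.2 (conj_mem_of_mem_normalizer h1.1 h2.2)
    convert this using 1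
    group⟩
  inv_mem' := fun {y} h1 => ⟨inv_mem h1.1, by
    have := conj_mem_of_mem_normalizer' h1.1 (inv_mem h1.2)
    convert this using 1
    group⟩

theorem le_e32M {K : Subgroup G} {z : G} (hz : z ∈ normalizer (K : Set G)) : K ≤ e32M K z :=
  fun _ hk => ⟨le_normalizer hk, mul_mem (conj_mem_of_mem_normalizer hz hk) (inv_mem hk)⟩

/-- five elements that are independent modulo `K` -/
theorem Ctx.e32 (h : Ctx G) {K A₀ A₁ A₂ A₃ A₄ : Subgroup G} {x₁ x₂ x₃ x₄ x₅ : G}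
    (nK : ∀ z ∈ [x₁, x₂, x₃, x₄, x₅], ∀ k ∈ K, z * k * z⁻¹ ∈ K)
    (sq : ∀ z ∈ [x₁, x₂, x₃, x₄, x₅], z * z ∈ K)
    (cm : ∀ z ∈ [x₁, x₂, x₃, x₄, x₅], ∀ z' ∈ [x₁, x₂, x₃, x₄, x₅], z * z' * z⁻¹ * z'⁻¹ ∈ K)
    (k₀ : K ≤ A₀) (k₁ : K ≤ A₁) (k₂ : K ≤ A₂) (k₃ : K ≤ A₃) (k₄ : K ≤ A₄)
    (m₁ : x₁ ∈ A₁) (m₂ : x₁ ∈ A₂ ∧ x₂ ∈ A₂) (m₃ : x₁ ∈ A₃ ∧ x₂ ∈ A₃ ∧ x₃ ∈ A₃)
    (m₄ : x₁ ∈ A₄ ∧ x₂ ∈ A₄ ∧ x₃ ∈ A₄ ∧ x₄ ∈ A₄)
    (n₁ : x₁ ∉ A₀) (n₂ : x₂ ∉ A₁) (n₃ : x₃ ∉ A₂) (n₄ : x₄ ∉ A₃) (n₅ : x₅ ∉ A₄) : False := by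
  have nK' : ∀ z ∈ [x₁, x₂, x₃, x₄, x₅], z ∈ normalizer (K : Set G) := fun z hz =>
    mem_normalizer_of_forall (nK z hz)
  have ind : ∀ B : Subgroup G, K ≤ B → (∀ z ∈ [x₁, x₂, x₃, x₄, x₅], z ∈ B) →
      K ⊔ zpowers x₁ ⊔ zpowers x₂ ⊔ zpowers x₃ ⊔ zpowers x₄ ⊔ zpowers x₅ ≤ B := fun B h1 h2 => by
    simp only [List.mem_cons, List.not_mem_nil, or_false, forall_eq_or_imp, forall_eq] at h2
    simp only [sup_le_iff, zpowers_le]
    tauto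
  set H := K ⊔ zpowers x₁ ⊔ zpowers x₂ ⊔ zpowers x₃ ⊔ zpowers x₄ ⊔ zpowers x₅ with hH
  have memH : ∀ z ∈ [x₁, x₂, x₃, x₄, x₅], z ∈ H := by
    simp only [List.mem_cons, List.not_mem_nil, or_false, forall_eq_or_imp, forall_eq]
    exact ⟨mem_sup_left (mem_sup_left (mem_sup_left (mem_sup_left (mem_sup_right (mem_zpowers _))))),
      mem_sup_left (mem_sup_left (mem_sup_left (mem_sup_right (mem_zpowers _)))),
      mem_sup_left (mem_sup_left (mem_sup_right (mem_zpowers _))),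
      mem_sup_left (mem_sup_right (mem_zpowers _)), mem_sup_right (mem_zpowers _)⟩
  have KH : K ≤ H := le_sup_of_le_left (le_sup_of_le_left (le_sup_of_le_left (le_sup_of_le_left le_sup_left)))
  have a1 : ∀ z ∈ [x₁, x₂, x₃, x₄, x₅], H ≤ e32M K z := fun z hz =>
    ind _ (le_e32M (nK' z hz)) fun z' hz' => ⟨nK' z' hz', cm z hz z' hz'⟩
  have a0 : H ≤ normalizer (K : Set G) := ind _ le_normalizer nK'
  have a2 : ∀ y ∈ H, H ≤ e32M K y := fun y hy => ind _ (le_e32M (a0 hy)) fun z hz => ⟨nK' z hz, by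
    have := inv_mem (a1 z hz hy).2
    convert this using 1
    group⟩
  let M : Subgroup G :=
    { carrier := {y | y ∈ H ∧ y * y ∈ K}
      one_mem' := ⟨one_mem _, by simp⟩
      mul_mem' := fun {y y'} h1 h2 => ⟨mul_mem h1.1 h2.1, by
        have := mul_mem (mul_mem (conj_mem_of_mem_normalizer (a0 h1.1) (a2 y' h2.1 h1.1).2) h1.2) h2.2
        convert this using 1
        group⟩
      inv_mem' := fun {y} h1 => ⟨inv_mem h1.1, by simpa using inv_mem h1.2⟩ }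
  have a3 : H ≤ M := ind M (fun k hk => ⟨KH hk, mul_mem hk hk⟩) fun z hz => ⟨memH z hz, sq z hz⟩
  have b := h.sr H le_top K fun y hy => (a3 hy).2
  have st : ∀ {B B' : Subgroup G} {z : G}, B ≤ B' → z ∉ B' → K ≤ B →
      2 * K.relIndex B ≤ K.relIndex (B ⊔ zpowers z) := fun {B B' z} h1 h2 h3 => by
    rw [← relIndex_mul_relIndex K B (B ⊔ zpowers z) h3 le_sup_left, mul_comm]
    exact Nat.mul_le_mul_left _ (two_le_relIndex fun e => h2 (h1 (e (mem_sup_right (mem_zpowers z)))))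
  have s1 := st k₀ n₁ le_rfl
  have s2 := st (B := K ⊔ zpowers x₁) (sup_le k₁ (zpowers_le.2 m₁)) n₂ le_sup_left
  have s3 := st (B := K ⊔ zpowers x₁ ⊔ zpowers x₂)
    (sup_le (sup_le k₂ (zpowers_le.2 m₂.1)) (zpowers_le.2 m₂.2)) n₃ (le_sup_of_le_left le_sup_left)
  have s4 := st (B := K ⊔ zpowers x₁ ⊔ zpowers x₂ ⊔ zpowers x₃)
    (sup_le (sup_le (sup_le k₃ (zpowers_le.2 m₃.1)) (zpowers_le.2 m₃.2.1)) (zpowers_le.2 m₃.2.2)) n₄
    (le_sup_of_le_left (le_sup_of_le_left le_sup_left))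
  have s5 := st (B := K ⊔ zpowers x₁ ⊔ zpowers x₂ ⊔ zpowers x₃ ⊔ zpowers x₄)
    (sup_le (sup_le (sup_le (sup_le k₄ (zpowers_le.2 m₄.1)) (zpowers_le.2 m₄.2.1)) (zpowers_le.2 m₄.2.2.1))
      (zpowers_le.2 m₄.2.2.2)) n₅ (le_sup_of_le_left (le_sup_of_le_left (le_sup_of_le_left le_sup_left)))
  rw [relIndex_self] at s1
  rw [← hH] at s5
  omega

omit [Finite G] in
theorem cj_Cx (g y : G) : cj g (Cx y) = Cx (g * y * g⁻¹) := cj_centralizer_singleton g y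

/-- an element of `N(S)` does not interchange two elements of `Z(S)` -/
theorem odd_swap {S : Subgroup G} (hS : IsSylowIn 2 S ⊤) {n y z : G} (hn : n ∈ normalizer (S : Set G))
    (cy : S ≤ Cx y) (e₁ : n * y * n⁻¹ = z) (e₂ : n * z * n⁻¹ = y) : y = z := by
  obtain ⟨j, k, hk, e⟩ := Nat.exists_eq_two_pow_mul_odd (orderOf_pos n).ne'
  have h1 : n ^ k ∈ S := hS.le_of_normalizes (Q := zpowers (n ^ k)) (isPGroup_zpowers_of_pow (k := j) (by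
    rw [← pow_mul, mul_comm, ← e, pow_orderOf_eq_one])) le_top (zpowers_le.2 (pow_mem hn k)) (mem_zpowers _)
  obtain ⟨m, rfl⟩ := hk
  have h2 : n ^ 2 ∈ Cx y := mem_Cx'.2 (by
    calc n ^ 2 * y * (n ^ 2)⁻¹ = n * (n * y * n⁻¹) * n⁻¹ := by rw [pow_two]; group
      _ = y := by rw [e₁, e₂])
  have h3 : n ∈ Cx y := by
    have := cy h1
    rw [pow_succ, pow_mul] at this
    exact (mul_mem_cancel_left (pow_mem h2 m)).1 this
  rw [← e₁, mem_Cx'.1 h3]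

variable {y x a ρ s s' k : G} {T : Subgroup G} {π : G → Hol}

namespace SF

variable (f : SF y T x a ρ π)
include f

theorem le : T ≤ Cx y := f.syl.le
theorem pg : IsPGroup 2 T := f.syl.pgroup
theorem yT : y ∈ T :=
  f.syl.le_of_le_normalizer (isPGroup_two_zpowers (mul_self_of_orderOf_two f.ord))
    (zpowers_le.2 (mem_Cx.2 rfl)) (fun g hg => mem_normalizer_iff_cj.2 (by
      rw [cj_zpowers, mem_Cx'.1 hg])) (mem_zpowers y)
theorem one : π 1 = 1 := (f.ker 1 (one_mem _)).2 (one_mem _)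
theorem inv (hs : s ∈ T) : π s⁻¹ = (π s)⁻¹ :=
  eq_inv_of_mul_eq_one_left (by rw [← f.mul _ (inv_mem hs) _ hs, inv_mul_cancel, f.one])
theorem pow (hs : s ∈ T) (n : ℕ) : π (s ^ n) = π s ^ n := by
  induction n with
  | zero => simpa using f.one
  | succ n ih => rw [pow_succ, f.mul _ (pow_mem hs n) _ hs, ih, pow_succ]
theorem conj (hs : s ∈ T) (hs' : s' ∈ T) : π (s * s' * s⁻¹) = π s * π s' * (π s)⁻¹ := by
  rw [f.mul _ (mul_mem hs hs') _ (inv_mem hs), f.mul _ hs _ hs', f.inv hs]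
theorem eq_iff (hs : s ∈ T) (hs' : s' ∈ T) : π s = π s' ↔ s * s'⁻¹ ∈ MM y := by
  rw [← f.ker _ (mul_mem hs (inv_mem hs')), f.mul _ hs _ (inv_mem hs'), f.inv hs', mul_inv_eq_one]
theorem py : π y = 1 := (f.ker y f.yT).2 (self_mem_MM y)

/-- the preimage in `T` of a subgroup of `Hol` -/
def pre (B : Subgroup Hol) : Subgroup G where
  carrier := {s | s ∈ T ∧ π s ∈ B}
  one_mem' := ⟨one_mem _, f.one ▸ one_mem _⟩
  mul_mem' := fun h1 h2 => ⟨mul_mem h1.1 h2.1, f.mul _ h1.1 _ h2.1 ▸ mul_mem h1.2 h2.2⟩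
  inv_mem' := fun h1 => ⟨inv_mem h1.1, f.inv h1.1 ▸ inv_mem h1.2⟩

theorem mem_pre {B : Subgroup Hol} : s ∈ f.pre B ↔ s ∈ T ∧ π s ∈ B := Iff.rfl

theorem xH : x ∈ T ⊓ LL y := f.qd.x_mem
theorem aH : a ∈ T ⊓ LL y := f.qd.y_mem
theorem cH : x ^ 2 ∈ T ⊓ LL y := pow_mem f.xH 2
theorem wH : x ^ 4 ∈ T ⊓ LL y := pow_mem f.xH 4
theorem pC : π (x ^ 2) = C := by
  rw [f.pow f.xH.1, f.px, X_sq]
theorem pW : π (x ^ 4) = W := by
  rw [f.pow f.xH.1, f.px, X_four]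
theorem qH (hs : s ∈ T ⊓ LL y) : (π s).q = false := (f.inn s hs.1).2 (mem_sup_left hs.2)
theorem injH (hs : s ∈ T ⊓ LL y) (hs' : s' ∈ T ⊓ LL y) (e : π s = π s') : s = s' :=
  mul_inv_eq_one.1 (eq_one_of_odd f.odd f.pg ⟨mul_mem hs.2 (Subgroup.inv_mem _ hs'.2), (f.eq_iff hs.1 hs'.1).1 e⟩
    (mul_mem hs.1 (Subgroup.inv_mem _ hs'.1)))
theorem exH (e : Hol) (he : e.q = false) : ∃ k ∈ T ⊓ LL y, π k = e := by
  have h1 := pow_mem f.xH e.i.val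
  have h2 : cond e.p a 1 ∈ T ⊓ LL y := by cases e.p; exacts [one_mem _, f.aH]
  refine ⟨x ^ e.i.val * cond e.p a 1, mul_mem h1 h2, ?_⟩
  rw [f.mul _ h1.1 _ h2.1, f.pow f.xH.1, f.px]
  conv_rhs => rw [Hol.dec e, he]
  cases e.p <;> simp [f.one, f.pa]
theorem conjH (hs : s ∈ T) (hk : k ∈ T ⊓ LL y) : s * k * s⁻¹ ∈ T ⊓ LL y :=
  ⟨T.mul_mem (T.mul_mem hs hk.1) (T.inv_mem hs), conj_mem_of_mem_normalizer (LL_nrm y (f.le hs)) hk.2⟩
theorem conjR (hs : s ∈ T) (hk : k ∈ T ⊓ MM y) : s * k * s⁻¹ ∈ T ⊓ MM y :=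
  ⟨T.mul_mem (T.mul_mem hs hk.1) (T.inv_mem hs), conj_mem_of_mem_normalizer (MM_nrm y (f.le hs)) hk.2⟩
/-- the action on `H` is read off in `Hol` -/
theorem act (hs : s ∈ T) (hk : k ∈ T ⊓ LL y) {k' : G} (hk' : k' ∈ T ⊓ LL y)
    (e : π s * π k * (π s)⁻¹ = π k') : s * k * s⁻¹ = k' :=
  f.injH (f.conjH hs hk) hk' (by rw [f.conj hs hk.1, e])
theorem comm_iff (hs : s ∈ T) (hk : k ∈ T ⊓ LL y) : s * k = k * s ↔ π s * π k = π k * π s :=
  ⟨fun e => by rw [← f.mul _ hs _ hk.1, e, f.mul _ hk.1 _ hs], fun e =>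
    mul_inv_eq_iff_eq_mul.1 (f.act hs hk hk (mul_inv_eq_iff_eq_mul.2 e))⟩
/-- the commutator of an element of `T` with an element of `H` -/
theorem act' (hk : k ∈ T ⊓ LL y) (hs : s ∈ T) {k' : G} (hk' : k' ∈ T ⊓ LL y)
    (e : π k * π s * (π k)⁻¹ = π s * π k') : k * s * k⁻¹ = s * k' := by
  have h1 : s⁻¹ * k * s⁻¹⁻¹ * k⁻¹ ∈ T ⊓ LL y := mul_mem (f.conjH (inv_mem hs) hk) (inv_mem hk)
  have h2 := f.injH h1 hk' (by
    rw [f.mul _ (f.conjH (inv_mem hs) hk).1 _ (Subgroup.inv_mem _ hk.1), f.conj (inv_mem hs) hk.1, f.inv hs, f.inv hk.1]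
    calc _ = (π s)⁻¹ * (π k * π s * (π k)⁻¹) := by group
      _ = _ := by rw [e]; group)
  rw [← h2]; group
theorem cw (hs : s ∈ T) : s * x ^ 4 = x ^ 4 * s := (f.comm_iff hs f.wH).2 (by
  rw [f.pW]; generalize π s = e; revert e; decide +kernel)
theorem ow : orderOf (x ^ 4) = 2 := by
  have := f.qd.orderOf_z
  rwa [Nat.cast_one, mul_one, show (4 : ℤ) = (4 : ℕ) from rfl, zpow_natCast] at this
theorem oa : orderOf a = 2 := f.qd.orderOf_y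
theorem ww : x ^ 4 * x ^ 4 = 1 := mul_self_of_orderOf_two f.ow
theorem aa : a * a = 1 := f.qd.yy
theorem cc : x ^ 2 * x ^ 2 = x ^ 4 := by
  rw [← pow_add]
theorem ca : x ^ 2 * a * (x ^ 2)⁻¹ = a * x ^ 4 :=
  f.act f.cH.1 f.aH (mul_mem f.aH f.wH) (by rw [f.mul _ f.aH.1 _ f.wH.1, f.pC, f.pa, f.pW]; decide)
theorem wM : x ^ 4 ∉ MM y := fun e => by
  have := (f.ker _ f.wH.1).2 e
  rw [f.pW] at this
  exact absurd this (by decide)
theorem w_ne_a : x ^ 4 ≠ a := fun e => by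
  have := f.pW
  rw [e, f.pa] at this
  exact absurd this (by decide)
theorem dec (hs : s ∈ T) (q : (π s).q = false) :
    ∃ k ∈ T ⊓ LL y, ∃ r ∈ T ⊓ MM y, s = k * r ∧ k * r = r * k ∧ π k = π s := by
  obtain ⟨k, hk, e⟩ := f.exH _ q
  have h1 : k⁻¹ * s ∈ T ⊓ MM y := ⟨mul_mem (Subgroup.inv_mem _ hk.1) hs, (f.ker _ (mul_mem (Subgroup.inv_mem _ hk.1) hs)).1 (by
    rw [f.mul _ (Subgroup.inv_mem _ hk.1) _ hs, f.inv hk.1, e, inv_mul_cancel])⟩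
  exact ⟨k, hk, _, h1, by group, ((f.comm_iff h1.1 hk).2 (by rw [(f.ker _ h1.1).2 h1.2]; simp)).symm, e⟩
theorem exV (hs : s ∈ T) (q : (π s).q = true) : ∃ k ∈ T ⊓ LL y, π (k * s) = V := by
  obtain ⟨k, hk, e⟩ := f.exH (V * (π s)⁻¹) (by rw [q_mul, q_inv, q]; rfl)
  exact ⟨k, hk, by rw [f.mul _ hk.1 _ hs, e, inv_mul_cancel_right]⟩
theorem center (hs : s ∈ T) (c₁ : s * x = x * s) (c₂ : s * a = a * s) : π s = 1 ∨ π s = W := by
  have h1 := (f.comm_iff hs f.xH).1 c₁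
  have h2 := (f.comm_iff hs f.aH).1 c₂
  rw [f.px] at h1
  rw [f.pa] at h2
  revert h1 h2
  generalize π s = e
  revert e
  decide +kernel
theorem w_mem {B : Subgroup G} (le : B ≤ T ⊓ LL y) (ne : B ≠ ⊥) (n : T ≤ normalizer (B : Set G)) :
    x ^ 4 ∈ B := by
  obtain ⟨u, hu, o, c⟩ := exists_mem_center_of_normalized f.pg (le.trans inf_le_left) n ne
  rcases f.center (le hu).1 (c x f.xH.1).symm (c a f.aH.1).symm with e | e
  · exact absurd (f.injH (le hu) (one_mem _) (e.trans f.one.symm)) (ne_one_of_orderOf_two o)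
  · exact f.injH (le hu) f.wH (e.trans f.pW.symm) ▸ hu
theorem fus (hk : k ∈ T ⊓ LL y) (o : orderOf k = 2) :
    ∃ l ∈ LL y ⊓ centralizer ((T ⊓ MM y : Subgroup G) : Set G), l * k * l⁻¹ = x ^ 4 := by
  have cR : ∀ {l}, l ∈ T ⊓ LL y → l ∈ centralizer ((T ⊓ MM y : Subgroup G) : Set G) := fun hl r hr =>
    (f.comm_iff hr.1 hl).2 (by rw [(f.ker _ hr.1).2 hr.2]; simp)
  have h1 : π k * π k = 1 := by rw [← f.mul _ hk.1 _ hk.1, mul_self_of_orderOf_two o, f.one]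
  have h2 : π k ≠ 1 := fun e => ne_one_of_orderOf_two o (f.injH hk (one_mem _) (e.trans f.one.symm))
  have key : ∀ e : Hol, e.q = false → e * e = 1 → e ≠ 1 → e = W ∨ ∃ d : Hol, d.q = false ∧ d * e * d⁻¹ = A := by
    decide +kernel
  rcases key _ (f.qH hk) h1 h2 with e | ⟨d, hd, e⟩
  · exact ⟨1, one_mem _, by simpa using f.injH hk f.wH (e.trans f.pW.symm)⟩
  · obtain ⟨l, hl, rfl⟩ := f.exH d hd
    have h3 := f.act hl.1 hk f.aH (e.trans f.pa.symm)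
    have hρ : ρ ∈ centralizer ((T ⊓ MM y : Subgroup G) : Set G) := fun r hr =>
      f.rc r hr.1 (.inl ((f.ker _ hr.1).2 hr.2))
    refine ⟨ρ⁻¹ * l, mem_inf.2 ⟨mul_mem (inv_mem f.rL) hl.2, mul_mem (inv_mem hρ) (cR hl)⟩, ?_⟩
    calc _ = ρ⁻¹ * (l * k * l⁻¹) * ρ := by group
      _ = _ := by rw [h3, ← f.cy.ew]; group
theorem cj (g : G) : SF (g * y * g⁻¹) (cj g T) (g * x * g⁻¹) (g * a * g⁻¹) (g * ρ * g⁻¹)
    (fun s => π (g⁻¹ * s * g)) := by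
  have m : ∀ {s : G} {B : Subgroup G}, s ∈ Tech.cj g B ↔ g⁻¹ * s * g ∈ B := mem_cj
  have e1 : ∀ u : G, g⁻¹ * (g * u * g⁻¹) * g = u := fun u => by group
  refine ⟨⟨fun s hs s' hs' => ?_, fun s hs => ?_, fun s hs => ?_, by rw [e1, f.px], by rw [e1, f.pa]⟩,
    by rw [orderOf_conj_eq, f.ord], ?_, ?_, ?_, ?_, ?_, ⟨by rw [orderOf_conj_eq]; exact f.cy.odd, ?_, ?_⟩,
    fun s hs e => ?_, fun s hs ss q => ?_⟩
  · rw [← f.mul _ (m.1 hs) _ (m.1 hs')]; congr 1; group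
  · rw [f.ker _ (m.1 hs), ← MM_cj, m]
  · rw [f.inn _ (m.1 hs), ← MM_cj, ← LL_cj, ← cj_sup, m]
  · rw [← LL_cj, ← cj_Cx]; exact f.pc.conj g
  · rw [← LL_cj, ← MM_cj, ← cj_inf, card_cj]; exact f.odd
  · rw [← cj_Cx]; exact f.syl.cj g
  · rw [← LL_cj, ← cj_inf]; exact f.qd.map (MulAut.conj g).toMonoidHom (MulAut.conj g).injective
  · rw [← LL_cj]; exact conj_mem_cj.2 f.rL
  · rw [conj_pow, ← f.cy.ew]; group
  · rw [conj_pow, conj_mul (a := a) (b := g), ← f.cy.ea]; group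
  · have := f.rc _ (m.1 hs) e
    calc _ = g * (g⁻¹ * s * g * ρ) * g⁻¹ := by group
      _ = _ := by rw [this]; group
  · obtain ⟨k, hk, h1, h2⟩ := f.out _ (m.1 hs) (by
      calc _ = g⁻¹ * (s * s) * g := by group
        _ = 1 := by rw [ss]; group) q
    have e2 : g⁻¹ * (g * k * g⁻¹ * s * (g * k * g⁻¹)⁻¹) * g = k * (g⁻¹ * s * g) * k⁻¹ := by group
    refine ⟨g * k * g⁻¹, ?_, m.2 (e2 ▸ h1), by rw [e2, h2]⟩
    rw [← cj_Cx]; exact conj_mem_cj.2 hk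
/-- `C_T(a)` is a Sylow 2-subgroup of `C(y, a, w)` -/
theorem sylA {Q : Subgroup G} (hQ : IsPGroup 2 Q) (le : Q ≤ Cx y ⊓ Cx a ⊓ Cx (x ^ 4))
    (ge : T ⊓ Cx a ≤ Q) : Q ≤ T := by
  obtain ⟨k, hk, le'⟩ := f.syl.exists_cj_le hQ (le.trans (inf_le_left.trans inf_le_left))
  have nL : ∀ {u}, u ∈ Q → u ∈ LL y → k * u * k⁻¹ ∈ T ⊓ LL y := fun h1 h2 =>
    ⟨le' (conj_mem_cj.2 h1), conj_mem_of_mem_normalizer (LL_nrm y hk) h2⟩
  have aQ : a ∈ Q := ge ⟨f.aH.1, mem_Cx.2 rfl⟩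
  have wQ : x ^ 4 ∈ Q := ge ⟨f.wH.1, mem_Cx.2 (f.cw f.aH.1).symm⟩
  have h1 := nL aQ f.aH.2
  have h2 := nL wQ f.wH.2
  obtain ⟨u, hu, o, cu, ne⟩ : ∃ u ∈ T ⊓ LL y, orderOf u = 2 ∧ Tech.cj k Q ≤ Cx u ∧ u ≠ x ^ 4 := by
    have c : ∀ {u}, Q ≤ Cx u → Tech.cj k Q ≤ Cx (k * u * k⁻¹) := fun e => by
      rw [← cj_Cx]; exact cj_mono k e
    by_cases e : k * a * k⁻¹ = x ^ 4
    · refine ⟨_, h2, by rw [orderOf_conj_eq, f.ow], c (le.trans inf_le_right), fun e' => f.w_ne_a ?_⟩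
      simpa using e'.trans e.symm
    · exact ⟨_, h1, by rw [orderOf_conj_eq, f.oa], c (le.trans (inf_le_left.trans inf_le_right)), e⟩
  have h3 : π u * π u = 1 := by rw [← f.mul _ hu.1 _ hu.1, mul_self_of_orderOf_two o, f.one]
  have h4 : π u ≠ 1 := fun e => ne_one_of_orderOf_two o (f.injH hu (one_mem _) (e.trans f.one.symm))
  have h5 : π u ≠ W := fun e => ne (f.injH hu f.wH (e.trans f.pW.symm))
  have key : ∀ e : Hol, e.q = false → e * e = 1 → e ≠ 1 → e ≠ W → ∃ d : Hol, d.q = false ∧ d * e * d⁻¹ = A := by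
    decide +kernel
  obtain ⟨d, hd, e⟩ := key _ (f.qH hu) h3 h4 h5
  obtain ⟨l, hl, rfl⟩ := f.exH d hd
  have h6 := f.act hl.1 hu f.aH (e.trans f.pa.symm)
  have h7 : Tech.cj l (Tech.cj k Q) ≤ T ⊓ Cx a := le_inf (by rw [← cj_eq_of_mem hl.1]; exact cj_mono l le') (by
    rw [← h6, ← cj_Cx]; exact cj_mono l cu)
  have h8 := card_le_of_le h7
  rw [card_cj, card_cj] at h8
  exact (eq_of_le_of_card_ge ge h8).ge.trans inf_le_left
theorem qdH : IsQuasiDihedral (T ⊓ LL y : Subgroup G) := by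
  refine ⟨3, le_rfl, by rw [f.qd.card_eq]; rfl, ⟨x, f.xH⟩, ⟨a, f.aH⟩, ?_, ?_, Subtype.ext ?_⟩
  · rw [orderOf_mk, f.qd.ord]; rfl
  · rw [orderOf_mk, f.oa]
  · have := f.qd.conj
    rw [Nat.cast_one, mul_one, show (4 - 1 : ℤ) = (3 : ℕ) from rfl, zpow_natCast] at this
    simpa using this
/-- a section of `π` -/
theorem exists_hom {v : G} (hv : v ∈ T) (pv : π v = V) (vv : v * v = 1) :
    ∃ φ : Hol →* G, φ X = x ∧ φ A = a ∧ φ V = v ∧ (∀ e, φ e ∈ T ∧ π (φ e) = e) ∧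
      ∀ e, φ e ∈ LL y ↔ e.q = false := by
  have vn : v ∉ LL y := fun e => by
    have := f.qH ⟨hv, e⟩
    rw [pv] at this
    exact absurd this (by decide)
  have vi : v⁻¹ = v := inv_eq_of_mul_eq_one_right vv
  let B : Subgroup G :=
    { carrier := {s | s ∈ T ⊓ LL y ∨ s * v ∈ T ⊓ LL y}
      one_mem' := .inl (one_mem _)
      mul_mem' := by
        rintro s s' (h1 | h1) (h2 | h2)
        · exact .inl (mul_mem h1 h2)
        · exact .inr (mul_assoc s s' v ▸ mul_mem h1 h2)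
        · refine .inr ?_
          have := mul_mem h1 (f.conjH hv h2)
          convert this using 1
          rw [vi, ← mul_assoc, ← mul_assoc, mul_assoc s v v, vv, mul_one]
        · refine .inl ?_
          have := mul_mem h1 (f.conjH hv h2)
          convert this using 1
          rw [← mul_assoc v s' v, mul_inv_cancel_right, mul_assoc s v, ← mul_assoc v v, vv, one_mul]
      inv_mem' := by
        rintro s (h1 | h1)
        · exact .inl (inv_mem h1)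
        · refine .inr ?_
          have := f.conjH hv (inv_mem h1)
          convert this using 1
          rw [mul_inv_rev, vi, ← mul_assoc v v, vv, one_mul] }
  have BT : ∀ s ∈ B, s ∈ T := fun s hs => hs.elim (·.1) fun h1 => (mul_mem_cancel_right hv).1 h1.1
  have inj : ∀ s ∈ B, ∀ s' ∈ B, π s = π s' → s = s' := fun s hs s' hs' e => by
    have h1 := mul_mem hs (inv_mem hs')
    have h2 : π (s * s'⁻¹) = 1 := by rw [f.mul _ (BT s hs) _ (inv_mem (BT s' hs')), f.inv (BT s' hs'), e, mul_inv_cancel]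
    rcases h1 with h1 | h1
    · exact mul_inv_eq_one.1 (f.injH h1 (one_mem _) (h2.trans f.one.symm))
    · have := f.qH h1
      rw [f.mul _ (BT _ (mul_mem hs (inv_mem hs'))) _ hv, h2, pv] at this
      exact absurd this (by decide)
  have vB : v ∈ B := .inr (vv ▸ one_mem _)
  have sur : ∀ e : Hol, ∃ s ∈ B, π s = e := fun e => by
    cases q : e.q
    · obtain ⟨k, hk, e⟩ := f.exH e q
      exact ⟨k, .inl hk, e⟩
    · obtain ⟨k, hk, e'⟩ := f.exH (e * V⁻¹) (by rw [q_mul, q_inv, q]; rfl)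
      exact ⟨k * v, mul_mem (show k ∈ B from .inl hk) vB, by rw [f.mul _ hk.1 _ hv, e', pv, inv_mul_cancel_right]⟩
  choose φ hB hφ using sur
  refine ⟨MonoidHom.mk' φ fun e e' => inj _ (hB _) _ (mul_mem (hB e) (hB e')) ?_,
    inj _ (hB _) _ (.inl f.xH) ((hφ _).trans f.px.symm), inj _ (hB _) _ (.inl f.aH) ((hφ _).trans f.pa.symm),
    inj _ (hB _) _ vB ((hφ _).trans pv.symm), fun e => ⟨BT _ (hB e), hφ e⟩, fun e => ⟨fun h1 => ?_, fun h1 => ?_⟩⟩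
  · rw [f.mul _ (BT _ (hB e)) _ (BT _ (hB e')), hφ, hφ, hφ]
  · exact hφ e ▸ f.qH ⟨BT _ (hB e), h1⟩
  · refine ((hB e).resolve_right fun h2 => ?_).2
    have := f.qH h2
    rw [f.mul _ (BT _ (hB e)) _ hv, hφ, pv, q_mul, h1] at this
    exact absurd this (by decide)

end SF

end CfsgLib.GHE
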