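import Mathlib
import Cfsg.Agent.Lib.GHE.SdApi

/-! Block SD: configuration C, `H ∩ H^g ≠ 1`.  See `plans/GHE_SD.md`. -/

set_option autoImplicit false
set_option linter.unusedSectionVars false

namespace CfsgLib.GHE

open Subgroup Cfsg CfsgLib.W2 CfsgLib.Tech CfsgLib.Sect CfsgLib.PComp CfsgLib.DihSyl
  CfsgLib.GW.Cor CfsgLib.TwoGrp
open CfsgLib.LBal hiding cj
open scoped MatrixGroups commutatorElement
open Hol

universe u

variable {G : Type u} [Group G] [Finite G]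

variable {I : Set G} {K₀ : Type u} [Group K₀] [Finite K₀] {S T : Subgroup G} {t g x a ρ v s : G}
  {π : G → Hol} {φ : Hol →* G}

theorem CC.sd_c2 (h : CC I K₀ S T t g) (f : SF t T x a ρ π)
    (e : T ⊓ LL t ⊓ cj g (T ⊓ LL t) ≠ ⊥) : C2 I K₀ S T t g x a ρ π := by
  have f' := f.cj g
  rw [h.cjT] at f'
  have eH : cj g (T ⊓ LL t) = T ⊓ LL (g * t * g⁻¹) := by rw [cj_inf, h.cjT, LL_cj]
  rw [eH] at e
  have n : T ≤ normalizer ((T ⊓ LL t ⊓ (T ⊓ LL (g * t * g⁻¹)) : Subgroup G) : Set G) := fun s hs =>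
    mem_normalizer_of_forall fun k hk => ⟨f.conjH hs hk.1, f'.conjH hs hk.2⟩
  have w' := (f'.w_mem inf_le_right e n).1
  have ew : (g * x * g⁻¹) ^ 4 = x ^ 4 := by
    rcases f.center w'.1 (f'.cw f.xH.1).symm (f'.cw f.aH.1).symm with e | e
    · have o := f'.ow
      rw [f.injH w' (one_mem _) (e.trans f.one.symm), orderOf_one] at o
      omega
    · exact f.injH w' f.wH (e.trans f.pW.symm)
  have wM := f'.wM
  rw [ew] at wM
  have bot : T ⊓ LL t ⊓ (T ⊓ MM (g * t * g⁻¹)) = ⊥ := by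
    by_contra ne
    exact wM (f.w_mem inf_le_left ne fun s hs =>
      mem_normalizer_of_forall fun k hk => ⟨f.conjH hs hk.1, f'.conjR hs hk.2⟩).2.2
  have cm : ∀ r ∈ T ⊓ MM (g * t * g⁻¹), ∀ k ∈ T ⊓ LL t, r * k = k * r := fun r hr k hk => by
    have : r * k * r⁻¹ * k⁻¹ ∈ T ⊓ LL t ⊓ (T ⊓ MM (g * t * g⁻¹)) :=
      mem_inf.2 ⟨mul_mem (f.conjH hr.1 hk) (inv_mem hk), by
        rw [mul_assoc r, mul_assoc r]; exact mul_mem hr (f'.conjR hk.1 (inv_mem hr))⟩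
    rwa [bot, mem_bot, mul_inv_eq_one, mul_inv_eq_iff_eq_mul] at this
  have ker : ∀ r ∈ T ⊓ MM (g * t * g⁻¹), π r = 1 → r = 1 := fun r hr e => by
    have : r ∈ T ⊓ MM t ⊓ cj g (T ⊓ MM t) := ⟨⟨hr.1, (f.ker r hr.1).1 e⟩, h.cjR ▸ hr⟩
    rwa [h.infR, mem_bot] at this
  have pW : ∀ r ∈ T ⊓ MM (g * t * g⁻¹), r ≠ 1 → π r = W := fun r hr ne =>
    (f.center hr.1 (cm r hr x f.xH) (cm r hr a f.aH)).resolve_left fun e => ne (ker r hr e)
  have t' : g * t * g⁻¹ ∈ T ⊓ MM (g * t * g⁻¹) := ⟨f'.yT, self_mem_MM _⟩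
  have t1 : g * t * g⁻¹ ≠ 1 := fun e => by
    have o := f'.ord
    rw [e, orderOf_one] at o
    omega
  have R : ∀ r ∈ T ⊓ MM t, r = 1 ∨ r = t := fun r hr => or_iff_not_imp_left.2 fun ne => by
    have r' : g * r * g⁻¹ ∈ T ⊓ MM (g * t * g⁻¹) := h.cjR ▸ conj_mem_cj.2 hr
    have := ker _ (mul_mem r' (inv_mem t')) (by
      rw [f.mul _ r'.1 _ (T.inv_mem t'.1), f.inv t'.1, pW _ t' t1, pW _ r' (by simpa using ne), mul_inv_cancel])
    simpa using mul_inv_eq_one.1 this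
  have gw : g * x ^ 4 * g⁻¹ = x ^ 4 := by rw [← conj_pow, ew]
  refine ⟨h, f, R, ?_, gw, fun c => ?_⟩
  · rcases R _ ⟨T.mul_mem t'.1 (T.inv_mem f.wH.1), (f.eq_iff t'.1 f.wH.1).1 (by rw [pW _ t' t1, f.pW])⟩ with e | e
    · exact absurd (mul_inv_eq_one.1 e ▸ t'.2) wM
    · exact mul_inv_eq_iff_eq_mul.1 e
  · obtain ⟨k, hk⟩ := isConj_iff.1 c
    have := h.max _ (hk ▸ h.conj t h.mem k) (T ⊔ zpowers g)
      (h.syl.pgroup.to_le (sup_le h.le (zpowers_le.2 h.gS)))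
      (sup_le (fun s hs => mem_Cx.2 (f.cw hs)) (zpowers_le.2 (mem_Cx'.2 gw)))
    exact h.gT (eq_of_le_of_card_ge le_sup_left this ▸ mem_sup_right (mem_zpowers g))

theorem C2.mul (h : C2 I K₀ S T t g x a ρ π) (hs : s ∈ T) : C2 I K₀ S T t (s * g) x a ρ π := by
  have ct : s * t = t * s := mem_Cx.1 (h.f.le hs)
  have e : ∀ y : G, s * g * y * (s * g)⁻¹ = s * (g * y * g⁻¹) * s⁻¹ := fun y => by group
  refine { h with gS := mul_mem (h.le hs) h.gS, gT := fun m => h.gT ((T.mul_mem_cancel_left hs).1 m)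
                  gg := ?_, gn := mul_mem (le_normalizer hs) h.gn, gt := ?_, gw := ?_ }
  · have := mul_mem (mul_mem hs (conj_mem_of_mem_normalizer h.gn hs)) h.gg
    rwa [show s * (g * s * g⁻¹) * (g * g) = s * g * (s * g) by group] at this
  · rw [e, h.gt, ← mul_assoc, ct, mul_assoc t, h.f.cw hs, mul_assoc, mul_inv_cancel_right]
  · rw [e, h.gw, h.f.cw hs, mul_inv_cancel_right]

theorem C2.conj_ta (h : C2 I K₀ S T t g x a ρ π) : IsConj t (t * a) := by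
  refine isConj_iff.2 ⟨ρ * g, ?_⟩
  rw [show ρ * g * t * (ρ * g)⁻¹ = ρ * (g * t * g⁻¹) * ρ⁻¹ by group, h.gt, ← conj_mul, h.f.cy.ew,
    mem_Cx'.1 (LL_le t h.f.rL)]

theorem C2.conj_wa (h : C2 I K₀ S T t g x a ρ π) : IsConj (x ^ 4) a := by
  exact isConj_iff.2 ⟨ρ, h.f.cy.ew⟩

theorem C2.cases (h : C2 I K₀ S T t g x a ρ π) (hs : s ∈ T) {k : G} (hk : k ∈ T) (e : π s = π k) :
    s = k ∨ s = k * t := by
  rcases h.R _ ⟨T.mul_mem hs (T.inv_mem hk), (h.f.eq_iff hs hk).1 e⟩ with e | e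
  · exact .inl (mul_inv_eq_one.1 e)
  · exact .inr ((mul_inv_eq_iff_eq_mul.1 e).trans (mem_Cx.1 (h.f.le hk)).symm)

theorem C3.cases (h : C3 I K₀ S T t g x a ρ π φ) (hs : s ∈ T) : s = φ (π s) ∨ s = φ (π s) * t := by
  exact h.toC2.cases hs (h.sec _).1 (h.sec _).2.symm

theorem C3.inj (h : C3 I K₀ S T t g x a ρ π φ) : Function.Injective φ := by
  exact fun e e' m => by rw [← (h.sec e).2, m, (h.sec e').2]

theorem C3.neq (h : C3 I K₀ S T t g x a ρ π φ) (e e' : Hol) : φ e * t ≠ φ e' := by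
  intro m
  have := congrArg π m
  rw [h.f.mul _ (h.sec e).1 _ h.f.yT, h.f.py, mul_one, (h.sec e).2, (h.sec e').2] at this
  have o := h.f.ord
  rw [this, mul_eq_left] at m
  rw [m, orderOf_one] at o
  omega

theorem C3.ct (h : C3 I K₀ S T t g x a ρ π φ) (e : Hol) : φ e * t = t * φ e := by
  exact mem_Cx.1 (h.f.le (h.sec e).1)

theorem C3.rv (h : C3 I K₀ S T t g x a ρ π φ) : ρ * φ V * ρ⁻¹ = φ V ∧ ρ * t * ρ⁻¹ = t ∧
    ρ * φ W * ρ⁻¹ = φ A ∧ ρ * φ A * ρ⁻¹ = φ (A * W) := by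
  have eW : φ W = x ^ 4 := by rw [← X_four, map_pow, h.eX]
  rw [map_mul, eW, h.eA]
  exact ⟨mul_inv_eq_iff_eq_mul.2 (h.f.rc _ (h.sec V).1 (.inr (h.sec V).2)).symm, mem_Cx'.1 (LL_le t h.f.rL),
    h.f.cy.ew, h.f.cy.ea⟩

namespace C2

variable (h : C2 I K₀ S T t g x a ρ π)
include h

theorem s4_tt : t * t = 1 := sq_of_ord h.f.ord
theorem s4_t1 : t ≠ 1 := fun e => by
  have o := h.f.ord
  rw [e, orderOf_one] at o
  omega
theorem s4_ct (hs : s ∈ T) : s * t = t * s := mem_Cx.1 (h.f.le hs)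
theorem s4_gT (hs : s ∈ T) : g * s * g⁻¹ ∈ T := conj_mem_of_mem_normalizer h.gn hs
theorem s4_pt (hs : s ∈ T) : π (s * t) = π s := by rw [h.f.mul _ hs _ h.f.yT, h.f.py, mul_one]
theorem s4_sq (hs : s ∈ T) : s * t * (s * t) = s * s := by
  rw [mul_assoc, ← mul_assoc t, ← h.s4_ct hs, mul_assoc, h.s4_tt, mul_one]

theorem s4_sq' : t * x ^ 4 * (t * x ^ 4) = 1 := by rw [← h.s4_ct h.f.wH.1, h.s4_sq h.f.wH.1, h.f.ww]

theorem s4_rel : (π (g * x * g⁻¹) ^ 2 = C ∨ π (g * x * g⁻¹) ^ 2 = C⁻¹) ∧ ∃ j : Fin 4,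
    X ^ j.val * π (g * a * g⁻¹) * (X ^ j.val)⁻¹ = A ∨ X ^ j.val * π (g * a * g⁻¹) * (X ^ j.val)⁻¹ = V * A := by
  have x' := h.s4_gT h.f.xH.1
  have a' := h.s4_gT h.f.aH.1
  have e : a * x * a⁻¹ = x ^ 3 := by rw [h.f.qd.conj, ← zpow_natCast]; rfl
  have key : ∀ ξ β : Hol, ξ ^ 4 = W → β * ξ * β⁻¹ = ξ ^ 3 → β * β = 1 → (ξ ^ 2 = C ∨ ξ ^ 2 = C⁻¹) ∧ ∃ j : Fin 4,
      X ^ j.val * β * (X ^ j.val)⁻¹ = A ∨ X ^ j.val * β * (X ^ j.val)⁻¹ = V * A := by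
    decide +kernel
  refine key _ _ ?_ ?_ ?_
  · rw [← h.f.pow x', conj_pow, h.gw, h.f.pW]
  · rw [← h.f.conj a' x', ← h.f.pow x', conj_pow, ← e]; congr 1; group
  · rw [← h.f.mul _ a' _ a', conj_mul, h.f.aa, mul_one, mul_inv_cancel, h.f.one]

theorem s4_v (hs : s ∈ T) (q : (π s).q = true) (b : π (g * a * g⁻¹) = A ∨ π (g * a * g⁻¹) = V * A) :
    ∃ v ∈ T, π v = V ∧ v * v = 1 ∧ (g * a * g⁻¹ = a ∨ g * a * g⁻¹ = v * a) := by
  obtain ⟨k, hk, pv⟩ := h.f.exV hs q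
  have vT := mul_mem hk.1 hs
  generalize k * s = v at pv vT
  have aT := h.f.aH.1
  have a' := h.s4_gT aT
  have aa : g * a * g⁻¹ * (g * a * g⁻¹) = 1 := by rw [conj_mul, h.f.aa, mul_one, mul_inv_cancel]
  have va : v * a = a * v := (h.f.comm_iff vT h.f.aH).2 (by rw [pv, h.f.pa]; decide)
  have sq : v * a * (v * a) = v * v := by rw [mul_assoc, ← mul_assoc a, ← va, mul_assoc, h.f.aa, mul_one]
  have c1 : π (g * a * g⁻¹) = A → g * a * g⁻¹ = a := fun e =>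
    (h.cases a' aT (e.trans h.f.pa.symm)).resolve_right fun e => h.nc (h.conj_ta.trans
      (h.conj_wa.trans (isConj_iff.2 ⟨g, e.trans (h.s4_ct aT)⟩)).symm)
  have c2 : π (g * a * g⁻¹) = V * A → g * a * g⁻¹ = v * a ∨ g * a * g⁻¹ = v * a * t := fun e =>
    h.cases a' (mul_mem vT aT) (by rw [e, h.f.mul _ vT _ aT, pv, h.f.pa])
  have vv : v * v = 1 := by
    rcases b with b | b
    swap
    · rcases c2 b with e | e <;> rw [e] at aa
      · rwa [sq] at aa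
      · rwa [h.s4_sq (mul_mem vT aT), sq] at aa
    refine (h.cases (mul_mem vT vT) (one_mem _) (by rw [h.f.mul _ vT _ vT, pv, h.f.one]; decide)).resolve_right
      fun e => ?_
    have v' : g⁻¹ * v * g ∈ T := conj_mem_of_mem_normalizer' h.gn vT
    have c : g⁻¹ * v * g * a = a * (g⁻¹ * v * g) := by
      calc g⁻¹ * v * g * a = g⁻¹ * (v * (g * a * g⁻¹)) * g := by group
        _ = g⁻¹ * ((g * a * g⁻¹) * v) * g := by rw [c1 b, va]
        _ = _ := by group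
    rw [h.f.comm_iff v' h.f.aH, h.f.pa] at c
    have e' : g * (g⁻¹ * v * g * (g⁻¹ * v * g)) * g⁻¹ = t := by rw [← one_mul t, ← e]; group
    rcases h.cases (mul_mem v' v') (one_mem _) (by
      rw [h.f.mul _ v' _ v', h.f.one]
      exact (by decide +kernel : ∀ η : Hol, η * A = A * η → η * η = 1) _ c) with m | m <;> rw [m] at e'
    · exact h.s4_t1 (by simpa using e'.symm)
    · exact h.toCC.gt_ne (by simpa using e')
  rcases b with b | b
  · exact ⟨v, vT, pv, vv, .inl (c1 b)⟩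
  rcases c2 b with e | e
  · exact ⟨v, vT, pv, vv, .inr e⟩
  · exact ⟨v * t, mul_mem vT h.f.yT, (h.s4_pt vT).trans pv, (h.s4_sq vT).trans vv,
      .inr (by rw [e, mul_assoc, h.s4_ct aT, mul_assoc])⟩

theorem s4_c3 (vT : v ∈ T) (pv : π v = V) (vv : v * v = 1) : ∃ φ, C3 I K₀ S T t g x a ρ π φ ∧ φ V = v := by
  obtain ⟨φ, eX, eA, eV, sec, memL⟩ := h.f.exists_hom vT pv vv
  refine ⟨φ, ⟨h, eX, eA, sec, memL, ?_⟩, eV⟩
  have x' := h.s4_gT h.f.xH.1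
  have e : g * φ C * g⁻¹ = φ (π (g * x * g⁻¹) ^ 2) := by
    rw [← X_sq, map_pow, eX, ← conj_pow, map_pow, pow_two, pow_two]
    rcases h.cases x' (sec _).1 (sec (π (g * x * g⁻¹))).2.symm with e | e
    · rw [← e]
    · rw [← h.s4_sq (sec _).1, ← e]
  rw [e, ← map_inv]
  exact h.s4_rel.1.imp (congrArg φ) (congrArg φ)

end C2

theorem C3.s4_gv (h : C3 I K₀ S T t g x a ρ π φ) : ∃ e, (e = V ∨ e = V * W) ∧
    (g * φ V * g⁻¹ = φ e ∨ g * φ V * g⁻¹ = φ e * t) := by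
  have v' := h.toC2.s4_gT (h.sec V).1
  have cm : ∀ e, φ V * φ e = φ e * φ V ↔ π (g * φ V * g⁻¹) * π (g * φ e * g⁻¹) =
      π (g * φ e * g⁻¹) * π (g * φ V * g⁻¹) := fun e => by
    have e' := h.toC2.s4_gT (h.sec e).1
    refine ⟨fun m => by rw [← h.f.mul _ v' _ e', ← h.f.mul _ e' _ v', conj_mul, conj_mul, m], fun m => ?_⟩
    have c : Commute (φ (π (g * φ V * g⁻¹))) (φ (π (g * φ e * g⁻¹))) := Commute.map m φ
    have c' : ∀ s ∈ T, ∀ y, Commute (φ (π s)) y → Commute t y → Commute s y := fun s hs y c₁ c₂ => by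
      rcases h.cases hs with m | m <;> rw [m]
      exacts [c₁, c₁.mul_left c₂]
    have := c' _ v' _ (c' _ e' _ c.symm (h.ct _).symm).symm (h.toC2.s4_ct e').symm
    rwa [Commute, SemiconjBy, conj_mul, conj_mul, mul_left_inj, mul_right_inj] at this
  have key : ∀ η : Hol, η * C = C * η ∨ η * C⁻¹ = C⁻¹ * η → η * η = 1 →
      (∀ ξ, η * ξ = ξ * η) ∨ η = V ∨ η = V * W := by
    decide +kernel
  refine ⟨_, (key _ ?_ ?_).resolve_left fun m => ?_, h.cases v'⟩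
  · have := (cm C).1 (by rw [← map_mul, ← map_mul]; congr 1)
    rcases h.gc with e | e <;> rw [e] at this
    · exact .inl ((h.sec C).2 ▸ this)
    · exact .inr (by rwa [← map_inv, (h.sec _).2] at this)
  · rw [← h.f.mul _ v' _ v', conj_mul, ← map_mul, show V * V = 1 by decide, map_one, mul_one, mul_inv_cancel,
      h.f.one]
  · have := (cm X).2 (m _)
    rw [← map_mul, ← map_mul] at this
    exact absurd (h.inj this) (by decide)

/-- normalisation of `g` and `v` -/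
theorem C2.exists_c3 (h : C2 I K₀ S T t g x a ρ π) (hs : s ∈ T) (q : (π s).q = true) :
    ∃ g φ, C3 I K₀ S T t g x a ρ π φ ∧
      (g * φ A * g⁻¹ = φ A ∧ g * φ V * g⁻¹ = φ V ∨
        g * φ A * g⁻¹ = φ (V * A) ∧ (g * φ V * g⁻¹ = φ V ∨ g * φ V * g⁻¹ = φ (V * W))) := by
  obtain ⟨j, hj⟩ := h.s4_rel.2
  have xT : x ^ j.val ∈ T := pow_mem h.f.xH.1 j.val
  rw [← h.f.px, ← h.f.pow h.f.xH.1, ← h.f.conj xT (h.s4_gT h.f.aH.1),
    show x ^ j.val * (g * a * g⁻¹) * (x ^ j.val)⁻¹ = x ^ j.val * g * a * (x ^ j.val * g)⁻¹ by group] at hj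
  replace h := h.mul xT
  generalize x ^ j.val * g = g at h hj
  obtain ⟨v, vT, pv, vv, ga⟩ := h.s4_v hs q hj
  obtain ⟨φ, c, rfl⟩ := h.s4_c3 vT pv vv
  have eW : φ W = x ^ 4 := by rw [← X_four, map_pow, c.eX]
  obtain ⟨e, he, gv⟩ := c.s4_gv
  have gg : ∀ y : G, g * g * y * (g * g)⁻¹ = g * (g * y * g⁻¹) * g⁻¹ := fun y => by group
  rcases ga with ga | ga
  · have fx : g * (g * φ V * g⁻¹) * g⁻¹ = φ V := by
      have m : g * g * a = a * (g * g) := by rw [← mul_inv_eq_iff_eq_mul, gg, ga, ga]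
      rw [h.f.comm_iff h.gg h.f.aH, h.f.pa] at m
      have m' : Commute (φ (π (g * g))) (φ V) :=
        Commute.map ((by decide +kernel : ∀ θ : Hol, θ * A = A * θ → θ * V = V * θ) _ m) φ
      rw [← gg, mul_inv_eq_iff_eq_mul]
      rcases c.cases h.gg with m | m <;> rw [m]
      exacts [m', m'.mul_left (c.ct V).symm]
    replace gv := gv.resolve_right fun gv => by
      have ne : φ (V * W) ≠ φ V := fun m => absurd (c.inj m) (by decide)
      rw [gv, ← conj_mul, h.gt] at fx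
      rcases he with rfl | rfl
      · exact ne (by rw [← fx, gv, mul_assoc, ← mul_assoc t, h.s4_tt, one_mul, map_mul, eW])
      · refine ne ?_
        rw [← fx, map_mul, ← conj_mul, gv, eW, h.gw, map_mul, eW, mul_assoc _ t, mul_assoc _ (t * x ^ 4), h.s4_sq' ,
          mul_one]
    rcases he with rfl | rfl
    · exact ⟨g, φ, c, .inl ⟨c.eA ▸ ga, gv⟩⟩
    obtain ⟨φ', c', e'⟩ := h.s4_c3 (mul_mem vT h.f.yT) ((h.s4_pt vT).trans pv) ((h.s4_sq vT).trans vv)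
    refine ⟨g, φ', c', .inl ⟨c'.eA ▸ ga, ?_⟩⟩
    rw [e', ← conj_mul, gv, h.gt, map_mul, eW, mul_assoc, ← h.s4_ct h.f.wH.1, ← mul_assoc (x ^ 4), h.f.ww, one_mul]
  rw [← c.eA, ← map_mul] at ga
  refine ⟨g, φ, c, .inr ⟨ga, ?_⟩⟩
  replace gv := gv.resolve_right fun gv => by
    have m := (h.f.conjH h.gg h.f.aH).2
    rw [gg, ← c.eA, ga, map_mul, ← conj_mul, gv, ga, mul_assoc, ← c.ct, ← mul_assoc, ← map_mul] at m
    refine h.toSim.self_notMem h.f.ord (((LL t).mul_mem_cancel_left ((c.memL _).2 ?_)).1 m)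
    rcases he with rfl | rfl <;> rfl
  rcases he with rfl | rfl
  exacts [.inl gv, .inr gv]

end CfsgLib.GHE
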