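import Mathlib
import Cfsg.Agent.Lib.GHE.SdApi
import Cfsg.Agent.Lib.GHE.Sd4b
import Cfsg.Agent.Lib.GHE.Rk2
import Cfsg.Agent.Lib.TL2.Defs

/-! Block SD: the translations, and `T = H × ⟨t⟩`.  See `plans/GHE_SD.md`. -/

set_option autoImplicit false

namespace CfsgLib.GHE

open Subgroup Cfsg CfsgLib.W2 CfsgLib.Tech CfsgLib.Sect CfsgLib.PComp CfsgLib.DihSyl
  CfsgLib.GW.Cor CfsgLib.TwoGrp
open CfsgLib.LBal hiding cj
open scoped MatrixGroups commutatorElement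
open Hol

universe u

variable {G : Type u} [Group G] [Finite G]

variable {I : Set G} {K₀ : Type u} [Group K₀] [Finite K₀] {S T : Subgroup G} {t g x a ρ v s : G}
  {π : G → Hol} {φ : Hol →* G}

omit [Finite G] in
theorem s5_four {w : G} (ow : orderOf w = 2) (oa : orderOf a = 2) (ne : w ≠ a) (wa : w * a = a * w) :
    ∃ U : Subgroup G, V4 U ∧ ∀ u, u ∈ U ↔ u = 1 ∨ u = a ∨ u = w ∨ u = a * w := by
  have ww := mul_self_of_orderOf_two ow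
  have aa := mul_self_of_orderOf_two oa
  have c : ∀ u ∈ zpowers a, ∀ v ∈ zpowers w, u * v = v * u := fun u hu v hv => by
    rcases (mem_zpowers_two aa).1 hu with rfl | rfl <;> rcases (mem_zpowers_two ww).1 hv with rfl | rfl <;>
      simp [wa]
  have m : ∀ u, u ∈ zpowers a ⊔ zpowers w ↔ u = 1 ∨ u = a ∨ u = w ∨ u = a * w := fun u => by
    rw [mem_sup_of_comm c]
    simp only [mem_zpowers_two aa, mem_zpowers_two ww, exists_eq_or_imp, exists_eq_left, one_mul, mul_one]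
    tauto
  have k := isKleinFour_of_mem_iff aa ww wa.symm (ne_one_of_orderOf_two oa) (ne_one_of_orderOf_two ow)
    ne.symm m
  exact ⟨_, ⟨fun u hu => mul_self_of_isKleinFour k hu, k.card_four⟩, m⟩

/-- translations `t ↦ t w`, `t ↦ t a` inside a given Sylow subgroup -/
theorem q_lem (hS : IsSylowIn 2 S ⊤) {w y₁ y₂ : G} (tt : t * t = 1) (ow : orderOf w = 2)
    (oa : orderOf a = 2) (ne : w ≠ a) (wa : w * a = a * w) (tw : t * w = w * t) (ta : t * a = a * t)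
    (c₁ : y₁ ∈ Cx w ⊓ Cx a) (e₁ : y₁ * t * y₁⁻¹ = t * w) (c₂ : y₂ ∈ Cx w ⊓ Cx a)
    (e₂ : y₂ * t * y₂⁻¹ = t * a) :
    ∃ k z₁ z₂ : G, z₁ ∈ Cx w ⊓ Cx a ∧ z₂ ∈ Cx w ⊓ Cx a ∧ z₁ * t * z₁⁻¹ = t * w ∧ z₂ * t * z₂⁻¹ = t * a ∧
      t ∈ cj k S ∧ z₁ ∈ cj k S ∧ z₂ ∈ cj k S := by
  obtain ⟨U, ⟨-, U4⟩, mU⟩ := s5_four ow oa ne wa
  have aU : a ∈ U := (mU _).2 (by simp)
  have wU : w ∈ U := (mU _).2 (by simp)
  have cen : ∀ {g}, g ∈ Cx w ⊓ Cx a ↔ g ∈ centralizer (U : Set G) := fun {g} =>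
    ⟨fun c u hu => by
      have c1 : Commute g w := mem_Cx.1 c.1
      have c2 : Commute g a := mem_Cx.1 c.2
      rcases (mU u).1 hu with rfl | rfl | rfl | rfl
      exacts [by simp, c2.symm.eq, c1.symm.eq, (c2.mul_right c1).symm.eq],
    fun c => mem_inf.2 ⟨mem_Cx.2 (c w wU).symm, mem_Cx.2 (c a aU).symm⟩⟩
  have mM : ∀ {g v}, g ∈ Cx w ⊓ Cx a → g * t * g⁻¹ = t * v → v ∈ U →
      g ∈ TL2.Nt t U ⊓ centralizer (U : Set G) := fun c e hv =>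
    ⟨⟨centralizer_le_normalizer _ (cen.1 c), by rwa [e, inv_mul_cancel_left]⟩, cen.1 c⟩
  have my := mM c₁ e₁ wU
  have mz := mM c₂ e₂ aU
  have mt := mM (g := t) (v := 1) (mem_inf.2 ⟨mem_Cx.2 tw, mem_Cx.2 ta⟩) (by simp) (one_mem U)
  obtain ⟨Q, hQ, tQ⟩ := exists_isSylowIn_ge (isPGroup_two_zpowers tt) (zpowers_le.2 mt)
  have orb : {g | ∃ x ∈ TL2.Nt t U ⊓ centralizer (U : Set G), x * t * x⁻¹ = g}.ncard = 2 ^ 2 := by
    refine Eq.trans ?_ ((Set.ncard_image_of_injective (U : Set G) (mul_right_injective t)).trans U4)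
    congr 1
    ext g
    refine ⟨fun ⟨x, hx, e⟩ => ⟨_, hx.1.2, by simp [e]⟩, ?_⟩
    rintro ⟨v, hv, rfl⟩
    rcases (mU v).1 hv with rfl | k | k | k
    · exact ⟨1, one_mem _, by simp⟩
    · exact ⟨y₂, mz, k ▸ e₂⟩
    · exact ⟨y₁, my, k ▸ e₁⟩
    · refine ⟨y₂ * y₁, mul_mem mz my, ?_⟩
      calc _ = y₂ * (y₁ * t * y₁⁻¹) * y₂⁻¹ := by group
        _ = _ := by rw [e₁, ← conj_mul, e₂, mem_Cx'.1 c₂.1, k, mul_assoc]
  obtain ⟨y', hy', ey⟩ := TL2.reach hQ orb my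
  obtain ⟨z', hz', ez⟩ := TL2.reach hQ orb mz
  obtain ⟨c, -, hc⟩ := hS.exists_cj_le hQ.pgroup le_top
  replace hc : Q ≤ cj c⁻¹ S := (cj_inv_cj c Q).ge.trans (cj_mono _ hc)
  exact ⟨c⁻¹, y', z', cen.2 (hQ.le hy').2, cen.2 (hQ.le hz').2, ey.trans e₁, ez.trans e₂,
    hc (tQ (mem_zpowers t)), hc hy', hc hz'⟩

theorem C2.q_lem (h : C2 I K₀ S T t g x a ρ π) (ga : g * a * g⁻¹ = a) {S' : Subgroup G}
    (hS : IsSylowIn 2 S' ⊤) :
    ∃ k z₁ z₂ : G, z₁ ∈ Cx (x ^ 4) ⊓ Cx a ∧ z₂ ∈ Cx (x ^ 4) ⊓ Cx a ∧ z₁ * t * z₁⁻¹ = t * x ^ 4 ∧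
      z₂ * t * z₂⁻¹ = t * a ∧ t ∈ cj k S' ∧ z₁ ∈ cj k S' ∧ z₂ ∈ cj k S' := by
  have f := h.f
  have cj' : ∀ u, ρ * g * ρ⁻¹ * (ρ * u * ρ⁻¹) * (ρ * g * ρ⁻¹)⁻¹ = ρ * (g * u * g⁻¹) * ρ⁻¹ :=
    fun u => by group
  have ρt : ρ * t * ρ⁻¹ = t := by rw [← f.rc t f.yT (.inl f.py), mul_inv_cancel_right]
  have za := cj' (x ^ 4)
  have zw := cj' a
  have zt := cj' t
  rw [h.gw, f.cy.ew] at za
  rw [ga, f.cy.ea, ← conj_mul, za, mul_right_inj] at zw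
  rw [h.gt, ← conj_mul (a := t), ρt, f.cy.ew] at zt
  exact GHE.q_lem hS (mul_self_of_orderOf_two f.ord) f.ow f.oa f.w_ne_a (f.cw f.aH.1).symm (f.cw f.yT)
    (mem_Cx.1 (f.le f.aH.1)).symm (mem_inf.2 ⟨mem_Cx'.2 h.gw, mem_Cx'.2 ga⟩) h.gt
    (mem_inf.2 ⟨mem_Cx'.2 zw, mem_Cx'.2 za⟩) zt

theorem C2.s5_w (h : C2 I K₀ S T t g x a ρ π) (hs : s ∈ T) (e : π s = 1 ∨ π s = W) :
    s = 1 ∨ s = x ^ 4 ∨ s = t ∨ s = t * x ^ 4 := by
  rcases e with e | e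
  · rcases h.cases hs (one_mem T) (e.trans h.f.one.symm) with k | k
    exacts [.inl k, .inr (.inr (.inl (by rw [k, one_mul])))]
  · rcases h.cases hs h.f.wH.1 (e.trans h.f.pW.symm) with k | k
    exacts [.inr (.inl k), .inr (.inr (.inr (by rw [k, h.f.cw h.f.yT])))]

theorem C2.s5_inner (h : C2 I K₀ S T t g x a ρ π) (q : ∀ s ∈ T, (π s).q = false)
    (ga : g * a * g⁻¹ = a) : False := by
  have f := h.f
  have tt := mul_self_of_orderOf_two f.ord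
  have t1 := ne_one_of_orderOf_two f.ord
  have w1 := ne_one_of_orderOf_two f.ow
  have ct : ∀ y ∈ T, y * t = t * y := fun y hy => mem_Cx.1 (f.le hy)
  have ctw : IsConj t (t * x ^ 4) := isConj_iff.2 ⟨g, h.gt⟩
  have na : ¬ IsConj t a := fun k => h.nc (k.trans h.conj_wa.symm)
  have sq : ∀ y ∈ T, y * t * (y * t) = y * y := fun y hy => by
    rw [mul_assoc, ← mul_assoc t, ← ct y hy, mul_assoc, tt, mul_one]
  have p2 : ∀ y ∈ T, y * y = 1 → π y * π y = 1 := fun y hy e => by rw [← f.mul y hy y hy, e, f.one]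
  obtain ⟨U, ⟨U2, U4⟩, mU⟩ := s5_four f.ow f.oa f.w_ne_a (f.cw f.aH.1).symm
  have UH : U ≤ T ⊓ LL t := fun u hu => by
    rcases (mU u).1 hu with rfl | rfl | rfl | rfl
    exacts [one_mem _, f.aH, f.wH, mul_mem f.aH f.wH]
  obtain ⟨S₀, W₀, hS, TS, hW, WT, SW⟩ := h.d3 (fun r => by
    have c : ∀ u ∈ U, ∀ v ∈ zpowers t, u * v = v * u := fun u hu v hv => by
      rcases (mem_zpowers_two tt).1 hv with rfl | rfl
      exacts [by simp, ct u (UH hu).1]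
    have a1 := rk_iff.1 r (U ⊔ zpowers t) fun y hy => by
      obtain ⟨u, hu, v, hv, rfl⟩ := (mem_sup_of_comm c).1 hy
      rcases (mem_zpowers_two tt).1 hv with rfl | rfl
      · rw [mul_one, U2 u hu]
      · rw [sq u (UH hu).1, U2 u hu]
    have a2 := two_mul_card_le (le_sup_left : U ≤ U ⊔ zpowers t) fun k =>
      t1 (f.injH (UH (k (mem_sup_right (mem_zpowers t)))) (one_mem _) (f.py.trans f.one.symm))
    omega) f.ord f.syl
  have eT : S₀ ⊓ Cx t = T := f.syl.eq_of_le (hS.pgroup.to_le inf_le_left) (le_inf TS f.le) inf_le_right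
  have cW : ∀ σ ∈ S₀, ∀ y ∈ W₀, σ * y * σ⁻¹ ∈ W₀ := fun σ hσ y hy =>
    conj_mem_of_mem_normalizer (SW hσ) hy
  have mW : ∀ y ∈ W₀, y = 1 ∨ y = x ^ 4 ∨ y = t ∨ y = t * x ^ 4 := fun y hy => by
    have c := mul_mem hy (cW x (TS f.xH.1) y hy)
    have c2 := p2 _ (WT c) (hW.1 _ c)
    rw [f.mul _ (WT hy) _ (WT (cW x (TS f.xH.1) y hy)), f.conj f.xH.1 (WT hy), f.px] at c2
    refine h.s5_w (WT hy) ?_
    have c3 := p2 _ (WT hy) (hW.1 _ hy)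
    have c4 := q _ (WT hy)
    generalize π y = β at c2 c3 c4
    revert β
    decide +kernel
  obtain ⟨tW, wW⟩ : t ∈ W₀ ∧ x ^ 4 ∈ W₀ := by
    obtain ⟨p, q, hp, hq, p1, q1, pq, -⟩ := hW.t1_cent hS.pgroup (WT.trans TS) SW
    rcases mW p hp with rfl | rfl | rfl | rfl <;> rcases mW q hq with rfl | rfl | rfl | rfl <;>
      first
        | contradiction
        | exact ⟨hq, hp⟩
        | exact ⟨hp, hq⟩
        | exact ⟨(mul_mem_cancel_right hp).1 hq, hp⟩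
        | exact ⟨(mul_mem_cancel_right hq).1 hp, hq⟩
        | exact ⟨hp, (mul_mem_cancel_left hp).1 hq⟩
        | exact ⟨hq, (mul_mem_cancel_left hq).1 hp⟩
  have St : ∀ σ ∈ S₀, σ * t * σ⁻¹ = t ∨ σ * t * σ⁻¹ = t * x ^ 4 := fun σ hσ => by
    rcases mW _ (cW σ hσ t tW) with k | k | k
    · exact absurd (by simpa using k) t1
    · exact absurd (isConj_iff.2 ⟨σ, k⟩) h.nc
    · exact k
  have Sw : ∀ σ ∈ S₀, σ * x ^ 4 * σ⁻¹ = x ^ 4 := fun σ hσ => by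
    rcases mW _ (cW σ hσ _ wW) with k | k | k | k
    · exact absurd (isConj_one_left.1 (isConj_iff.2 ⟨σ, k⟩)) w1
    · exact k
    · exact absurd (isConj_iff.2 ⟨σ, k⟩).symm h.nc
    · exact absurd (ctw.trans (isConj_iff.2 ⟨σ, k⟩).symm) h.nc
  have ST : ∀ σ ∈ S₀, ∀ y ∈ T, σ * y * σ⁻¹ ∈ T := fun σ hσ y hy =>
    eT.le <| mem_inf.2 ⟨mul_mem (mul_mem hσ (TS hy)) (inv_mem hσ), mem_Cx.2 (by
      have k : y * (σ⁻¹ * t * σ⁻¹⁻¹) = σ⁻¹ * t * σ⁻¹⁻¹ * y := by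
        rcases St _ (inv_mem hσ) with k | k <;> rw [k]
        · exact ct y hy
        · rw [← mul_assoc, ct y hy, mul_assoc, f.cw hy, mul_assoc]
      calc _ = σ * (y * (σ⁻¹ * t * σ⁻¹⁻¹)) * σ⁻¹ := by group
        _ = _ := by rw [k]; group)⟩
  have Sc : ∀ σ ∈ S₀, σ * x ^ 2 * σ⁻¹ = x ^ 2 ∨ σ * x ^ 2 * σ⁻¹ = (x ^ 2)⁻¹ := fun σ hσ => by
    have m := ST σ hσ x f.xH.1
    obtain ⟨k, hk, e⟩ := f.exH _ (q _ m)
    have e2 : σ * x ^ 2 * σ⁻¹ = k * k := by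
      rw [pow_two, ← conj_mul]
      rcases h.cases m hk.1 e.symm with e' | e' <;> rw [e']
      exact sq k hk.1
    have e4 : π k * π k * (π k * π k) = W := by
      rw [← f.mul k hk.1 k hk.1, ← f.mul _ (mul_mem hk.1 hk.1) _ (mul_mem hk.1 hk.1), ← e2, conj_mul, f.cc,
        Sw σ hσ, f.pW]
    have e5 : π k * π k = C ∨ π k * π k = C⁻¹ := by
      generalize π k = β at e4
      revert β
      decide +kernel
    rw [← f.mul k hk.1 k hk.1, ← f.pC, ← f.inv f.cH.1] at e5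
    rw [e2]
    exact e5.imp (f.injH (mul_mem hk hk) f.cH) (f.injH (mul_mem hk hk) (inv_mem f.cH))
  have cm : ∀ σ ∈ S₀, ∀ τ ∈ S₀, ∀ u, u * u = 1 → u ≠ 1 → ¬ IsConj t u → σ * τ * σ⁻¹ * τ⁻¹ = u →
      u = x ^ 4 := fun σ hσ τ hτ u uu u1 nc ec => by
    have uT : u ∈ T ⊓ Cx (x ^ 2) := ec ▸ comm_mem (H := S₀) (fun y hy => mem_inf.2 ⟨eT.le ⟨mul_mem hy hy,
      mem_Cx'.2 (by
        rw [show y * y * t * (y * y)⁻¹ = y * (y * t * y⁻¹) * y⁻¹ by group]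
        rcases St y hy with k | k
        · rw [k, k]
        · rw [k, ← conj_mul, k, Sw y hy, mul_assoc, f.ww, mul_one])⟩, mem_Cx'.2 (by
        rw [show y * y * x ^ 2 * (y * y)⁻¹ = y * (y * x ^ 2 * y⁻¹) * y⁻¹ by group]
        rcases Sc y hy with k | k
        · rw [k, k]
        · rw [k, show y * (x ^ 2)⁻¹ * y⁻¹ = (y * x ^ 2 * y⁻¹)⁻¹ by group, k, inv_inv])⟩) hσ hτ
    have c2 := (f.comm_iff uT.1 f.cH).1 (mem_Cx.1 uT.2)
    rw [f.pC] at c2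
    have c5 : π u = 1 ∨ π u = W := by
      have c3 := p2 _ uT.1 uu
      have c4 := q _ uT.1
      generalize π u = β at c2 c3 c4
      revert β
      decide +kernel
    rcases h.s5_w uT.1 c5 with k | k | k | k
    exacts [absurd k u1, k, absurd (k ▸ IsConj.refl t) nc, absurd (k ▸ ctw) nc]
  obtain ⟨k, z₁, z₂, -, -, e₁, e₂, m₀, m₁, m₂⟩ := h.q_lem ga hS
  have fin : ∀ z v, z ∈ cj k S₀ → orderOf v = 2 → ¬ IsConj t v → z * t * z⁻¹ = t * v →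
      k⁻¹ * v * k⁻¹⁻¹ = x ^ 4 := fun z v hz ov nv e =>
    cm _ (inv_mem (mem_cj.1 m₀)) _ (mem_cj.1 hz) _ (by rw [conj_mul, mul_self_of_orderOf_two ov]; group)
      (fun e' => ne_one_of_orderOf_two ov (isConj_one_left.1 (isConj_iff.2 ⟨_, e'⟩)))
      (fun e' => nv (e'.trans (isConj_iff.2 ⟨_, rfl⟩).symm)) (by
        calc _ = k⁻¹ * (t⁻¹ * (z * t * z⁻¹)) * k := by group
          _ = _ := by rw [e]; group)
  exact f.w_ne_a (mul_left_cancel (mul_right_cancel ((fin _ _ m₁ f.ow h.nc e₁).trans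
    (fin _ _ m₂ f.oa na e₂).symm)))

theorem C2.inner (h : C2 I K₀ S T t g x a ρ π) (q : ∀ s ∈ T, (π s).q = false) : False := by
  have f := h.f
  have m := conj_mem_of_mem_normalizer h.gn f.aH.1
  have na : ∀ k, ¬ IsConj t (k * a * k⁻¹) := fun k e =>
    h.nc ((e.trans (isConj_iff.2 ⟨k, rfl⟩).symm).trans h.conj_wa.symm)
  have c3 : π (g * a * g⁻¹) * π (g * a * g⁻¹) = 1 := by
    rw [← f.mul _ m _ m, conj_mul, f.aa, mul_one, mul_inv_cancel, f.one]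
  have c5 : (π (g * a * g⁻¹) = 1 ∨ π (g * a * g⁻¹) = W) ∨
      ∃ j : Fin 8, X ^ j.val * π (g * a * g⁻¹) * (X ^ j.val)⁻¹ = A := by
    have c4 := q _ m
    generalize π (g * a * g⁻¹) = β at c3 c4
    revert β
    decide +kernel
  rcases c5 with k | ⟨j, k⟩
  · rcases h.s5_w m k with e | e | e | e
    · exact ne_one_of_orderOf_two f.oa (isConj_one_left.1 (isConj_iff.2 ⟨g, e⟩))
    · exact f.w_ne_a (mul_left_cancel (mul_right_cancel (h.gw.trans e.symm)))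
    · exact na g (e ▸ IsConj.refl t)
    · exact na g (by rw [e]; exact isConj_iff.2 ⟨g, h.gt⟩)
  have xj := pow_mem f.xH.1 j.val
  rw [← f.px, ← f.pow f.xH.1, ← f.conj xj m, ← f.pa] at k
  have e : x ^ j.val * g * a * (x ^ j.val * g)⁻¹ = x ^ j.val * (g * a * g⁻¹) * (x ^ j.val)⁻¹ := by group
  rcases h.cases (mul_mem (mul_mem xj m) (inv_mem xj)) f.aH.1 k with e' | e'
  · exact (h.mul xj).s5_inner q (e.trans e')
  · exact na _ (by rw [e, e', mem_Cx.1 (f.le f.aH.1)]; exact h.conj_ta)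

end CfsgLib.GHE
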