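import Mathlib
import Cfsg.Agent.Lib.GHE.SdApi
import Cfsg.Agent.Lib.GHE.Sd4b
import Cfsg.Agent.Lib.GHE.Sd5

/-! Block SD: `T = Hol(Z₈) × ⟨t⟩`, `g` centralises `a`.  See `plans/GHE_SD.md`. -/

set_option autoImplicit false
set_option linter.unusedSectionVars false

namespace CfsgLib.GHE

open Subgroup Cfsg CfsgLib.W2 CfsgLib.Tech CfsgLib.Sect CfsgLib.PComp CfsgLib.DihSyl
  CfsgLib.GW.Cor CfsgLib.TwoGrp
open CfsgLib.LBal hiding cj
open scoped MatrixGroups commutatorElement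
open Hol

universe u

variable {G : Type u} [Group G] [Finite G]

variable {I : Set G} {K₀ : Type u} [Group K₀] [Finite K₀] {S T : Subgroup G} {t g x a ρ v s : G}
  {π : G → Hol} {φ : Hol →* G}

/-- `⟨W⟩` -/
def s6_W : Subgroup Hol where
  carrier := {e | e = 1 ∨ e = W}
  one_mem' := .inl rfl
  mul_mem' := by simp only [Set.mem_ofPred_eq]; decide +kernel
  inv_mem' := by simp only [Set.mem_ofPred_eq]; decide +kernel

/-- `⟨C⟩` -/
def s6_C : Subgroup Hol where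
  carrier := {e | e = 1 ∨ e = W ∨ e = C ∨ e = C⁻¹}
  one_mem' := .inl rfl
  mul_mem' := by simp only [Set.mem_ofPred_eq]; decide +kernel
  inv_mem' := by simp only [Set.mem_ofPred_eq]; decide +kernel

theorem s6_mW {e : Hol} : e ∈ s6_W ↔ e = 1 ∨ e = W := Iff.rfl
theorem s6_mC {e : Hol} : e ∈ s6_C ↔ e = 1 ∨ e = W ∨ e = C ∨ e = C⁻¹ := Iff.rfl

omit [Finite G] in
theorem s6_comm {Z T : Subgroup G} (hT : T ≤ normalizer (Z : Set G)) (hg : g ∈ normalizer (Z : Set G)) {c : G}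
    (h1 : ∀ s ∈ T, ⁅c, s⁆ ∈ Z) (h2 : ⁅c, g⁆ ∈ Z) : ∀ y ∈ T ⊔ zpowers g, ⁅c, y⁆ ∈ Z := by
  let Y : Subgroup G :=
    { carrier := {y | y ∈ normalizer (Z : Set G) ∧ ⁅c, y⁆ ∈ Z}
      one_mem' := ⟨one_mem _, by simp⟩
      mul_mem' := fun {y y'} hy hy' => ⟨mul_mem hy.1 hy'.1, by
        have := mul_mem hy.2 (conj_mem_of_mem_normalizer hy.1 hy'.2)
        convert this using 1; simp only [commutatorElement_def]; group⟩
      inv_mem' := fun {y} hy => ⟨inv_mem hy.1, by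
        have := conj_mem_of_mem_normalizer' hy.1 (inv_mem hy.2)
        convert this using 1; simp only [commutatorElement_def]; group⟩ }
  exact fun y hy => (sup_le (c := Y) (fun s hs => ⟨hT hs, h1 s hs⟩) (zpowers_le.2 ⟨hg, h2⟩) hy).2

namespace C3

variable (h : C3 I K₀ S T t g x a ρ π φ)
include h

theorem s6_W : φ W = x ^ 4 := by rw [← X_four, map_pow, h.eX]
theorem s6_tt : t * t = 1 := sq_of_ord h.f.ord
theorem s6_ct (e : Hol) : φ e * t = t * φ e := mem_Cx.1 (h.f.le (h.sec e).1)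
theorem s6_gT (hs : s ∈ T) : g * s * g⁻¹ ∈ T := conj_mem_of_mem_normalizer h.gn hs

theorem s6_dec (hs : s ∈ T) : s = φ (π s) ∨ s = φ (π s) * t := by
  have m := mul_mem (inv_mem (h.sec (π s)).1) hs
  rcases h.R _ ⟨m, (h.f.ker _ m).1 (by
    rw [h.f.mul _ (inv_mem (h.sec _).1) _ hs, h.f.inv (h.sec _).1, (h.sec _).2, inv_mul_cancel])⟩ with e | e
  exacts [.inl (inv_mul_eq_one.1 e).symm, .inr (inv_mul_eq_iff_eq_mul.1 e)]

theorem s6_pt (e : Hol) : π (φ e * t) = e := by rw [h.f.mul _ (h.sec e).1 _ h.f.yT, h.f.py, mul_one, (h.sec e).2]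

theorem s6_inv (hs : s ∈ h.f.pre GHE.s6_C) (c : IsConj t s ∨ IsConj (x ^ 4) s) :
    s = x ^ 4 ∨ s = t ∨ s = t * x ^ 4 := by
  have o : orderOf s = 2 := by
    rcases c with c | c <;> obtain ⟨k, rfl⟩ := isConj_iff.1 c <;> rw [← MulAut.conj_apply, MulEquiv.orderOf_eq]
    exacts [h.f.ord, h.f.ow]
  have e : π s * π s = 1 := by rw [← h.f.mul _ hs.1 _ hs.1, sq_of_ord o, h.f.one]
  have : ∀ e : Hol, e = 1 ∨ e = W ∨ e = C ∨ e = C⁻¹ → e * e = 1 → e = 1 ∨ e = W := by decide +kernel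
  rcases this _ hs.2 e with e | e <;> rcases h.s6_dec hs.1 with e' | e' <;> rw [e] at e'
  · rw [e', map_one, orderOf_one] at o; omega
  · exact .inr (.inl (by simpa using e'))
  · exact .inl (e'.trans h.s6_W)
  · exact .inr (.inr (by rw [e', h.s6_ct, h.s6_W]))

theorem s6_one (ga : g * φ A * g⁻¹ = φ A) (gv : g * φ V * g⁻¹ = φ V) (gg : g * g ∈ zpowers (φ W)) : False := by
  have gw : g * φ W * g⁻¹ = φ W := by rw [h.s6_W, h.gw]
  have le : ∀ {B : Subgroup G}, φ W ∈ B → zpowers (φ W) ≤ B := zpowers_le.2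
  have mW : ∀ e : Hol, e = 1 ∨ e = W → φ e ∈ zpowers (φ W) := by
    rintro _ (rfl | rfl)
    exacts [by simp, mem_zpowers _]
  have sy : ∀ {y y' : G}, y * y' * y⁻¹ * y'⁻¹ ∈ zpowers (φ W) → y' * y * y'⁻¹ * y⁻¹ ∈ zpowers (φ W) :=
    fun m => by convert inv_mem m using 1; group
  have p1 : ∀ e e' : Hol, e * e' * e⁻¹ * e'⁻¹ = 1 ∨ e * e' * e⁻¹ * e'⁻¹ = W →
      φ e * φ e' * (φ e)⁻¹ * (φ e')⁻¹ ∈ zpowers (φ W) := fun e e' m => by simpa using mW _ m
  have p0 : ∀ {y y' : G}, y * y' * y⁻¹ = y' → y * y' * y⁻¹ * y'⁻¹ ∈ zpowers (φ W) := fun m => by simp [m]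
  have p2 : ∀ e, φ e * t * (φ e)⁻¹ * t⁻¹ ∈ zpowers (φ W) := fun e => p0 (by rw [h.s6_ct, mul_inv_cancel_right])
  have p3 : g * φ C * g⁻¹ * (φ C)⁻¹ ∈ zpowers (φ W) := by
    rcases h.gc with e | e
    · exact p0 e
    · rw [e, ← map_inv, ← map_mul]; exact mW _ (by decide)
  have p4 : g * t * g⁻¹ * t⁻¹ ∈ zpowers (φ W) := by
    rw [h.gt, ← h.s6_W, ← h.s6_ct, mul_inv_cancel_right]; exact mem_zpowers _
  have pr : ∀ (B : Subgroup Hol) (e : Hol), φ e ∈ h.f.pre B ↔ e ∈ B := fun B e => by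
    rw [h.f.mem_pre, (h.sec e).2]; exact and_iff_right (h.sec e).1
  refine h.toCtx.e32 (K := zpowers (φ W)) (A₀ := h.f.pre GHE.s6_W) (A₁ := h.f.pre GHE.s6_C) (A₂ := LL t)
    (A₃ := φ.range) (A₄ := T) (x₁ := φ C) (x₂ := φ A) (x₃ := φ V) (x₄ := t) (x₅ := g) ?_ ?_ ?_
    (le ((pr _ _).2 (.inr rfl))) (le ((pr _ _).2 (.inr (.inl rfl)))) (le ((h.memL _).2 rfl)) (le ⟨_, rfl⟩)
    (le (h.sec _).1) ((pr _ _).2 (.inr (.inr (.inl rfl)))) ⟨(h.memL _).2 rfl, (h.memL _).2 rfl⟩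
    ⟨⟨_, rfl⟩, ⟨_, rfl⟩, ⟨_, rfl⟩⟩ ⟨(h.sec _).1, (h.sec _).1, (h.sec _).1, h.f.yT⟩
    (by rw [pr, s6_mW]; decide) (by rw [pr, s6_mC]; decide) (by rw [h.memL]; decide) ?_ h.gT
  · have c : ∀ y : G, y * φ W * y⁻¹ = φ W → ∀ k ∈ zpowers (φ W), y * k * y⁻¹ ∈ zpowers (φ W) := by
      rintro y e _ ⟨i, rfl⟩
      exact ⟨i, by simp only [← conj_zpow, e]⟩
    have c' : ∀ s ∈ T, s * φ W * s⁻¹ = φ W := fun s hs => by rw [h.s6_W, h.f.cw hs, mul_inv_cancel_right]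
    simp only [List.mem_cons, List.not_mem_nil, or_false]
    rintro _ (rfl | rfl | rfl | rfl | rfl)
    exacts [c _ (c' _ (h.sec _).1), c _ (c' _ (h.sec _).1), c _ (c' _ (h.sec _).1), c _ (c' _ h.f.yT), c _ gw]
  · simp only [List.mem_cons, List.not_mem_nil, or_false]
    rintro _ (rfl | rfl | rfl | rfl | rfl)
    exacts [map_mul φ _ _ ▸ mW _ (by decide), map_mul φ _ _ ▸ mW _ (by decide), map_mul φ _ _ ▸ mW _ (by decide),
      h.s6_tt ▸ one_mem _, gg]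
  · simp only [List.mem_cons, List.not_mem_nil, or_false, forall_eq_or_imp, forall_eq]
    exact ⟨⟨p1 _ _ (by decide), p1 _ _ (by decide), p1 _ _ (by decide), p2 _, sy p3⟩,
      ⟨p1 _ _ (by decide), p1 _ _ (by decide), p1 _ _ (by decide), p2 _, sy (p0 ga)⟩,
      ⟨p1 _ _ (by decide), p1 _ _ (by decide), p1 _ _ (by decide), p2 _, sy (p0 gv)⟩,
      ⟨sy (p2 _), sy (p2 _), sy (p2 _), by simp, sy p4⟩, p3, p0 ga, p0 gv, p4, by simp⟩
  · rintro ⟨e, he⟩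
    have := (h.sec e).2
    rw [he, h.f.py] at this
    have o := h.f.ord
    rw [← he, ← this, map_one, orderOf_one] at o
    omega

theorem s6_two (ga : g * φ A * g⁻¹ = φ A) (gv : g * φ V * g⁻¹ = φ V) (gg : g * g * x * (g * g)⁻¹ = x * x ^ 4) :
    False := by
  have xT := h.f.xH.1
  have tT := h.f.yT
  let ψ : Hol →* Hol := MonoidHom.mk' (fun e => π (g * φ e * g⁻¹)) fun e e' => by
    simp only [map_mul]
    rw [← conj_mul, h.f.mul _ (h.s6_gT (h.sec e).1) _ (h.s6_gT (h.sec e').1)]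
  have eψ : ∀ e, ψ e = π (g * φ e * g⁻¹) := fun _ => rfl
  have ψA : ψ A = A := by rw [eψ, ga, (h.sec _).2]
  have ψV : ψ V = V := by rw [eψ, gv, (h.sec _).2]
  have ψC : ψ X * ψ X = C ∨ ψ X * ψ X = C⁻¹ := by
    rw [← map_mul, show X * X = C by decide, eψ]
    rcases h.gc with e | e <;> rw [e]
    exacts [.inl (h.sec _).2, .inr (by rw [← map_inv, (h.sec _).2])]
  have r1 : A * ψ X * A⁻¹ = ψ X * ψ X * ψ X := by
    rw [← ψA, ← map_inv, ← map_mul, ← map_mul, ← map_mul, ← map_mul]; congr 1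
  have key : ∀ ξ : Hol, ξ * ξ = C ∨ ξ * ξ = C⁻¹ → A * ξ * A⁻¹ = ξ * ξ * ξ → ∃ k : Fin 4, ξ = X ^ (2 * k.val + 1) := by
    decide +kernel
  obtain ⟨k, hk⟩ := key _ ψC r1
  have gx : g * x * g⁻¹ = x ^ (2 * k.val + 1) * t := by
    have e := h.s6_dec (h.s6_gT xT)
    rw [← h.eX, ← eψ, hk, map_pow, h.eX] at e
    refine e.resolve_left fun e => ?_
    have : g * g * x * (g * g)⁻¹ = g * (g * x * g⁻¹) * g⁻¹ := by group
    rw [gg, e, ← conj_pow, e, ← pow_mul, ← h.eX, ← map_pow, ← map_mul, ← map_pow] at this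
    have := congrArg π this
    rw [(h.sec _).2, (h.sec _).2] at this
    exact (by decide +kernel : ∀ k : Fin 4, X * X ^ 4 ≠ X ^ ((2 * k.val + 1) * (2 * k.val + 1))) k this
  have hψ : ∀ e, ψ e * e⁻¹ ∈ GHE.s6_C := fun e => by
    have : ψ e = (X ^ (2 * k.val + 1)) ^ e.i.val * cond e.p A 1 * cond e.q V 1 := by
      conv_lhs => rw [Hol.dec e]
      rw [map_mul, map_mul, map_pow, hk]
      cases e.p <;> cases e.q <;> simp [ψA, ψV]
    rw [this, s6_mC]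
    clear this gx hk
    revert e k; decide +kernel
  have hg : ∀ s ∈ T, ⁅g, s⁆ ∈ h.f.pre GHE.s6_C := fun s hs => by
    refine ⟨mul_mem (h.s6_gT hs) (inv_mem hs), ?_⟩
    rw [commutatorElement_def, h.f.mul _ (h.s6_gT hs) _ (inv_mem hs), h.f.inv hs]
    rcases h.s6_dec hs with e | e
    · nth_rewrite 1 [e]; exact hψ _
    · nth_rewrite 1 [e]
      rw [← conj_mul, h.gt, h.f.mul _ (h.s6_gT (h.sec _).1) _ (mul_mem tT h.f.wH.1), h.f.mul _ tT _ h.f.wH.1,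
        h.f.py, h.f.pW, one_mul, ← eψ]
      have := hψ (π s)
      generalize ψ (π s) = e₁ at this
      generalize π s = e₂ at this
      rw [s6_mC] at this ⊢
      revert e₁ e₂; decide +kernel
  have hT : ∀ s ∈ T, ∀ s' ∈ T, ⁅s, s'⁆ ∈ h.f.pre GHE.s6_C := fun s hs s' hs' => by
    refine ⟨mul_mem (mul_mem (mul_mem hs hs') (inv_mem hs)) (inv_mem hs'), ?_⟩
    rw [commutatorElement_def, h.f.mul _ (mul_mem (mul_mem hs hs') (inv_mem hs)) _ (inv_mem hs'), h.f.conj hs hs',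
      h.f.inv hs', s6_mC]
    generalize π s = e₁
    generalize π s' = e₂
    revert e₁ e₂; decide +kernel
  have nr : ∀ y : G, (∀ s ∈ T, ⁅y, s⁆ ∈ h.f.pre GHE.s6_C) → y ∈ normalizer (h.f.pre GHE.s6_C : Set G) :=
    fun y hy => mem_normalizer_of_forall fun s hs => by
      have := mul_mem (hy s hs.1) hs
      rwa [commutatorElement_def, inv_mul_cancel_right] at this
  have sy : ∀ {y y' : G}, ⁅y, y'⁆ ∈ h.f.pre GHE.s6_C → ⁅y', y⁆ ∈ h.f.pre GHE.s6_C :=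
    fun m => by rw [← commutatorElement_inv]; exact inv_mem m
  have cm := fun c => s6_comm (c := c) (fun s hs => nr s (hT s hs)) (nr g hg)
  have le : ⁅T ⊔ zpowers g, T ⊔ zpowers g⁆ ≤ h.f.pre GHE.s6_C := commutator_le.2 fun y hy =>
    cm y (fun s hs => sy (cm s (hT s hs) (sy (hg s hs)) y hy)) (sy (cm g hg (by simp) y hy))
  have x1 : x ∈ T ⊔ zpowers g := mem_sup_left xT
  have g1 : g ∈ T ⊔ zpowers g := mem_sup_right (mem_zpowers g)
  have tD : t ∈ ⁅T ⊔ zpowers g, T ⊔ zpowers g⁆ := by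
    have e1 : ⁅x, a⁆ = (x ^ 2)⁻¹ := by
      rw [← h.eX, ← h.eA, ← map_commutatorElement, ← map_pow, ← map_inv]; congr 1
    have := mul_mem (pow_mem (commutator_mem_commutator x1 (mem_sup_left h.f.aH.1)) k.val)
      (commutator_mem_commutator g1 x1)
    rwa [e1, commutatorElement_def, gx, inv_pow, ← pow_mul, pow_succ, mul_assoc _ x, mem_Cx.1 (h.f.le xT), mul_assoc,
      mul_inv_cancel_right, inv_mul_cancel_left] at this
  have eS : T ⊔ zpowers g = S := by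
    by_contra ne
    obtain ⟨n, nS, n1, nn⟩ := exists_mem_normalizer_of_lt h.syl.pgroup
      (lt_of_le_of_ne (sup_le h.le (zpowers_le.2 h.gS)) ne)
    have cT : ∀ y ∈ S, y * t * y⁻¹ = t → y ∈ T := fun y hy e =>
      (h.sylT.eq_of_le (h.syl.pgroup.to_inf_left (K := Cx t)) (le_inf h.le h.sylT.le) inf_le_right).le
        (mem_inf.2 ⟨hy, mem_Cx.2 (mul_inv_eq_iff_eq_mul.1 e)⟩)
    have m : n * t * n⁻¹ ∈ ⁅T ⊔ zpowers g, T ⊔ zpowers g⁆ := by
      rw [← mem_normalizer_iff_cj.1 nn, ← cj_commutator]; exact conj_mem_cj.2 tD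
    have c : IsConj t (n * t * n⁻¹) := isConj_iff.2 ⟨n, rfl⟩
    rcases h.s6_inv (le m) (.inl c) with e | e | e
    · exact h.nc (e ▸ c)
    · exact n1 (mem_sup_left (cT n nS e))
    · have := mul_mem g1 (mem_sup_left (cT (g⁻¹ * n) (mul_mem (inv_mem h.gS) nS) (by
        rw [mul_inv_rev, mul_assoc g⁻¹, mul_assoc g⁻¹, ← mul_assoc (n * t), e, ← h.gt]; group)))
      exact n1 (by simpa using this)
  obtain ⟨l, z₁, z₂, -, -, e₁, e₂, m₀, m₁, m₂⟩ := h.toC2.q_lem (h.eA ▸ ga) h.syl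
  have fin : ∀ y z : G, IsConj (x ^ 4) y → z ∈ cj l S → z * t * z⁻¹ = t * y → l⁻¹ * y * l = x ^ 4 := by
    intro y z c m e
    have m' : y ∈ cj l ⁅S, S⁆ := by
      rw [cj_commutator]
      have := commutator_mem_commutator (inv_mem m₀) m
      rwa [commutatorElement_def, mul_assoc, mul_assoc, ← mul_assoc z, inv_inv, e, inv_mul_cancel_left] at this
    have c' : IsConj (x ^ 4) (l⁻¹ * y * l) := c.trans (isConj_iff.2 ⟨l⁻¹, by rw [inv_inv]⟩)
    rcases h.s6_inv (le (eS ▸ mem_cj.1 m')) (.inr c') with e | e | e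
    · exact e
    · exact absurd (e ▸ c').symm h.nc
    · rw [e, ← h.gt] at c'
      exact absurd ((isConj_iff.2 ⟨g, rfl⟩).trans c'.symm) h.nc
  exact h.f.w_ne_a (mul_left_cancel (mul_right_cancel ((fin _ _ (IsConj.refl _) m₁ e₁).trans
    (fin _ _ (isConj_iff.2 ⟨ρ, h.f.cy.ew⟩) m₂ e₂).symm)))

end C3

theorem C3.qa (h : C3 I K₀ S T t g x a ρ π φ) (ga : g * φ A * g⁻¹ = φ A) (gv : g * φ V * g⁻¹ = φ V) :
    False := by
  have gw : g * φ W * g⁻¹ = φ W := by rw [h.s6_W, h.gw]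
  have cm : ∀ e, g * (g * φ e * g⁻¹) * g⁻¹ = φ e → π (g * g) * e = e * π (g * g) := fun e m => by
    have : g * g * φ e = φ e * (g * g) := by
      rw [← mul_inv_eq_iff_eq_mul]; refine Eq.trans ?_ m; group
    have := congrArg π this
    rwa [h.f.mul _ h.gg _ (h.sec e).1, h.f.mul _ (h.sec e).1 _ h.gg, (h.sec e).2] at this
  have key : ∀ θ : Hol, θ * A = A * θ → θ * C = C * θ → (θ = 1 ∨ θ = W) ∨ θ * X * θ⁻¹ = X * X ^ 4 := by
    decide +kernel
  rcases key _ (cm A (by rw [ga, ga])) (cm C (by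
    rcases h.gc with e | e
    · rw [e, e]
    · rw [e, ← conj_inv, e, inv_inv])) with e | e
  · have fx : g * φ (π (g * g)) * g⁻¹ = φ (π (g * g)) := by
      rcases e with e | e <;> rw [e]
      exacts [by simp, gw]
    refine h.s6_one ga gv ?_
    rcases h.s6_dec h.gg with e' | e'
    · rw [e']
      rcases e with e | e <;> rw [e]
      exacts [by simp, mem_zpowers _]
    · have : g * (g * g) * g⁻¹ = g * g := by group
      rw [e', ← conj_mul, fx, h.gt, mul_right_inj, mul_eq_left] at this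
      have o := h.f.ow
      rw [this, orderOf_one] at o
      omega
  · refine h.s6_two ga gv (h.f.act h.gg h.f.xH (mul_mem h.f.xH h.f.wH) ?_)
    rw [h.f.mul _ h.f.xH.1 _ h.f.wH.1, h.f.px, h.f.pW, e, X_four]

end CfsgLib.GHE
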