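import Mathlib
import Cfsg.Agent.Lib.GHE.SdApi
import Cfsg.Agent.Lib.GHE.Sd4b
import Cfsg.Agent.Lib.TL2.Defs

/-! Block SD: `T = Hol(Z₈) × ⟨t⟩`, `a ^ g = v a`.  See `plans/GHE_SD.md`. -/

set_option autoImplicit false
set_option linter.unusedSectionVars false

namespace CfsgLib.GHE

open Subgroup Cfsg CfsgLib.W2 CfsgLib.Tech CfsgLib.Sect CfsgLib.PComp CfsgLib.DihSyl
  CfsgLib.GW.Cor CfsgLib.TwoGrp
open CfsgLib.LBal hiding cj
open scoped MatrixGroups commutatorElement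
open Hol

universe u

variable {G : Type u} [Group G] [Finite G]

variable {I : Set G} {K₀ : Type u} [Group K₀] [Finite K₀] {S T : Subgroup G} {t g x a ρ v s : G}
  {π : G → Hol} {φ : Hol →* G}

/-- the endomorphism of `⟨W, A, V⟩` with the given images of the generators -/
def s7_ev (w a v e : Hol) : Hol := (if e.i = 4 then w else 1) * cond e.p a 1 * cond e.q v 1

/-- `⟨W, V⟩` -/
def s7_Z : Subgroup Hol where
  carrier := {e | e * A = A * e ∧ e * C = C * e}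
  one_mem' := by simp
  mul_mem' := by simp only [Set.mem_ofPred_eq]; decide +kernel
  inv_mem' := by simp only [Set.mem_ofPred_eq]; decide +kernel

/-- `⟨X, V⟩` -/
def s7_P : Subgroup Hol where
  carrier := {e | e.p = false}
  one_mem' := rfl
  mul_mem' := by simp only [Set.mem_ofPred_eq]; decide +kernel
  inv_mem' := by simp only [Set.mem_ofPred_eq]; decide +kernel

/-- the action of `n` on `⟨w, a, v, t⟩` -/
structure s7_Ac (φ : Hol →* G) (t n : G) (w a v d : Hol) : Prop where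
  ew : n * φ W * n⁻¹ = φ w
  ea : n * φ A * n⁻¹ = φ a
  ev : n * φ V * n⁻¹ = φ v
  et : n * t * n⁻¹ = φ d * t

theorem s7_Ac.all {n : G} {w a v d : Hol} (h : s7_Ac φ t n w a v d) (e : Hol) (he : e * A = A * e) :
    n * φ e * n⁻¹ = φ (s7_ev w a v e) := by
  conv_lhs => rw [(by decide +kernel : ∀ e : Hol, e * A = A * e → e = s7_ev W A V e) e he]
  simp only [s7_ev, map_mul, ← conj_mul]
  congr 1
  · congr 1
    · split_ifs
      exacts [h.ew, by simp]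
    · cases e.p
      exacts [by simp, h.ea]
  · cases e.q
    exacts [by simp, h.ev]

theorem s7_Ac.mul {n n' : G} {w a v d w' a' v' d' : Hol} (h : s7_Ac φ t n w a v d) (h' : s7_Ac φ t n' w' a' v' d')
    (c : w' * A = A * w' ∧ a' * A = A * a' ∧ v' * A = A * v' ∧ d' * A = A * d') :
    s7_Ac φ t (n * n') (s7_ev w a v w') (s7_ev w a v a') (s7_ev w a v v') (s7_ev w a v d' * d) := by
  have e : ∀ y, n * n' * y * (n * n')⁻¹ = n * (n' * y * n'⁻¹) * n⁻¹ := fun y => by group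
  refine ⟨?_, ?_, ?_, ?_⟩ <;> rw [e]
  · rw [h'.ew, h.all _ c.1]
  · rw [h'.ea, h.all _ c.2.1]
  · rw [h'.ev, h.all _ c.2.2.1]
  · rw [h'.et, ← conj_mul, h.all _ c.2.2.2, h.et, map_mul, mul_assoc]

/-- the elements that centralise `⟨w, a, v⟩` and map `t` to `t` or `v t` -/
def s7_M (φ : Hol →* G) (t : G) : Subgroup G where
  carrier := {n | (∀ e, e * A = A * e → n * φ e * n⁻¹ = φ e) ∧ (n * t * n⁻¹ = t ∨ n * t * n⁻¹ = φ V * t)}
  one_mem' := ⟨by simp, by simp⟩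
  mul_mem' := fun {n n'} h h' => by
    have e : ∀ y, n * n' * y * (n * n')⁻¹ = n * (n' * y * n'⁻¹) * n⁻¹ := fun y => by group
    refine ⟨fun e' he => by rw [e, h'.1 _ he, h.1 _ he], ?_⟩
    rw [e]
    rcases h'.2 with m | m <;> rw [m]
    · exact h.2
    · rw [← conj_mul, h.1 V (by decide)]
      rcases h.2 with m | m <;> rw [m]
      · exact .inr rfl
      · exact .inl (by rw [← mul_assoc, ← map_mul, show V * V = 1 by decide, map_one, one_mul])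
  inv_mem' := fun {n} h => by
    have e : ∀ y y', n * y * n⁻¹ = y' → n⁻¹ * y' * n⁻¹⁻¹ = y := fun y y' m => by rw [← m]; group
    refine ⟨fun e' he => e _ _ (h.1 _ he), h.2.imp (e _ _) fun m => e _ _ ?_⟩
    rw [← conj_mul, h.1 V (by decide), m, ← mul_assoc, ← map_mul, show V * V = 1 by decide, map_one, one_mul]

theorem s7_Ac.nrm {y : G} {w a d : Hol} (h : s7_Ac φ t y w a V d)
    (c : (∀ e, e * A = A * e → s7_ev w a V e * A = A * s7_ev w a V e) ∧ d * A = A * d ∧ d * V = V * d) :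
    y ∈ normalizer (s7_M φ t : Set G) ∧ ∀ n ∈ s7_M φ t, n * t * n⁻¹ = φ V * t →
      y⁻¹ * n * y * t * (y⁻¹ * n * y)⁻¹ = φ V * t := by
  have e : ∀ n z : G, y⁻¹ * n * y * z * (y⁻¹ * n * y)⁻¹ = y⁻¹ * (n * (y * z * y⁻¹) * n⁻¹) * y := fun n z => by group
  have two : ∀ n ∈ s7_M φ t, n * t * n⁻¹ = φ V * t → y⁻¹ * n * y * t * (y⁻¹ * n * y)⁻¹ = φ V * t := fun n hn m => by
    rw [e, h.et, ← conj_mul, hn.1 _ c.2.1, m, ← mul_assoc (φ d), ← map_mul, c.2.2, map_mul, mul_assoc (φ V), ← h.et]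
    nth_rewrite 1 [← h.ev]
    group
  refine ⟨(inv_mem_iff (x := y)).1 (mem_normalizer_of_forall fun n hn => ?_), two⟩
  rw [inv_inv]
  refine ⟨fun z hz => ?_, hn.2.imp (fun m => ?_) (two n hn)⟩
  · rw [e, h.all _ hz, hn.1 _ (c.1 _ hz), ← h.all _ hz]; group
  · rw [e, h.et, ← conj_mul, hn.1 _ c.2.1, m, ← h.et]; group

theorem C3.s7_r (h : C3 I K₀ S T t g x a ρ π φ) : s7_Ac φ t ρ A (A * W) V 1 :=
  ⟨h.rv.2.2.1, h.rv.2.2.2, h.rv.1, by simpa using h.rv.2.1⟩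

theorem C3.s7_g (h : C3 I K₀ S T t g x a ρ π φ) {a' v' : Hol} (ga : g * φ A * g⁻¹ = φ a')
    (gv : g * φ V * g⁻¹ = φ v') : s7_Ac φ t g W a' v' W := by
  have eW : φ W = x ^ 4 := by rw [← X_four, map_pow, h.eX]
  exact ⟨eW ▸ h.gw, ga, gv, by rw [h.ct, eW, h.gt]⟩

theorem C3.phi1 (h : C3 I K₀ S T t g x a ρ π φ) (ga : g * φ A * g⁻¹ = φ (V * A))
    (gv : g * φ V * g⁻¹ = φ (V * W)) : False := by
  have r := h.s7_r
  have k := h.s7_g ga gv
  have n := k.mul (r.mul (k.mul (r.mul (k.mul (r.mul (r.mul k (by decide)) (by decide)) (by decide)) (by decide))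
    (by decide)) (by decide)) (by decide)
  generalize g * (ρ * (g * (ρ * (g * (ρ * (ρ * g)))))) = y at n
  have fin : ∀ {w a v d : Hol}, s7_Ac φ t y w a v d → d = 1 → w.q = false := fun n e => by
    rw [← h.memL, ← n.ew]
    exact conj_mem_of_mem_normalizer (LL_nrm t (mem_Cx'.2 (by simpa [e] using n.et))) ((h.memL W).2 rfl)
  exact absurd (fin n (by decide +kernel)) (by decide +kernel)

theorem C3.phi0 (h : C3 I K₀ S T t g x a ρ π φ) (ga : g * φ A * g⁻¹ = φ (V * A))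
    (gv : g * φ V * g⁻¹ = φ V) : False := by
  have r := h.s7_r
  have k := h.s7_g ga gv
  have eW : φ W = x ^ 4 := by rw [← X_four, map_pow, h.eX]
  have tt : t * t = 1 := sq_of_ord h.f.ord
  have n := k.mul (r.mul (k.mul (r.mul (k.mul r (by decide)) (by decide)) (by decide)) (by decide)) (by decide)
  generalize g * (ρ * (g * (ρ * (g * ρ)))) = y at n
  replace n : s7_Ac φ t y W A V V := by convert n using 1 <;> decide +kernel
  have yM : y ∈ s7_M φ t := ⟨fun e he => by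
    rw [n.all e he, ← (by decide +kernel : ∀ e : Hol, e * A = A * e → e = s7_ev W A V e) e he], .inr n.et⟩
  have kc : s7_Ac φ t (φ C) W (A * W) V 1 := by
    refine ⟨?_, ?_, ?_, by rw [h.ct, map_one, one_mul, mul_inv_cancel_right]⟩ <;>
      rw [← map_inv, ← map_mul, ← map_mul] <;> congr 1
  obtain ⟨gN, g2⟩ := k.nrm (by decide +kernel)
  obtain ⟨cN, c2⟩ := kc.nrm (by decide +kernel)
  have dec : ∀ z ∈ T ⊓ Cx a, ∃ e, e * A = A * e ∧ (z = φ e ∨ z = φ e * t) := fun z hz =>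
    ⟨π z, h.f.pa ▸ (h.f.comm_iff hz.1 h.f.aH).1 (mem_Cx.1 hz.2), h.cases hz.1⟩
  have ab : ∀ e e' : Hol, e * A = A * e → e' * A = A * e' → φ e * φ e' = φ e' * φ e := fun e e' m m' => by
    rw [← map_mul, ← map_mul, (by decide +kernel : ∀ e e' : Hol, e * A = A * e → e' * A = A * e' → e * e' = e' * e)
      e e' m m']
  have sq : ∀ z ∈ T ⊓ Cx a, z * z = 1 := fun z hz => by
    have : ∀ e : Hol, e * A = A * e → φ e * φ e = 1 := fun e m => by
      rw [← map_mul, (by decide +kernel : ∀ e : Hol, e * A = A * e → e * e = 1) e m, map_one]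
    obtain ⟨e, he, rfl | rfl⟩ := dec z hz
    · exact this e he
    · rw [h.toC2.s4_sq (h.sec e).1, this e he]
  have AM : T ⊓ Cx a ≤ s7_M φ t := fun z hz => by
    refine ⟨fun e' he' => mul_inv_eq_iff_eq_mul.2 ?_, .inl (mem_Cx'.1 (h.f.le hz.1))⟩
    obtain ⟨e, he, rfl | rfl⟩ := dec z hz
    · exact ab e e' he he'
    · rw [mul_assoc, ← h.ct, ← mul_assoc, ab e e' he he', mul_assoc]
  obtain ⟨Q, hQ, le⟩ := exists_isSylowIn_ge (H := normalizer (s7_M φ t : Set G))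
    (h.syl.pgroup.to_le (show T ⊓ Cx a ⊔ zpowers (φ C) ⊔ zpowers g ≤ S from sup_le (sup_le (inf_le_left.trans h.le)
      (zpowers_le.2 (h.le (h.sec C).1))) (zpowers_le.2 h.gS)))
    (sup_le (sup_le (AM.trans le_normalizer) (zpowers_le.2 cN)) (zpowers_le.2 gN))
  have hY := hQ.inf_of_le_normalizer (le_refl _)
  rw [inf_eq_right.2 (le_normalizer (H := s7_M φ t))] at hY
  have vt : φ V * t ≠ t := fun m => absurd (h.inj ((mul_eq_right.1 m).trans (map_one φ).symm)) (by decide)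
  obtain ⟨s, ⟨sQ, sM⟩, st⟩ := TL2.reach (t := t) (k := 1) hY (by
    rw [show {w | ∃ z ∈ s7_M φ t, z * t * z⁻¹ = w} = {t, φ V * t} from Set.ext fun w =>
      ⟨fun ⟨z, hz, m⟩ => m ▸ hz.2, by
        rintro (rfl | rfl)
        exacts [⟨1, one_mem _, by simp⟩, ⟨y, yM, n.et⟩]⟩, Set.ncard_pair vt.symm]; rfl) yM
  rw [n.et] at st
  replace sQ : s ∈ Q := sQ
  replace sM : s ∈ s7_M φ t := sM
  have fin : ∀ z ∈ Q, z ∈ s7_M φ t → z * t * z⁻¹ = t → z ∈ T ⊓ Cx a := fun z hz m e => by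
    have za : z ∈ Cx a := mem_Cx'.2 (h.eA ▸ m.1 A rfl)
    refine ⟨h.f.sylA (Q := Q ⊓ (Cx t ⊓ Cx a ⊓ Cx (x ^ 4))) hQ.pgroup.to_inf_left inf_le_right
      (fun u hu => ⟨le (mem_sup_left (mem_sup_left hu)), ⟨h.f.le hu.1, hu.2⟩, mem_Cx.2 (h.f.cw hu.1)⟩)
      ⟨hz, ⟨mem_Cx'.2 e, za⟩, mem_Cx'.2 (eW ▸ m.1 W (by decide))⟩, za⟩
  have si : s⁻¹ * t * s = φ V * t := by
    have : s * (φ V * t) * s⁻¹ = t := by
      rw [← conj_mul, sM.1 V (by decide), st, ← mul_assoc, ← map_mul, show V * V = 1 by decide, map_one, one_mul]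
    nth_rewrite 1 [← this]; group
  have fin2 : ∀ z ∈ Q, z ∈ s7_M φ t → z * t * z⁻¹ = φ V * t → z * s⁻¹ ∈ T ⊓ Cx a := fun z hz m e =>
    fin _ (mul_mem hz (inv_mem sQ)) (mul_mem m (inv_mem sM)) (by
      rw [show z * s⁻¹ * t * (z * s⁻¹)⁻¹ = z * (s⁻¹ * t * s) * z⁻¹ by group, si, ← conj_mul, m.1 V (by decide), e,
        ← mul_assoc, ← map_mul, show V * V = 1 by decide, map_one, one_mul])
  have cj2 : ∀ z ∈ Q, z ∈ normalizer (s7_M φ t : Set G) → z⁻¹ * s * z * t * (z⁻¹ * s * z)⁻¹ = φ V * t →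
      z⁻¹ * s * z * s⁻¹ ∈ T ⊓ Cx a := fun z hz m =>
    fin2 _ (mul_mem (mul_mem (inv_mem hz) sQ) hz) (conj_mem_of_mem_normalizer' m sM)
  have hα := cj2 _ (le (mem_sup_left (mem_sup_right (mem_zpowers _)))) cN (c2 s sM st)
  have hβ := cj2 _ (le (mem_sup_right (mem_zpowers _))) gN (g2 s sM st)
  have hσ : s * s ∈ T ⊓ Cx a := by
    have := inv_mem (fin2 _ (inv_mem sQ) (inv_mem sM) (by rwa [inv_inv]))
    rwa [mul_inv_rev, inv_inv] at this
  have mZ : ∀ e : Hol, e * A = A * e ∧ e * C = C * e → φ e ∈ s7_Z.map φ := fun e he => ⟨e, he, rfl⟩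
  have cg : ∀ z ∈ T ⊓ Cx a, g * z * g⁻¹ = z → z ∈ s7_Z.map φ := fun z hz m => by
    obtain ⟨e, he, rfl | rfl⟩ := dec z hz
    · rw [k.all e he] at m
      exact mZ e ⟨he, (by decide +kernel : ∀ e : Hol, e * A = A * e → s7_ev W (V * A) V e = e → e * C = C * e) e he
        (h.inj m)⟩
    · rw [← conj_mul, k.all e he, k.et, ← mul_assoc, ← map_mul, mul_left_inj] at m
      exact absurd (h.inj m) ((by decide +kernel : ∀ e : Hol, e * A = A * e → s7_ev W (V * A) V e * W ≠ e) e he)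
  have gg : g * g ∈ s7_Z.map φ := cg _ ⟨h.gg, mem_Cx'.2 (by
    rw [show g * g * a * (g * g)⁻¹ = g * (g * a * g⁻¹) * g⁻¹ by group, ← h.eA, ga, k.all _ (by decide)]
    congr 1)⟩ (by group)
  have cz : ∀ z : G, z⁻¹ * s * z * s⁻¹ ∈ T ⊓ Cx a → s * (z * z) * s⁻¹ = z * z →
      z * (z⁻¹ * s * z * s⁻¹) * z⁻¹ = z⁻¹ * s * z * s⁻¹ := fun z m e => by
    rw [← mul_right_cancel_iff (a := z⁻¹ * s * z * s⁻¹), sq _ m]
    calc z * (z⁻¹ * s * z * s⁻¹) * z⁻¹ * (z⁻¹ * s * z * s⁻¹)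
        = s * z * (s⁻¹ * (z * z)⁻¹ * s) * z * s⁻¹ := by group
      _ = 1 := by rw [← e]; group
  have sZ : ∀ z ∈ s7_Z.map φ, s * z * s⁻¹ = z := by
    rintro _ ⟨e, he, rfl⟩
    exact sM.1 e he.1
  have β := cg _ hβ (cz g hβ (sZ _ gg))
  have α := cz (φ C) hα (sZ _ (map_mul φ C C ▸ mZ _ (by decide)))
  obtain ⟨σ, hσ', eσ⟩ := dec _ hσ
  replace eσ := eσ.resolve_right fun e => vt (by
    have : s * (s * s) * s⁻¹ = s * s := by group
    rwa [e, ← conj_mul, sM.1 σ hσ', st, mul_right_inj] at this)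
  have eα : s * φ C * s⁻¹ = φ C * ((φ C)⁻¹ * s * φ C * s⁻¹) := by group
  have e2 : φ (σ * C * σ⁻¹) = φ C * ((φ C)⁻¹ * s * φ C * s⁻¹) * (s * ((φ C)⁻¹ * s * φ C * s⁻¹) * s⁻¹) := by
    rw [map_mul, map_mul, map_inv, ← eσ]; group
  have aa := sq _ hα
  obtain ⟨e, he, e1⟩ := dec _ hα
  replace e1 := e1.resolve_right fun e1 => by
    rw [e1, ← conj_mul, sM.1 e he, st, ← mul_assoc (φ e), ab e V he (by decide), mul_assoc (φ V), ← e1,
      mul_assoc (φ C), ← mul_assoc _ (φ V)] at e2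
    nth_rewrite 1 [e1] at e2
    rw [mul_assoc (φ e), ← h.ct, ← mul_assoc (φ e), ab e V he (by decide), mul_assoc (φ V), ← e1, mul_assoc (φ V), aa,
      mul_one, ← map_mul] at e2
    exact absurd (h.inj e2) ((by decide +kernel : ∀ σ : Hol, σ * C * σ⁻¹ ≠ C * V) σ)
  have α' : (φ C)⁻¹ * s * φ C * s⁻¹ ∈ s7_Z.map φ := by
    rw [e1, ← map_inv, ← map_mul, ← map_mul] at α
    exact e1 ▸ mZ e ⟨he, (mul_inv_eq_iff_eq_mul.1 (h.inj α)).symm⟩
  have ss : s * s ∈ s7_Z.map φ := by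
    rw [sZ _ α', mul_assoc (φ C), aa, mul_one] at e2
    exact eσ ▸ mZ σ ⟨hσ', mul_inv_eq_iff_eq_mul.1 (h.inj e2)⟩
  have nZ : ∀ z ∈ [φ C, φ A, t, g, s], ∀ u ∈ s7_Z.map φ, z * u * z⁻¹ = u := by
    simp only [List.mem_cons, List.not_mem_nil, or_false]
    rintro z hz _ ⟨e, he, rfl⟩
    rcases hz with rfl | rfl | rfl | rfl | rfl
    · rw [← map_mul, ← he.2, map_mul, mul_inv_cancel_right]
    · rw [← map_mul, ← he.1, map_mul, mul_inv_cancel_right]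
    · rw [← h.ct, mul_inv_cancel_right]
    · rw [k.all e he.1, (by decide +kernel : ∀ e : Hol, e * A = A * e → e * C = C * e → s7_ev W (V * A) V e = e)
        e he.1 he.2]
    · exact sM.1 e he.1
  have sy : ∀ {y y' : G}, y * y' * y⁻¹ * y'⁻¹ ∈ s7_Z.map φ → y' * y * y'⁻¹ * y⁻¹ ∈ s7_Z.map φ :=
    fun m => by convert inv_mem m using 1; group
  have p0 : ∀ {y y' : G}, y * y' * y⁻¹ = y' → y * y' * y⁻¹ * y'⁻¹ ∈ s7_Z.map φ := fun m => by simp [m]
  have p1 : ∀ {y : G} {e e' : Hol}, y * φ e * y⁻¹ = φ e' → e' * e⁻¹ * A = A * (e' * e⁻¹) ∧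
      e' * e⁻¹ * C = C * (e' * e⁻¹) → y * φ e * y⁻¹ * (φ e)⁻¹ ∈ s7_Z.map φ := fun m c => by
    rw [m, ← map_inv, ← map_mul]; exact mZ _ c
  have p2 : ∀ e, φ e * t * (φ e)⁻¹ * t⁻¹ ∈ s7_Z.map φ := fun e => p0 (by rw [h.ct, mul_inv_cancel_right])
  have p3 : g * φ C * g⁻¹ * (φ C)⁻¹ ∈ s7_Z.map φ := by
    rcases h.gc with e | e
    · exact p0 e
    · exact p1 (e.trans (map_inv φ C).symm) (by decide)
  have p4 : g * t * g⁻¹ * t⁻¹ ∈ s7_Z.map φ := by rw [k.et, mul_inv_cancel_right]; exact mZ _ (by decide)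
  have p5 : s * t * s⁻¹ * t⁻¹ ∈ s7_Z.map φ := by rw [st, mul_inv_cancel_right]; exact mZ _ (by decide)
  have p6 : ∀ z ∈ [φ C, φ A, t, g, s], z⁻¹ * s * z * s⁻¹ ∈ s7_Z.map φ → s * z * s⁻¹ * z⁻¹ ∈ s7_Z.map φ :=
    fun z hz m => by
      rw [← nZ z hz _ m] at m
      convert m using 1; group
  have p7 := p6 _ (by simp) α'
  have p8 := p6 _ (by simp) β
  have p9 := p0 (sM.1 A rfl)
  have pr : ∀ (B : Subgroup Hol) (e : Hol), φ e ∈ h.f.pre B ↔ e ∈ B := fun B e => by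
    rw [h.f.mem_pre, (h.sec e).2]; exact and_iff_right (h.sec e).1
  have KT : s7_Z.map φ ≤ T := by
    rintro _ ⟨e, -, rfl⟩
    exact (h.sec e).1
  have nw : ∀ z : G, z * φ W * z⁻¹ = φ W → z ∈ normalizer (zpowers (φ W) : Set G) := fun z e =>
    mem_normalizer_iff_cj.2 (by rw [cj_zpowers, e])
  have TN : T ≤ TL2.Nt t (zpowers (φ W)) := fun z hz =>
    ⟨nw z (by rw [eW, h.f.cw hz, mul_inv_cancel_right]), by simp [mem_Cx'.1 (h.f.le hz)]⟩
  refine h.toCtx.e32 (K := s7_Z.map φ) (A₀ := h.f.pre s7_Z) (A₁ := h.f.pre s7_P) (A₂ := φ.range)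
    (A₃ := T) (A₄ := TL2.Nt t (zpowers (φ W))) (x₁ := φ C) (x₂ := φ A) (x₃ := t) (x₄ := g) (x₅ := s)
    (fun z hz u hu => (nZ z hz u hu).symm ▸ hu) ?_ ?_ ?_ ?_ (map_le_range _ _) KT (KT.trans TN)
    ((pr _ _).2 rfl) ⟨⟨_, rfl⟩, ⟨_, rfl⟩⟩ ⟨(h.sec _).1, (h.sec _).1, h.f.yT⟩
    ⟨TN (h.sec _).1, TN (h.sec _).1, TN h.f.yT, nw g k.ew, by
      rw [k.et, h.ct, inv_mul_cancel_left]; exact mem_zpowers _⟩
    (fun m => absurd ((pr _ _).1 m).1 (by decide)) (fun m => absurd ((pr _ _).1 m) (by change ¬ A.p = false; decide))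
    (fun ⟨e, m⟩ => h.neq 1 e (by rw [m, map_one, one_mul])) h.gT fun m => ?_
  · simp only [List.mem_cons, List.not_mem_nil, or_false]
    rintro _ (rfl | rfl | rfl | rfl | rfl)
    exacts [map_mul φ _ _ ▸ mZ _ (by decide), map_mul φ _ _ ▸ mZ _ (by decide), tt ▸ one_mem _, gg, ss]
  · simp only [List.mem_cons, List.not_mem_nil, or_false, forall_eq_or_imp, forall_eq]
    exact ⟨⟨by simp, p1 kc.ea (by decide), p2 _, sy p3, sy p7⟩,
      ⟨sy (p1 kc.ea (by decide)), by simp, p2 _, sy (p1 ga (by decide)), sy p9⟩,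
      ⟨sy (p2 _), sy (p2 _), by simp, sy p4, sy p5⟩, ⟨p3, p1 ga (by decide), p4, by simp, sy p8⟩,
      p7, p9, p5, p8, by simp⟩
  · rintro _ ⟨e, he, rfl⟩
    exact (pr _ _).2 he
  · rintro _ ⟨e, he, rfl⟩
    exact (pr _ _).2 ((by decide +kernel : ∀ e : Hol, e * C = C * e → e.p = false) e he.2)
  · have := zpowers_le.2 ((h.memL W).2 rfl) m.2
    rw [st, h.ct, inv_mul_cancel_left, h.memL] at this
    exact absurd this (by decide)

end CfsgLib.GHE
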