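import Mathlib
import Cfsg.Agent.Lib.GHE.Sza

/-! Block SZ, part b: the case that `N(T)` moves `y`. -/

set_option autoImplicit false
set_option linter.unusedSectionVars false
set_option linter.style.haveILetI false
set_option linter.unusedVariables false

namespace CfsgLib.GHE.Sz

open Subgroup Cfsg CfsgLib.W2 CfsgLib.Tech CfsgLib.Sect CfsgLib.PComp CfsgLib.Sz
open CfsgLib.LBal hiding cj
open scoped commutatorElement

universe u

variable {G : Type u} [Group G] [Finite G]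

theorem tr_cen {W P : Subgroup G} (hP : IsSylowIn 2 P W) {v : G} (hv : v ∈ ⁅W, W⁆)
    (vc : ∀ w ∈ W, Commute w v) (v2 : v * v = 1) : v ∈ ⁅P, P⁆ := by
  rw [← map_subtype_commutator] at hv
  obtain ⟨v, hv, rfl⟩ := hv
  have h2 := MonoidHom.transfer_eq_pow (Abelianization.of (G := P.subgroupOf W)) v
    fun k g _ => Subtype.ext (by
      have := ((vc g g.2).pow_right k).eq
      simp only [coe_mul, coe_inv, SubmonoidClass.coe_pow]
      rw [mul_assoc, ← show (g : G) * v ^ k = v ^ k * g from this, inv_mul_cancel_left])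
  rw [Abelianization.commutator_subset_ker _ hv, eq_comm, ← MonoidHom.mem_ker,
    Abelianization.ker_of] at h2
  have h3 : commutator (P.subgroupOf W) ≤
      ⁅P, P⁆.comap (W.subtype.comp (P.subgroupOf W).subtype) :=
    commutator_le.2 fun a _ c _ => by
      rw [mem_comap, map_commutatorElement]
      exact commutator_mem_commutator a.2 c.2
  obtain ⟨m, hm⟩ : Odd (P.subgroupOf W).index :=
    Nat.not_even_iff_odd.1 fun a => hP.not_dvd (even_iff_two_dvd.1 a)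
  have h4 : (v : G) ^ (P.subgroupOf W).index ∈ ⁅P, P⁆ := h3 h2
  rwa [hm, pow_succ, pow_mul, pow_two, show (v : G) * v = 1 from v2, one_pow, one_mul] at h4

variable {F : Type} [Field F] [Finite F] {τ : Tits F} {y g : G} {L T : Subgroup G} {π : G → τ.grp}

theorem alt_mul (τ : Tits F) (c8 : Nat.card F = 8) (B : F → F → G)
    (add : ∀ u v w, B (u + v) w = B u w * B v w) (sym : ∀ u v, B u v = B v u)
    (alt : ∀ u, B u u = 1) (a b c d : F) : ∃ e f, B a b * B c d = B e f := by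
  have z : ∀ w, B 0 w = 1 := fun w => by
    have := add 0 0 w
    rwa [add_zero, left_eq_mul] at this
  by_cases a0 : a = 0
  · exact ⟨c, d, by rw [a0, z, one_mul]⟩
  by_cases b0 : b = 0
  · exact ⟨c, d, by rw [b0, sym a, z, one_mul]⟩
  by_cases ab : a = b
  · exact ⟨c, d, by rw [ab, alt, one_mul]⟩
  have key : ∀ c d, c = 0 ∨ c = a ∨ c = b ∨ c = a + b → ∃ e f, B a b * B c d = B e f := by
    rintro c d (e | e | e | e) <;> rw [e]
    · exact ⟨a, b, by rw [z, mul_one]⟩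
    · exact ⟨b + d, a, by rw [add, sym b, sym d]⟩
    · exact ⟨a + d, b, by rw [add, sym d]⟩
    · exact ⟨a + d, a + b, by rw [add a d, sym d, sym a (a + b), add a b a, alt, one_mul, sym b]⟩
  by_cases hc : c = 0 ∨ c = a ∨ c = b ∨ c = a + b
  · exact key c d hc
  by_cases hd : d = 0 ∨ d = a ∨ d = b ∨ d = a + b
  · exact sym c d ▸ key d c hd
  push Not at hc hd
  have := key (c + d) d (span3 τ c8 a0 b0 ab hc.1 hc.2.1 hc.2.2.1 hc.2.2.2 hd.1 hd.2.1 hd.2.2.1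
    hd.2.2.2)
  rwa [add, alt, mul_one] at this

namespace Fr

variable (h : Fr τ y L T π)
include h

theorem same {a b : G} (ha : a ∈ T ⊓ L) (hb : b ∈ T ⊓ L) {u v w : F} (ea : π a = τ.S u v)
    (eb : π b = τ.S u w) : a⁻¹ * b ∈ h.Fs :=
  ⟨mul_mem (inv_mem ha) hb, by
    rw [h.mul _ (L.inv_mem ha.2) _ hb.2, h.inv ha.2, ea, eb, τ.S_inv, τ.S_mul_S, τ.add_self]
    exact τ.S_mem_Z _⟩

theorem cenY (hg : g ∈ normalizer (T : Set G)) {t : G} (ht : t ∈ T) :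
    t * (g * y * g⁻¹) = g * y * g⁻¹ * t := by
  have := h.Ty (conj_mem_of_mem_normalizer' hg ht)
  calc t * (g * y * g⁻¹) = g * (g⁻¹ * t * g * y) * g⁻¹ := by group
    _ = _ := by rw [this]; group

theorem cenF (hg : g ∈ normalizer (T : Set G)) (ne : g * y * g⁻¹ ≠ y) {f a : G} (hf : f ∈ h.Fs)
    (ha : a ∈ T ⊓ L) : a * f = f * a := by
  obtain ⟨f₀, h₀, e⟩ := h.om (conj_mem_of_mem_normalizer hg h.yT) (by rw [conj_mul, h.yy]; simp)
  have n1 : g * y * g⁻¹ ≠ 1 := fun e => h.y1 (conj_eq_one_iff.1 e)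
  have c0 : ∀ t ∈ T, Commute t f₀ := fun t ht => by
    have := h.cenY hg ht
    rcases e with e | e <;> rw [e] at this
    · exact this
    · exact mul_right_cancel (b := y) (by rw [mul_assoc, this, mul_assoc, mul_assoc, h.Ty ht])
  by_cases n2 : π f = 1
  · rcases h.two f hf.1 n2 with rfl | rfl
    exacts [by simp, h.Ty ha.1]
  obtain ⟨n, hn, hn', e'⟩ := h.trans h₀ hf (fun e0 => by
    rcases h.two f₀ h₀.1 e0 with e1 | e1 <;> rw [e1] at e <;> rcases e with e | e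
    exacts [n1 e, ne (e.trans (one_mul _)), ne e, n1 (e.trans h.yy)]) n2
  have c1 : Commute a (n * f₀ * n⁻¹) := by
    have := (c0 _ (conj_mem_of_mem_normalizer' hn' ha).1).eq
    calc a * (n * f₀ * n⁻¹) = n * (n⁻¹ * a * n * f₀) * n⁻¹ := by group
      _ = _ := by rw [this]; group
  rcases e' with rfl | rfl
  exacts [c1, c1.mul_right (h.Ty ha.1)]

theorem notL (cen : ∀ f ∈ h.Fs, ∀ a ∈ T ⊓ L, a * f = f * a) : y ∉ L := fun yL => by
  have h1 := tr_cen (syl_subn h.syl h.pc.subn) (h.pc.perfect.symm ▸ yL) (fun w hw => h.Ly hw) h.yy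
  choose σ hσ eσ using fun u => h.img' _ (τ.S_mem_U u 0)
  have sym : ∀ p ∈ T ⊓ L, ∀ q ∈ T ⊓ L, ⁅p, q⁆ = ⁅q, p⁆ := fun p hp q hq => by
    rw [← commutatorElement_inv]; exact inv_eq_of_mul_eq_one_left (h.el (h.cm_mem hq hp))
  have add : ∀ p ∈ T ⊓ L, ∀ q ∈ T ⊓ L, ∀ r ∈ T ⊓ L, ⁅p * q, r⁆ = ⁅p, r⁆ * ⁅q, r⁆ :=
    fun p hp q hq r hr => by
      have e : ⁅p * q, r⁆ = p * ⁅q, r⁆ * p⁻¹ * ⁅p, r⁆ := by
        simp only [commutatorElement_def]; group
      rw [e, cen _ (h.cm_mem hq hr) p hp, mul_inv_cancel_right,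
        cen _ (h.cm_mem hq hr) _ (h.cm_mem hp hr).1]
  have cg : ∀ p ∈ T ⊓ L, ∀ r ∈ T ⊓ L, ∀ u v, π p = τ.S u v → ⁅p, r⁆ = ⁅σ u, r⁆ :=
    fun p hp r hr u v e => by
      have hf := h.same (hσ u) hp (eσ u) e
      rw [← mul_inv_cancel_left (σ u) p, add _ (hσ u) _ hf.1 r hr,
        commutatorElement_eq_one_iff_mul_comm.2 (cen _ hf r hr).symm, mul_one]
  have alt : ∀ u, ⁅σ u, σ u⁆ = 1 := fun u => commutatorElement_self _
  have ad : ∀ u v w, ⁅σ (u + v), σ w⁆ = ⁅σ u, σ w⁆ * ⁅σ v, σ w⁆ := fun u v w => by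
    rw [← add _ (hσ u) _ (hσ v) _ (hσ w), cg _ (mul_mem (hσ u) (hσ v)) _ (hσ w) (u + v) _ (by
      rw [h.mul _ (hσ u).2 _ (hσ v).2, eσ, eσ, τ.S_mul_S])]
  let K : Subgroup G :=
    { carrier := {x | ∃ u v, x = ⁅σ u, σ v⁆}
      one_mem' := ⟨0, 0, (alt 0).symm⟩
      mul_mem' := by
        rintro _ _ ⟨a, b, rfl⟩ ⟨c, d, rfl⟩
        exact alt_mul τ h.card (fun u v => ⁅σ u, σ v⁆) ad (fun u v => sym _ (hσ u) _ (hσ v)) alt
          a b c d
      inv_mem' := by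
        rintro _ ⟨a, b, rfl⟩
        exact ⟨b, a, commutatorElement_inv _ _⟩ }
  have : ⁅T ⊓ L, T ⊓ L⁆ ≤ K := commutator_le.2 fun p hp q hq => by
    obtain ⟨u, u', e⟩ := h.img p hp
    obtain ⟨v, v', e'⟩ := h.img q hq
    exact ⟨v, u, by rw [cg p hp q hq u u' e, sym _ (hσ u) q hq, cg q hq _ (hσ u) v v' e']⟩
  obtain ⟨u, v, e⟩ := this h1
  have h2 := (h.ker y yL).2 h.yc
  rw [e, h.cm (hσ u).2 (hσ v).2, eσ, eσ, commutatorElement_eq_one_iff_mul_comm,
    τ.S_comm_iff] at h2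
  have z : ∀ w, ⁅σ 0, σ w⁆ = 1 := fun w => by
    have := ad 0 0 w
    rwa [add_zero, left_eq_mul] at this
  refine h.y1 (e.trans ?_)
  rcases h2 with rfl | rfl | rfl
  exacts [z _, (sym _ (hσ _) _ (hσ _)).trans (z _), alt _]

theorem req (hg : g ∈ normalizer (T : Set G)) (ne : g * y * g⁻¹ ≠ y) {r : G}
    (hr : r ∈ T ⊓ LBal.cmod 2 L) : r = 1 ∨ r = y := by
  haveI := Fact.mk Nat.prime_two
  obtain ⟨a, ha, r₁, hr₁, e⟩ := h.dec (conj_mem_of_mem_normalizer hg hr.1)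
  have c1 : ∀ b ∈ T ⊓ L, ⁅a, b⁆ ≠ 1 → ⁅a, b⁆ = g * y * g⁻¹ := fun b hb n => by
    have e1 : ⁅a, b⁆ = ⁅g * r * g⁻¹, b⁆ := by
      rw [e, commutatorElement_def, commutatorElement_def, mul_assoc a r₁, ← h.comm hb hr₁]; group
    have e2 : g⁻¹ * ⁅a, b⁆ * g = r * (g⁻¹ * b * g * r⁻¹ * (g⁻¹ * b * g)⁻¹) := by
      rw [e1, commutatorElement_def]; group
    have := h.uniq (r := g⁻¹ * ⁅a, b⁆ * g)
      (e2 ▸ mul_mem hr (h.nrmR (conj_mem_of_mem_normalizer' hg hb.1) (inv_mem hr))) (by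
        have := h.el (h.cm_mem ha hb)
        calc _ = g⁻¹ * (⁅a, b⁆ * ⁅a, b⁆) * g := by group
          _ = 1 := by rw [this]; simp)
    rcases this with e3 | e3
    · exact absurd (by simpa using conj_eq_one_iff.1 (show g⁻¹ * _ * g⁻¹⁻¹ = 1 by simpa using e3)) n
    · rw [← e3]; group
  obtain ⟨u, v, ea⟩ := h.img a ha
  have u0 : u = 0 := by
    by_contra u0
    obtain ⟨c, c0, cu, -⟩ := exists_third τ h.card u u
    obtain ⟨d, d0, du, dc, dd⟩ := exists_third τ h.card u c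
    obtain ⟨p, hp, ep⟩ := h.img' _ (τ.S_mem_U c 0)
    obtain ⟨q, hq, eq⟩ := h.img' _ (τ.S_mem_U d 0)
    have n : ∀ p ∈ T ⊓ L, ∀ c, c ≠ 0 → c ≠ u → π p = τ.S c 0 → ⁅a, p⁆ ≠ 1 :=
      fun p hp c c0 cu ep e1 => by
        have := h.cm ha.2 hp.2
        rw [e1, h.one, ea, ep, eq_comm, commutatorElement_eq_one_iff_mul_comm, τ.S_comm_iff] at this
        exact this.elim u0 fun e => e.elim c0 fun e => cu e.symm
    have := congrArg π ((c1 p hp (n p hp c c0 cu ep)).trans (c1 q hq (n q hq d d0 du eq)).symm)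
    rw [h.cm ha.2 hp.2, h.cm ha.2 hq.2, ea, ep, eq, τ.S_commutator, τ.S_commutator] at this
    have h2 := τ.two_eq_zero
    have h3 := (τ.S_inj this).2
    have := (τ.θ_mul_add_eq_zero (a := u) (c := c + d)).1 (by rw [map_add]; grind)
    grind
  have aa := h.el (f := a) ⟨ha, by rw [ea, u0]; exact τ.S_mem_Z _⟩
  have e1 : g * (r * r) * g⁻¹ = r₁ * r₁ := by
    rw [← conj_mul, e, mul_assoc, ← mul_assoc r₁, ← h.comm ha hr₁, mul_assoc, ← mul_assoc, aa,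
      one_mul]
  refine h.uniq hr (by_contra fun n => ?_)
  obtain ⟨_, ⟨k, rfl⟩, o⟩ := exists_involution_of_pgroup
    (isPGroup_zpowers_of_mem h.syl.pgroup (mul_mem hr hr).1) (by simpa using n)
  have o2 : orderOf (g * (r * r) ^ k * g⁻¹) = 2 := (orderOf_conj_eq _ _).trans o
  have e2 := (h.uniq (zpow_mem (mul_mem hr hr) k) (mul_self_of_orderOf_two o)).resolve_left
    (ne_one_of_orderOf_two o)
  have e3 := (h.uniq (r := g * (r * r) ^ k * g⁻¹) (by
    rw [← conj_zpow, e1]; exact zpow_mem (mul_mem hr₁ hr₁) k)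
    (mul_self_of_orderOf_two o2)).resolve_left (ne_one_of_orderOf_two o2)
  exact ne (by rwa [e2] at e3)

end Fr

/-- `T = H × ⟨y⟩` -/
structure Fb (τ : Tits F) (y : G) (L T : Subgroup G) (π : G → τ.grp) : Prop
    extends Fr τ y L T π where
  nL : y ∉ L
  dec2 : ∀ t ∈ T, ∃ a ∈ T ⊓ L, t = a ∨ t = a * y

theorem Fr.fb (h : Fr τ y L T π) (hg : g ∈ normalizer (T : Set G)) (ne : g * y * g⁻¹ ≠ y) :
    Fb τ y L T π :=
  ⟨h, h.notL fun _ hf _ ha => h.cenF hg ne hf ha, fun t ht => by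
    obtain ⟨a, ha, r, hr, rfl⟩ := h.dec ht
    refine ⟨a, ha, (h.req hg ne hr).imp ?_ ?_⟩ <;> rintro rfl <;> simp⟩

end CfsgLib.GHE.Sz
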