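import Mathlib
import Cfsg.Agent.Lib.GHE.Szb

/-! Block SZ, part c: the involutions of a Sylow 2-subgroup commute. -/

set_option autoImplicit false
set_option linter.unusedSectionVars false
set_option linter.style.haveILetI false
set_option linter.unusedVariables false

namespace CfsgLib.GHE.Sz

open Subgroup Cfsg CfsgLib.W2 CfsgLib.Tech CfsgLib.Sect CfsgLib.PComp CfsgLib.Sz
open CfsgLib.LBal hiding cj
open scoped commutatorElement

universe u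

variable {G : Type u} [Group G] [Finite G]

/-- the involutions of a Sylow 2-subgroup commute -/
def Om (G : Type u) [Group G] : Prop :=
  ∃ S : Subgroup G, IsSylowIn 2 S ⊤ ∧ (∃ y ∈ S, y * y = 1 ∧ y ≠ 1) ∧
    ∀ a ∈ S, ∀ b ∈ S, a * a = 1 → b * b = 1 → a * b = b * a

variable {F : Type} [Field F] [Finite F] {τ : Tits F} {y g x : G} {L T : Subgroup G}
  {π : G → τ.grp}

/-- the subgroup of the elements of order at most two -/
def Fr.E (h : Fr τ y L T π) : Subgroup G where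
  carrier := {a | a ∈ T ∧ a * a = 1}
  one_mem' := ⟨one_mem _, one_mul _⟩
  mul_mem' {a b} ha hb := ⟨mul_mem ha.1 hb.1, by
    rw [mul_assoc, ← mul_assoc b, ← h.om_comm ha.1 hb.1 ha.2 hb.2, mul_assoc, hb.2, mul_one, ha.2]⟩
  inv_mem' {a} ha := ⟨inv_mem ha.1, by rw [← mul_inv_rev, ha.2, inv_one]⟩

theorem Fr.FE (h : Fr τ y L T π) {f : G} (hf : f ∈ h.Fs) : f ∈ h.E := ⟨hf.1.1, h.el hf⟩

theorem Fr.yE (h : Fr τ y L T π) : y ∈ h.E := ⟨h.yT, h.yy⟩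

namespace Fb

variable (h : Fb τ y L T π)
include h

theorem inj {a b : G} (ha : a ∈ T ⊓ L) (hb : b ∈ T ⊓ L) (e : π a = π b) : a = b :=
  ((h.eq_or ha hb e).resolve_right fun e => h.nL (by
    have := L.mul_mem (L.inv_mem ha.2) hb.2
    rwa [e, inv_mul_cancel_left] at this)).symm

theorem cenE {e t : G} (he : e ∈ h.E) (ht : t ∈ T) : t * e = e * t := by
  obtain ⟨f, hf, e1⟩ := h.om he.1 he.2
  obtain ⟨a, ha, e2⟩ := h.dec2 t ht
  have c : Commute a f := h.inj (mul_mem ha hf.1) (mul_mem hf.1 ha) (by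
    rw [h.mul _ ha.2 _ hf.1.2, h.mul _ hf.1.2 _ ha.2, Tits.comm_of_mem_Z hf.2 (h.img a ha)])
  have c1 : Commute a y := h.Ty ha.1
  have c2 : Commute y f := (h.Ty hf.1.1).symm
  rcases e1 with rfl | rfl <;> rcases e2 with rfl | rfl
  exacts [c, c.mul_left c2, c.mul_right c1, (c.mul_right c1).mul_left (c2.mul_right rfl)]

theorem sq_mul {e t : G} (he : e ∈ h.E) (ht : t ∈ T) : t * e * (t * e) = t * t := by
  rw [mul_assoc, ← mul_assoc e, ← h.cenE he ht, mul_assoc, he.2, mul_one]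

theorem dec3 {t : G} (ht : t ∈ T) : ∃ a ∈ T ⊓ L, ∃ e ∈ h.E, t = a * e := by
  obtain ⟨a, ha, e | e⟩ := h.dec2 t ht
  exacts [⟨a, ha, 1, one_mem _, by simp [e]⟩, ⟨a, ha, y, h.yE, e⟩]

theorem sqT {t : G} (ht : t ∈ T) : t * t ∈ h.Fs := by
  obtain ⟨a, ha, e, he, rfl⟩ := h.dec3 ht
  exact h.sq_mul he ha.1 ▸ h.sq_mem ha

theorem exsq {f : G} (hf : f ∈ h.Fs) : ∃ a ∈ T ⊓ L, ∃ u v, π a = τ.S u v ∧ a * a = f := by
  obtain ⟨d, e⟩ := hf.2
  obtain ⟨u, hu⟩ := τ.mul_θ_surjective d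
  obtain ⟨a, ha, ea⟩ := h.img' _ (τ.S_mem_U u 0)
  exact ⟨a, ha, u, 0, ea, h.inj (mul_mem ha ha) hf.1 (by
    rw [h.mul _ ha.2 _ ha.2, ea, τ.S_sq, e, ← hu])⟩

theorem nF (hx : x ∈ normalizer (T : Set G)) {f : G} (hf : f ∈ h.Fs) : x * f * x⁻¹ ∈ h.Fs := by
  obtain ⟨a, ha, -, -, -, rfl⟩ := h.exsq hf
  rw [← conj_mul]
  exact h.sqT (conj_mem_of_mem_normalizer hx ha.1)

theorem sq_eq {s t : G} (hs : s ∈ T) (ht : t ∈ T) (e : s * s = t * t) : ∃ e ∈ h.E, t = s * e := by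
  obtain ⟨a, ha, e₁, h₁, rfl⟩ := h.dec3 hs
  obtain ⟨b, hb, e₂, h₂, rfl⟩ := h.dec3 ht
  rw [h.sq_mul h₁ ha.1, h.sq_mul h₂ hb.1] at e
  obtain ⟨u, u', ea⟩ := h.img a ha
  obtain ⟨v, v', eb⟩ := h.img b hb
  have := congrArg π e
  rw [h.mul _ ha.2 _ ha.2, h.mul _ hb.2 _ hb.2, ea, eb, τ.S_sq, τ.S_sq] at this
  obtain rfl := τ.mul_θ_inj (τ.S_inj this).2
  exact ⟨e₁⁻¹ * (a⁻¹ * b) * e₂, mul_mem (mul_mem (inv_mem h₁) (h.FE (h.same ha hb ea eb))) h₂,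
    by group⟩

theorem act (hx : x ∈ normalizer (T : Set G)) {t : G} (ht : t ∈ T)
    (c : x * (t * t) = t * t * x) : ∃ e ∈ h.E, x * t * x⁻¹ = t * e :=
  h.sq_eq ht (conj_mem_of_mem_normalizer hx ht) (by rw [conj_mul, c, mul_inv_cancel_right])

theorem cardF : Nat.card h.Fs = 8 := by
  rw [← h.card]
  choose σ hσ eσ using h.exF
  refine (Nat.card_congr (Equiv.ofBijective (fun d => (⟨σ d, hσ d⟩ : h.Fs)) ⟨fun c d e => ?_,
    fun ⟨f, hf⟩ => ?_⟩)).symm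
  · have := congrArg π (congrArg Subtype.val e)
    exact (τ.S_inj (by rwa [eσ, eσ] at this)).2
  · obtain ⟨d, e⟩ := hf.2
    exact ⟨d, Subtype.ext (h.inj (hσ d).1 hf.1 (by rw [eσ, e]))⟩

theorem cent2 (hx : x ∈ normalizer (T : Set G)) (c : ∀ f ∈ h.Fs, f * (x * x) = x * x * f) :
    h.Fs ≤ Cx x := by
  by_contra hc
  have h1 := two_mul_card_le (K := Cx x ⊓ h.Fs) (H := h.Fs) inf_le_right
    fun e => hc (e.trans inf_le_left)
  have h2 := comm_bound (A := h.Fs) (K := Cx x) (h := x) (fun a ha => h.nF hx ha) fun a ha => by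
    have e1 := c _ (inv_mem ha)
    have e2 := comm_of_sq (fun f hf => h.el hf) (h.nF hx ha) (inv_mem ha)
    have e3 : a⁻¹ = a := inv_eq_of_mul_eq_one_left (h.el ha)
    rw [e3] at e1 e2
    rw [mem_Cx, e3]
    calc a * x * a * x⁻¹ * x = a * (x * a * x⁻¹) * x := by group
      _ = x * a * x⁻¹ * (a * (x * x)) * x⁻¹ := by rw [← e2]; group
      _ = _ := by rw [e1]; group
  have h3 := card_eq_relIndex (Cx x) h.Fs
  rw [h.cardF] at h1 h3
  have h4 : 2 < Nat.card (Cx x ⊓ h.Fs : Subgroup G) := by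
    change _ ≤ Nat.card (Cx x ⊓ h.Fs : Subgroup G) at h2
    nlinarith
  obtain ⟨f₁, h₁, n₁⟩ := exists_ne_one (K := Cx x ⊓ h.Fs) (by omega)
  obtain ⟨f₂, h₂, n₂⟩ := exists_notMem (K := zpowers f₁) (H := Cx x ⊓ h.Fs)
    (by rwa [card_zpowers_two (h.el h₁.2) n₁])
  rw [mem_zpowers_two (h.el h₁.2), not_or] at n₂
  obtain ⟨a, ha, u, u', ea, rfl⟩ := h.exsq h₁.2
  obtain ⟨b, hb, v, v', eb, rfl⟩ := h.exsq h₂.2
  obtain ⟨e₁, he₁, c₁⟩ := h.act hx ha.1 (mem_Cx.1 h₁.1).symm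
  obtain ⟨e₂, he₂, c₂⟩ := h.act hx hb.1 (mem_Cx.1 h₂.1).symm
  have hab := mul_mem ha hb
  have c₃ : x * (a * b) * x⁻¹ = a * b * (e₁ * e₂) := by
    rw [← conj_mul, c₁, c₂, mul_assoc, ← mul_assoc e₁, ← h.cenE he₁ hb.1]; group
  have m₃ : a * b * (a * b) ∈ Cx x ⊓ h.Fs := ⟨mem_Cx.2 (by
    rw [eq_comm, ← mul_inv_eq_iff_eq_mul, ← conj_mul, c₃, h.sq_mul (mul_mem he₁ he₂) hab.1]),
    h.sq_mem hab⟩
  have pa : π (a * a) = τ.S 0 (u * τ.θ u) := by rw [h.mul _ ha.2 _ ha.2, ea, τ.S_sq]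
  have pb : π (b * b) = τ.S 0 (v * τ.θ v) := by rw [h.mul _ hb.2 _ hb.2, eb, τ.S_sq]
  have pc : π (a * b * (a * b)) = τ.S 0 ((u + v) * τ.θ (u + v)) := by
    rw [h.mul _ hab.2 _ hab.2, h.mul _ ha.2 _ hb.2, ea, eb, τ.S_mul_S, τ.S_sq]
  have u0 : u ≠ 0 := fun e => n₁ (h.inj h₁.2.1 (one_mem _) (by rw [pa, e, h.one, zero_mul, τ.S_zero]))
  have v0 : v ≠ 0 := fun e =>
    n₂.1 (h.inj h₂.2.1 (one_mem _) (by rw [pb, e, h.one, zero_mul, τ.S_zero]))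
  have uv : u ≠ v := fun e => n₂.2 (h.inj h₂.2.1 h₁.2.1 (by rw [pa, pb, e]))
  have h2 := τ.two_eq_zero
  rcases four_cases (by omega) h₁ h₂ (h.el h₁.2) n₁ n₂.1 n₂.2 m₃ with e | e | e | e <;>
    replace e := congrArg π e <;> rw [pc] at e
  · rw [h.one, τ.S_eq_one, mul_eq_zero, τ.θ_eq_zero, or_self] at e
    exact uv (τ.eq_of_add_eq_zero e.2)
  · rw [pa] at e
    exact v0 (by simpa using τ.mul_θ_inj (τ.S_inj e).2)
  · rw [pb] at e
    exact u0 (by simpa using τ.mul_θ_inj (τ.S_inj e).2)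
  · rw [h.mul _ h₁.2.1.2 _ h₂.2.1.2, pa, pb, τ.S_zero_mul] at e
    have e' := (τ.S_inj e).2
    rw [map_add] at e'
    exact ((τ.θ_mul_add_eq_zero (a := u) (c := v)).1 (by grind)).elim u0 fun e => e.elim v0 uv

theorem cent {k : ℕ} : ∀ {x : G}, x ∈ normalizer (T : Set G) → x ^ 2 ^ k = 1 → h.Fs ≤ Cx x := by
  induction k with
  | zero => intro x _ e f _; rw [pow_zero, pow_one] at e; simp [e]
  | succ k ih =>
    intro x hx e
    exact h.cent2 hx fun f hf => mem_Cx.1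
      (ih (mul_mem hx hx) (by rw [← pow_two, ← pow_mul, ← pow_succ', e]) hf)

theorem dy (hx : x ∈ normalizer (T : Set G)) (c : h.Fs ≤ Cx x) :
    ∃ f ∈ h.Fs, x * y * x⁻¹ = f * y := by
  obtain ⟨f, hf, e | e⟩ :=
    h.om (conj_mem_of_mem_normalizer hx h.yT) (by rw [conj_mul, h.yy]; simp)
  · rw [mul_inv_eq_iff_eq_mul, mem_Cx.1 (c hf), mul_right_inj] at e
    exact absurd (e ▸ hf.1.2) h.nL
  · exact ⟨f, hf, e⟩

theorem om' : Om G := by
  haveI := Fact.mk Nat.prime_two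
  obtain ⟨Q, hQ, TQ⟩ := exists_isSylowIn_ge h.syl.pgroup (le_normalizer (H := T))
  have QF : ∀ x ∈ Q, h.Fs ≤ Cx x := fun x hx =>
    let ⟨k, hk⟩ := isPGroup_iff_mem.1 hQ.pgroup x hx; h.cent (hQ.le hx) hk
  have QC : Q ⊓ Cx y = T :=
    h.syl.eq_of_le (hQ.pgroup.to_le inf_le_left) (le_inf TQ h.syl.le) inf_le_right
  have QC' : ∀ x ∈ Q, x * y * x⁻¹ = y → x ∈ T := fun x hx e =>
    QC.le ⟨hx, mem_Cx.2 (mul_inv_eq_iff_eq_mul.1 e)⟩
  by_cases hi : ∀ x ∈ Q, x * x = 1 → x ∈ T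
  · refine ⟨Q, isSylowIn_of_isSylowIn_normalizer le_top (hQ.of_le (le_inf le_top le_normalizer)
      fun m hm => mem_normalizer_of_forall fun t ht => ?_), ⟨y, TQ h.yT, h.yy, h.y1⟩,
      fun a ha b hb aa bb => h.om_comm (hi a ha aa) (hi b hb bb) aa bb⟩
    have e2 : m⁻¹ * y * m * (m⁻¹ * y * m) = 1 := by
      calc _ = m⁻¹ * (y * y) * m := by group
        _ = 1 := by rw [h.yy]; simp
    have := h.cenE (e := m⁻¹ * y * m)
      ⟨hi _ (conj_mem_of_mem_normalizer' hm.2 (TQ h.yT)) e2, e2⟩ ht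
    refine QC' _ (conj_mem_of_mem_normalizer hm.2 (TQ ht)) ?_
    calc _ = m * (t * (m⁻¹ * y * m)) * t⁻¹ * m⁻¹ := by group
      _ = y := by rw [this]; group
  exfalso
  push Not at hi
  obtain ⟨x, hx, xx, xT⟩ := hi
  obtain ⟨f, hf, ef⟩ := h.dy (hQ.le hx) (QF x hx)
  have f1 : π f ≠ 1 := fun e => xT (QC' x hx (by
    rw [ef, h.inj hf.1 (one_mem _) (e.trans h.one.symm), one_mul]))
  have hQ' : IsSylowIn 2 Q (normalizer (T : Set G) ⊓ centralizer (h.Fs : Set G)) :=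
    hQ.of_le (le_inf hQ.le fun w hw => mem_cent'.2 fun v hv => mem_Cx.1 (QF w hw hv)) inf_le_left
  have all : ∀ f' ∈ h.Fs, ∃ w ∈ Q, w * w = 1 ∧ w * y * w⁻¹ = f' * y := fun f' hf' => by
    by_cases f2 : π f' = 1
    · exact ⟨1, one_mem _, one_mul _, by
        rw [h.inj hf'.1 (one_mem _) (f2.trans h.one.symm)]; simp⟩
    obtain ⟨n, hn, hn', e⟩ := h.trans hf hf' f1 f2
    replace e := e.resolve_right fun e => h.nL (by
      have := L.mul_mem (L.inv_mem (conj_mem_of_mem_normalizer hn' hf.1).2) hf'.1.2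
      rwa [e, inv_mul_cancel_left] at this)
    have ny : n * y * n⁻¹ = y := by rw [h.Ly hn, mul_inv_cancel_right]
    have nT : n ∈ normalizer (T : Set G) := mem_normalizer_of_forall fun t ht => by
      obtain ⟨a, ha, rfl | rfl⟩ := h.dec2 t ht
      · exact (conj_mem_of_mem_normalizer hn' ha).1
      · rw [← conj_mul, ny]
        exact T.mul_mem (conj_mem_of_mem_normalizer hn' ha).1 h.yT
    have x1 : n * x * n⁻¹ ∈ normalizer (T : Set G) := mul_mem (mul_mem nT (hQ.le hx)) (inv_mem nT)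
    have x2 : n * x * n⁻¹ * (n * x * n⁻¹) = 1 := by rw [conj_mul, xx]; simp
    have x3 : n * x * n⁻¹ * y * (n * x * n⁻¹)⁻¹ = f' * y := by
      calc _ = n * (x * (n⁻¹ * (n * y * n⁻¹) * n) * x⁻¹) * n⁻¹ := by rw [ny]; group
        _ = n * f * n⁻¹ * (n * y * n⁻¹) := by rw [conj_mul, ← ef]; group
        _ = _ := by rw [ny, e]
    have x4 := h.cent (k := 1) x1 (by rw [pow_one, pow_two, x2])
    generalize n * x * n⁻¹ = z at x1 x2 x3 x4
    obtain ⟨m, hm, mz⟩ := hQ'.exists_conj_mem (x := z)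
      ⟨x1, mem_cent'.2 fun v hv => mem_Cx.1 (x4 hv)⟩ (isPGroup_two_zpowers x2)
    have hm' := inv_mem hm
    obtain ⟨f₃, h₃, e₃⟩ := h.dy hm'.1 fun v hv => mem_Cx.2 (mem_cent'.1 hm'.2 v hv)
    refine ⟨_, mz, by rw [conj_mul, x2]; simp, ?_⟩
    have c1 := mem_Cx.1 (x4 h₃)
    have c2 := mem_cent'.1 hm.2 f' hf'
    have c3 := comm_of_sq (fun f hf => h.el hf) h₃ hf'
    calc _ = m * z * (m⁻¹ * y * m⁻¹⁻¹) * z⁻¹ * m⁻¹ := by group
      _ = m * (z * f₃) * z⁻¹ * (z * y * z⁻¹) * m⁻¹ := by rw [e₃]; group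
      _ = m * (f₃ * f') * y * m⁻¹ := by rw [x3, ← c1]; group
      _ = m * f' * (f₃ * y) * m⁻¹ := by rw [c3]; group
      _ = _ := by rw [← e₃, ← c2]; group
  have eqy : ∀ w ∈ Q, ∀ w' ∈ Q, w⁻¹ * w' ∈ T ↔ w * y * w⁻¹ = w' * y * w'⁻¹ := fun w hw w' hw' =>
    ⟨fun e => by
      have := h.Ty e
      calc _ = w * (y * (w⁻¹ * w')) * w'⁻¹ := by group
        _ = _ := by rw [← this]; group,
    fun e => QC' _ (mul_mem (inv_mem hw) hw') (by
      calc _ = w⁻¹ * (w' * y * w'⁻¹) * w := by group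
        _ = y := by rw [← e]; group)⟩
  have h1 := h.sr Q le_top h.E fun w hw => by
    obtain ⟨f', hf', e'⟩ := h.dy (hQ.le hw) (QF w hw)
    obtain ⟨v, hv, vv, ev⟩ := all f' hf'
    have ht := (eqy v hv w hw).2 (ev.trans e'.symm)
    obtain ⟨e, he, c⟩ := h.act (hQ.le hv) ht (mem_Cx.1 (QF v hv (h.sqT ht))).symm
    have : w * w = v * (v⁻¹ * w) * v⁻¹ * (v * v) * (v⁻¹ * w) := by group
    rw [this, c, vv, mul_one, mul_assoc, ← h.cenE he ht, ← mul_assoc]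
    exact mul_mem (h.FE (h.sqT ht)) he
  choose σ hσ eσ using h.exF
  choose w hw ww ew using fun d => all _ (hσ d)
  have h2 := le_relIndex Q T w hw fun c d e => by
    have := (eqy _ (hw c) _ (hw d)).1 e
    rw [ew, ew, mul_left_inj] at this
    have := congrArg π this
    exact (τ.S_inj (by rwa [eσ, eσ] at this)).2
  choose s hs es using fun u => h.img' _ (τ.S_mem_U u 0)
  have h3 := le_relIndex T h.E s (fun u => (hs u).1) fun c d e => by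
    have := congrArg π e.2
    have m := mul_mem (inv_mem (hs c)) (hs d)
    rw [h.one, h.mul _ m.2 _ m.2, h.mul _ (L.inv_mem (hs c).2) _ (hs d).2, h.inv (hs c).2, es, es,
      τ.S_inv, τ.S_mul_S, τ.S_mul_self_eq_one] at this
    exact τ.eq_of_add_eq_zero this
  rw [← relIndex_mul_relIndex h.E T Q (fun _ h => h.1) TQ] at h1
  rw [h.card] at h2 h3
  nlinarith

end Fb

theorem Fr.om' (h : Fr τ y L T π) : Om G := by
  haveI := Fact.mk Nat.prime_two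
  by_cases c : ∀ g ∈ normalizer (T : Set G), g * y * g⁻¹ = y
  · exact ⟨T, isSylowIn_of_isSylowIn_normalizer le_top (h.syl.of_le (le_inf le_top le_normalizer)
      fun g hg => mem_Cx.2 (mul_inv_eq_iff_eq_mul.1 (c g hg.2))), ⟨y, h.yT, h.yy, h.y1⟩,
      fun a ha b hb => h.om_comm ha hb⟩
  push Not at c
  obtain ⟨g, hg, ne⟩ := c
  exact (h.fb hg ne).om'

end CfsgLib.GHE.Sz
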