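import Mathlib
import Cfsg.Agent.Lib.GHE.Defs
import Cfsg.Agent.Lib.LBal.Term1
import Cfsg.Agent.Lib.J2.Iso
import Cfsg.Agent.Lib.Mathieu.Stab
import Cfsg.Agent.Lib.Leech.Spor
import Cfsg.Agent.Lib.Ly.Main
import Cfsg.Agent.S1059
import Cfsg.Agent.S1067
import Cfsg.Agent.S1163
import Cfsg.Agent.S1625

/-! Package WRAP: from the list of the induction to the list of the statement.  See `plans/GHE.md`. -/

set_option autoImplicit false

namespace CfsgLib.GHE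

open Subgroup Cfsg CfsgLib.W2 CfsgLib.Tech CfsgLib.Sect CfsgLib.PComp CfsgLib.DihSyl
  CfsgLib.GW.Cor
open CfsgLib.LBal hiding cj
open scoped MatrixGroups commutatorElement

universe u

variable {G : Type u} [Group G] [Finite G]

theorem Ctx.final (h : Ctx G) (l : Lst G) :
    Cfsg.PRankLE 2 2 G ∨ Cfsg.IsG2 G ∨ Cfsg.Is3D4 G ∨
      (∃ (F : Type) (_ : Field F) (_ : Fintype F), Odd (Fintype.card F) ∧ Nonempty (G ≃* Cfsg.PSp 2 F)) ∨
      Cfsg.IsRee G ∨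
      (∃ (F : Type) (_ : Field F) (_ : Fintype F), Odd (Fintype.card F) ∧ Fintype.card F % 8 ≠ 1 ∧ Nonempty (G ≃* Matrix.ProjectiveSpecialLinearGroup (Fin 4) F)) ∨
      (∃ (F : Type) (_ : Field F) (_ : Fintype F) (q : ℕ), Fintype.card F = q ^ 2 ∧ Odd q ∧ q % 8 ≠ 7 ∧ Nonempty (G ≃* Cfsg.PSU 4 F q)) ∨
      (∃ (F : Type) (_ : Field F) (_ : Fintype F), Fintype.card F % 4 = 3 ∧ Nonempty (G ≃* Matrix.ProjectiveSpecialLinearGroup (Fin 5) F)) ∨
      (∃ (F : Type) (_ : Field F) (_ : Fintype F) (q : ℕ), Fintype.card F = q ^ 2 ∧ q % 4 = 1 ∧ Nonempty (G ≃* Cfsg.PSU 5 F q)) ∨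
      (∃ (F : Type) (_ : Field F) (_ : Fintype F), (Fintype.card F = 8 ∨ Fintype.card F = 16) ∧ Nonempty (G ≃* Matrix.ProjectiveSpecialLinearGroup (Fin 2) F)) ∨
      (∃ (F : Type) (_ : Field F) (_ : Fintype F), Fintype.card F = 4 ∧ Nonempty (G ≃* Matrix.ProjectiveSpecialLinearGroup (Fin 3) F)) ∨
      (∃ (F : Type) (_ : Field F) (_ : Fintype F), Fintype.card F = 16 ∧ Nonempty (G ≃* Cfsg.PSU 3 F 4)) ∨
      (∃ (F : Type) (_ : Field F) (_ : Fintype F), Fintype.card F = 2 ∧ Nonempty (G ≃* Matrix.ProjectiveSpecialLinearGroup (Fin 4) F)) ∨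
      (Cfsg.IsSuzuki G ∧ Nat.card G = 29120) ∨
      (∃ n : ℕ, 8 ≤ n ∧ n ≤ 11 ∧ Nonempty (G ≃* alternatingGroup (Fin n))) ∨
      Cfsg.IsM12 G ∨ Cfsg.IsM22 G ∨ Cfsg.IsM23 G ∨ Cfsg.IsJ1 G ∨ Cfsg.IsJ2 G ∨ Cfsg.IsJ3 G ∨ Cfsg.IsMcL G ∨
      Cfsg.IsLy G := by
  have hs := h.simple
  have tr : ∀ {X : Type} [Group X] {n : ℕ}, Nat.card X = n → Nonempty (G ≃* X) → Nat.card G = n :=
    fun e ⟨f⟩ => (Nat.card_congr f.toEquiv).trans e
  rcases l with l | ⟨-, ⟨F, _, _, h1, e⟩ | l | l⟩ | ⟨F, _, _, h1, e⟩ | (l | ⟨F, _, _, ⟨h1, h2⟩, e⟩ |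
    ⟨F, _, _, q, h0, ⟨h1, h2⟩, e⟩) | (⟨F, _, _, h1, e⟩ | ⟨F, _, _, q, h1, h2, e⟩ | l | l | ⟨F, _, _, h1, e⟩ | l) |
    l | (l | l | l | ⟨F, _, _, ω, h1, h2, e⟩ | l | l | ⟨-, l⟩) | l
  · exact .inl l
  · iterate 9 right
    exact .inl ⟨F, _, _, .inl h1, e⟩
  · iterate 4 right
    exact .inl l
  · iterate 18 right
    exact .inl l
  · iterate 13 right
    have := tr (Cfsg.Agent.S1163.result (F := F) (m := 1) le_rfl h1).1 e
    exact .inl ⟨⟨hs, 1, le_rfl, by rw [this]; norm_num⟩, by rw [this]; norm_num⟩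
  · iterate 3 right
    exact .inl l
  · iterate 5 right
    exact .inl ⟨F, _, _, h1, h2, e⟩
  · iterate 6 right
    exact .inl ⟨F, _, _, q, h0, h1, h2, e⟩
  · have h2 : 1 < Fintype.card F := Fintype.one_lt_card
    refine .inr (.inl ⟨hs, _, FiniteField.isPrimePow_card F, by obtain ⟨r, hr⟩ := h1; omega, ?_⟩)
    rw [tr (Cfsg.Agent.S1059.result (F := F) rfl) e]; ring
  · have h3 : IsPrimePow q := (isPrimePow_pow_iff (by norm_num)).1 (h2 ▸ FiniteField.isPrimePow_card F)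
    refine .inr (.inr (.inl ⟨hs, q, h3, ?_⟩))
    rw [tr (Cfsg.Agent.S1067.result h3 h2) e]; ring
  · iterate 7 right
    exact .inl l
  · iterate 8 right
    exact .inl l
  · iterate 9 right
    exact .inl ⟨F, _, _, .inr h1, e⟩
  · iterate 10 right
    exact .inl l
  · iterate 14 right
    exact .inl l
  · iterate 16 right
    exact .inl ⟨hs, tr Mathieu.card_M22 l⟩
  · iterate 17 right
    exact .inl ⟨hs, tr Mathieu.card_M23 l⟩
  · iterate 19 right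
    exact .inl ⟨hs, tr J2.card_J2 l⟩
  · iterate 20 right
    exact .inl ⟨hs, tr (Cfsg.Agent.S1625.result F h1 ω h2).2.2.1 e⟩
  · iterate 21 right
    exact .inl ⟨hs, tr Leech.spor_McL.2 l⟩
  · iterate 22 right
    exact ⟨hs, tr Ly.card_eq l⟩
  · iterate 21 right
    exact .inl l
  · iterate 15 right
    exact .inl ⟨hs, tr Mathieu.card_M12 l⟩

end CfsgLib.GHE
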