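import Mathlib
import Cfsg.Agent.Lib.GHE.Base1
import Cfsg.Agent.Lib.GHE.Rk2
import Cfsg.Agent.Lib.Fgs.AutBound
import Cfsg.Agent.Lib.Transfer.Abelian
import Cfsg.Agent.Lib.ZStarApp.AutSylow

/-! Block E8, tools: abelian Sylow 2-subgroups and automorphisms of the elementary abelian group
of order 8. -/

set_option autoImplicit false
set_option linter.unusedSectionVars false

namespace CfsgLib.GHE

open Subgroup Cfsg CfsgLib.W2 CfsgLib.Tech CfsgLib.Sect CfsgLib.PComp CfsgLib.DihSyl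
  CfsgLib.GW.Cor
open CfsgLib.LBal hiding cj
open scoped MatrixGroups commutatorElement

universe u

variable {G : Type u} [Group G] [Finite G]

/-! ### abelian Sylow 2-subgroups -/

/-- an element of an abelian Sylow 2-subgroup that is central in its normaliser is central modulo
the core -/
theorem abel_iso {P X : Subgroup G} (hP : IsSylowIn 2 P X) (ab : ∀ a ∈ P, ∀ b ∈ P, a * b = b * a)
    {c : G} (hc : c ∈ P) (fix : ∀ g ∈ X, g ∈ normalizer (P : Set G) → g * c = c * g) {x : G}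
    (hx : x ∈ X) : ⁅c, x⁆ ∈ opOf 2 X := by
  refine ZStarApp.commutator_mem_of_isSylowIn hP hc (fun h hh e => ?_) hx
  obtain ⟨k, hk, e'⟩ := ((hP.cj_of_mem hh).of_le (K := X ⊓ Cx (h * c * h⁻¹))
    (le_inf (hP.cj_of_mem hh).le (cj_le_iff.2 fun y hy => mem_Cx.2 (by
      rw [conj_mul, conj_mul, ab y hy c hc]))) inf_le_left).exists_cj_eq
    (hP.of_le (le_inf hP.le fun y hy => mem_Cx.2 (ab y hy _ e)) inf_le_left)
  have h1 := fix (k * h) (mul_mem hk.1 hh) (mem_normalizer_iff_cj.2 (by rw [cj_mul, e']))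
  have h2 := mem_Cx.1 hk.2
  calc h * c * h⁻¹ = k⁻¹ * (k * h * c) * h⁻¹ := by group
    _ = k⁻¹ * (c * (k * h)) * h⁻¹ := by rw [h1]
    _ = k⁻¹ * (k * h * c * (k * h)⁻¹) * k := by rw [h1]; group
    _ = k⁻¹ * (k * (h * c * h⁻¹)) := by group
    _ = c := by
      have : k * (h * c * h⁻¹) * k⁻¹ = c := by
        rw [show k * (h * c * h⁻¹) * k⁻¹ = k * h * c * (k * h)⁻¹ by group, h1]; group
      rw [h2, mul_inv_cancel_right] at this
      rw [this]; group

/-- a 2-element that normalises `L` and centralises the abelian Sylow 2-subgroup `H` of `L` acts on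
`L / O(L)` as an element of `H` -/
theorem abel_dec {L H : Subgroup G} (hH : IsSylowIn 2 H L) (ab : ∀ a ∈ H, ∀ b ∈ H, a * b = b * a)
    {v : G} (hv : v ∈ normalizer (L : Set G)) (pv : IsPGroup 2 (zpowers v))
    (cv : ∀ a ∈ H, a * v = v * a) : ∃ h ∈ H, h⁻¹ * v ∈ LBal.cmod 2 L := by
  have cz : ∀ a ∈ H, ∀ b ∈ zpowers v, a * b = b * a := by
    rintro a ha _ ⟨i, rfl⟩
    exact ((show Commute a v from cv a ha).zpow_right i).eq
  have mP : ∀ x, x ∈ H ⊔ zpowers v ↔ ∃ a ∈ H, ∃ b ∈ zpowers v, x = a * b := fun x => mem_sup_of_comm cz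
  have zn : zpowers v ≤ normalizer (L : Set G) := zpowers_le.2 hv
  have mX : ∀ x, x ∈ L ⊔ zpowers v → ∃ b ∈ zpowers v, ∃ a ∈ L, x = b * a := fun x hx =>
    (mem_sup_of_norm fun a ha b hb => conj_mem_of_mem_normalizer (zn ha) hb).1 (sup_comm L _ ▸ hx)
  have XN : L ⊔ zpowers v ≤ normalizer (L : Set G) := sup_le le_normalizer zn
  have abP : ∀ a ∈ H ⊔ zpowers v, ∀ b ∈ H ⊔ zpowers v, a * b = b * a := by
    intro a ha b hb
    obtain ⟨a1, h1, a2, h2, rfl⟩ := (mP a).1 ha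
    obtain ⟨b1, h3, b2, h4, rfl⟩ := (mP b).1 hb
    exact (Commute.mul_left (Commute.mul_right (ab _ h1 _ h3) (cz _ h1 _ h4))
      (Commute.mul_right (cz _ h3 _ h2).symm (comm_of_mem_zpowers h2 h4))).eq
  have pP : IsPGroup 2 (H ⊔ zpowers v : Subgroup G) :=
    hH.pgroup.to_sup_of_normal_left' pv fun b hb => mem_normalizer_of_forall fun a ha => by
      rw [← cz a ha b hb, mul_inv_cancel_right]; exact ha
  have sP : IsSylowIn 2 (H ⊔ zpowers v) (L ⊔ zpowers v) :=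
    isSylowIn_of_maximal pP (sup_le_sup_right hH.le _) fun R hR h1 h2 x hx => by
      obtain ⟨b, hb, a, ha, rfl⟩ := mX x (h2 hx)
      have h3 : a ∈ R := (mul_mem_cancel_left (h1 (mem_sup_right hb))).1 hx
      have h4 := hH.eq_of_le (Q := R ⊓ L) (hR.to_le inf_le_left)
        (le_inf (le_sup_left.trans h1) hH.le) inf_le_right
      exact mul_mem (mem_sup_right hb) (mem_sup_left (h4.le ⟨h3, ha⟩))
  set P := H ⊔ zpowers v with hPd
  set X := L ⊔ zpowers v with hXd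
  have sW : IsSylowIn 2 P (X ⊓ normalizer (P : Set G)) :=
    sP.of_le (le_inf sP.le le_normalizer) inf_le_left
  have dec := Transfer.commutator_sup_centralizer_of_abelian_hall (A := P)
    (H := X ⊓ normalizer (P : Set G)) ⟨⟨fun a b => Subtype.ext (abP _ a.2 _ b.2)⟩⟩ sW.le inf_le_right
    (by
      obtain ⟨k, hk⟩ := IsPGroup.iff_card.1 pP
      rw [hk]
      exact Nat.Coprime.pow_left _ ((Nat.Prime.coprime_iff_not_dvd Nat.prime_two).2 sW.not_dvd))
  have c1 : ⁅P, X ⊓ normalizer (P : Set G)⁆ ≤ H := by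
    have h4 := hH.eq_of_le (Q := P ⊓ L) (pP.to_le inf_le_left) (le_inf le_sup_left hH.le) inf_le_right
    refine commutator_le.2 fun a ha x hx => h4.le ⟨?_, ?_⟩
    · rw [commutatorElement_def, mul_assoc, mul_assoc, ← mul_assoc x]
      exact mul_mem ha (conj_mem_of_mem_normalizer hx.2 (inv_mem ha))
    · obtain ⟨b, hb, l, hl, rfl⟩ := mX a (sP.le ha)
      obtain ⟨b', hb', l', hl', rfl⟩ := mX x hx.1
      have e : ⁅b * l, b' * l'⁆ = b * b' * (b'⁻¹ * l * b' * l' * l⁻¹ * (b⁻¹ * l'⁻¹ * b)) * (b * b')⁻¹ := by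
        have := comm_of_mem_zpowers hb hb'
        rw [commutatorElement_def]
        calc _ = b * l * b' * l' * l⁻¹ * b⁻¹ * l'⁻¹ * b * (b' * b)⁻¹ := by group
          _ = _ := by rw [← this]; group
      rw [e]
      exact conj_mem_of_mem_normalizer (zn (mul_mem hb hb')) (mul_mem (mul_mem (mul_mem
        (conj_mem_of_mem_normalizer' (zn hb') hl) hl') (inv_mem hl))
        (conj_mem_of_mem_normalizer' (zn hb) (inv_mem hl')))
  have hvP : v ∈ P := mem_sup_right (mem_zpowers v)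
  have h5 : v ∈ H ⊔ (P ⊓ centralizer ((X ⊓ normalizer (P : Set G) : Subgroup G) : Set G)) :=
    sup_le_sup_right c1 _ (dec.ge hvP)
  obtain ⟨a, ha, c, hc, e⟩ := (mem_sup_of_comm (fun a ha b hb => abP a (mem_sup_left ha) b (mem_inf.1 hb).1)).1 h5
  refine ⟨a, ha, ?_⟩
  rw [e, inv_mul_cancel_left]
  refine mem_cmod.2 fun l hl => inf_opOf_le (le_sup_left : L ≤ X) ⟨?_, ?_⟩
  · rw [commutatorElement_def]
    exact L.mul_mem (conj_mem_of_mem_normalizer (XN (sP.le hc.1)) hl) (L.inv_mem hl)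
  · exact abel_iso sP abP hc.1 (fun g g1 g2 => hc.2 g ⟨g1, g2⟩) (mem_sup_left hl)

/-! ### automorphisms of `E₈` -/

section aut

variable {V : Type*} [Group V] [Finite V]

omit [Finite V] in
theorem e8_comm (h2 : ∀ x : V, x * x = 1) (a b : V) : a * b = b * a :=
  comm_of_sq (E := ⊤) (fun x _ => h2 x) (mem_top a) (mem_top b)

theorem e8_fix (h8 : Nat.card V = 8) {p : ℕ} [Fact p.Prime] {B : Subgroup (MulAut V)}
    (hB : IsPGroup p B) : 8 ≡ {u : V | ∀ b ∈ B, b u = u}.ncard [MOD p] := by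
  have := hB.card_modEq_card_fixedPoints V
  rw [h8] at this
  rw [← Nat.card_coe_set_eq]
  rwa [show {u : V | ∀ b ∈ B, b u = u} = MulAction.fixedPoints B V from
    Set.ext fun u => ⟨fun h b => h b b.2, fun h b hb => h ⟨b, hb⟩⟩]

theorem e8_seven (h8 : Nat.card V = 8) (h2 : ∀ x : V, x * x = 1) {B : Subgroup (MulAut V)}
    (odd : Odd (Nat.card B)) (nf : ∀ u, (∀ b ∈ B, b u = u) → u = 1) :
    ∃ ρ ∈ B, orderOf ρ = 7 ∧ normalizer (B : Set (MulAut V)) ≤ normalizer (zpowers ρ : Set (MulAut V)) := by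
  have : IsMulCommutative V := ⟨⟨fun a b => e8_comm h2 a b⟩⟩
  have : Fact (Nat.Prime 3) := ⟨by norm_num⟩
  have : Fact (Nat.Prime 7) := ⟨by norm_num⟩
  have h1 : Nat.card (MulAut V) ∣ 168 := by
    simpa [Finset.prod_range_succ] using Fgs.card_mulAut_dvd_of_elementary (p := 2) (r := 3)
      (fun x : V => by rw [pow_two, h2]) h8
  have h3 : Nat.card B ∣ 21 := by
    have := (card_subgroup_dvd_card B).trans h1
    exact (Nat.Coprime.pow_right 3 (Nat.coprime_two_right.2 odd)).dvd_of_dvd_mul_left this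
  have h4 : ¬ IsPGroup 3 B := fun hp => by
    have := e8_fix h8 hp
    rw [show {u : V | ∀ b ∈ B, b u = u} = {1} from Set.eq_singleton_iff_unique_mem.2
      ⟨fun b _ => map_one b, nf⟩, Set.ncard_singleton] at this
    exact absurd this (by decide)
  have h5 : Nat.card B = 7 ∨ Nat.card B = 21 := by
    have h6 : Nat.card B ∈ Nat.divisors 21 := Nat.mem_divisors.2 ⟨h3, by norm_num⟩
    rw [show Nat.divisors 21 = {1, 3, 7, 21} by decide] at h6
    simp only [Finset.mem_insert, Finset.mem_singleton] at h6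
    rcases h6 with e | e | e | e
    · exact absurd (IsPGroup.of_card (n := 0) e) h4
    · exact absurd (IsPGroup.of_card (n := 1) e) h4
    · exact .inl e
    · exact .inr e
  obtain ⟨ρ, hρ⟩ := exists_prime_orderOf_dvd_card' (G := B) 7 (by rcases h5 with e | e <;> simp [e])
  have o : orderOf (ρ : MulAut V) = 7 := by rw [orderOf_coe, hρ]
  have le : zpowers (ρ : MulAut V) ≤ B := zpowers_le.2 ρ.2
  have hi := card_mul_relIndex' le
  rw [Nat.card_zpowers, o] at hi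
  have sy : IsSylowIn 7 (zpowers (ρ : MulAut V)) B :=
    ⟨le, IsPGroup.of_card (n := 1) (by rw [Nat.card_zpowers, o, pow_one]), by rcases h5 with e | e <;> omega⟩
  have nrm : B ≤ normalizer (zpowers (ρ : MulAut V) : Set (MulAut V)) := by
    rw [← normal_subgroupOf_iff_le_normalizer le]
    rcases h5 with e | e
    · have : (zpowers (ρ : MulAut V)).subgroupOf B = ⊤ := index_eq_one.1 (by
        change relIndex _ _ = 1; omega)
      rw [this]; infer_instance
    · refine normal_of_index_eq_minFac_card ?_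
      rw [e, show Nat.minFac 21 = 3 by norm_num]
      change relIndex _ _ = 3; omega
  refine ⟨ρ, ρ.2, o, fun a ha => mem_normalizer_iff_cj.2 ?_⟩
  have s2 := sy.cj_of_mem_normalizer ha
  exact (eq_of_le_of_card_ge (s2.le_of_le_normalizer sy.pgroup le nrm) (card_cj _ _).le).symm

theorem e8_reg (h8 : Nat.card V = 8) {ρ q : MulAut V} (o : orderOf ρ = 7) (hq : q ∈ zpowers ρ)
    {u : V} (u1 : u ≠ 1) (e : q u = u) : q = 1 := by
  have : Fact (Nat.Prime 7) := ⟨by norm_num⟩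
  have h1 : IsPGroup 7 (zpowers q) :=
    (IsPGroup.of_card (n := 1) (by rw [Nat.card_zpowers, o, pow_one])).to_le (zpowers_le.2 hq)
  have h2 := e8_fix h8 h1
  have h3 : {x : V | ∀ b ∈ zpowers q, b x = x}.ncard ≤ 8 := h8 ▸ Set.ncard_le_card _
  have h4 : 1 < {x : V | ∀ b ∈ zpowers q, b x = x}.ncard :=
    (Set.one_lt_ncard (Set.toFinite _)).2 ⟨u, fun b hb =>
      (zpowers_le.2 (MulAction.mem_stabilizer_iff.2 e) : zpowers q ≤ MulAction.stabilizer _ u) hb,
      1, fun b _ => map_one b, u1⟩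
  have h5 : {x : V | ∀ b ∈ zpowers q, b x = x} = Set.univ :=
    (Set.eq_univ_iff_ncard _).2 (by rw [h8]; unfold Nat.ModEq at h2; omega)
  ext x
  exact (h5.ge (Set.mem_univ x)) q (mem_zpowers q)

theorem e8_trans (h8 : Nat.card V = 8) {ρ : MulAut V} (o : orderOf ρ = 7) {u v : V} (u1 : u ≠ 1)
    (v1 : v ≠ 1) : ∃ q ∈ zpowers ρ, q u = v := by
  let f : zpowers ρ → {x : V // x ≠ 1} := fun q => ⟨(q : MulAut V) u, fun e => u1 ((q : MulAut V).map_eq_one_iff.1 e)⟩
  have inj : Function.Injective f := fun a b e => by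
    have e' : (a : MulAut V) u = (b : MulAut V) u := congrArg Subtype.val e
    have := e8_reg h8 o (mul_mem (inv_mem b.2) a.2) u1 (by
      rw [MulAut.mul_apply, e', ← MulAut.mul_apply, inv_mul_cancel, MulAut.one_apply])
    exact Subtype.ext (inv_mul_eq_one.1 this).symm
  have hc : Nat.card {x : V // x ≠ 1} = 7 := by
    have := Set.ncard_add_ncard_compl ({1} : Set V)
    rw [Set.ncard_singleton, h8] at this
    change Nat.card ({1}ᶜ : Set V) = 7
    rw [Nat.card_coe_set_eq]; omega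
  obtain ⟨q, e⟩ := (inj.bijective_of_nat_card_le (by rw [hc, Nat.card_zpowers, o])).2 ⟨v, v1⟩
  exact ⟨q, q.2, congrArg Subtype.val e⟩

theorem e8_noinv (h8 : Nat.card V = 8) (h2 : ∀ x : V, x * x = 1) {ρ a : MulAut V} (o : orderOf ρ = 7)
    (ha : a ∈ normalizer (zpowers ρ : Set (MulAut V))) (aa : a * a = 1) : a = 1 := by
  have : Fact (Nat.Prime 7) := ⟨by norm_num⟩
  letI : CommGroup V := { (inferInstance : Group V) with mul_comm := e8_comm h2 }
  let f : V →* V := MonoidHom.id V * a.toMonoidHom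
  have hf : ∀ x, f x = x * a x := fun _ => rfl
  have fix : ∀ x ∈ f.ker, a x = x := fun x hx => by
    rw [MonoidHom.mem_ker, hf] at hx
    rw [eq_inv_of_mul_eq_one_right hx, inv_eq_of_mul_eq_one_right (h2 x)]
  have le : f.range ≤ f.ker := by
    rintro _ ⟨x, rfl⟩
    rw [MonoidHom.mem_ker, hf, hf, map_mul, ← MulAut.mul_apply, aa, MulAut.one_apply, mul_comm (a x) x, h2]
  have h3 := f.ker.card_mul_index
  rw [index_ker, h8] at h3
  have h4 := card_le_of_le le
  have h5 : 2 < (f.ker : Set V).ncard := by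
    rw [← Nat.card_coe_set_eq]
    by_contra hc
    have h6 : Nat.card f.ker ≤ 2 := not_lt.1 hc
    nlinarith
  obtain ⟨u, v, hu, hv, u1, v1, uv⟩ : ∃ u v, u ∈ f.ker ∧ v ∈ f.ker ∧ u ≠ 1 ∧ v ≠ 1 ∧ u ≠ v := by
    obtain ⟨x, hx, y, hy, z, hz, xy, xz, yz⟩ := (Set.two_lt_ncard (Set.toFinite _)).1 h5
    by_cases x1 : x = 1
    · exact ⟨y, z, hy, hz, x1 ▸ xy.symm, x1 ▸ xz.symm, yz⟩
    by_cases y1 : y = 1
    · exact ⟨x, z, hx, hz, x1, y1 ▸ yz.symm, xz⟩
    · exact ⟨x, y, hx, hy, x1, y1, xy⟩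
  obtain ⟨q, hq, e⟩ := e8_trans h8 o u1 v1
  have au : a⁻¹ u = u := by rw [inv_eq_of_mul_eq_one_right aa, fix u hu]
  have c := e8_reg h8 o (mul_mem (inv_mem hq) (conj_mem_of_mem_normalizer ha hq)) u1 (by
    simp only [MulAut.mul_apply]
    rw [au, e, fix v hv, ← e, ← MulAut.mul_apply, inv_mul_cancel, MulAut.one_apply])
  have c' : Commute a q := by
    rw [inv_mul_eq_one, eq_mul_inv_iff_mul_eq] at c
    exact c.symm
  have q1 : q ≠ 1 := fun e' => uv (by rw [← e, e', MulAut.one_apply])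
  have zq : zpowers q = zpowers ρ := eq_of_le_of_card_ge (zpowers_le.2 hq) (by
    rw [Nat.card_zpowers, Nat.card_zpowers, o,
      orderOf_eq_prime (p := 7) (by
        obtain ⟨i, rfl⟩ := hq
        rw [← o, ← zpow_natCast, ← zpow_mul, mul_comm, zpow_mul, zpow_natCast, pow_orderOf_eq_one, one_zpow]) q1])
  ext x
  by_cases x1 : x = 1
  · rw [x1, map_one, map_one]
  obtain ⟨r, hr, rfl⟩ := e8_trans h8 o u1 x1
  obtain ⟨i, rfl⟩ := zq.ge hr
  rw [← MulAut.mul_apply, (c'.zpow_right i).eq, MulAut.mul_apply, fix u hu, MulAut.one_apply]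

end aut

/-- `Y` normalises `H ≅ E₈` and has a normal subgroup `Y₀` that acts on `H` without fixed points as
a group of odd order -/
theorem e8_aut {H Y Y₀ : Subgroup G} (h8 : Nat.card H = 8) (h2 : ∀ x ∈ H, x * x = 1)
    (hY : Y ≤ normalizer (H : Set G)) (le : Y₀ ≤ Y) (n0 : Y ≤ normalizer (Y₀ : Set G))
    (sy : IsSylowIn 2 H Y₀) (nf : ∀ u ∈ H, (∀ y ∈ Y₀, y * u = u * y) → u = 1) :
    (∀ P ≤ Y, IsPGroup 2 P → ∀ a ∈ H, ∀ v ∈ P, a * v = v * a) ∧
      ∃ J ≤ Y, Y ≤ normalizer (J : Set G) ∧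
        (∀ a ∈ H, ∀ b ∈ H, a ≠ 1 → b ≠ 1 → ∃ g ∈ J, g ∈ Y₀ ∧ g * a * g⁻¹ = b) ∧
        ∀ g ∈ J, ∀ k ∈ J, ∀ v ∈ H, g * (k * v * k⁻¹) * g⁻¹ = k * (g * v * g⁻¹) * k⁻¹ := by
  let φ : Y →* MulAut H := H.normalizerMonoidHom.comp (inclusion hY)
  have hφ : ∀ (y : Y) (v : H), (φ y v : G) = y * v * (y : G)⁻¹ := fun _ _ => rfl
  have h2' : ∀ x : H, x * x = 1 := fun x => Subtype.ext (h2 x x.2)
  have : (Y₀.subgroupOf Y).Normal := (normal_subgroupOf_iff_le_normalizer le).2 n0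
  have odd : Odd (Nat.card ((Y₀.subgroupOf Y).map φ)) := by
    have h1 : IsSylowIn 2 (H.subgroupOf Y) (Y₀.subgroupOf Y) :=
      ⟨comap_mono sy.le, sy.pgroup.comap_subtype, by rw [relIndex_subgroupOf le]; exact sy.not_dvd⟩
    have h3 := (syl_map' h1 φ).not_dvd
    have h4 : (H.subgroupOf Y).map φ = ⊥ := (Subgroup.map_eq_bot_iff _).2 fun x hx => by
      ext v
      rw [hφ, comm_of_sq h2 (mem_subgroupOf.1 hx) v.2, mul_inv_cancel_right, MulAut.one_apply]
    rwa [h4, relIndex_bot_left, Nat.two_dvd_ne_zero, ← Nat.odd_iff] at h3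
  obtain ⟨ρ, hρ, o, nr⟩ := e8_seven h8 h2' odd fun u hu => Subtype.ext (nf u u.2 fun y hy => by
    have := congrArg Subtype.val (hu _ ⟨⟨y, le hy⟩, hy, rfl⟩)
    rw [hφ, mul_inv_eq_iff_eq_mul] at this
    exact this)
  have nr' : ∀ y : Y, φ y ∈ normalizer (zpowers ρ : Set (MulAut H)) := fun y =>
    nr (le_normalizer_map φ ⟨y, le_normalizer_of_normal (mem_top y), rfl⟩)
  refine ⟨fun P hP pP a ha v hv => ?_, ((zpowers ρ).comap φ).map Y.subtype, map_subtype_le _, ?_, ?_, ?_⟩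
  · have h1 : (P.subgroupOf Y).map φ = ⊥ := by
      by_contra hc
      obtain ⟨_, ⟨y, -, rfl⟩, e⟩ := exists_involution_of_pgroup (pP.comap_subtype.map φ) hc
      exact ne_one_of_orderOf_two e (e8_noinv h8 h2' o (nr' y) (mul_self_of_orderOf_two e))
    have h3 : φ ⟨v, hP hv⟩ = 1 := h1.le ⟨⟨v, hP hv⟩, hv, rfl⟩
    have := hφ ⟨v, hP hv⟩ ⟨a, ha⟩
    rw [h3, MulAut.one_apply, eq_mul_inv_iff_mul_eq] at this
    exact this
  · intro y hy
    refine mem_normalizer_of_forall ?_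
    rintro _ ⟨x, hx, rfl⟩
    refine ⟨⟨y, hy⟩ * x * ⟨y, hy⟩⁻¹, ?_, rfl⟩
    change φ _ ∈ zpowers ρ
    rw [map_mul, map_mul, map_inv]
    exact conj_mem_of_mem_normalizer (nr' _) hx
  · intro a ha b hb a1 b1
    obtain ⟨q, hq, e⟩ := e8_trans h8 o (u := ⟨a, ha⟩) (v := ⟨b, hb⟩) (fun e => a1 (congrArg Subtype.val e))
      fun e => b1 (congrArg Subtype.val e)
    obtain ⟨y, hy, rfl⟩ := (zpowers_le.2 hρ : zpowers ρ ≤ _) hq
    exact ⟨y, ⟨y, hq, rfl⟩, hy, congrArg Subtype.val e⟩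
  · rintro _ ⟨g, hg, rfl⟩ _ ⟨k, hk, rfl⟩ v hv
    have := congrArg (fun f : MulAut H => (f ⟨v, hv⟩ : G)) (comm_of_mem_zpowers hg hk)
    exact this

end CfsgLib.GHE
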